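import Mathlib

/-!
# Smoothness over a local artinian ring can be tested after base change to a field (helper19, for
helper14's S5339)
-/

set_option autoImplicit false

universe u
open CategoryTheory CategoryTheory.Limits AlgebraicGeometry

namespace Groth.Agent.Helper19.RedKSmooth

/-- `Spec` of a field extension is an fpqc cover. -/
theorem fpqc_SpecMap_of_field {k K : CommRingCat.{u}} (hk : IsField k) (hK : IsField K) (φ : k ⟶ K) :
    (@Surjective ⊓ @Flat ⊓ @QuasiCompact : MorphismProperty Scheme.{u}) (Spec.map φ) := by
  letI : Field k := hk.toField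
  letI : Field K := hK.toField
  refine ⟨⟨⟨?_⟩, ?_⟩, inferInstance⟩
  · intro x
    haveI : Subsingleton (PrimeSpectrum k) := inferInstance
    haveI : Nontrivial K := hK.nontrivial
    obtain ⟨z⟩ : Nonempty (PrimeSpectrum K) := inferInstance
    exact ⟨z, Subsingleton.elim (α := PrimeSpectrum k) _ _⟩
  · rw [HasRingHomProperty.Spec_iff (P := @Flat)]
    change @Module.Flat k K _ _ (φ.hom.toAlgebra.toModule)
    infer_instance

theorem subsingleton_spec {A : Type u} [CommRing A] [IsArtinianRing A] [IsLocalRing A] :
    Subsingleton (PrimeSpectrum A) := by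
  constructor
  intro p q
  have hp : p.asIdeal = IsLocalRing.maximalIdeal A :=
    IsLocalRing.eq_maximalIdeal (IsArtinianRing.isMaximal_of_isPrime p.asIdeal)
  have hq : q.asIdeal = IsLocalRing.maximalIdeal A :=
    IsLocalRing.eq_maximalIdeal (IsArtinianRing.isMaximal_of_isPrime q.asIdeal)
  exact PrimeSpectrum.ext (hp.trans hq.symm)

theorem REDK_smooth {A K : Type u} [CommRing A] [IsArtinianRing A] [IsLocalRing A] [Field K]
    (ψ : A →+* K) {X : Scheme.{u}} (g : X ⟶ Spec (CommRingCat.of A)) [Flat g]
    [LocallyOfFinitePresentation g]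
    (h : Smooth (pullback.snd g (Spec.map (CommRingCat.ofHom ψ)))) : Smooth g := by
  apply Smooth.of_smooth_fiberToSpecResidueField
  intro y
  set f0 : Spec (CommRingCat.of K) ⟶ Spec (CommRingCat.of A) := Spec.map (CommRingCat.ofHom ψ)
    with hf0
  set y0 := f0 (IsLocalRing.closedPoint K) with hy0
  have hy : y = y0 := by
    haveI := subsingleton_spec (A := A)
    exact Subsingleton.elim (α := PrimeSpectrum A) _ _
  subst hy
  set e := Spec.map (Scheme.descResidueField (Scheme.stalkClosedPointTo f0)) with he
  have hfac : e ≫ (Spec (CommRingCat.of A)).fromSpecResidueField y0 = f0 :=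
    Scheme.descResidueField_stalkClosedPointTo_fromSpecResidueField K _ f0
  change Smooth (pullback.snd g ((Spec (CommRingCat.of A)).fromSpecResidueField y0))
  have hQ : (@Surjective ⊓ @Flat ⊓ @QuasiCompact : MorphismProperty Scheme.{u}) e :=
    fpqc_SpecMap_of_field (Field.toIsField _) (Field.toIsField K) _
  refine MorphismProperty.of_pullback_snd_of_descendsAlong (P := @Smooth)
    (Q := (@Surjective ⊓ @Flat ⊓ @QuasiCompact : MorphismProperty Scheme.{u})) hQ ?_
  have h2 : Smooth (pullback.snd g (e ≫ (Spec (CommRingCat.of A)).fromSpecResidueField y0)) := by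
    rw [hfac]; exact h
  rw [← pullbackLeftPullbackSndIso_hom_snd]
  infer_instance

end Groth.Agent.Helper19.RedKSmooth
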