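import Mathlib
import Groth.Prelude.Def_AlgSpRep
import Groth.Agent.Lib.Helper15.AlgSpPsh2
import Groth.Agent.Lib.Helper15.AlgSpDiagMor

/-!
# Bootstrap: a sheaf representable by algebraic spaces over an algebraic space is an algebraic space (helper19)
-/

set_option autoImplicit false

universe u

open CategoryTheory CategoryTheory.Limits AlgebraicGeometry MorphismProperty Opposite
open AlgSp

namespace Groth.Agent.Helper19.Bootstrap

open Groth.Agent.Helper15

variable {S : Scheme.{u}}

/-- The base change of a map representable by algebraic spaces to a scheme is an algebraic space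
(pullback taken in sheaves). -/
theorem isAlgSpace_pullback_of_repBySp {F G : Sp S} (a : F ⟶ G) (ha : RepBySp a.hom) {U : Over S}
    (ξ : (yon S).obj U ⟶ G) : IsAlgSpace (pullback a ξ) := by
  have sq := IsPullback.of_hasPullback a ξ
  have sqp := sq.map (sheafToPresheaf (J S) (Type (u + 1)))
  exact (isAlgSpaceP_obj_iff _).1 (ha ξ.hom _ _ sqp)

/-- The relative diagonal of a map of sheaves representable by algebraic spaces is representable by schemes. -/
theorem representable_diagonal_of_repBySp {F G : Sp S} (a : F ⟶ G) (ha : RepBySp a.hom) :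
    Representable (pullback.diagonal a) := by
  intro U ξ
  let x : (yon S).obj U ⟶ F := ξ ≫ pullback.fst a a
  let y : (yon S).obj U ⟶ F := ξ ≫ pullback.snd a a
  have hxy : x ≫ a = y ≫ a := by
    change (ξ ≫ pullback.fst a a) ≫ a = (ξ ≫ pullback.snd a a) ≫ a
    rw [Category.assoc, Category.assoc, pullback.condition]
  have hξ : ξ = pullback.lift x y hxy := by
    apply pullback.hom_ext
    · rw [pullback.lift_fst]
    · rw [pullback.lift_snd]
  have sqP : IsPullback (pullback.fst a (x ≫ a)) (pullback.snd a (x ≫ a)) a (x ≫ a) :=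
    IsPullback.of_hasPullback _ _
  have halg : IsAlgSpace (pullback a (x ≫ a)) := isAlgSpace_pullback_of_repBySp a ha (x ≫ a)
  let σx : (yon S).obj U ⟶ pullback a (x ≫ a) := pullback.lift x (𝟙 _) (by simp)
  let σy : (yon S).obj U ⟶ pullback a (x ≫ a) := pullback.lift y (𝟙 _) (by simp [hxy])
  have hrep : Representable σx := halg.representable_from_yon σx
  have sqE := hrep.isPullback' σy
  have key := isPullback_diagonal_of_sections a x y hxy sqP.flip σx σy
    (pullback.lift_snd _ _ _) (pullback.lift_fst _ _ _) (pullback.lift_snd _ _ _)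
    (pullback.lift_fst _ _ _) sqE
  rw [← hξ] at key
  exact ⟨hrep.pullback σy, hrep.fst' σy, _, key⟩

/-- **Bootstrap.** The source of a map of sheaves, representable by algebraic spaces, to an algebraic space is an
algebraic space. -/
theorem isAlgSpace_of_repBySp {F G : Sp S} (a : F ⟶ G) (ha : RepBySp a.hom) (hG : IsAlgSpace G) :
    IsAlgSpace F := by
  constructor
  · have h1 := representable_diagonal_of_repBySp a ha
    have h2 : Representable (prod.lift (pullback.fst a a) (pullback.snd a a)) :=
      (Representable (S := S)).of_isPullback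
        (isPullback_diag_prod_map (IsPullback.of_hasPullback a a)) hG.diag
    rw [← diagonal_comp_prod_lift a]
    exact (Representable (S := S)).comp_mem _ _ h1 h2
  · obtain ⟨U, q, hqe, hqs⟩ := hG.atlas
    have halg : IsAlgSpace (pullback a q) := isAlgSpace_pullback_of_repBySp a ha q
    have sq := IsPullback.of_hasPullback a q
    obtain ⟨W, r, hre, hrs⟩ := halg.atlas
    refine ⟨W, r ≫ pullback.fst a q, ?_, ?_⟩
    · exact (RepWith @Etale).comp_mem _ _ hre ((RepWith @Etale).of_isPullback sq.flip hqe)
    · exact (RepWith @Surjective).comp_mem _ _ hrs ((RepWith @Surjective).of_isPullback sq.flip hqs)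

/-- Presheaf form of the bootstrap. -/
theorem isAlgSpaceP_of_repBySp {F G : PSp S} (a : F ⟶ G) (ha : RepBySp a) (hG : IsAlgSpaceP G) :
    IsAlgSpaceP F := by
  obtain ⟨hGs, hGa⟩ := hG
  have hFs : Presheaf.IsSheaf (J S) F :=
    isSheaf_of_forall_pullback_isSheaf a hGs fun U ξ =>
      (ha ξ _ _ (IsPullback.of_hasPullback a ξ)).1
  exact ⟨hFs, isAlgSpace_of_repBySp (F := ⟨F, hFs⟩) (G := ⟨G, hGs⟩) ⟨a⟩ ha hGa⟩

/-- `RepBySp` is stable under base change. -/
theorem repBySp_of_isPullback {F G F' G' : PSp S} {a : F ⟶ G} {ξ : G' ⟶ G} {fst : F' ⟶ G'}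
    {snd : F' ⟶ F} (sq : IsPullback fst snd ξ a) (ha : RepBySp a) : RepBySp fst := by
  intro U η F'' fst'' snd'' sq'
  exact ha (η ≫ ξ) (fst'' ≫ snd) snd'' (sq'.paste_horiz sq.flip)

/-- The base change of a map representable by algebraic spaces to an algebraic space is an algebraic space. -/
theorem isAlgSpaceP_of_isPullback {F G : PSp S} (a : F ⟶ G) (ha : RepBySp a) {X : PSp S}
    (hX : IsAlgSpaceP X) (ξ : X ⟶ G) {F' : PSp S} (fst : F' ⟶ X) (snd : F' ⟶ F)
    (sq : IsPullback fst snd ξ a) : IsAlgSpaceP F' :=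
  isAlgSpaceP_of_repBySp fst (repBySp_of_isPullback sq ha) hX

/-- Maps representable by algebraic spaces compose. -/
theorem repBySp_comp {F G H : PSp S} (a : F ⟶ G) (b : G ⟶ H) (ha : RepBySp a) (hb : RepBySp b) :
    RepBySp (a ≫ b) := by
  intro U ξ F' fst snd sq
  have sqb := IsPullback.of_hasPullback b ξ
  have hG' : IsAlgSpaceP (pullback b ξ) := hb ξ _ _ sqb
  let l : F' ⟶ pullback b ξ := pullback.lift (fst ≫ a) snd (by rw [Category.assoc]; exact sq.w)
  have hl1 : l ≫ pullback.fst b ξ = fst ≫ a := pullback.lift_fst _ _ _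
  have hl2 : l ≫ pullback.snd b ξ = snd := pullback.lift_snd _ _ _
  have big : IsPullback fst (l ≫ pullback.snd b ξ) (a ≫ b) ξ := by rw [hl2]; exact sq
  have top : IsPullback fst l a (pullback.fst b ξ) := IsPullback.of_bot big hl1.symm sqb
  exact isAlgSpaceP_of_isPullback a ha hG' (pullback.fst b ξ) l fst top.flip

end Groth.Agent.Helper19.Bootstrap
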