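import Mathlib
import Groth.Prelude.Def_FibCat2

/-!
# Toolkit for categories over a base (`Def_FibCat2`): based natural isomorphisms, equivalences over the
# base, 2-fibre products, categories fibred in groupoids (helper19)
-/

set_option autoImplicit false
set_option backward.isDefEq.respectTransparency false

universe v₆ u₆ v₅ u₅ v₄ u₄ v₃ u₃ v₂ u₂ v u

open CategoryTheory CategoryTheory.Limits Functor

namespace Groth.Agent.Helper19.FibLib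

open FibCat

variable {C : Type u} [Category.{v} C]

section BasedIso

variable {𝒳 : BasedCategory.{v₂, u₂} C} {𝒴 : BasedCategory.{v₃, u₃} C} {F G H : 𝒳 ⥤ᵇ 𝒴}

/-- The component at `x` of a 2-isomorphism over the base. -/
def appIso (e : F ≅ G) (x : 𝒳.obj) : F.obj x ≅ G.obj x :=
  ((BasedNatTrans.forgetful _ _).mapIso e).app x

@[simp] theorem appIso_hom (e : F ≅ G) (x : 𝒳.obj) :
    (appIso e x).hom = e.hom.toNatTrans.app x := rfl

@[simp] theorem appIso_inv (e : F ≅ G) (x : 𝒳.obj) :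
    (appIso e x).inv = e.inv.toNatTrans.app x := rfl

@[reassoc (attr := simp)] theorem hom_inv_app (e : F ≅ G) (x : 𝒳.obj) :
    e.hom.toNatTrans.app x ≫ e.inv.toNatTrans.app x = 𝟙 _ := (appIso e x).hom_inv_id

@[reassoc (attr := simp)] theorem inv_hom_app (e : F ≅ G) (x : 𝒳.obj) :
    e.inv.toNatTrans.app x ≫ e.hom.toNatTrans.app x = 𝟙 _ := (appIso e x).inv_hom_id

@[reassoc] theorem hom_naturality (e : F ≅ G) {x y : 𝒳.obj} (f : x ⟶ y) :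
    F.map f ≫ e.hom.toNatTrans.app y = e.hom.toNatTrans.app x ≫ G.map f :=
  e.hom.toNatTrans.naturality f

@[reassoc] theorem inv_naturality (e : F ≅ G) {x y : 𝒳.obj} (f : x ⟶ y) :
    G.map f ≫ e.inv.toNatTrans.app y = e.inv.toNatTrans.app x ≫ F.map f :=
  e.inv.toNatTrans.naturality f

/-- Build a 2-isomorphism over the base from its components. -/
def mkIso (app : ∀ x : 𝒳.obj, F.obj x ≅ G.obj x)
    (nat : ∀ {x y : 𝒳.obj} (f : x ⟶ y), F.map f ≫ (app y).hom = (app x).hom ≫ G.map f)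
    (lift : ∀ x : 𝒳.obj, 𝒴.p.IsHomLift (𝟙 (𝒳.p.obj x)) (app x).hom) : F ≅ G :=
  BasedNatIso.mkNatIso (NatIso.ofComponents app (fun f => nat f)) lift

@[simp] theorem mkIso_hom_app (app : ∀ x : 𝒳.obj, F.obj x ≅ G.obj x)
    (nat : ∀ {x y : 𝒳.obj} (f : x ⟶ y), F.map f ≫ (app y).hom = (app x).hom ≫ G.map f)
    (lift : ∀ x : 𝒳.obj, 𝒴.p.IsHomLift (𝟙 (𝒳.p.obj x)) (app x).hom) (x : 𝒳.obj) :
    (mkIso app nat lift).hom.toNatTrans.app x = (app x).hom := rfl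

@[simp] theorem mkIso_inv_app (app : ∀ x : 𝒳.obj, F.obj x ≅ G.obj x)
    (nat : ∀ {x y : 𝒳.obj} (f : x ⟶ y), F.map f ≫ (app y).hom = (app x).hom ≫ G.map f)
    (lift : ∀ x : 𝒳.obj, 𝒴.p.IsHomLift (𝟙 (𝒳.p.obj x)) (app x).hom) (x : 𝒳.obj) :
    (mkIso app nat lift).inv.toNatTrans.app x = (app x).inv := rfl

@[simp] theorem trans_hom_app (e : F ≅ G) (e' : G ≅ H) (x : 𝒳.obj) :
    (e ≪≫ e').hom.toNatTrans.app x = e.hom.toNatTrans.app x ≫ e'.hom.toNatTrans.app x := rfl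

@[simp] theorem symm_hom_app (e : F ≅ G) (x : 𝒳.obj) :
    e.symm.hom.toNatTrans.app x = e.inv.toNatTrans.app x := rfl

@[simp] theorem refl_hom_app (x : 𝒳.obj) :
    (Iso.refl F).hom.toNatTrans.app x = 𝟙 (F.obj x) := rfl

end BasedIso

section Whisker

variable {𝒳 : BasedCategory.{v₂, u₂} C} {𝒴 : BasedCategory.{v₃, u₃} C} {𝒵 : BasedCategory.{v₄, u₄} C}

/-- Left whiskering of a 2-isomorphism over the base. -/
def whiskerLeftIso (F : 𝒳 ⥤ᵇ 𝒴) {G H : 𝒴 ⥤ᵇ 𝒵} (e : G ≅ H) :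
    BasedFunctor.comp F G ≅ BasedFunctor.comp F H where
  hom := BasedCategory.whiskerLeft F e.hom
  inv := BasedCategory.whiskerLeft F e.inv
  hom_inv_id := by
    apply BasedNatTrans.homCategory.ext
    ext x
    exact hom_inv_app e (F.obj x)
  inv_hom_id := by
    apply BasedNatTrans.homCategory.ext
    ext x
    exact inv_hom_app e (F.obj x)

@[simp] theorem whiskerLeftIso_hom_app (F : 𝒳 ⥤ᵇ 𝒴) {G H : 𝒴 ⥤ᵇ 𝒵} (e : G ≅ H) (x : 𝒳.obj) :
    (whiskerLeftIso F e).hom.toNatTrans.app x = e.hom.toNatTrans.app (F.obj x) := rfl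

@[simp] theorem whiskerLeftIso_inv_app (F : 𝒳 ⥤ᵇ 𝒴) {G H : 𝒴 ⥤ᵇ 𝒵} (e : G ≅ H) (x : 𝒳.obj) :
    (whiskerLeftIso F e).inv.toNatTrans.app x = e.inv.toNatTrans.app (F.obj x) := rfl

/-- Right whiskering of a 2-isomorphism over the base. -/
def whiskerRightIso {F G : 𝒳 ⥤ᵇ 𝒴} (e : F ≅ G) (H : 𝒴 ⥤ᵇ 𝒵) :
    BasedFunctor.comp F H ≅ BasedFunctor.comp G H where
  hom := BasedCategory.whiskerRight e.hom H
  inv := BasedCategory.whiskerRight e.inv H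
  hom_inv_id := by
    apply BasedNatTrans.homCategory.ext
    ext x
    change H.map _ ≫ H.map _ = 𝟙 _
    rw [← H.map_comp, hom_inv_app, H.map_id]
  inv_hom_id := by
    apply BasedNatTrans.homCategory.ext
    ext x
    change H.map _ ≫ H.map _ = 𝟙 _
    rw [← H.map_comp, inv_hom_app, H.map_id]

@[simp] theorem whiskerRightIso_hom_app {F G : 𝒳 ⥤ᵇ 𝒴} (e : F ≅ G) (H : 𝒴 ⥤ᵇ 𝒵) (x : 𝒳.obj) :
    (whiskerRightIso e H).hom.toNatTrans.app x = H.map (e.hom.toNatTrans.app x) := rfl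

@[simp] theorem whiskerRightIso_inv_app {F G : 𝒳 ⥤ᵇ 𝒴} (e : F ≅ G) (H : 𝒴 ⥤ᵇ 𝒵) (x : 𝒳.obj) :
    (whiskerRightIso e H).inv.toNatTrans.app x = H.map (e.inv.toNatTrans.app x) := rfl

end Whisker

section EquivOver

variable {𝒳 : BasedCategory.{v₂, u₂} C} {𝒴 : BasedCategory.{v₃, u₃} C} {𝒵 : BasedCategory.{v₄, u₄} C}

theorem isEquivOver_id (𝒳 : BasedCategory.{v₂, u₂} C) : IsEquivOver (BasedFunctor.id 𝒳) :=
  ⟨BasedFunctor.id 𝒳, ⟨Iso.refl _⟩, ⟨Iso.refl _⟩⟩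

theorem IsEquivOver.comp {F : 𝒳 ⥤ᵇ 𝒴} {G : 𝒴 ⥤ᵇ 𝒵} (hF : IsEquivOver F) (hG : IsEquivOver G) :
    IsEquivOver (BasedFunctor.comp F G) := by
  obtain ⟨F', ⟨η₁⟩, ⟨ε₁⟩⟩ := hF
  obtain ⟨G', ⟨η₂⟩, ⟨ε₂⟩⟩ := hG
  refine ⟨BasedFunctor.comp G' F', ⟨?_⟩, ⟨?_⟩⟩
  · exact (whiskerLeftIso F (whiskerRightIso η₂ F')) ≪≫ η₁
  · exact (whiskerLeftIso G' (whiskerRightIso ε₁ G)) ≪≫ ε₂

theorem IsEquivOver.of_iso {F F' : 𝒳 ⥤ᵇ 𝒴} (e : F ≅ F') (hF : IsEquivOver F) : IsEquivOver F' := by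
  obtain ⟨G, ⟨η⟩, ⟨ε⟩⟩ := hF
  exact ⟨G, ⟨(whiskerRightIso e.symm G) ≪≫ η⟩, ⟨(whiskerLeftIso G e.symm) ≪≫ ε⟩⟩

theorem IsEquivOver.exists_inv {F : 𝒳 ⥤ᵇ 𝒴} (hF : IsEquivOver F) :
    ∃ G : 𝒴 ⥤ᵇ 𝒳, IsEquivOver G ∧ Nonempty (BasedFunctor.comp F G ≅ BasedFunctor.id 𝒳) ∧
      Nonempty (BasedFunctor.comp G F ≅ BasedFunctor.id 𝒴) := by
  obtain ⟨G, ⟨η⟩, ⟨ε⟩⟩ := hF
  exact ⟨G, ⟨F, ⟨ε⟩, ⟨η⟩⟩, ⟨η⟩, ⟨ε⟩⟩

/-- The underlying natural isomorphism of a 2-isomorphism over the base. -/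
def toNatIso {F G : 𝒳 ⥤ᵇ 𝒴} (e : F ≅ G) : F.toFunctor ≅ G.toFunctor :=
  (BasedNatTrans.forgetful _ _).mapIso e

@[simp] theorem toNatIso_hom_app {F G : 𝒳 ⥤ᵇ 𝒴} (e : F ≅ G) (x : 𝒳.obj) :
    (toNatIso e).hom.app x = e.hom.toNatTrans.app x := rfl

@[simp] theorem toNatIso_inv_app {F G : 𝒳 ⥤ᵇ 𝒴} (e : F ≅ G) (x : 𝒳.obj) :
    (toNatIso e).inv.app x = e.inv.toNatTrans.app x := rfl

theorem IsEquivOver.isEquivalence {F : 𝒳 ⥤ᵇ 𝒴} (hF : IsEquivOver F) : F.toFunctor.IsEquivalence := by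
  obtain ⟨G, ⟨η⟩, ⟨ε⟩⟩ := hF
  exact (CategoryTheory.Equivalence.mk F.toFunctor G.toFunctor (toNatIso η).symm (toNatIso ε)).isEquivalence_functor

end EquivOver

section EquivOfFF

variable {𝒳 : BasedCategory.{v₂, u₂} C} {𝒴 : BasedCategory.{v₃, u₃} C}

/-- A based functor built from an object map, with structure equality proved via `IsHomLift`. -/
def mkBased (F : 𝒳.obj ⥤ 𝒴.obj) (hobj : ∀ x, 𝒴.p.obj (F.obj x) = 𝒳.p.obj x)
    (hmap : ∀ {x y : 𝒳.obj} (f : x ⟶ y), 𝒴.p.IsHomLift (𝒳.p.map f) (F.map f)) : 𝒳 ⥤ᵇ 𝒴 where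
  toFunctor := F
  w := CategoryTheory.Functor.ext hobj (fun x y f => by
    have := hmap f
    exact IsHomLift.fac' 𝒴.p (𝒳.p.map f) (F.map f))

@[simp] theorem mkBased_obj (F : 𝒳.obj ⥤ 𝒴.obj) (hobj : ∀ x, 𝒴.p.obj (F.obj x) = 𝒳.p.obj x)
    (hmap : ∀ {x y : 𝒳.obj} (f : x ⟶ y), 𝒴.p.IsHomLift (𝒳.p.map f) (F.map f)) (x : 𝒳.obj) :
    (mkBased F hobj hmap).obj x = F.obj x := rfl

@[simp] theorem mkBased_map (F : 𝒳.obj ⥤ 𝒴.obj) (hobj : ∀ x, 𝒴.p.obj (F.obj x) = 𝒳.p.obj x)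
    (hmap : ∀ {x y : 𝒳.obj} (f : x ⟶ y), 𝒴.p.IsHomLift (𝒳.p.map f) (F.map f)) {x y : 𝒳.obj}
    (f : x ⟶ y) : (mkBased F hobj hmap).map f = F.map f := rfl

/-- A fully faithful functor over the base all of whose target objects are isomorphic, over an identity, to
objects in the image, is an equivalence over the base. -/
theorem isEquivOver_of_fullyFaithful (F : 𝒳 ⥤ᵇ 𝒴) [F.toFunctor.Full] [F.toFunctor.Faithful]
    (h : ∀ y : 𝒴.obj, ∃ (x : 𝒳.obj) (e : F.obj x ≅ y), 𝒴.p.IsHomLift (𝟙 (𝒴.p.obj y)) e.hom) :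
    IsEquivOver F := by
  choose X E hE using h
  let G₀ : 𝒴.obj ⥤ 𝒳.obj :=
    { obj := X
      map := fun {y y'} f => F.toFunctor.preimage ((E y).hom ≫ f ≫ (E y').inv)
      map_id := fun y => by
        apply F.toFunctor.map_injective
        simp
      map_comp := fun {y y' y''} f g => by
        apply F.toFunctor.map_injective
        simp }
  have hobj : ∀ y, 𝒳.p.obj (G₀.obj y) = 𝒴.p.obj y := fun y => by
    rw [← F.w_obj]
    exact IsHomLift.domain_eq 𝒴.p (𝟙 (𝒴.p.obj y)) (E y).hom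
  have hmap : ∀ {y y' : 𝒴.obj} (f : y ⟶ y'), 𝒳.p.IsHomLift (𝒴.p.map f) (G₀.map f) := by
    intro y y' f
    rw [← BasedFunctor.isHomLift_iff F]
    have e1 : F.map (G₀.map f) = (E y).hom ≫ f ≫ (E y').inv := F.toFunctor.map_preimage _
    rw [e1]
    have := hE y
    have := hE y'
    have h3 : 𝒴.p.IsHomLift (𝟙 (𝒴.p.obj y) ≫ 𝒴.p.map f ≫ 𝟙 (𝒴.p.obj y')) ((E y).hom ≫ f ≫ (E y').inv) :=
      inferInstance
    simpa using h3
  let G : 𝒴 ⥤ᵇ 𝒳 := mkBased G₀ hobj hmap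
  refine ⟨G, ⟨?_⟩, ⟨?_⟩⟩
  · refine mkIso (fun x => F.toFunctor.preimageIso (E (F.obj x))) ?_ ?_
    · intro x x' f
      apply F.toFunctor.map_injective
      change F.map (G₀.map (F.map f) ≫ _) = F.map (_ ≫ f)
      rw [F.map_comp, F.map_comp]
      have e1 : F.map (G₀.map (F.map f)) = (E (F.obj x)).hom ≫ F.map f ≫ (E (F.obj x')).inv :=
        F.toFunctor.map_preimage _
      rw [e1]
      simp
    · intro x
      rw [← BasedFunctor.isHomLift_iff F]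
      have : F.map (F.toFunctor.preimageIso (E (F.obj x))).hom = (E (F.obj x)).hom := by simp
      rw [this]
      have h1 := hE (F.obj x)
      rw [F.w_obj x] at h1
      exact h1
  · refine mkIso (fun y => E y) ?_ ?_
    · intro y y' f
      change F.map (G₀.map f) ≫ _ = _ ≫ f
      have e1 : F.map (G₀.map f) = (E y).hom ≫ f ≫ (E y').inv := F.toFunctor.map_preimage _
      rw [e1]
      simp
    · intro y
      exact hE y

end EquivOfFF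

section FibGrpd

variable {𝒳 : Type u₂} [Category.{v₂} 𝒳] {p : 𝒳 ⥤ C}

/-- In a category fibred in groupoids every morphism is strongly cartesian over any morphism it lifts. -/
theorem isStronglyCartesian_of_isHomLift (hp : IsFibGrpd p) {R S : C} {a b : 𝒳} (f : R ⟶ S) (φ : a ⟶ b)
    [h : p.IsHomLift f φ] : p.IsStronglyCartesian f φ := by
  cases h
  exact hp.isStronglyCartesian φ

/-- In a category fibred in groupoids every morphism lying over an isomorphism is an isomorphism. -/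
theorem isIso_of_isHomLift (hp : IsFibGrpd p) {R S : C} {a b : 𝒳} (f : R ⟶ S) [IsIso f] (φ : a ⟶ b)
    [p.IsHomLift f φ] : IsIso φ := by
  have := isStronglyCartesian_of_isHomLift hp f φ
  exact IsStronglyCartesian.isIso_of_base_isIso p f φ

theorem isFibered_of_isFibGrpd (hp : IsFibGrpd p) : p.IsFibered := by
  apply Functor.IsFibered.of_exists_isStronglyCartesian
  intro a R f
  obtain ⟨y, φ, hφ⟩ := hp.exists_lift f
  exact ⟨y, φ, isStronglyCartesian_of_isHomLift hp f φ⟩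

/-- the unique factorisation through a morphism of a category fibred in groupoids. -/
theorem existsUnique_fac (hp : IsFibGrpd p) {R' R S : C} {a' a b : 𝒳} (f : R ⟶ S) (φ : a ⟶ b)
    [p.IsHomLift f φ] (g : R' ⟶ R) (f' : R' ⟶ S) (hf' : f' = g ≫ f) (φ' : a' ⟶ b)
    [p.IsHomLift f' φ'] : ∃! χ : a' ⟶ a, p.IsHomLift g χ ∧ χ ≫ φ = φ' := by
  have := isStronglyCartesian_of_isHomLift hp f φ
  exact IsStronglyCartesian.universal_property p f φ g f' hf' φ'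

theorem hom_ext_of_comp_eq (hp : IsFibGrpd p) {R' R S : C} {a' a b : 𝒳} (f : R ⟶ S) (φ : a ⟶ b)
    [p.IsHomLift f φ] (g : R' ⟶ R) {ψ ψ' : a' ⟶ a} [p.IsHomLift g ψ] [p.IsHomLift g ψ']
    (h : ψ ≫ φ = ψ' ≫ φ) : ψ = ψ' := by
  have := isStronglyCartesian_of_isHomLift hp f φ
  exact IsStronglyCartesian.ext p f φ g h

end FibGrpd

end Groth.Agent.Helper19.FibLib
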