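import Mathlib
import Groth.Prelude.Def_FibCat2
import Groth.Agent.Lib.Helper19.FibLib

/-!
# Toolkit for the 2-fibre product `FibCat.fp` of categories over a base (helper19)
-/

set_option autoImplicit false
set_option backward.isDefEq.respectTransparency false

universe v₇ u₇ v₆ u₆ v₅ u₅ v₄ u₄ v₃ u₃ v₂ u₂ v u

open CategoryTheory CategoryTheory.Limits Functor

namespace Groth.Agent.Helper19.FibLib

open FibCat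

variable {C : Type u} [Category.{v} C]

section simpLemmas

variable {𝒳 : BasedCategory.{v₂, u₂} C} {𝒴 : BasedCategory.{v₃, u₃} C} {𝒵 : BasedCategory.{v₄, u₄} C}

@[simp] theorem bcomp_obj (A : 𝒳 ⥤ᵇ 𝒴) (B : 𝒴 ⥤ᵇ 𝒵) (x : 𝒳.obj) :
    (BasedFunctor.comp A B).obj x = B.obj (A.obj x) := rfl

@[simp] theorem bcomp_map (A : 𝒳 ⥤ᵇ 𝒴) (B : 𝒴 ⥤ᵇ 𝒵) {x y : 𝒳.obj} (f : x ⟶ y) :
    (BasedFunctor.comp A B).map f = B.map (A.map f) := rfl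

@[simp] theorem bid_obj (x : 𝒳.obj) : (BasedFunctor.id 𝒳).obj x = x := rfl

@[simp] theorem bid_map {x y : 𝒳.obj} (f : x ⟶ y) : (BasedFunctor.id 𝒳).map f = f := rfl

end simpLemmas

section fpBasics

variable {𝒳 : BasedCategory.{v₂, u₂} C} {𝒴 : BasedCategory.{v₃, u₃} C} {𝒮 : BasedCategory.{v₄, u₄} C}
  (F : 𝒳 ⥤ᵇ 𝒮) (G : 𝒴 ⥤ᵇ 𝒮)

/-- Constructor for objects of the 2-fibre product. -/
def fpMk (a : 𝒳.obj) (b : 𝒴.obj) (i : F.obj a ≅ G.obj b)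
    (h : 𝒮.p.IsHomLift (𝟙 (𝒳.p.obj a)) i.hom) : (fp F G).obj :=
  ⟨⟨a, b, i⟩, h⟩

@[simp] theorem fpMk_fst (a : 𝒳.obj) (b : 𝒴.obj) (i : F.obj a ≅ G.obj b)
    (h : 𝒮.p.IsHomLift (𝟙 (𝒳.p.obj a)) i.hom) : (fpMk F G a b i h).obj.fst = a := rfl

@[simp] theorem fpMk_snd (a : 𝒳.obj) (b : 𝒴.obj) (i : F.obj a ≅ G.obj b)
    (h : 𝒮.p.IsHomLift (𝟙 (𝒳.p.obj a)) i.hom) : (fpMk F G a b i h).obj.snd = b := rfl

@[simp] theorem fpMk_iso (a : 𝒳.obj) (b : 𝒴.obj) (i : F.obj a ≅ G.obj b)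
    (h : 𝒮.p.IsHomLift (𝟙 (𝒳.p.obj a)) i.hom) : (fpMk F G a b i h).obj.iso = i := rfl

variable {F G}

/-- Constructor for morphisms of the 2-fibre product. -/
def fpHomMk {x y : (fp F G).obj} (φ : x.obj.fst ⟶ y.obj.fst) (ψ : x.obj.snd ⟶ y.obj.snd)
    (w : F.map φ ≫ y.obj.iso.hom = x.obj.iso.hom ≫ G.map ψ) : x ⟶ y :=
  ObjectProperty.homMk ⟨φ, ψ, w⟩

@[simp] theorem fpHomMk_fst {x y : (fp F G).obj} (φ : x.obj.fst ⟶ y.obj.fst) (ψ : x.obj.snd ⟶ y.obj.snd)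
    (w : F.map φ ≫ y.obj.iso.hom = x.obj.iso.hom ≫ G.map ψ) : (fpHomMk φ ψ w).hom.fst = φ := rfl

@[simp] theorem fpHomMk_snd {x y : (fp F G).obj} (φ : x.obj.fst ⟶ y.obj.fst) (ψ : x.obj.snd ⟶ y.obj.snd)
    (w : F.map φ ≫ y.obj.iso.hom = x.obj.iso.hom ≫ G.map ψ) : (fpHomMk φ ψ w).hom.snd = ψ := rfl

theorem fp_hom_ext {x y : (fp F G).obj} {f g : x ⟶ y} (h₁ : f.hom.fst = g.hom.fst)
    (h₂ : f.hom.snd = g.hom.snd) : f = g := by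
  apply ObjectProperty.hom_ext
  exact CategoricalPullback.hom_ext h₁ h₂

@[simp] theorem fp_id_fst (x : (fp F G).obj) : (𝟙 x : x ⟶ x).hom.fst = 𝟙 x.obj.fst := rfl
@[simp] theorem fp_id_snd (x : (fp F G).obj) : (𝟙 x : x ⟶ x).hom.snd = 𝟙 x.obj.snd := rfl
@[simp] theorem fp_comp_fst {x y z : (fp F G).obj} (f : x ⟶ y) (g : y ⟶ z) :
    (f ≫ g).hom.fst = f.hom.fst ≫ g.hom.fst := rfl
@[simp] theorem fp_comp_snd {x y z : (fp F G).obj} (f : x ⟶ y) (g : y ⟶ z) :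
    (f ≫ g).hom.snd = f.hom.snd ≫ g.hom.snd := rfl

@[reassoc] theorem fp_w {x y : (fp F G).obj} (f : x ⟶ y) :
    F.map f.hom.fst ≫ y.obj.iso.hom = x.obj.iso.hom ≫ G.map f.hom.snd := f.hom.w

@[reassoc] theorem fp_w' {x y : (fp F G).obj} (f : x ⟶ y) :
    G.map f.hom.snd ≫ y.obj.iso.inv = x.obj.iso.inv ≫ F.map f.hom.fst := f.hom.w'

/-- Constructor for isomorphisms of the 2-fibre product. -/
def fpIsoMk {x y : (fp F G).obj} (e₁ : x.obj.fst ≅ y.obj.fst) (e₂ : x.obj.snd ≅ y.obj.snd)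
    (w : F.map e₁.hom ≫ y.obj.iso.hom = x.obj.iso.hom ≫ G.map e₂.hom) : x ≅ y where
  hom := fpHomMk e₁.hom e₂.hom w
  inv := fpHomMk e₁.inv e₂.inv (by
    rw [← cancel_epi (F.map e₁.hom), ← Category.assoc, ← F.map_comp, e₁.hom_inv_id, F.map_id,
      Category.id_comp, ← Category.assoc, w, Category.assoc, ← G.map_comp, e₂.hom_inv_id, G.map_id,
      Category.comp_id])
  hom_inv_id := fp_hom_ext (by simp) (by simp)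
  inv_hom_id := fp_hom_ext (by simp) (by simp)

@[simp] theorem fpIsoMk_hom_fst {x y : (fp F G).obj} (e₁ : x.obj.fst ≅ y.obj.fst)
    (e₂ : x.obj.snd ≅ y.obj.snd)
    (w : F.map e₁.hom ≫ y.obj.iso.hom = x.obj.iso.hom ≫ G.map e₂.hom) :
    (fpIsoMk e₁ e₂ w).hom.hom.fst = e₁.hom := rfl

@[simp] theorem fpIsoMk_hom_snd {x y : (fp F G).obj} (e₁ : x.obj.fst ≅ y.obj.fst)
    (e₂ : x.obj.snd ≅ y.obj.snd)
    (w : F.map e₁.hom ≫ y.obj.iso.hom = x.obj.iso.hom ≫ G.map e₂.hom) :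
    (fpIsoMk e₁ e₂ w).hom.hom.snd = e₂.hom := rfl

theorem fp_p_obj (x : (fp F G).obj) : (fp F G).p.obj x = 𝒳.p.obj x.obj.fst := rfl

theorem fp_p_map {x y : (fp F G).obj} (f : x ⟶ y) : (fp F G).p.map f = 𝒳.p.map f.hom.fst := rfl

theorem fp_iso_isHomLift (x : (fp F G).obj) : 𝒮.p.IsHomLift (𝟙 (𝒳.p.obj x.obj.fst)) x.obj.iso.hom :=
  x.property

theorem fp_snd_obj (x : (fp F G).obj) : 𝒴.p.obj x.obj.snd = 𝒳.p.obj x.obj.fst := by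
  have := fp_iso_isHomLift x
  exact (G.w_obj x.obj.snd).symm.trans (IsHomLift.codomain_eq 𝒮.p (𝟙 (𝒳.p.obj x.obj.fst)) x.obj.iso.hom)

/-- A morphism of the 2-fibre product lifts `f` iff its first component does. -/
theorem fp_isHomLift_iff {R S : C} (f : R ⟶ S) {x y : (fp F G).obj} (φ : x ⟶ y) :
    (fp F G).p.IsHomLift f φ ↔ 𝒳.p.IsHomLift f φ.hom.fst := by
  constructor
  · intro h
    have h1 := IsHomLift.domain_eq (fp F G).p f φ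
    have h2 := IsHomLift.codomain_eq (fp F G).p f φ
    have h3 := IsHomLift.fac (fp F G).p f φ
    exact IsHomLift.of_fac 𝒳.p f φ.hom.fst h1 h2 h3
  · intro h
    have h1 := IsHomLift.domain_eq 𝒳.p f φ.hom.fst
    have h2 := IsHomLift.codomain_eq 𝒳.p f φ.hom.fst
    have h3 := IsHomLift.fac 𝒳.p f φ.hom.fst
    exact IsHomLift.of_fac (fp F G).p f φ h1 h2 h3

theorem fp_isHomLift_snd' {R S : C} (f : R ⟶ S) {x y : (fp F G).obj} (φ : x ⟶ y)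
    [h : (fp F G).p.IsHomLift f φ] : 𝒴.p.IsHomLift f φ.hom.snd := by
  cases h
  exact fp_isHomLift_snd F G φ

theorem fp_isHomLift_fst' {R S : C} (f : R ⟶ S) {x y : (fp F G).obj} (φ : x ⟶ y)
    [h : (fp F G).p.IsHomLift f φ] : 𝒳.p.IsHomLift f φ.hom.fst :=
  (fp_isHomLift_iff f φ).1 h

end fpBasics

section fpLift

variable {𝒳 : BasedCategory.{v₂, u₂} C} {𝒴 : BasedCategory.{v₃, u₃} C} {𝒮 : BasedCategory.{v₄, u₄} C}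
  {F : 𝒳 ⥤ᵇ 𝒮} {G : 𝒴 ⥤ᵇ 𝒮} {𝒲 : BasedCategory.{v₅, u₅} C}

@[simp] theorem fpLift_obj_fst (a : 𝒲 ⥤ᵇ 𝒳) (b : 𝒲 ⥤ᵇ 𝒴)
    (e : BasedFunctor.comp a F ≅ BasedFunctor.comp b G) (w : 𝒲.obj) :
    ((fpLift a b e).obj w).obj.fst = a.obj w := rfl

@[simp] theorem fpLift_obj_snd (a : 𝒲 ⥤ᵇ 𝒳) (b : 𝒲 ⥤ᵇ 𝒴)
    (e : BasedFunctor.comp a F ≅ BasedFunctor.comp b G) (w : 𝒲.obj) :
    ((fpLift a b e).obj w).obj.snd = b.obj w := rfl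

@[simp] theorem fpLift_obj_iso_hom (a : 𝒲 ⥤ᵇ 𝒳) (b : 𝒲 ⥤ᵇ 𝒴)
    (e : BasedFunctor.comp a F ≅ BasedFunctor.comp b G) (w : 𝒲.obj) :
    ((fpLift a b e).obj w).obj.iso.hom = e.hom.toNatTrans.app w := rfl

@[simp] theorem fpLift_obj_iso_inv (a : 𝒲 ⥤ᵇ 𝒳) (b : 𝒲 ⥤ᵇ 𝒴)
    (e : BasedFunctor.comp a F ≅ BasedFunctor.comp b G) (w : 𝒲.obj) :
    ((fpLift a b e).obj w).obj.iso.inv = e.inv.toNatTrans.app w := rfl

@[simp] theorem fpLift_map_fst (a : 𝒲 ⥤ᵇ 𝒳) (b : 𝒲 ⥤ᵇ 𝒴)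
    (e : BasedFunctor.comp a F ≅ BasedFunctor.comp b G) {w w' : 𝒲.obj} (g : w ⟶ w') :
    ((fpLift a b e).map g).hom.fst = a.map g := rfl

@[simp] theorem fpLift_map_snd (a : 𝒲 ⥤ᵇ 𝒳) (b : 𝒲 ⥤ᵇ 𝒴)
    (e : BasedFunctor.comp a F ≅ BasedFunctor.comp b G) {w w' : 𝒲.obj} (g : w ⟶ w') :
    ((fpLift a b e).map g).hom.snd = b.map g := rfl

theorem fpLift_comp_fpFst (a : 𝒲 ⥤ᵇ 𝒳) (b : 𝒲 ⥤ᵇ 𝒴)
    (e : BasedFunctor.comp a F ≅ BasedFunctor.comp b G) :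
    BasedFunctor.comp (fpLift a b e) (fpFst F G) = a := rfl

theorem fpLift_comp_fpSnd (a : 𝒲 ⥤ᵇ 𝒳) (b : 𝒲 ⥤ᵇ 𝒴)
    (e : BasedFunctor.comp a F ≅ BasedFunctor.comp b G) :
    BasedFunctor.comp (fpLift a b e) (fpSnd F G) = b := rfl

@[simp] theorem fpFst_obj (x : (fp F G).obj) : (fpFst F G).obj x = x.obj.fst := rfl
@[simp] theorem fpSnd_obj (x : (fp F G).obj) : (fpSnd F G).obj x = x.obj.snd := rfl
@[simp] theorem fpFst_map {x y : (fp F G).obj} (f : x ⟶ y) : (fpFst F G).map f = f.hom.fst := rfl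
@[simp] theorem fpSnd_map {x y : (fp F G).obj} (f : x ⟶ y) : (fpSnd F G).map f = f.hom.snd := rfl

@[simp] theorem fpIso_hom_app (x : (fp F G).obj) :
    (fpIso F G).hom.toNatTrans.app x = x.obj.iso.hom := rfl

@[simp] theorem fpIso_inv_app (x : (fp F G).obj) :
    (fpIso F G).inv.toNatTrans.app x = x.obj.iso.inv := rfl

/-- Two functors into a 2-fibre product are 2-isomorphic as soon as their projections are, compatibly. -/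
def fpFunctorIso (H H' : 𝒲 ⥤ᵇ fp F G)
    (α : BasedFunctor.comp H (fpFst F G) ≅ BasedFunctor.comp H' (fpFst F G))
    (β : BasedFunctor.comp H (fpSnd F G) ≅ BasedFunctor.comp H' (fpSnd F G))
    (w : ∀ x : 𝒲.obj, F.map (α.hom.toNatTrans.app x) ≫ (H'.obj x).obj.iso.hom =
      (H.obj x).obj.iso.hom ≫ G.map (β.hom.toNatTrans.app x)) : H ≅ H' :=
  mkIso (fun x => fpIsoMk (appIso α x) (appIso β x) (w x))
    (fun {x y} f => fp_hom_ext (hom_naturality α f) (hom_naturality β f))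
    (fun x => (fp_isHomLift_iff _ _).2 (α.hom.isHomLift' x))

@[simp] theorem fpFunctorIso_hom_app_fst (H H' : 𝒲 ⥤ᵇ fp F G)
    (α : BasedFunctor.comp H (fpFst F G) ≅ BasedFunctor.comp H' (fpFst F G))
    (β : BasedFunctor.comp H (fpSnd F G) ≅ BasedFunctor.comp H' (fpSnd F G))
    (w : ∀ x : 𝒲.obj, F.map (α.hom.toNatTrans.app x) ≫ (H'.obj x).obj.iso.hom =
      (H.obj x).obj.iso.hom ≫ G.map (β.hom.toNatTrans.app x)) (x : 𝒲.obj) :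
    ((fpFunctorIso H H' α β w).hom.toNatTrans.app x).hom.fst = α.hom.toNatTrans.app x := rfl

@[simp] theorem fpFunctorIso_hom_app_snd (H H' : 𝒲 ⥤ᵇ fp F G)
    (α : BasedFunctor.comp H (fpFst F G) ≅ BasedFunctor.comp H' (fpFst F G))
    (β : BasedFunctor.comp H (fpSnd F G) ≅ BasedFunctor.comp H' (fpSnd F G))
    (w : ∀ x : 𝒲.obj, F.map (α.hom.toNatTrans.app x) ≫ (H'.obj x).obj.iso.hom =
      (H.obj x).obj.iso.hom ≫ G.map (β.hom.toNatTrans.app x)) (x : 𝒲.obj) :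
    ((fpFunctorIso H H' α β w).hom.toNatTrans.app x).hom.snd = β.hom.toNatTrans.app x := rfl

@[simp] theorem fpFunctorIso_inv_app_fst (H H' : 𝒲 ⥤ᵇ fp F G)
    (α : BasedFunctor.comp H (fpFst F G) ≅ BasedFunctor.comp H' (fpFst F G))
    (β : BasedFunctor.comp H (fpSnd F G) ≅ BasedFunctor.comp H' (fpSnd F G))
    (w : ∀ x : 𝒲.obj, F.map (α.hom.toNatTrans.app x) ≫ (H'.obj x).obj.iso.hom =
      (H.obj x).obj.iso.hom ≫ G.map (β.hom.toNatTrans.app x)) (x : 𝒲.obj) :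
    ((fpFunctorIso H H' α β w).inv.toNatTrans.app x).hom.fst = α.inv.toNatTrans.app x := rfl

@[simp] theorem fpFunctorIso_inv_app_snd (H H' : 𝒲 ⥤ᵇ fp F G)
    (α : BasedFunctor.comp H (fpFst F G) ≅ BasedFunctor.comp H' (fpFst F G))
    (β : BasedFunctor.comp H (fpSnd F G) ≅ BasedFunctor.comp H' (fpSnd F G))
    (w : ∀ x : 𝒲.obj, F.map (α.hom.toNatTrans.app x) ≫ (H'.obj x).obj.iso.hom =
      (H.obj x).obj.iso.hom ≫ G.map (β.hom.toNatTrans.app x)) (x : 𝒲.obj) :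
    ((fpFunctorIso H H' α β w).inv.toNatTrans.app x).hom.snd = β.inv.toNatTrans.app x := rfl

end fpLift

section pasteL

variable {𝒳 : BasedCategory.{v₂, u₂} C} {𝒴 : BasedCategory.{v₃, u₃} C} {𝒮 : BasedCategory.{v₄, u₄} C}
  {𝒵 : BasedCategory.{v₅, u₅} C} (H : 𝒵 ⥤ᵇ 𝒳) (F : 𝒳 ⥤ᵇ 𝒮) (G : 𝒴 ⥤ᵇ 𝒮)

/-- `𝒵 ×_𝒮 𝒴 ⟶ 𝒵 ×_𝒳 (𝒳 ×_𝒮 𝒴)`, `(z, y, i) ↦ (z, (H z, y, i), 𝟙)`. -/
def pasteL : fp (BasedFunctor.comp H F) G ⥤ᵇ fp H (fpFst F G) :=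
  fpLift (fpFst (BasedFunctor.comp H F) G)
    (fpLift (BasedFunctor.comp (fpFst (BasedFunctor.comp H F) G) H) (fpSnd (BasedFunctor.comp H F) G)
      (fpIso (BasedFunctor.comp H F) G))
    (Iso.refl _)

theorem pasteL_comp_fpFst :
    BasedFunctor.comp (pasteL H F G) (fpFst H (fpFst F G)) = fpFst (BasedFunctor.comp H F) G := rfl

/-- `𝒵 ×_𝒳 (𝒳 ×_𝒮 𝒴) ⟶ 𝒵 ×_𝒮 𝒴`, `(z, (x, y, i), k) ↦ (z, y, F k ≫ i)`. -/
def pasteLInv : fp H (fpFst F G) ⥤ᵇ fp (BasedFunctor.comp H F) G :=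
  fpLift (fpFst H (fpFst F G)) (BasedFunctor.comp (fpSnd H (fpFst F G)) (fpSnd F G))
    (whiskerRightIso (fpIso H (fpFst F G)) F ≪≫ whiskerLeftIso (fpSnd H (fpFst F G)) (fpIso F G))

theorem pasteLInv_comp_fpFst :
    BasedFunctor.comp (pasteLInv H F G) (fpFst (BasedFunctor.comp H F) G) = fpFst H (fpFst F G) := rfl

/-- `pasteL ⋙ pasteLInv ≅ 𝟭`. -/
def pasteLUnit : BasedFunctor.comp (pasteL H F G) (pasteLInv H F G) ≅ BasedFunctor.id _ :=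
  fpFunctorIso _ _ (Iso.refl _) (Iso.refl _) (fun x => by
    simp [pasteL, pasteLInv])

/-- `pasteLInv ⋙ pasteL ≅ 𝟭`. -/
def pasteLCounit : BasedFunctor.comp (pasteLInv H F G) (pasteL H F G) ≅ BasedFunctor.id _ :=
  fpFunctorIso _ _ (Iso.refl _)
    (fpFunctorIso _ _ (fpIso H (fpFst F G)) (Iso.refl _) (fun x => by
      simp [pasteL, pasteLInv]))
    (fun x => by
      simp [pasteL, pasteLInv])

theorem isEquivOver_pasteL : IsEquivOver (pasteL H F G) :=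
  ⟨pasteLInv H F G, ⟨pasteLUnit H F G⟩, ⟨pasteLCounit H F G⟩⟩

theorem isEquivOver_pasteLInv : IsEquivOver (pasteLInv H F G) :=
  ⟨pasteL H F G, ⟨pasteLCounit H F G⟩, ⟨pasteLUnit H F G⟩⟩

end pasteL

section pasteR

variable {𝒳 : BasedCategory.{v₂, u₂} C} {𝒴 : BasedCategory.{v₃, u₃} C} {𝒮 : BasedCategory.{v₄, u₄} C}
  {𝒵 : BasedCategory.{v₅, u₅} C} (F : 𝒳 ⥤ᵇ 𝒮) (G : 𝒴 ⥤ᵇ 𝒮) (H : 𝒵 ⥤ᵇ 𝒴)

/-- `𝒳 ×_𝒮 𝒵 ⟶ (𝒳 ×_𝒮 𝒴) ×_𝒴 𝒵`, `(x, z, i) ↦ ((x, H z, i), z, 𝟙)`. -/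
def pasteR : fp F (BasedFunctor.comp H G) ⥤ᵇ fp (fpSnd F G) H :=
  fpLift
    (fpLift (fpFst F (BasedFunctor.comp H G)) (BasedFunctor.comp (fpSnd F (BasedFunctor.comp H G)) H)
      (fpIso F (BasedFunctor.comp H G)))
    (fpSnd F (BasedFunctor.comp H G))
    (Iso.refl _)

theorem pasteR_comp_fpSnd :
    BasedFunctor.comp (pasteR F G H) (fpSnd (fpSnd F G) H) = fpSnd F (BasedFunctor.comp H G) := rfl

theorem pasteR_comp_fpFst_fpFst :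
    BasedFunctor.comp (BasedFunctor.comp (pasteR F G H) (fpFst (fpSnd F G) H)) (fpFst F G) =
      fpFst F (BasedFunctor.comp H G) := rfl

/-- `(𝒳 ×_𝒮 𝒴) ×_𝒴 𝒵 ⟶ 𝒳 ×_𝒮 𝒵`, `((x, y, i), z, k) ↦ (x, z, i ≫ G k)`. -/
def pasteRInv : fp (fpSnd F G) H ⥤ᵇ fp F (BasedFunctor.comp H G) :=
  fpLift (BasedFunctor.comp (fpFst (fpSnd F G) H) (fpFst F G)) (fpSnd (fpSnd F G) H)
    (whiskerLeftIso (fpFst (fpSnd F G) H) (fpIso F G) ≪≫ whiskerRightIso (fpIso (fpSnd F G) H) G)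

theorem pasteRInv_comp_fpSnd :
    BasedFunctor.comp (pasteRInv F G H) (fpSnd F (BasedFunctor.comp H G)) = fpSnd (fpSnd F G) H := rfl

theorem pasteRInv_comp_fpFst :
    BasedFunctor.comp (pasteRInv F G H) (fpFst F (BasedFunctor.comp H G)) =
      BasedFunctor.comp (fpFst (fpSnd F G) H) (fpFst F G) := rfl

/-- `pasteR ⋙ pasteRInv ≅ 𝟭`. -/
def pasteRUnit : BasedFunctor.comp (pasteR F G H) (pasteRInv F G H) ≅ BasedFunctor.id _ :=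
  fpFunctorIso _ _ (Iso.refl _) (Iso.refl _) (fun x => by
    simp [pasteR, pasteRInv])

/-- `pasteRInv ⋙ pasteR ≅ 𝟭`. -/
def pasteRCounit : BasedFunctor.comp (pasteRInv F G H) (pasteR F G H) ≅ BasedFunctor.id _ :=
  fpFunctorIso _ _
    (fpFunctorIso _ _ (Iso.refl _) (fpIso (fpSnd F G) H).symm (fun x => by
      simp [pasteR, pasteRInv]))
    (Iso.refl _)
    (fun x => by
      simp [pasteR, pasteRInv])

theorem isEquivOver_pasteR : IsEquivOver (pasteR F G H) :=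
  ⟨pasteRInv F G H, ⟨pasteRUnit F G H⟩, ⟨pasteRCounit F G H⟩⟩

theorem isEquivOver_pasteRInv : IsEquivOver (pasteRInv F G H) :=
  ⟨pasteR F G H, ⟨pasteRCounit F G H⟩, ⟨pasteRUnit F G H⟩⟩

end pasteR

section fpMap

theorem isHomLift_id_comp' {𝒳 : Type u₂} [Category.{v₂} 𝒳] {p : 𝒳 ⥤ C} {a b c : 𝒳} {R R' : C}
    (φ : a ⟶ b) (ψ : b ⟶ c) [p.IsHomLift (𝟙 R) φ] [p.IsHomLift (𝟙 R') ψ] :
    p.IsHomLift (𝟙 R) (φ ≫ ψ) := by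
  have h1 := IsHomLift.codomain_eq p (𝟙 R) φ
  have h2 := IsHomLift.domain_eq p (𝟙 R') ψ
  have : R = R' := h1.symm.trans h2
  subst this
  infer_instance

theorem isHomLift_id_of_eq {𝒳 : Type u₂} [Category.{v₂} 𝒳] {p : 𝒳 ⥤ C} {a b : 𝒳} {R R' : C}
    (h : R = R') (φ : a ⟶ b) [p.IsHomLift (𝟙 R) φ] : p.IsHomLift (𝟙 R') φ := by
  subst h
  infer_instance

theorem IsEquivOver.exists_iso {𝒳 : BasedCategory.{v₂, u₂} C} {𝒳' : BasedCategory.{v₃, u₃} C}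
    {u : 𝒳 ⥤ᵇ 𝒳'} (hu : IsEquivOver u) (x' : 𝒳'.obj) :
    ∃ (x : 𝒳.obj) (a : u.obj x ≅ x'), 𝒳'.p.IsHomLift (𝟙 (𝒳'.p.obj x')) a.hom := by
  obtain ⟨u', -, ⟨ε⟩⟩ := hu
  refine ⟨u'.obj x', appIso ε x', ?_⟩
  have h1 : 𝒳'.p.IsHomLift (𝟙 (𝒳'.p.obj x')) (ε.hom.toNatTrans.app x') := ε.hom.isHomLift' x'
  exact h1

variable {𝒳 : BasedCategory.{v₂, u₂} C} {𝒴 : BasedCategory.{v₃, u₃} C} {𝒮 : BasedCategory.{v₄, u₄} C}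
  {𝒳' : BasedCategory.{v₅, u₅} C} {𝒴' : BasedCategory.{v₆, u₆} C} {𝒮' : BasedCategory.{v₇, u₇} C}
  {F : 𝒳 ⥤ᵇ 𝒮} {G : 𝒴 ⥤ᵇ 𝒮} {F' : 𝒳' ⥤ᵇ 𝒮'} {G' : 𝒴' ⥤ᵇ 𝒮'}
  (u : 𝒳 ⥤ᵇ 𝒳') (v : 𝒴 ⥤ᵇ 𝒴') (s : 𝒮 ⥤ᵇ 𝒮')
  (σ : BasedFunctor.comp F s ≅ BasedFunctor.comp u F') (τ : BasedFunctor.comp G s ≅ BasedFunctor.comp v G')

/-- Functoriality of the 2-fibre product. -/
def fpMap : fp F G ⥤ᵇ fp F' G' :=
  fpLift (BasedFunctor.comp (fpFst F G) u) (BasedFunctor.comp (fpSnd F G) v)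
    (whiskerLeftIso (fpFst F G) σ.symm ≪≫ whiskerRightIso (fpIso F G) s ≪≫
      whiskerLeftIso (fpSnd F G) τ)

theorem fpMap_comp_fpFst :
    BasedFunctor.comp (fpMap u v s σ τ) (fpFst F' G') = BasedFunctor.comp (fpFst F G) u := rfl

theorem fpMap_comp_fpSnd :
    BasedFunctor.comp (fpMap u v s σ τ) (fpSnd F' G') = BasedFunctor.comp (fpSnd F G) v := rfl

@[simp] theorem fpMap_obj_fst (x : (fp F G).obj) : ((fpMap u v s σ τ).obj x).obj.fst = u.obj x.obj.fst := rfl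
@[simp] theorem fpMap_obj_snd (x : (fp F G).obj) : ((fpMap u v s σ τ).obj x).obj.snd = v.obj x.obj.snd := rfl
@[simp] theorem fpMap_obj_iso_hom (x : (fp F G).obj) :
    ((fpMap u v s σ τ).obj x).obj.iso.hom =
      σ.inv.toNatTrans.app x.obj.fst ≫ s.map x.obj.iso.hom ≫ τ.hom.toNatTrans.app x.obj.snd := rfl
@[simp] theorem fpMap_map_fst {x y : (fp F G).obj} (f : x ⟶ y) :
    ((fpMap u v s σ τ).map f).hom.fst = u.map f.hom.fst := rfl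
@[simp] theorem fpMap_map_snd {x y : (fp F G).obj} (f : x ⟶ y) :
    ((fpMap u v s σ τ).map f).hom.snd = v.map f.hom.snd := rfl

theorem isEquivOver_fpMap (hu : IsEquivOver u) (hv : IsEquivOver v) [s.toFunctor.Full] [s.toFunctor.Faithful] :
    IsEquivOver (fpMap u v s σ τ) := by
  have hue : u.toFunctor.IsEquivalence := IsEquivOver.isEquivalence hu
  have hve : v.toFunctor.IsEquivalence := IsEquivOver.isEquivalence hv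
  have hfaith : (fpMap u v s σ τ).toFunctor.Faithful := by
    refine ⟨fun {x y} f g h => ?_⟩
    apply fp_hom_ext
    · apply u.toFunctor.map_injective
      exact congrArg (fun t => t.hom.fst) h
    · apply v.toFunctor.map_injective
      exact congrArg (fun t => t.hom.snd) h
  have hfull : (fpMap u v s σ τ).toFunctor.Full := by
    refine ⟨fun {x y} h => ?_⟩
    have hw := fp_w h
    simp only [fpMap_obj_iso_hom, fpMap_obj_fst, fpMap_obj_snd] at hw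
    obtain ⟨φ, hφ⟩ : ∃ φ : x.obj.fst ⟶ y.obj.fst, u.map φ = h.hom.fst :=
      u.toFunctor.map_surjective h.hom.fst
    obtain ⟨ψ, hψ⟩ : ∃ ψ : x.obj.snd ⟶ y.obj.snd, v.map ψ = h.hom.snd :=
      v.toFunctor.map_surjective h.hom.snd
    have n1 := hom_naturality σ φ
    have n2 := hom_naturality τ ψ
    simp only [bcomp_map] at n1 n2
    have hw' : F.map φ ≫ y.obj.iso.hom = x.obj.iso.hom ≫ G.map ψ := by
      apply s.toFunctor.map_injective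
      change s.map _ = s.map _
      rw [s.map_comp, s.map_comp]
      rw [← cancel_mono (τ.hom.toNatTrans.app y.obj.snd), ← cancel_epi (σ.inv.toNatTrans.app x.obj.fst)]
      have e1 : σ.inv.toNatTrans.app x.obj.fst ≫ s.map (F.map φ) =
          F'.map (u.map φ) ≫ σ.inv.toNatTrans.app y.obj.fst := by
        rw [← cancel_epi (σ.hom.toNatTrans.app x.obj.fst), hom_inv_app_assoc, ← Category.assoc, ← n1,
          Category.assoc, hom_inv_app, Category.comp_id]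
      simp only [Category.assoc]
      rw [← Category.assoc, e1, n2]
      rw [← hφ, ← hψ] at hw
      simp only [Category.assoc] at hw ⊢
      exact hw
    refine ⟨fpHomMk φ ψ hw', ?_⟩
    exact fp_hom_ext hφ hψ
  apply isEquivOver_of_fullyFaithful
  intro y
  have hyl := fp_iso_isHomLift y
  obtain ⟨x₁, a, ha⟩ := IsEquivOver.exists_iso hu y.obj.fst
  obtain ⟨x₂, b, hb⟩ := IsEquivOver.exists_iso hv y.obj.snd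
  let k : s.obj (F.obj x₁) ≅ s.obj (G.obj x₂) :=
    appIso σ x₁ ≪≫ F'.toFunctor.mapIso a ≪≫ y.obj.iso ≪≫ G'.toFunctor.mapIso b.symm ≪≫ (appIso τ x₂).symm
  let i : F.obj x₁ ≅ G.obj x₂ := s.toFunctor.preimageIso k
  have hsi : s.map i.hom = k.hom := by simp [i]
  have hx₁ : 𝒳.p.obj x₁ = 𝒳'.p.obj y.obj.fst := by
    rw [← u.w_obj]
    exact IsHomLift.domain_eq 𝒳'.p (𝟙 _) a.hom
  have hi : 𝒮.p.IsHomLift (𝟙 (𝒳.p.obj x₁)) i.hom := by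
    rw [← BasedFunctor.isHomLift_iff s, hsi]
    have h1 : 𝒮'.p.IsHomLift (𝟙 (𝒳.p.obj x₁)) (σ.hom.toNatTrans.app x₁) := σ.hom.isHomLift' x₁
    have h2 : 𝒮'.p.IsHomLift (𝟙 (𝒳'.p.obj y.obj.fst)) (F'.map a.hom) := inferInstance
    have h3 : 𝒮'.p.IsHomLift (𝟙 (𝒴'.p.obj y.obj.snd)) (G'.map b.inv) := by
      have : 𝒴'.p.IsHomLift (𝟙 (𝒴'.p.obj y.obj.snd)) b.inv := inferInstance
      exact BasedFunctor.preserves_isHomLift G' _ b.inv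
    have h4 : 𝒮'.p.IsHomLift (𝟙 (𝒴.p.obj x₂)) (τ.inv.toNatTrans.app x₂) := τ.inv.isHomLift' x₂
    have h34 := isHomLift_id_comp' (p := 𝒮'.p) (R := 𝒴'.p.obj y.obj.snd) (R' := 𝒴.p.obj x₂)
      (G'.map b.inv) (τ.inv.toNatTrans.app x₂)
    have h234 := isHomLift_id_comp' (p := 𝒮'.p) (R := 𝒳'.p.obj y.obj.fst) (R' := 𝒴'.p.obj y.obj.snd)
      y.obj.iso.hom (G'.map b.inv ≫ τ.inv.toNatTrans.app x₂)
    have h1234 := isHomLift_id_comp' (p := 𝒮'.p) (R := 𝒳'.p.obj y.obj.fst) (R' := 𝒳'.p.obj y.obj.fst)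
      (F'.map a.hom) (y.obj.iso.hom ≫ G'.map b.inv ≫ τ.inv.toNatTrans.app x₂)
    exact isHomLift_id_comp' (p := 𝒮'.p) (R := 𝒳.p.obj x₁) (R' := 𝒳'.p.obj y.obj.fst)
      (σ.hom.toNatTrans.app x₁)
      (F'.map a.hom ≫ y.obj.iso.hom ≫ G'.map b.inv ≫ τ.inv.toNatTrans.app x₂)
  refine ⟨fpMk F G x₁ x₂ i hi, fpIsoMk a b ?_, ?_⟩
  · simp only [fpMap_obj_iso_hom, fpMk_fst, fpMk_snd, fpMk_iso, hsi]
    simp [k]
  · rw [fp_isHomLift_iff]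
    exact ha

end fpMap

section squares

variable {𝒳 : BasedCategory.{v₂, u₂} C} {𝒴 : BasedCategory.{v₃, u₃} C}
  {𝒳' : BasedCategory.{v₄, u₄} C} {𝒴' : BasedCategory.{v₅, u₅} C} {𝒲 : BasedCategory.{v₆, u₆} C}

/-- base change of a 2-commutative square with horizontal equivalences: `𝒲 ×_𝒴' 𝒳' ⟶ 𝒲 ×_𝒴 𝒳`. -/
def fpSquare (f : 𝒳 ⥤ᵇ 𝒴) (f' : 𝒳' ⥤ᵇ 𝒴') (a : 𝒳' ⥤ᵇ 𝒳) (b : 𝒴' ⥤ᵇ 𝒴)
    (e : BasedFunctor.comp f' b ≅ BasedFunctor.comp a f) (y' : 𝒲 ⥤ᵇ 𝒴') :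
    fp y' f' ⥤ᵇ fp (BasedFunctor.comp y' b) f :=
  fpMap (BasedFunctor.id 𝒲) a b (Iso.refl _) e

theorem fpSquare_comp_fpFst (f : 𝒳 ⥤ᵇ 𝒴) (f' : 𝒳' ⥤ᵇ 𝒴') (a : 𝒳' ⥤ᵇ 𝒳) (b : 𝒴' ⥤ᵇ 𝒴)
    (e : BasedFunctor.comp f' b ≅ BasedFunctor.comp a f) (y' : 𝒲 ⥤ᵇ 𝒴') :
    BasedFunctor.comp (fpSquare f f' a b e y') (fpFst (BasedFunctor.comp y' b) f) = fpFst y' f' := rfl

theorem isEquivOver_fpSquare (f : 𝒳 ⥤ᵇ 𝒴) (f' : 𝒳' ⥤ᵇ 𝒴') (a : 𝒳' ⥤ᵇ 𝒳) (b : 𝒴' ⥤ᵇ 𝒴)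
    (ha : IsEquivOver a) (hb : IsEquivOver b)
    (e : BasedFunctor.comp f' b ≅ BasedFunctor.comp a f) (y' : 𝒲 ⥤ᵇ 𝒴') :
    IsEquivOver (fpSquare f f' a b e y') := by
  have hbe : b.toFunctor.IsEquivalence := IsEquivOver.isEquivalence hb
  exact isEquivOver_fpMap _ _ _ _ _ (isEquivOver_id 𝒲) ha

/-- replacing the first leg by a 2-isomorphic one: `𝒲 ×_{y₁} 𝒳 ⟶ 𝒲 ×_{y₂} 𝒳`. -/
def fpCongrLeft (f : 𝒳 ⥤ᵇ 𝒴) {y₁ y₂ : 𝒲 ⥤ᵇ 𝒴} (θ : y₁ ≅ y₂) : fp y₁ f ⥤ᵇ fp y₂ f :=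
  fpMap (F := y₁) (G := f) (F' := y₂) (G' := f) (BasedFunctor.id 𝒲) (BasedFunctor.id 𝒳)
    (BasedFunctor.id 𝒴) θ (Iso.refl _)

theorem fpCongrLeft_comp_fpFst (f : 𝒳 ⥤ᵇ 𝒴) {y₁ y₂ : 𝒲 ⥤ᵇ 𝒴} (θ : y₁ ≅ y₂) :
    BasedFunctor.comp (fpCongrLeft f θ) (fpFst y₂ f) = fpFst y₁ f := rfl

theorem fpCongrLeft_comp_fpSnd (f : 𝒳 ⥤ᵇ 𝒴) {y₁ y₂ : 𝒲 ⥤ᵇ 𝒴} (θ : y₁ ≅ y₂) :
    BasedFunctor.comp (fpCongrLeft f θ) (fpSnd y₂ f) = fpSnd y₁ f := rfl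

theorem isEquivOver_fpCongrLeft (f : 𝒳 ⥤ᵇ 𝒴) {y₁ y₂ : 𝒲 ⥤ᵇ 𝒴} (θ : y₁ ≅ y₂) :
    IsEquivOver (fpCongrLeft f θ) := by
  have h1 : (BasedFunctor.id 𝒴).toFunctor.Full := inferInstanceAs (𝟭 𝒴.obj).Full
  have h2 : (BasedFunctor.id 𝒴).toFunctor.Faithful := inferInstanceAs (𝟭 𝒴.obj).Faithful
  exact isEquivOver_fpMap _ _ _ _ _ (isEquivOver_id 𝒲) (isEquivOver_id 𝒳)

/-- replacing the second leg by a 2-isomorphic one: `𝒲 ×_{f₁} 𝒳 ⟶ 𝒲 ×_{f₂} 𝒳`. -/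
def fpCongrRight (y : 𝒲 ⥤ᵇ 𝒴) {f₁ f₂ : 𝒳 ⥤ᵇ 𝒴} (θ : f₁ ≅ f₂) : fp y f₁ ⥤ᵇ fp y f₂ :=
  fpMap (F := y) (G := f₁) (F' := y) (G' := f₂) (BasedFunctor.id 𝒲) (BasedFunctor.id 𝒳)
    (BasedFunctor.id 𝒴) (Iso.refl _) θ

theorem fpCongrRight_comp_fpFst (y : 𝒲 ⥤ᵇ 𝒴) {f₁ f₂ : 𝒳 ⥤ᵇ 𝒴} (θ : f₁ ≅ f₂) :
    BasedFunctor.comp (fpCongrRight y θ) (fpFst y f₂) = fpFst y f₁ := rfl

theorem fpCongrRight_comp_fpSnd (y : 𝒲 ⥤ᵇ 𝒴) {f₁ f₂ : 𝒳 ⥤ᵇ 𝒴} (θ : f₁ ≅ f₂) :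
    BasedFunctor.comp (fpCongrRight y θ) (fpSnd y f₂) = fpSnd y f₁ := rfl

theorem isEquivOver_fpCongrRight (y : 𝒲 ⥤ᵇ 𝒴) {f₁ f₂ : 𝒳 ⥤ᵇ 𝒴} (θ : f₁ ≅ f₂) :
    IsEquivOver (fpCongrRight y θ) := by
  have h1 : (BasedFunctor.id 𝒴).toFunctor.Full := inferInstanceAs (𝟭 𝒴.obj).Full
  have h2 : (BasedFunctor.id 𝒴).toFunctor.Faithful := inferInstanceAs (𝟭 𝒴.obj).Faithful
  exact isEquivOver_fpMap _ _ _ _ _ (isEquivOver_id 𝒲) (isEquivOver_id 𝒳)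

end squares

section baseChange

variable {𝒳 : BasedCategory.{v₂, u₂} C} {𝒴 : BasedCategory.{v₃, u₃} C}
  {𝒲 : BasedCategory.{v₄, u₄} C} {𝒲' : BasedCategory.{v₅, u₅} C}

/-- `𝒲' ×_𝒴 𝒳 ⟶ 𝒲 ×_𝒴 𝒳` induced by `u : 𝒲' ⟶ 𝒲`. -/
def fpPre (u : 𝒲' ⥤ᵇ 𝒲) (y : 𝒲 ⥤ᵇ 𝒴) (f : 𝒳 ⥤ᵇ 𝒴) : fp (BasedFunctor.comp u y) f ⥤ᵇ fp y f :=
  fpMap (F := BasedFunctor.comp u y) (G := f) (F' := y) (G' := f) u (BasedFunctor.id 𝒳)
    (BasedFunctor.id 𝒴) (Iso.refl _) (Iso.refl _)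

theorem fpPre_comp_fpFst (u : 𝒲' ⥤ᵇ 𝒲) (y : 𝒲 ⥤ᵇ 𝒴) (f : 𝒳 ⥤ᵇ 𝒴) :
    BasedFunctor.comp (fpPre u y f) (fpFst y f) = BasedFunctor.comp (fpFst (BasedFunctor.comp u y) f) u := rfl

theorem fpPre_comp_fpSnd (u : 𝒲' ⥤ᵇ 𝒲) (y : 𝒲 ⥤ᵇ 𝒴) (f : 𝒳 ⥤ᵇ 𝒴) :
    BasedFunctor.comp (fpPre u y f) (fpSnd y f) = fpSnd (BasedFunctor.comp u y) f := rfl

theorem isEquivOver_fpPre (u : 𝒲' ⥤ᵇ 𝒲) (hu : IsEquivOver u) (y : 𝒲 ⥤ᵇ 𝒴) (f : 𝒳 ⥤ᵇ 𝒴) :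
    IsEquivOver (fpPre u y f) := by
  have h1 : (BasedFunctor.id 𝒴).toFunctor.Full := inferInstanceAs (𝟭 𝒴.obj).Full
  have h2 : (BasedFunctor.id 𝒴).toFunctor.Faithful := inferInstanceAs (𝟭 𝒴.obj).Faithful
  exact isEquivOver_fpMap _ _ _ _ _ hu (isEquivOver_id 𝒳)

end baseChange

section swap

variable {𝒳 : BasedCategory.{v₂, u₂} C} {𝒴 : BasedCategory.{v₃, u₃} C} {𝒮 : BasedCategory.{v₄, u₄} C}
  (F : 𝒳 ⥤ᵇ 𝒮) (G : 𝒴 ⥤ᵇ 𝒮)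

/-- `𝒳 ×_𝒮 𝒴 ⟶ 𝒴 ×_𝒮 𝒳`. -/
def fpSwap : fp F G ⥤ᵇ fp G F :=
  fpLift (fpSnd F G) (fpFst F G) (fpIso F G).symm

theorem fpSwap_comp_fpFst : BasedFunctor.comp (fpSwap F G) (fpFst G F) = fpSnd F G := rfl

theorem fpSwap_comp_fpSnd : BasedFunctor.comp (fpSwap F G) (fpSnd G F) = fpFst F G := rfl

/-- `fpSwap ⋙ fpSwap ≅ 𝟭`. -/
def fpSwapSwap : BasedFunctor.comp (fpSwap F G) (fpSwap G F) ≅ BasedFunctor.id _ :=
  fpFunctorIso _ _ (Iso.refl _) (Iso.refl _) (fun x => by simp [fpSwap])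

theorem isEquivOver_fpSwap : IsEquivOver (fpSwap F G) :=
  ⟨fpSwap G F, ⟨fpSwapSwap F G⟩, ⟨fpSwapSwap G F⟩⟩

end swap

end Groth.Agent.Helper19.FibLib
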