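import Mathlib
import Groth.Prelude.Def_FibCat2
import Groth.Agent.Lib.Helper19.FibLib2

/-!
# 2-cartesian squares involving diagonals (helper19)
-/

set_option autoImplicit false
set_option backward.isDefEq.respectTransparency false

universe v₇ u₇ v₆ u₆ v₅ u₅ v₄ u₄ v₃ u₃ v₂ u₂ v u

open CategoryTheory CategoryTheory.Limits Functor

namespace Groth.Agent.Helper19.FibLib

open FibCat

variable {C : Type u} [Category.{v} C]

section diagBasics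

variable {𝒳 : BasedCategory.{v₂, u₂} C} {𝒮 : BasedCategory.{v₄, u₄} C} (F : 𝒳 ⥤ᵇ 𝒮)

theorem diag_comp_fpFst : BasedFunctor.comp (diag F) (fpFst F F) = BasedFunctor.id 𝒳 := rfl
theorem diag_comp_fpSnd : BasedFunctor.comp (diag F) (fpSnd F F) = BasedFunctor.id 𝒳 := rfl

@[simp] theorem diag_obj_fst (x : 𝒳.obj) : ((diag F).obj x).obj.fst = x := rfl
@[simp] theorem diag_obj_snd (x : 𝒳.obj) : ((diag F).obj x).obj.snd = x := rfl
@[simp] theorem diag_obj_iso_hom (x : 𝒳.obj) : ((diag F).obj x).obj.iso.hom = 𝟙 (F.obj x) := rfl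
@[simp] theorem diag_obj_iso_inv (x : 𝒳.obj) : ((diag F).obj x).obj.iso.inv = 𝟙 (F.obj x) := rfl
@[simp] theorem diag_map_fst {x y : 𝒳.obj} (f : x ⟶ y) : ((diag F).map f).hom.fst = f := rfl
@[simp] theorem diag_map_snd {x y : 𝒳.obj} (f : x ⟶ y) : ((diag F).map f).hom.snd = f := rfl

end diagBasics

section cmpSquare

variable {𝒳 : BasedCategory.{v₂, u₂} C} {𝒴 : BasedCategory.{v₃, u₃} C} {𝒵 : BasedCategory.{v₄, u₄} C}
  {𝒯 : BasedCategory.{v₅, u₅} C} (f : 𝒳 ⥤ᵇ 𝒵) (g : 𝒴 ⥤ᵇ 𝒵) (t : 𝒵 ⥤ᵇ 𝒯)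

/-- `f × g : 𝒳 ×_𝒯 𝒴 ⟶ 𝒵 ×_𝒯 𝒵`. -/
def cmpProd : fp (BasedFunctor.comp f t) (BasedFunctor.comp g t) ⥤ᵇ fp t t :=
  fpMap (F := BasedFunctor.comp f t) (G := BasedFunctor.comp g t) (F' := t) (G' := t) f g
    (BasedFunctor.id 𝒯) (Iso.refl _) (Iso.refl _)

@[simp] theorem cmpProd_obj_fst (x : (fp (BasedFunctor.comp f t) (BasedFunctor.comp g t)).obj) :
    ((cmpProd f g t).obj x).obj.fst = f.obj x.obj.fst := rfl
@[simp] theorem cmpProd_obj_snd (x : (fp (BasedFunctor.comp f t) (BasedFunctor.comp g t)).obj) :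
    ((cmpProd f g t).obj x).obj.snd = g.obj x.obj.snd := rfl
@[simp] theorem cmpProd_obj_iso_hom (x : (fp (BasedFunctor.comp f t) (BasedFunctor.comp g t)).obj) :
    ((cmpProd f g t).obj x).obj.iso.hom = x.obj.iso.hom := by
  simp [cmpProd]
@[simp] theorem cmpProd_map_fst {x y : (fp (BasedFunctor.comp f t) (BasedFunctor.comp g t)).obj}
    (φ : x ⟶ y) : ((cmpProd f g t).map φ).hom.fst = f.map φ.hom.fst := rfl
@[simp] theorem cmpProd_map_snd {x y : (fp (BasedFunctor.comp f t) (BasedFunctor.comp g t)).obj}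
    (φ : x ⟶ y) : ((cmpProd f g t).map φ).hom.snd = g.map φ.hom.snd := rfl

variable (e : BasedFunctor.comp (fpFst f g) (BasedFunctor.comp f t) ≅
      BasedFunctor.comp (fpSnd f g) (BasedFunctor.comp g t))
  (he : ∀ x, e.hom.toNatTrans.app x = t.map x.obj.iso.hom)

/-- the comparison `𝒳 ×_𝒵 𝒴 ⟶ 𝒳 ×_𝒯 𝒴`. -/
abbrev cmpI : fp f g ⥤ᵇ fp (BasedFunctor.comp f t) (BasedFunctor.comp g t) :=
  fpLift (fpFst f g) (fpSnd f g) e

include he in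
theorem cmpI_obj_iso_hom (x : (fp f g).obj) :
    ((cmpI f g t e).obj x).obj.iso.hom = t.map x.obj.iso.hom := by
  simp [he]

include he in
theorem cmpI_obj_iso_inv (x : (fp f g).obj) :
    ((cmpI f g t e).obj x).obj.iso.inv = t.map x.obj.iso.inv := by
  have h1 := cmpI_obj_iso_hom f g t e he x
  rw [← cancel_epi ((cmpI f g t e).obj x).obj.iso.hom, Iso.hom_inv_id, h1, ← t.map_comp,
    Iso.hom_inv_id, t.map_id]
  rfl

/-- the 2-isomorphism of the square `𝒳 ×_𝒵 𝒴 → 𝒳 ×_𝒯 𝒴 → 𝒵 ×_𝒯 𝒵`, `𝒳 ×_𝒵 𝒴 → 𝒵 → 𝒵 ×_𝒯 𝒵`. -/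
def cmpSqIso : BasedFunctor.comp (cmpI f g t e) (cmpProd f g t) ≅
    BasedFunctor.comp (BasedFunctor.comp (fpFst f g) f) (diag t) :=
  fpFunctorIso _ _ (Iso.refl _) (fpIso f g).symm (fun x => by
    have h1 := cmpI_obj_iso_hom f g t e he x
    simp only [bcomp_obj, cmpProd_obj_iso_hom, h1]
    simp [← t.map_comp])

/-- the comparison functor of the square. -/
def cmpΦ : fp f g ⥤ᵇ fp (cmpProd f g t) (diag t) :=
  fpLift (cmpI f g t e) (BasedFunctor.comp (fpFst f g) f) (cmpSqIso f g t e he)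

/-- its inverse. -/
def cmpΨ : fp (cmpProd f g t) (diag t) ⥤ᵇ fp f g :=
  fpLift (BasedFunctor.comp (fpFst (cmpProd f g t) (diag t)) (fpFst _ _))
    (BasedFunctor.comp (fpFst (cmpProd f g t) (diag t)) (fpSnd _ _))
    (whiskerRightIso (fpIso (cmpProd f g t) (diag t)) (fpFst t t) ≪≫
      (whiskerRightIso (fpIso (cmpProd f g t) (diag t)) (fpSnd t t)).symm)

/-- `cmpΦ ⋙ cmpΨ ≅ 𝟭`. -/
def cmpUnit : BasedFunctor.comp (cmpΦ f g t e he) (cmpΨ f g t) ≅ BasedFunctor.id _ :=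
  fpFunctorIso _ _ (Iso.refl _) (Iso.refl _) (fun x => by
    simp [cmpΦ, cmpΨ, cmpSqIso])

/-- `cmpΨ ⋙ cmpΦ ≅ 𝟭`. -/
def cmpCounit : BasedFunctor.comp (cmpΨ f g t) (cmpΦ f g t e he) ≅ BasedFunctor.id _ :=
  fpFunctorIso _ _
    (fpFunctorIso _ _ (Iso.refl _) (Iso.refl _) (fun o => by
      have hw := fp_w o.obj.iso.hom
      have hb : o.obj.iso.hom.hom.snd ≫ o.obj.iso.inv.hom.snd = 𝟙 _ := by
        rw [← fp_comp_snd, Iso.hom_inv_id]; rfl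
      have hΨ : ((cmpΨ f g t).obj o).obj.iso.hom =
          o.obj.iso.hom.hom.fst ≫ o.obj.iso.inv.hom.snd := rfl
      simp only [diag_obj_iso_hom, cmpProd_obj_iso_hom] at hw
      have hw' : t.map o.obj.iso.hom.hom.fst =
          o.obj.fst.obj.iso.hom ≫ t.map o.obj.iso.hom.hom.snd := (Category.comp_id _).symm.trans hw
      have hk : o.obj.fst.obj.iso.hom = t.map (o.obj.iso.hom.hom.fst ≫ o.obj.iso.inv.hom.snd) := by
        rw [t.map_comp, hw', Category.assoc, ← t.map_comp, hb]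
        simp
      have h2 := he ((cmpΨ f g t).obj o)
      rw [hΨ] at h2
      simp only [bcomp_obj, cmpΦ] at h2 ⊢
      simp [h2, hk]))
    (whiskerRightIso (fpIso (cmpProd f g t) (diag t)) (fpFst t t))
    (fun o => by
      have hb : o.obj.iso.inv.hom.snd ≫ o.obj.iso.hom.hom.snd = 𝟙 _ := by
        rw [← fp_comp_snd, Iso.inv_hom_id]; rfl
      have ha : o.obj.iso.inv.hom.fst ≫ o.obj.iso.hom.hom.fst = 𝟙 _ := by
        rw [← fp_comp_fst, Iso.inv_hom_id]; rfl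
      have hΨ : ((cmpΨ f g t).obj o).obj.iso.inv =
          o.obj.iso.hom.hom.snd ≫ o.obj.iso.inv.hom.fst := rfl
      apply fp_hom_ext
      · simp [cmpΦ, cmpSqIso]
      · simp [cmpΦ, cmpSqIso, hΨ, ha])

theorem isEquivOver_cmpΦ : IsEquivOver (cmpΦ f g t e he) :=
  ⟨cmpΨ f g t, ⟨cmpUnit f g t e he⟩, ⟨cmpCounit f g t e he⟩⟩

theorem cmpΦ_comp_fpFst :
    BasedFunctor.comp (cmpΦ f g t e he) (fpFst (cmpProd f g t) (diag t)) = cmpI f g t e := rfl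

end cmpSquare

section idLegs

variable {𝒳 : BasedCategory.{v₂, u₂} C} {𝒴 : BasedCategory.{v₃, u₃} C} (g : 𝒳 ⥤ᵇ 𝒴)

/-- `𝒳 ⟶ 𝒳 ×_𝒴 𝒴`, `x ↦ (x, g x, 𝟙)`. -/
def graphId : 𝒳 ⥤ᵇ fp g (BasedFunctor.id 𝒴) :=
  fpLift (BasedFunctor.id 𝒳) g (Iso.refl _)

theorem graphId_comp_fpFst : BasedFunctor.comp (graphId g) (fpFst g (BasedFunctor.id 𝒴)) = BasedFunctor.id 𝒳 := rfl
theorem graphId_comp_fpSnd : BasedFunctor.comp (graphId g) (fpSnd g (BasedFunctor.id 𝒴)) = g := rfl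

def graphIdCounit : BasedFunctor.comp (fpFst g (BasedFunctor.id 𝒴)) (graphId g) ≅ BasedFunctor.id _ :=
  fpFunctorIso _ _ (Iso.refl _) (fpIso g (BasedFunctor.id 𝒴)) (fun x => by simp [graphId])

theorem isEquivOver_graphId : IsEquivOver (graphId g) :=
  ⟨fpFst g (BasedFunctor.id 𝒴), ⟨Iso.refl _⟩, ⟨graphIdCounit g⟩⟩

theorem isEquivOver_fpFst_id : IsEquivOver (fpFst g (BasedFunctor.id 𝒴)) :=
  ⟨graphId g, ⟨graphIdCounit g⟩, ⟨Iso.refl _⟩⟩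

/-- `𝒳 ⟶ 𝒴 ×_𝒴 𝒳`, `x ↦ (g x, x, 𝟙)`. -/
def idGraph : 𝒳 ⥤ᵇ fp (BasedFunctor.id 𝒴) g :=
  fpLift g (BasedFunctor.id 𝒳) (Iso.refl _)

theorem idGraph_comp_fpSnd : BasedFunctor.comp (idGraph g) (fpSnd (BasedFunctor.id 𝒴) g) = BasedFunctor.id 𝒳 := rfl
theorem idGraph_comp_fpFst : BasedFunctor.comp (idGraph g) (fpFst (BasedFunctor.id 𝒴) g) = g := rfl

def idGraphCounit : BasedFunctor.comp (fpSnd (BasedFunctor.id 𝒴) g) (idGraph g) ≅ BasedFunctor.id _ :=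
  fpFunctorIso _ _ (fpIso (BasedFunctor.id 𝒴) g).symm (Iso.refl _) (fun x => by simp [idGraph])

theorem isEquivOver_idGraph : IsEquivOver (idGraph g) :=
  ⟨fpSnd (BasedFunctor.id 𝒴) g, ⟨Iso.refl _⟩, ⟨idGraphCounit g⟩⟩

theorem isEquivOver_fpSnd_id : IsEquivOver (fpSnd (BasedFunctor.id 𝒴) g) :=
  ⟨idGraph g, ⟨idGraphCounit g⟩, ⟨Iso.refl _⟩⟩

end idLegs

section graph

variable {𝒳 : BasedCategory.{v₂, u₂} C} {𝒴 : BasedCategory.{v₃, u₃} C} {𝒯 : BasedCategory.{v₅, u₅} C}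
  (p : 𝒳 ⥤ᵇ 𝒯) (q : 𝒴 ⥤ᵇ 𝒯) (g : 𝒳 ⥤ᵇ 𝒴)
  (e : BasedFunctor.comp (BasedFunctor.id 𝒳) p ≅ BasedFunctor.comp g q)

/-- the 2-isomorphism used to view the graph as a comparison map. -/
def graphCmpIso : BasedFunctor.comp (fpFst g (BasedFunctor.id 𝒴)) (BasedFunctor.comp g q) ≅
    BasedFunctor.comp (fpSnd g (BasedFunctor.id 𝒴)) (BasedFunctor.comp (BasedFunctor.id 𝒴) q) :=
  whiskerRightIso (fpIso g (BasedFunctor.id 𝒴)) q

theorem graphCmpIso_app (x : (fp g (BasedFunctor.id 𝒴)).obj) :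
    (graphCmpIso q g).hom.toNatTrans.app x = q.map x.obj.iso.hom := rfl

/-- the graph as a composite `𝒳 ≃ 𝒳 ×_𝒴 𝒴 ⟶ 𝒳 ×_{gq,𝒯} 𝒴 ≃ 𝒳 ×_{p,𝒯} 𝒴`. -/
def graphFactor : fpLift (BasedFunctor.id 𝒳) g e ≅
    BasedFunctor.comp (graphId g)
      (BasedFunctor.comp (cmpI g (BasedFunctor.id 𝒴) q (graphCmpIso q g))
        (fpCongrLeft (y₁ := BasedFunctor.comp g q) (y₂ := p) q e.symm)) :=
  fpFunctorIso _ _ (Iso.refl _) (Iso.refl _) (fun x => by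
    simp [graphId, fpCongrLeft, graphCmpIso])

end graph

section diagBaseChange

variable {𝒳 : BasedCategory.{v₂, u₂} C} {𝒴 : BasedCategory.{v₃, u₃} C} {𝒵 : BasedCategory.{v₄, u₄} C}
  (f : 𝒳 ⥤ᵇ 𝒴) (g : 𝒵 ⥤ᵇ 𝒴)

/-- `(𝒵 ×_𝒴 𝒳) ×_𝒵 (𝒵 ×_𝒴 𝒳) ⟶ 𝒳 ×_𝒴 𝒳`. -/
def dbcN : fp (fpFst g f) (fpFst g f) ⥤ᵇ fp f f :=
  fpMap (F := fpFst g f) (G := fpFst g f) (F' := f) (G' := f) (fpSnd g f) (fpSnd g f) g
    (fpIso g f) (fpIso g f)

/-- the 2-isomorphism of the square. -/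
def dbcSqIso : BasedFunctor.comp (diag (fpFst g f)) (dbcN f g) ≅
    BasedFunctor.comp (fpSnd g f) (diag f) :=
  fpFunctorIso _ _ (Iso.refl _) (Iso.refl _) (fun x => by simp [dbcN])

/-- the comparison functor of the square. -/
def dbcΦ : fp g f ⥤ᵇ fp (dbcN f g) (diag f) :=
  fpLift (diag (fpFst g f)) (fpSnd g f) (dbcSqIso f g)

/-- its inverse. -/
def dbcΨ : fp (dbcN f g) (diag f) ⥤ᵇ fp g f :=
  BasedFunctor.comp (fpFst (dbcN f g) (diag f)) (fpFst (fpFst g f) (fpFst g f))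

theorem dbcΦ_comp_dbcΨ : BasedFunctor.comp (dbcΦ f g) (dbcΨ f g) = BasedFunctor.id _ := rfl

/-- `w₁ ≅ w₂` functorially on `(𝒲 ×_𝒵 𝒲) ×_{𝒳 ×_𝒴 𝒳} 𝒳`. -/
def dbcγ : dbcΨ f g ≅
    BasedFunctor.comp (fpFst (dbcN f g) (diag f)) (fpSnd (fpFst g f) (fpFst g f)) :=
  fpFunctorIso _ _
    (whiskerLeftIso (fpFst (dbcN f g) (diag f)) (fpIso (fpFst g f) (fpFst g f)))
    (whiskerRightIso (fpIso (dbcN f g) (diag f)) (fpFst f f) ≪≫
      (whiskerRightIso (fpIso (dbcN f g) (diag f)) (fpSnd f f)).symm)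
    (fun o => by
      have hw := fp_w o.obj.iso.hom
      have hb : o.obj.iso.hom.hom.snd ≫ o.obj.iso.inv.hom.snd = 𝟙 (o.obj.fst.obj.snd.obj.snd) := by
        rw [← fp_comp_snd, Iso.hom_inv_id]; rfl
      simp only [diag_obj_iso_hom, dbcN, fpMap_obj_iso_hom, fpIso_inv_app, fpIso_hom_app] at hw
      have hw' : f.map o.obj.iso.hom.hom.fst =
          (o.obj.fst.obj.fst.obj.iso.inv ≫ g.map o.obj.fst.obj.iso.hom ≫ o.obj.fst.obj.snd.obj.iso.hom) ≫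
            f.map o.obj.iso.hom.hom.snd := (Category.comp_id _).symm.trans hw
      have h3 : f.map (o.obj.iso.hom.hom.fst ≫ o.obj.iso.inv.hom.snd) =
          o.obj.fst.obj.fst.obj.iso.inv ≫ g.map o.obj.fst.obj.iso.hom ≫ o.obj.fst.obj.snd.obj.iso.hom := by
        rw [f.map_comp, hw', Category.assoc, ← f.map_comp, hb]
        simp
      simp only [dbcΨ, bcomp_obj, fpFst_obj, fpSnd_obj, whiskerLeftIso_hom_app, fpIso_hom_app,
        trans_hom_app, whiskerRightIso_hom_app, symm_hom_app, whiskerRightIso_inv_app, fpFst_map,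
        fpSnd_map, fpIso_inv_app]
      rw [h3]
      simp)

/-- `dbcΨ ⋙ dbcΦ ≅ 𝟭`. -/
def dbcCounit : BasedFunctor.comp (dbcΨ f g) (dbcΦ f g) ≅ BasedFunctor.id _ :=
  fpFunctorIso _ _
    (fpFunctorIso _ _ (Iso.refl _) (dbcγ f g) (fun o => by
      simp [dbcΦ, dbcγ, dbcΨ]))
    (whiskerRightIso (fpIso (dbcN f g) (diag f)) (fpFst f f))
    (fun o => by
      have ha : o.obj.iso.inv.hom.snd ≫ o.obj.iso.hom.hom.snd = 𝟙 (o.obj.snd) := by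
        rw [← fp_comp_snd, Iso.inv_hom_id]; rfl
      apply fp_hom_ext
      · simp [dbcΦ, dbcSqIso, dbcN, dbcΨ]
      · simp [dbcΦ, dbcSqIso, dbcN, dbcΨ, dbcγ, ha])

theorem isEquivOver_dbcΦ : IsEquivOver (dbcΦ f g) :=
  ⟨dbcΨ f g, ⟨Iso.refl _⟩, ⟨dbcCounit f g⟩⟩

end diagBaseChange

end Groth.Agent.Helper19.FibLib
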