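import Mathlib
import Groth.Prelude.Def_AlgSt
import Groth.Agent.Lib.Helper19.FibLib2

/-!
# Functors into the category over `C` of a presheaf of sets (`Stk.ofPsh`) (helper19)
-/

set_option autoImplicit false
set_option backward.isDefEq.respectTransparency false

universe w v₃ u₃ v₂ u₂ v u

open CategoryTheory CategoryTheory.Limits Functor Opposite

namespace Groth.Agent.Helper19.PshLib

open FibCat Stk Groth.Agent.Helper19.FibLib

variable {C : Type u} [Category.{v} C]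

theorem map_map_apply (Q : Cᵒᵖ ⥤ Type w) {X Y Z : C} (f : X ⟶ Y) (g : Y ⟶ Z) (s : Q.obj (op Z)) :
    Q.map f.op (Q.map g.op s) = Q.map (f ≫ g).op s := by
  rw [op_comp, Functor.map_comp_apply]

theorem map_id_apply (Q : Cᵒᵖ ⥤ Type w) {X : C} (s : Q.obj (op X)) :
    Q.map (𝟙 X).op s = s := by
  simp

theorem map_congr_apply (Q : Cᵒᵖ ⥤ Type w) {X Y : C} {f g : X ⟶ Y} (h : f = g) (s : Q.obj (op Y)) :
    Q.map f.op s = Q.map g.op s := by
  rw [h]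

section secOf

variable {𝒲 : BasedCategory.{v₂, u₂} C} {Q : Cᵒᵖ ⥤ Type w}

theorem base_eq (Φ : 𝒲 ⥤ᵇ ofPsh Q) (w : 𝒲.obj) : (Φ.obj w).base = 𝒲.p.obj w := Φ.w_obj w

theorem map_hom_eq (Φ : 𝒲 ⥤ᵇ ofPsh Q) {w' w : 𝒲.obj} (g : w' ⟶ w) :
    (Φ.map g).hom = eqToHom (base_eq Φ w') ≫ 𝒲.p.map g ≫ eqToHom (base_eq Φ w).symm := by
  have : (ofPsh Q).p.IsHomLift (𝒲.p.map g) (Φ.map g) := BasedFunctor.preserves_isHomLift Φ (𝒲.p.map g) g
  exact IsHomLift.fac' (ofPsh Q).p (𝒲.p.map g) (Φ.map g)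

/-- The section of `Q` over `p(w)` determined by a functor `Φ : 𝒲 ⟶ ofPsh Q` over `C` at the object `w`. -/
def secOf (Φ : 𝒲 ⥤ᵇ ofPsh Q) (w : 𝒲.obj) : Q.obj (op (𝒲.p.obj w)) :=
  Q.map (eqToHom (base_eq Φ w).symm).op (Φ.obj w).sec

theorem sec_eq_secOf (Φ : 𝒲 ⥤ᵇ ofPsh Q) (w : 𝒲.obj) :
    (Φ.obj w).sec = Q.map (eqToHom (base_eq Φ w)).op (secOf Φ w) := by
  unfold secOf
  rw [map_map_apply, eqToHom_trans, eqToHom_refl, map_id_apply]

theorem secOf_naturality (Φ : 𝒲 ⥤ᵇ ofPsh Q) {w' w : 𝒲.obj} (g : w' ⟶ w) :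
    Q.map (𝒲.p.map g).op (secOf Φ w) = secOf Φ w' := by
  have h1 := (Φ.map g).map_sec
  have h2 := map_hom_eq Φ g
  unfold secOf
  rw [← h1, map_map_apply, map_map_apply]
  apply map_congr_apply
  rw [h2]
  simp

/-- An isomorphism in `ofPsh Q` from an equality of base objects and of sections. -/
def eltIso {a b : (ofPsh Q).obj} (h : a.base = b.base)
    (hs : Q.map (eqToHom h).op b.sec = a.sec) : a ≅ b where
  hom := ⟨eqToHom h, hs⟩
  inv := ⟨eqToHom h.symm, by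
    rw [← hs, map_map_apply, eqToHom_trans, eqToHom_refl, map_id_apply]⟩
  hom_inv_id := by apply EltObj.hom_ext; simp
  inv_hom_id := by apply EltObj.hom_ext; simp

@[simp] theorem eltIso_hom_hom {a b : (ofPsh Q).obj} (h : a.base = b.base)
    (hs : Q.map (eqToHom h).op b.sec = a.sec) : (eltIso h hs).hom.hom = eqToHom h := rfl

/-- Two functors into `ofPsh Q` with the same sections are 2-isomorphic over `C`. -/
def isoOfSecOfEq (Φ Φ' : 𝒲 ⥤ᵇ ofPsh Q) (h : ∀ w, secOf Φ w = secOf Φ' w) : Φ ≅ Φ' :=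
  mkIso
    (fun w => eltIso ((base_eq Φ w).trans (base_eq Φ' w).symm) (by
      rw [sec_eq_secOf Φ w, sec_eq_secOf Φ' w, h w, map_map_apply, eqToHom_trans]))
    (fun {w w'} g => by
      apply EltObj.hom_ext
      simp [map_hom_eq])
    (fun w => by
      apply IsHomLift.of_fac (ofPsh Q).p _ _ (Φ.w_obj w) (Φ'.w_obj w)
      simp)

theorem secOf_eq_of_iso {Φ Φ' : 𝒲 ⥤ᵇ ofPsh Q} (θ : Φ ≅ Φ') (w : 𝒲.obj) : secOf Φ w = secOf Φ' w := by
  have h1 : (ofPsh Q).p.IsHomLift (𝟙 (𝒲.p.obj w)) (θ.hom.toNatTrans.app w) := θ.hom.isHomLift' w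
  have h2 : (θ.hom.toNatTrans.app w).hom = eqToHom (base_eq Φ w) ≫ 𝟙 _ ≫ eqToHom (base_eq Φ' w).symm :=
    IsHomLift.fac' (ofPsh Q).p (𝟙 (𝒲.p.obj w)) (θ.hom.toNatTrans.app w)
  have h3 := (θ.hom.toNatTrans.app w).map_sec
  unfold secOf
  rw [← h3, map_map_apply]
  apply map_congr_apply
  rw [h2]
  simp

/-- In a category over `C` with a faithful functor over `C` to the category of a presheaf of sets, two morphisms over
the same morphism of `C` coincide. -/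
theorem hom_eq_of_faithful_to_ofPsh (G : 𝒲 ⥤ᵇ ofPsh Q) [G.toFunctor.Faithful] {z z' : 𝒲.obj} {R S : C}
    (g : R ⟶ S) (m m' : z ⟶ z') [𝒲.p.IsHomLift g m] [𝒲.p.IsHomLift g m'] : m = m' := by
  apply G.toFunctor.map_injective
  apply EltObj.hom_ext
  have h1 : (ofPsh Q).p.IsHomLift g (G.map m) := BasedFunctor.preserves_isHomLift G g m
  have h2 : (ofPsh Q).p.IsHomLift g (G.map m') := BasedFunctor.preserves_isHomLift G g m'
  have e1 := IsHomLift.fac' (ofPsh Q).p g (G.map m)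
  have e2 := IsHomLift.fac' (ofPsh Q).p g (G.map m')
  exact e1.trans e2.symm

end secOf

section dict

variable {P Q R : Cᵒᵖ ⥤ Type w}

/-- An arrow of `ofPsh P` from a morphism of the base. -/
def eltHomMk (P : Cᵒᵖ ⥤ Type w) {V U : C} (f : V ⟶ U) (x : P.obj (op U)) :
    (⟨V, P.map f.op x⟩ : (ofPsh P).obj) ⟶ ⟨U, x⟩ := ⟨f, rfl⟩

@[simp] theorem secOf_ofPshMap (φ : P ⟶ Q) (a : (ofPsh P).obj) :
    secOf (ofPshMap φ) a = φ.app (op a.base) a.sec := by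
  unfold secOf
  exact map_id_apply Q _

/-- The map of presheaves underlying a functor over `C` between categories of presheaves of sets. -/
def pshMapOf (Φ : ofPsh P ⥤ᵇ ofPsh Q) : P ⟶ Q where
  app U := ↾fun x => secOf Φ ⟨U.unop, x⟩
  naturality U V g := by
    ext x
    exact (secOf_naturality Φ (eltHomMk P g.unop x)).symm

theorem pshMapOf_app (Φ : ofPsh P ⥤ᵇ ofPsh Q) (a : (ofPsh P).obj) :
    (pshMapOf Φ).app (op a.base) a.sec = secOf Φ a := rfl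

/-- Every functor over `C` between categories of presheaves of sets is induced by a map of presheaves. -/
def isoOfPshMap (Φ : ofPsh P ⥤ᵇ ofPsh Q) : Φ ≅ ofPshMap (pshMapOf Φ) :=
  isoOfSecOfEq _ _ (fun a => by rw [secOf_ofPshMap, pshMapOf_app])

theorem pshMapOf_eq_of_iso {Φ Φ' : ofPsh P ⥤ᵇ ofPsh Q} (θ : Φ ≅ Φ') : pshMapOf Φ = pshMapOf Φ' := by
  ext U x
  exact secOf_eq_of_iso θ ⟨U.unop, x⟩

@[simp] theorem pshMapOf_ofPshMap (φ : P ⟶ Q) : pshMapOf (ofPshMap φ) = φ := by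
  ext U x
  exact secOf_ofPshMap φ ⟨U.unop, x⟩

theorem secOf_comp_ofPshMap {𝒲 : BasedCategory.{v₂, u₂} C} (Φ : 𝒲 ⥤ᵇ ofPsh P) (ψ : P ⟶ Q) (w : 𝒲.obj) :
    secOf (BasedFunctor.comp Φ (ofPshMap ψ)) w = ψ.app _ (secOf Φ w) := by
  unfold secOf
  exact (NatTrans.naturality_apply ψ _ _).symm

/-- `ofPshMap` of a composite. -/
def ofPshMapComp (φ : P ⟶ Q) (ψ : Q ⟶ R) :
    BasedFunctor.comp (ofPshMap φ) (ofPshMap ψ) ≅ ofPshMap (φ ≫ ψ) :=
  isoOfSecOfEq _ _ (fun a => by rw [secOf_comp_ofPshMap, secOf_ofPshMap, secOf_ofPshMap]; rfl)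

/-- `ofPshMap` of the identity. -/
def ofPshMapId (P : Cᵒᵖ ⥤ Type w) : ofPshMap (𝟙 P) ≅ BasedFunctor.id (ofPsh P) :=
  isoOfSecOfEq _ _ (fun a => by
    rw [secOf_ofPshMap]
    unfold secOf
    exact (map_id_apply P _).symm)

theorem pshMapOf_id (P : Cᵒᵖ ⥤ Type w) : pshMapOf (BasedFunctor.id (ofPsh P)) = 𝟙 P := by
  rw [← pshMapOf_eq_of_iso (ofPshMapId P), pshMapOf_ofPshMap]

theorem pshMapOf_comp (Φ : ofPsh P ⥤ᵇ ofPsh Q) (Ψ : ofPsh Q ⥤ᵇ ofPsh R) :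
    pshMapOf (BasedFunctor.comp Φ Ψ) = pshMapOf Φ ≫ pshMapOf Ψ := by
  have e : BasedFunctor.comp Φ Ψ ≅ ofPshMap (pshMapOf Φ ≫ pshMapOf Ψ) :=
    (whiskerRightIso (isoOfPshMap Φ) Ψ) ≪≫ (whiskerLeftIso _ (isoOfPshMap Ψ)) ≪≫ ofPshMapComp _ _
  rw [pshMapOf_eq_of_iso e, pshMapOf_ofPshMap]

/-- An equivalence over `C` between categories of presheaves of sets comes from an isomorphism of presheaves. -/
def isoOfIsEquivOver (Φ : ofPsh P ⥤ᵇ ofPsh Q) (Ψ : ofPsh Q ⥤ᵇ ofPsh P)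
    (η : BasedFunctor.comp Φ Ψ ≅ BasedFunctor.id _) (ε : BasedFunctor.comp Ψ Φ ≅ BasedFunctor.id _) :
    P ≅ Q where
  hom := pshMapOf Φ
  inv := pshMapOf Ψ
  hom_inv_id := by rw [← pshMapOf_comp, pshMapOf_eq_of_iso η, pshMapOf_id]
  inv_hom_id := by rw [← pshMapOf_comp, pshMapOf_eq_of_iso ε, pshMapOf_id]

theorem exists_iso_of_isEquivOver (Φ : ofPsh P ⥤ᵇ ofPsh Q) (h : IsEquivOver Φ) :
    ∃ e : P ≅ Q, e.hom = pshMapOf Φ := by
  obtain ⟨Ψ, ⟨η⟩, ⟨ε⟩⟩ := h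
  exact ⟨isoOfIsEquivOver Φ Ψ η ε, rfl⟩

theorem isEquivOver_ofPshMap_iso (e : P ≅ Q) : IsEquivOver (ofPshMap e.hom) := by
  refine ⟨ofPshMap e.inv, ⟨?_⟩, ⟨?_⟩⟩
  · refine ofPshMapComp _ _ ≪≫ ?_ ≪≫ ofPshMapId P
    rw [e.hom_inv_id]
  · refine ofPshMapComp _ _ ≪≫ ?_ ≪≫ ofPshMapId Q
    rw [e.inv_hom_id]

end dict

section pullback

variable {P H G W : Cᵒᵖ ⥤ Type w}

/-- Sectionwise form of a pullback square of presheaves of sets. -/
structure IsPbSec (fst : W ⟶ P) (snd : W ⟶ H) (a : P ⟶ G) (b : H ⟶ G) : Prop where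
  w : fst ≫ a = snd ≫ b
  ext : ∀ (U : Cᵒᵖ) (x y : W.obj U), fst.app U x = fst.app U y → snd.app U x = snd.app U y → x = y
  exists_sec : ∀ (U : Cᵒᵖ) (p : P.obj U) (h : H.obj U), a.app U p = b.app U h →
    ∃ x : W.obj U, fst.app U x = p ∧ snd.app U x = h

theorem IsPbSec.of_isPullback {fst : W ⟶ P} {snd : W ⟶ H} {a : P ⟶ G} {b : H ⟶ G}
    (sq : IsPullback fst snd a b) : IsPbSec fst snd a b := by
  have sqU : ∀ U : Cᵒᵖ, IsPullback (fst.app U) (snd.app U) (a.app U) (b.app U) := fun U =>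
    sq.map ((evaluation Cᵒᵖ (Type w)).obj U)
  refine ⟨sq.w, fun U x y h1 h2 => ?_, fun U p h hph => ?_⟩
  · exact Limits.Types.ext_of_isPullback (sqU U) h1 h2
  · exact Limits.Types.exists_of_isPullback (sqU U) p h hph

variable {fst : W ⟶ P} {snd : W ⟶ H} {a : P ⟶ G} {b : H ⟶ G}

/-- The 2-isomorphism of a commutative square of presheaves. -/
def pbIso (hw : fst ≫ a = snd ≫ b) :
    BasedFunctor.comp (ofPshMap fst) (ofPshMap a) ≅ BasedFunctor.comp (ofPshMap snd) (ofPshMap b) :=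
  ofPshMapComp fst a ≪≫ eqToIso (by rw [hw]) ≪≫ (ofPshMapComp snd b).symm

/-- The comparison functor from the category of the corner of a commutative square of presheaves to the 2-fibre
product. -/
def pbFunctor (hw : fst ≫ a = snd ≫ b) : ofPsh W ⥤ᵇ fp (ofPshMap a) (ofPshMap b) :=
  fpLift (ofPshMap fst) (ofPshMap snd) (pbIso hw)

theorem hom_snd_hom_eq {F : ofPsh P ⥤ᵇ ofPsh G} {F' : ofPsh H ⥤ᵇ ofPsh G} {x y : (fp F F').obj} (m : x ⟶ y) :
    m.hom.snd.hom = eqToHom (fp_snd_obj x) ≫ m.hom.fst.hom ≫ eqToHom (fp_snd_obj y).symm := by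
  have := fp_isHomLift_snd F F' m
  exact IsHomLift.fac' (ofPsh H).p ((fp F F').p.map m) m.hom.snd

@[simp] theorem ofPshMap_map_hom {P Q : Cᵒᵖ ⥤ Type w} (φ : P ⟶ Q) {x y : (ofPsh P).obj} (f : x ⟶ y) :
    ((ofPshMap φ).map f).hom = f.hom := rfl

@[simp] theorem ofPshMap_obj_base {P Q : Cᵒᵖ ⥤ Type w} (φ : P ⟶ Q) (x : (ofPsh P).obj) :
    ((ofPshMap φ).obj x).base = x.base := rfl

@[simp] theorem ofPshMap_obj_sec {P Q : Cᵒᵖ ⥤ Type w} (φ : P ⟶ Q) (x : (ofPsh P).obj) :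
    ((ofPshMap φ).obj x).sec = φ.app _ x.sec := rfl

theorem pbFunctor_obj_iso_hom (hw : fst ≫ a = snd ≫ b) (x : (ofPsh W).obj) :
    ((pbFunctor hw).obj x).obj.iso.hom = (pbIso hw).hom.toNatTrans.app x := rfl

theorem app_hom_eq {𝒲 : BasedCategory.{v₂, u₂} C} {Q : Cᵒᵖ ⥤ Type w} {Φ Φ' : 𝒲 ⥤ᵇ ofPsh Q} (θ : Φ ⟶ Φ')
    (w : 𝒲.obj) : (θ.toNatTrans.app w).hom = eqToHom ((base_eq Φ w).trans (base_eq Φ' w).symm) := by
  have h1 : (ofPsh Q).p.IsHomLift (𝟙 (𝒲.p.obj w)) (θ.toNatTrans.app w) := θ.isHomLift' w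
  have h2 := IsHomLift.fac' (ofPsh Q).p (𝟙 (𝒲.p.obj w)) (θ.toNatTrans.app w)
  simpa using h2

theorem isEquivOver_pbFunctor (h : IsPbSec fst snd a b) : IsEquivOver (pbFunctor h.w) := by
  have : (pbFunctor h.w).toFunctor.Faithful := ⟨fun {x y} f g hfg => by
    apply EltObj.hom_ext
    have := congrArg (fun m => m.hom.fst.hom) hfg
    exact this⟩
  have : (pbFunctor h.w).toFunctor.Full := ⟨fun {x y} m => by
    have h1 : m.hom.snd.hom = m.hom.fst.hom := by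
      rw [hom_snd_hom_eq m]
      simp
    refine ⟨⟨m.hom.fst.hom, ?_⟩, ?_⟩
    · apply h.ext
      · rw [NatTrans.naturality_apply]
        exact m.hom.fst.map_sec
      · rw [NatTrans.naturality_apply, ← h1]
        exact m.hom.snd.map_sec
    · apply fp_hom_ext <;> apply EltObj.hom_ext
      · rfl
      · exact h1.symm⟩
  apply isEquivOver_of_fullyFaithful
  intro z
  have hb : z.obj.snd.base = z.obj.fst.base := fp_snd_obj z
  have hi : z.obj.iso.hom.hom = eqToHom hb.symm := by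
    have := fp_iso_isHomLift z
    have h2 := IsHomLift.fac' (ofPsh G).p (𝟙 ((ofPsh P).p.obj z.obj.fst)) z.obj.iso.hom
    simpa using h2
  have hsec : a.app (op z.obj.fst.base) z.obj.fst.sec =
      b.app (op z.obj.fst.base) (H.map (eqToHom hb.symm).op z.obj.snd.sec) := by
    have h3 := z.obj.iso.hom.map_sec
    rw [NatTrans.naturality_apply, ← hi]
    exact h3.symm
  obtain ⟨w, hw1, hw2⟩ := h.exists_sec (op z.obj.fst.base) z.obj.fst.sec _ hsec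
  refine ⟨⟨z.obj.fst.base, w⟩, fpIsoMk (eltIso rfl ?_) (eltIso hb.symm hw2.symm) ?_, ?_⟩
  · exact (map_id_apply P _).trans hw1.symm
  · apply EltObj.hom_ext
    rw [EltObj.comp_hom, EltObj.comp_hom, hi, pbFunctor_obj_iso_hom, app_hom_eq]
    simp
    exact (Category.id_comp _).symm
  · rw [fp_isHomLift_iff]
    exact IsHomLift.of_fac _ _ _ rfl rfl (by simp)

end pullback

end Groth.Agent.Helper19.PshLib
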