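import Mathlib
import Groth.Prelude.Def_AlgSt
import Groth.Agent.Lib.Helper19.PshLib

/-!
# The category of a presheaf of sets is a stack iff the presheaf is a sheaf (helper19)
-/

set_option autoImplicit false
set_option backward.isDefEq.respectTransparency false

universe w v₃ u₃ v₂ u₂ v u

open CategoryTheory CategoryTheory.Limits Functor Opposite

namespace Groth.Agent.Helper19.PshLib

open FibCat Stk Groth.Agent.Helper19.FibLib

variable {C : Type u} [Category.{v} C]

section ofSec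

variable {𝒲 : BasedCategory.{v₂, u₂} C} {Q : Cᵒᵖ ⥤ Type w}

/-- The functor `𝒲 ⟶ ofPsh Q` over `C` attached to a natural family of sections. -/
def ofSec (s : ∀ a : 𝒲.obj, Q.obj (op (𝒲.p.obj a)))
    (hs : ∀ {a b : 𝒲.obj} (g : a ⟶ b), Q.map (𝒲.p.map g).op (s b) = s a) : 𝒲 ⥤ᵇ ofPsh Q where
  toFunctor :=
    { obj := fun a => ⟨𝒲.p.obj a, s a⟩
      map := fun {a b} g => ⟨𝒲.p.map g, hs g⟩
      map_id := fun a => EltObj.hom_ext (𝒲.p.map_id a)
      map_comp := fun f g => EltObj.hom_ext (𝒲.p.map_comp f g) }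
  w := rfl

@[simp] theorem secOf_ofSec (s : ∀ a : 𝒲.obj, Q.obj (op (𝒲.p.obj a)))
    (hs : ∀ {a b : 𝒲.obj} (g : a ⟶ b), Q.map (𝒲.p.map g).op (s b) = s a) (a : 𝒲.obj) :
    secOf (ofSec s hs) a = s a := by
  unfold secOf
  exact map_id_apply Q _

theorem secOf_eq_of_hom {Φ Φ' : 𝒲 ⥤ᵇ ofPsh Q} (θ : Φ ⟶ Φ') (w : 𝒲.obj) : secOf Φ w = secOf Φ' w := by
  have h2 := app_hom_eq θ w
  have h3 := (θ.toNatTrans.app w).map_sec
  unfold secOf
  rw [← h3, map_map_apply]
  apply map_congr_apply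
  rw [h2]
  simp

theorem hom_subsingleton {Φ Φ' : 𝒲 ⥤ᵇ ofPsh Q} (α β : Φ ⟶ Φ') : α = β := by
  apply BasedNatTrans.homCategory.ext
  ext a
  exact (app_hom_eq α a).trans (app_hom_eq β a).symm

end ofSec

section sheaf

variable {P : Cᵒᵖ ⥤ Type w} {U : C}

/-- The functor `C/U ⟶ ofPsh P` over `C` attached to a section of `P` over `U`. -/
def ofElt (t : P.obj (op U)) : overCat U ⥤ᵇ ofPsh P :=
  ofSec (𝒲 := overCat U) (fun a => P.map (Over.hom a).op t) (fun {a b} g =>
    (map_map_apply P (Over.Hom.left g) (Over.hom b) t).trans (map_congr_apply P (Over.w g) t))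

theorem secOf_ofElt (t : P.obj (op U)) (a : Over U) : secOf (ofElt t) a = P.map a.hom.op t := by
  unfold secOf
  exact map_id_apply P _

theorem fam_congr {R : Presieve U} (x : Presieve.FamilyOfElements P R) {Y : C} {f f' : Y ⟶ U} (h : f = f')
    (hf : R f) (hf' : R f') : x f hf = x f' hf' := by
  subst h
  rfl

theorem secOf_eq_map (Φ : overCat U ⥤ᵇ ofPsh P) (a : Over U) :
    secOf Φ a = P.map a.hom.op (secOf Φ (Over.mk (𝟙 U))) := by
  have h := secOf_naturality Φ (Over.homMk a.hom : a ⟶ Over.mk (𝟙 U))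
  exact h.symm

variable (R : Sieve U)

/-- The family of elements of a functor from a sieve. -/
def famOf (Ψ : sieveCat R ⥤ᵇ ofPsh P) : Presieve.FamilyOfElements P R.arrows :=
  fun _ f hf => secOf Ψ ⟨Over.mk f, hf⟩

theorem famOf_compatible (Ψ : sieveCat R ⥤ᵇ ofPsh P) : (famOf R Ψ).Compatible := by
  rw [Presieve.compatible_iff_sieveCompatible]
  intro Y Z f g hf
  have h := secOf_naturality Ψ (w' := ⟨Over.mk (g ≫ f), R.downward_closed hf g⟩) (w := ⟨Over.mk f, hf⟩)
    (ObjectProperty.homMk (Over.homMk g rfl))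
  exact h.symm

/-- The functor from a sieve attached to a compatible family. -/
def ofFam (x : Presieve.FamilyOfElements P R.arrows) (hx : x.Compatible) : sieveCat R ⥤ᵇ ofPsh P :=
  ofSec (𝒲 := sieveCat R) (fun a => x a.obj.hom a.property) (fun {a b} g => by
    have h := (Presieve.compatible_iff_sieveCompatible x).1 hx b.obj.hom g.hom.left b.property
    exact h.symm.trans (fam_congr x (Over.w g.hom) _ _))

theorem secOf_ofFam (x : Presieve.FamilyOfElements P R.arrows) (hx : x.Compatible) (a : (sieveCat R).obj) :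
    secOf (ofFam R x hx) a = x a.obj.hom a.property := by
  unfold secOf
  exact map_id_apply P _

theorem secOf_res (Φ : overCat U ⥤ᵇ ofPsh P) (a : (sieveCat R).obj) :
    secOf ((resSieve R (ofPsh P)).obj Φ) a = secOf Φ a.obj := rfl

theorem isStackFor_ofPsh_of_isSheafFor (hsh : Presieve.IsSheafFor P R.arrows) : IsStackFor R (ofPsh P) := by
  unfold IsStackFor
  have hfaith : (resSieve R (ofPsh P)).Faithful := ⟨fun _ => hom_subsingleton _ _⟩
  have hfull : (resSieve R (ofPsh P)).Full := ⟨fun {Φ Φ'} α => by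
    have h1 : ∀ a : (sieveCat R).obj, secOf Φ a.obj = secOf Φ' a.obj := fun a => secOf_eq_of_hom α a
    have ht : secOf Φ (Over.mk (𝟙 U)) = secOf Φ' (Over.mk (𝟙 U)) := by
      apply (hsh (famOf R ((resSieve R (ofPsh P)).obj Φ)) (famOf_compatible R _)).unique
      · intro Y f hf
        exact (secOf_eq_map Φ (Over.mk f)).symm
      · intro Y f hf
        exact ((secOf_eq_map Φ' (Over.mk f)).symm).trans (h1 ⟨Over.mk f, hf⟩).symm
    have h2 : ∀ a : (overCat U).obj, secOf Φ a = secOf Φ' a := fun a => by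
      rw [secOf_eq_map Φ a, secOf_eq_map Φ' a, ht]
    exact ⟨(isoOfSecOfEq Φ Φ' h2).hom, hom_subsingleton _ _⟩⟩
  have hess : (resSieve R (ofPsh P)).EssSurj := ⟨fun Ψ => by
    obtain ⟨t, ht, -⟩ := hsh (famOf R Ψ) (famOf_compatible R Ψ)
    refine ⟨ofElt t, ⟨isoOfSecOfEq _ _ (fun a => ?_)⟩⟩
    rw [secOf_res, secOf_ofElt]
    exact ht a.obj.hom a.property⟩
  exact { }

theorem isSheafFor_of_isStackFor_ofPsh (h : IsStackFor R (ofPsh P)) : Presieve.IsSheafFor P R.arrows := by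
  unfold IsStackFor at h
  intro x hx
  obtain ⟨Φ, ⟨e⟩⟩ : ∃ Φ, Nonempty ((resSieve R (ofPsh P)).obj Φ ≅ ofFam R x hx) :=
    ⟨_, ⟨(resSieve R (ofPsh P)).objObjPreimageIso (ofFam R x hx)⟩⟩
  refine ⟨secOf Φ (Over.mk (𝟙 U)), ?_, ?_⟩
  · intro Y f hf
    have h1 := secOf_eq_of_hom e.hom ⟨Over.mk f, hf⟩
    rw [secOf_res, secOf_ofFam] at h1
    exact (secOf_eq_map Φ (Over.mk f)).symm.trans h1
  · intro t' ht'
    have e' : (resSieve R (ofPsh P)).obj (ofElt t') ≅ ofFam R x hx :=
      isoOfSecOfEq _ _ (fun a => by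
        rw [secOf_res, secOf_ofElt, secOf_ofFam]
        exact ht' a.obj.hom a.property)
    obtain ⟨β, -⟩ := (resSieve R (ofPsh P)).map_surjective (e'.hom ≫ e.inv)
    have h2 := secOf_eq_of_hom β (Over.mk (𝟙 U))
    rw [secOf_ofElt] at h2
    rw [← h2]
    exact (map_id_apply P t').symm

theorem isStackFor_ofPsh_iff : IsStackFor R (ofPsh P) ↔ Presieve.IsSheafFor P R.arrows :=
  ⟨isSheafFor_of_isStackFor_ofPsh R, isStackFor_ofPsh_of_isSheafFor R⟩

theorem isStack_ofPsh_iff (J : GrothendieckTopology C) (P : Cᵒᵖ ⥤ Type w) :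
    IsStack J (ofPsh P) ↔ Presieve.IsSheaf J P := by
  unfold IsStack Presieve.IsSheaf
  constructor
  · rintro ⟨-, h⟩ X S hS
    exact (isStackFor_ofPsh_iff S).1 (h S hS)
  · intro h
    exact ⟨isFibGrpd_ofPsh P, fun U R hR => (isStackFor_ofPsh_iff R).2 (h R hR)⟩

end sheaf

section yoneda

variable (U : C)

/-- `ofPsh (h_U) ⟶ C/U`. -/
def yonToOver : ofPsh (yoneda.obj U) ⥤ᵇ overCat U where
  toFunctor :=
    { obj := fun a => Over.mk (Y := a.base) a.sec
      map := fun {a b} f => Over.homMk f.hom f.map_sec }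
  w := rfl

/-- `C/U ⟶ ofPsh (h_U)`. -/
def overToYon : overCat U ⥤ᵇ ofPsh (yoneda.obj U) where
  toFunctor :=
    { obj := fun g => ⟨g.left, g.hom⟩
      map := fun {g h} φ => ⟨φ.left, Over.w φ⟩ }
  w := rfl

def yonToOverToYon : BasedFunctor.comp (yonToOver U) (overToYon U) ≅ BasedFunctor.id _ :=
  mkIso (fun a => Iso.refl a) (fun {a b} f => by
    apply EltObj.hom_ext
    simp
    exact (Category.comp_id _).trans (Category.id_comp _).symm) (fun a => IsHomLift.id rfl)

def overToYonToOver : BasedFunctor.comp (overToYon U) (yonToOver U) ≅ BasedFunctor.id _ :=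
  mkIso (fun a => Iso.refl a) (fun {a b} f => by
    apply Over.OverMorphism.ext
    simp
    exact (Category.comp_id _).trans (Category.id_comp _).symm) (fun a => IsHomLift.id rfl)

theorem isEquivOver_overToYon : IsEquivOver (overToYon U) :=
  ⟨yonToOver U, ⟨overToYonToOver U⟩, ⟨yonToOverToYon U⟩⟩

theorem isEquivOver_yonToOver : IsEquivOver (yonToOver U) :=
  ⟨overToYon U, ⟨yonToOverToYon U⟩, ⟨overToYonToOver U⟩⟩

end yoneda

end Groth.Agent.Helper19.PshLib
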