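import Mathlib
import Groth.Agent.Lib.Helper19.FibLib3
import Groth.Agent.Lib.Helper19.PshStack

/-!
# Diagonal representable iff all charts representable: the formal part (helper19)

General base category `C`.  Fibre products of categories of presheaves, products of slices, and a generic form of
"the diagonal is representable iff every chart is" for a notion `R` of representability.
-/

set_option autoImplicit false
set_option backward.isDefEq.respectTransparency false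

universe w v₆ u₆ v₅ u₅ v₄ u₄ v₃ u₃ v₂ u₂ v u

open CategoryTheory CategoryTheory.Limits Functor Opposite

namespace Groth.Agent.Helper19.DiagLib

open FibCat Stk Groth.Agent.Helper19.FibLib Groth.Agent.Helper19.PshLib

variable {C : Type u} [Category.{v} C]

section selfOver

variable {𝒲 : BasedCategory.{v₂, u₂} C}

/-- Any two functors over the base into the base itself are (uniquely) isomorphic. -/
def selfOverIso (A B : 𝒲 ⥤ᵇ selfOver C) : A ≅ B :=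
  mkIso (fun x => eqToIso ((A.w_obj x).trans (B.w_obj x).symm))
    (fun {x y} f => by
      have hA := Functor.congr_hom A.w f
      have hB := Functor.congr_hom B.w f
      simp only [Functor.comp_map] at hA hB
      have hA' : A.map f = eqToHom (A.w_obj x) ≫ 𝒲.p.map f ≫ eqToHom (A.w_obj y).symm := hA
      have hB' : B.map f = eqToHom (B.w_obj x) ≫ 𝒲.p.map f ≫ eqToHom (B.w_obj y).symm := hB
      rw [hA', hB']
      simp)
    (fun x => by
      apply IsHomLift.of_fac (selfOver C).p _ _ (A.w_obj x) (B.w_obj x)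
      simp only [eqToIso.hom]
      rw [eqToHom_map, eqToHom_trans, eqToHom_trans, eqToHom_refl])

end selfOver

section pshFibre

variable {P H G W : Cᵒᵖ ⥤ Type w} {fst : W ⟶ P} {snd : W ⟶ H} {a : P ⟶ G} {b : H ⟶ G}
  {𝒜 : BasedCategory.{v₂, u₂} C} {ℬ : BasedCategory.{v₃, u₃} C} {𝒵 : BasedCategory.{v₄, u₄} C}

/-- A fibre product of categories equivalent to categories of presheaves, over a category receiving a fully
faithful functor from a category of a presheaf, is the category of the sectionwise fibre product. -/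
theorem isEquivOver_pbFunctor_fpMap (h : IsPbSec fst snd a b)
    (eA : ofPsh P ⥤ᵇ 𝒜) (heA : IsEquivOver eA) (eB : ofPsh H ⥤ᵇ ℬ) (heB : IsEquivOver eB)
    (s : ofPsh G ⥤ᵇ 𝒵) [s.toFunctor.Full] [s.toFunctor.Faithful] (f : 𝒜 ⥤ᵇ 𝒵) (g : ℬ ⥤ᵇ 𝒵)
    (σ : BasedFunctor.comp (ofPshMap a) s ≅ BasedFunctor.comp eA f)
    (τ : BasedFunctor.comp (ofPshMap b) s ≅ BasedFunctor.comp eB g) :
    IsEquivOver (BasedFunctor.comp (pbFunctor h.w) (fpMap eA eB s σ τ)) :=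
  IsEquivOver.comp (isEquivOver_pbFunctor h) (isEquivOver_fpMap _ _ _ _ _ heA heB)

theorem toSelf_ofPsh_faithful (G : Cᵒᵖ ⥤ Type w) : (toSelf (ofPsh G)).toFunctor.Faithful :=
  ⟨fun hfg => EltObj.hom_ext hfg⟩

theorem toSelf_ofPsh_full (G : Cᵒᵖ ⥤ Type w) (hG : ∀ T, Subsingleton (G.obj T)) :
    (toSelf (ofPsh G)).toFunctor.Full :=
  ⟨fun f => ⟨⟨f, (hG _).elim _ _⟩, rfl⟩⟩

/-- A functor between categories equivalent to categories of presheaves is induced by a map of presheaves. -/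
theorem exists_pshMap_of_equiv {X Y : Cᵒᵖ ⥤ Type w} (eX : ofPsh X ⥤ᵇ 𝒜) (eY : ofPsh Y ⥤ᵇ 𝒵)
    (heY : IsEquivOver eY) (f : 𝒜 ⥤ᵇ 𝒵) :
    ∃ a : X ⟶ Y, Nonempty (BasedFunctor.comp (ofPshMap a) eY ≅ BasedFunctor.comp eX f) := by
  obtain ⟨gY, ⟨η⟩, ⟨ε⟩⟩ := heY
  let Φ : ofPsh X ⥤ᵇ ofPsh Y := BasedFunctor.comp (BasedFunctor.comp eX f) gY
  refine ⟨pshMapOf Φ, ⟨?_⟩⟩
  exact whiskerRightIso (isoOfPshMap Φ).symm eY ≪≫ eqToIso (BasedFunctor.comp_assoc _ _ _) ≪≫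
    whiskerLeftIso (BasedFunctor.comp eX f) ε ≪≫ eqToIso (BasedFunctor.comp_id _)

end pshFibre

section slices

/-- the terminal presheaf. -/
abbrev termPsh (C : Type u) [Category.{v} C] : Cᵒᵖ ⥤ Type w := (Functor.const Cᵒᵖ).obj PUnit.{w + 1}

/-- the map to the terminal presheaf. -/
def toTermPsh (P : Cᵒᵖ ⥤ Type w) : P ⟶ termPsh.{w} C where
  app := fun _ => ↾fun _ => PUnit.unit

/-- The product of two slices over the base is the slice over the product. -/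
theorem exists_equiv_fp_selfOver {V U W : C} (p₁ : W ⟶ V) (p₂ : W ⟶ U)
    (hW : ∀ (T : C) (a : T ⟶ V) (b : T ⟶ U), ∃ c : T ⟶ W, c ≫ p₁ = a ∧ c ≫ p₂ = b)
    (hW' : ∀ (T : C) (c c' : T ⟶ W), c ≫ p₁ = c' ≫ p₁ → c ≫ p₂ = c' ≫ p₂ → c = c')
    (F : overCat V ⥤ᵇ selfOver C) (G : overCat U ⥤ᵇ selfOver C) :
    ∃ E : overCat W ⥤ᵇ fp F G, IsEquivOver E := by
  have h : IsPbSec (yoneda.map p₁) (yoneda.map p₂) (toTermPsh (yoneda.obj V)) (toTermPsh (yoneda.obj U)) :=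
    ⟨rfl, fun T x y h1 h2 => hW' _ x y h1 h2, fun T p q _ => hW _ p q⟩
  have hfull := toSelf_ofPsh_full (termPsh.{v} C) (fun T => inferInstanceAs (Subsingleton PUnit))
  have hfaith := toSelf_ofPsh_faithful (termPsh.{v} C)
  exact ⟨_, IsEquivOver.comp (isEquivOver_overToYon W)
    (isEquivOver_pbFunctor_fpMap h (yonToOver V) (isEquivOver_yonToOver V) (yonToOver U)
      (isEquivOver_yonToOver U) (toSelf (ofPsh (termPsh.{v} C))) F G (selfOverIso _ _) (selfOverIso _ _))⟩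

theorem exists_equiv_fp_selfOver_prod [HasBinaryProducts C] (V U : C)
    (F : overCat V ⥤ᵇ selfOver C) (G : overCat U ⥤ᵇ selfOver C) :
    ∃ (W : C) (E : overCat W ⥤ᵇ fp F G), IsEquivOver E :=
  ⟨V ⨯ U, exists_equiv_fp_selfOver (prod.fst : V ⨯ U ⟶ V) prod.snd
    (fun T a b => ⟨prod.lift a b, by simp⟩) (fun T c c' h1 h2 => Limits.prod.hom_ext h1 h2) F G⟩

/-- The fibre product of two slices over a slice is the slice over the fibre product. -/
theorem exists_equiv_fp_overCat {A B Z W : C} {a₀ : A ⟶ Z} {b₀ : B ⟶ Z} {p₁ : W ⟶ A} {p₂ : W ⟶ B}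
    (sq : IsPullback p₁ p₂ a₀ b₀)
    {𝒜 : BasedCategory.{v₂, u₂} C} {ℬ : BasedCategory.{v₃, u₃} C} {𝒵 : BasedCategory.{v₄, u₄} C}
    (eA : ofPsh (yoneda.obj A) ⥤ᵇ 𝒜) (heA : IsEquivOver eA) (eB : ofPsh (yoneda.obj B) ⥤ᵇ ℬ)
    (heB : IsEquivOver eB) (eZ : ofPsh (yoneda.obj Z) ⥤ᵇ 𝒵) (heZ : IsEquivOver eZ)
    (f : 𝒜 ⥤ᵇ 𝒵) (g : ℬ ⥤ᵇ 𝒵)
    (σ : BasedFunctor.comp (ofPshMap (yoneda.map a₀)) eZ ≅ BasedFunctor.comp eA f)
    (τ : BasedFunctor.comp (ofPshMap (yoneda.map b₀)) eZ ≅ BasedFunctor.comp eB g) :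
    ∃ E : overCat W ⥤ᵇ fp f g, IsEquivOver E := by
  have h : IsPbSec (yoneda.map p₁) (yoneda.map p₂) (yoneda.map a₀) (yoneda.map b₀) :=
    ⟨by rw [← Functor.map_comp, sq.w, Functor.map_comp],
      fun T x y h1 h2 => sq.hom_ext h1 h2,
      fun T p q hpq => ⟨sq.lift p q hpq, sq.lift_fst _ _ _, sq.lift_snd _ _ _⟩⟩
  have hZ := IsEquivOver.isEquivalence heZ
  exact ⟨_, IsEquivOver.comp (isEquivOver_overToYon W)
    (isEquivOver_pbFunctor_fpMap h eA heA eB heB eZ f g σ τ)⟩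

/-- A fibre product of representable categories over a representable category is representable. -/
theorem isRepresentable_fp [HasPullbacks C] {𝒜 : BasedCategory.{v₂, u₂} C} {ℬ : BasedCategory.{v₃, u₃} C}
    {𝒵 : BasedCategory.{v₄, u₄} C} (f : 𝒜 ⥤ᵇ 𝒵) (g : ℬ ⥤ᵇ 𝒵)
    (hA : IsRepresentable 𝒜) (hB : IsRepresentable ℬ) (hZ : IsRepresentable 𝒵) :
    IsRepresentable (fp f g) := by
  obtain ⟨A, FA, hFA⟩ := hA
  obtain ⟨B, FB, hFB⟩ := hB
  obtain ⟨Z, FZ, hFZ⟩ := hZ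
  obtain ⟨eA', heA', -⟩ := IsEquivOver.exists_inv hFA
  obtain ⟨eB', heB', -⟩ := IsEquivOver.exists_inv hFB
  obtain ⟨eZ', heZ', -⟩ := IsEquivOver.exists_inv hFZ
  have heA := IsEquivOver.comp (isEquivOver_yonToOver A) heA'
  have heB := IsEquivOver.comp (isEquivOver_yonToOver B) heB'
  have heZ := IsEquivOver.comp (isEquivOver_yonToOver Z) heZ'
  obtain ⟨a, ⟨σ⟩⟩ := exists_pshMap_of_equiv (BasedFunctor.comp (yonToOver A) eA') _ heZ f
  obtain ⟨b, ⟨τ⟩⟩ := exists_pshMap_of_equiv (BasedFunctor.comp (yonToOver B) eB') _ heZ g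
  obtain ⟨a₀, rfl⟩ := yoneda.map_surjective a
  obtain ⟨b₀, rfl⟩ := yoneda.map_surjective b
  obtain ⟨E, hE⟩ := exists_equiv_fp_overCat (IsPullback.of_hasPullback a₀ b₀) _ heA _ heB _ heZ f g σ τ
  obtain ⟨E', hE', -⟩ := IsEquivOver.exists_inv hE
  exact ⟨_, E', hE'⟩

end slices

section generic

variable (R : BasedCategory.{v, max u v} C → Prop)
  (R1 : ∀ {𝒜 ℬ : BasedCategory.{v, max u v} C} (e : 𝒜 ⥤ᵇ ℬ), IsEquivOver e → R 𝒜 → R ℬ)
  (R2 : ∀ U : C, R (overCat U))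
  (R3 : ∀ {𝒜 ℬ 𝒵 : BasedCategory.{v, max u v} C} (f : 𝒜 ⥤ᵇ 𝒵) (g : ℬ ⥤ᵇ 𝒵), R 𝒜 → R ℬ → R 𝒵 → R (fp f g))
  (R4 : ∀ (V U : C) (F : overCat V ⥤ᵇ selfOver C) (G : overCat U ⥤ᵇ selfOver C),
      ∃ (W : C) (E : overCat W ⥤ᵇ fp F G), IsEquivOver E)
  (𝒮 : BasedCategory.{v, max u v} C)

include R1 R4 in
/-- If the diagonal of `𝒮` is `R`-representable then so is every chart. -/
theorem generic_charts_of_diag
    (hd : ∀ (W : C) (y : overCat W ⥤ᵇ fp (toSelf 𝒮) (toSelf 𝒮)), R (fp y (FibCat.diag (toSelf 𝒮))))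
    {U V : C} (x : overCat U ⥤ᵇ 𝒮) (y : overCat V ⥤ᵇ 𝒮) : R (fp y x) := by
  let t := toSelf 𝒮
  let e : BasedFunctor.comp (fpFst y x) (BasedFunctor.comp y t) ≅
      BasedFunctor.comp (fpSnd y x) (BasedFunctor.comp x t) := whiskerRightIso (fpIso y x) t
  have he : ∀ o, e.hom.toNatTrans.app o = t.map o.obj.iso.hom := fun o => rfl
  obtain ⟨W, E, hE⟩ := R4 V U (BasedFunctor.comp y t) (BasedFunctor.comp x t)
  have h1 : R (fp (BasedFunctor.comp E (cmpProd y x t)) (FibCat.diag t)) := hd W _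
  have h2 : R (fp (cmpProd y x t) (FibCat.diag t)) :=
    R1 _ (isEquivOver_fpPre E hE (cmpProd y x t) (FibCat.diag t)) h1
  obtain ⟨Ψ, hΨ, -⟩ := IsEquivOver.exists_inv (isEquivOver_cmpΦ y x t e he)
  exact R1 Ψ hΨ h2

include R1 R2 R3 R4 in
/-- If every chart of `𝒮` is `R`-representable then so is the diagonal. -/
theorem generic_diag_of_charts
    (hc : ∀ (U : C) (x : overCat U ⥤ᵇ 𝒮) (V : C) (y : overCat V ⥤ᵇ 𝒮), R (fp y x))
    {U : C} (y : overCat U ⥤ᵇ fp (toSelf 𝒮) (toSelf 𝒮)) : R (fp y (FibCat.diag (toSelf 𝒮))) := by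
  let t := toSelf 𝒮
  let y₁ : overCat U ⥤ᵇ 𝒮 := BasedFunctor.comp y (fpFst t t)
  let y₂ : overCat U ⥤ᵇ 𝒮 := BasedFunctor.comp y (fpSnd t t)
  let ι : BasedFunctor.comp (BasedFunctor.id (overCat U)) (BasedFunctor.comp y₁ t) ≅
      BasedFunctor.comp (BasedFunctor.id (overCat U)) (BasedFunctor.comp y₂ t) :=
    whiskerLeftIso y (fpIso t t)
  let δ : overCat U ⥤ᵇ fp (BasedFunctor.comp y₁ t) (BasedFunctor.comp y₂ t) :=
    fpLift (BasedFunctor.id (overCat U)) (BasedFunctor.id (overCat U)) ι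
  let θ : BasedFunctor.comp δ (cmpProd y₁ y₂ t) ≅ y :=
    fpFunctorIso _ _ (Iso.refl _) (Iso.refl _) (fun o => by
      simp [δ, ι, y₁, y₂])
  let e : BasedFunctor.comp (fpFst y₁ y₂) (BasedFunctor.comp y₁ t) ≅
      BasedFunctor.comp (fpSnd y₁ y₂) (BasedFunctor.comp y₂ t) := whiskerRightIso (fpIso y₁ y₂) t
  have he : ∀ o, e.hom.toNatTrans.app o = t.map o.obj.iso.hom := fun o => rfl
  have hZ : R (fp (BasedFunctor.comp y₁ t) (BasedFunctor.comp y₂ t)) := by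
    obtain ⟨W, E, hE⟩ := R4 U U (BasedFunctor.comp y₁ t) (BasedFunctor.comp y₂ t)
    exact R1 E hE (R2 W)
  have hB : R (fp (cmpProd y₁ y₂ t) (FibCat.diag t)) :=
    R1 _ (isEquivOver_cmpΦ y₁ y₂ t e he) (hc U y₂ U y₁)
  have h3 : R (fp δ (fpFst (cmpProd y₁ y₂ t) (FibCat.diag t))) := R3 _ _ (R2 U) hB hZ
  have h4 : R (fp (BasedFunctor.comp δ (cmpProd y₁ y₂ t)) (FibCat.diag t)) :=
    R1 _ (isEquivOver_pasteLInv δ (cmpProd y₁ y₂ t) (FibCat.diag t)) h3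
  exact R1 _ (isEquivOver_fpCongrLeft (FibCat.diag t) θ) h4

end generic

end Groth.Agent.Helper19.DiagLib
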