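import Mathlib
import Groth.Prelude.Def_AlgSt2
import Groth.Prelude.Def_AlgSt3
import Groth.Prelude.Def_AlgSt4
import Groth.Agent.Lib.Helper19.FibLib2
import Groth.Agent.Lib.Helper19.FibLib3

/-!
# Toolkit for `Def_AlgSt2`: transfer of `RepByAlgSpWith` along equivalences of 2-fibre products (helper19)
-/

set_option autoImplicit false
set_option backward.isDefEq.respectTransparency false

universe w₄ v₄ w₃ v₃ w' v' w v u

open CategoryTheory CategoryTheory.Limits Functor AlgebraicGeometry Opposite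

namespace Groth.Agent.Helper19.StLib

open FibCat AlgSt Groth.Agent.Helper19.FibLib

variable {S : Scheme.{u}}

theorem secHom_eq_of_iso {F : AlgSp.Sp S} {U : Over S} {Φ₁ Φ₂ : ofSp F ⥤ᵇ overCat U} (θ : Φ₁ ≅ Φ₂)
    (a : (ofSp F).obj) : secHom Φ₁ a = secHom Φ₂ a := by
  have h1 : (overCat U).p.IsHomLift (𝟙 ((ofSp F).p.obj a)) (θ.hom.toNatTrans.app a) :=
    θ.hom.isHomLift' a
  have h2 := IsHomLift.fac' (overCat U).p (𝟙 ((ofSp F).p.obj a)) (θ.hom.toNatTrans.app a)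
  have h3 : (θ.hom.toNatTrans.app a).left ≫ (Φ₂.obj a).hom = (Φ₁.obj a).hom :=
    Over.w (θ.hom.toNatTrans.app a)
  have h4 : (θ.hom.toNatTrans.app a).left = eqToHom (Φ₁.w_obj a) ≫ 𝟙 _ ≫ eqToHom (Φ₂.w_obj a).symm := h2
  simp only [secHom, ← h3, h4, Category.assoc, Category.id_comp, eqToHom_trans_assoc, eqToHom_refl]

theorem spMapOfOver_eq_of_iso {F : AlgSp.Sp S} {U : Over S} {Φ₁ Φ₂ : ofSp F ⥤ᵇ overCat U}
    (θ : Φ₁ ≅ Φ₂) : spMapOfOver Φ₁ = spMapOfOver Φ₂ := by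
  apply ObjectProperty.hom_ext
  ext T x
  apply ULift.ext
  exact secHom_eq_of_iso θ ⟨T.unop, x⟩

/-- `π : 𝒲 ⟶ (Sch/U)` is represented by an algebraic space whose map to `h_U` has `P`. -/
def RepOver (P : MorphismProperty (AlgSp.Sp S)) {U : Over S} {𝒲 : BasedCategory.{v, w} (Over S)}
    (π : 𝒲 ⥤ᵇ overCat U) : Prop :=
  ∃ (F : AlgSp.Space S) (e : ofSp F.obj ⥤ᵇ 𝒲), IsEquivOver e ∧
    P (spMapOfOver (BasedFunctor.comp e π))

theorem repByAlgSpWith_iff (P : MorphismProperty (AlgSp.Sp S)) {𝒳 : BasedCategory.{v, w} (Over S)}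
    {𝒴 : BasedCategory.{v', w'} (Over S)} (f : 𝒳 ⥤ᵇ 𝒴) :
    RepByAlgSpWith P f ↔ ∀ (U : Over S) (y : overCat U ⥤ᵇ 𝒴), RepOver P (fpFst y f) := Iff.rfl

theorem RepOver.of_equiv {P : MorphismProperty (AlgSp.Sp S)} {U : Over S}
    {𝒲 : BasedCategory.{v, w} (Over S)} {𝒲' : BasedCategory.{v', w'} (Over S)}
    {π : 𝒲 ⥤ᵇ overCat U} {π' : 𝒲' ⥤ᵇ overCat U} (Φ : 𝒲 ⥤ᵇ 𝒲') (hΦ : IsEquivOver Φ)
    (θ : BasedFunctor.comp Φ π' ≅ π) (h : RepOver P π) : RepOver P π' := by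
  obtain ⟨F, e, he, hP⟩ := h
  refine ⟨F, BasedFunctor.comp e Φ, IsEquivOver.comp he hΦ, ?_⟩
  have : spMapOfOver (BasedFunctor.comp (BasedFunctor.comp e Φ) π') =
      spMapOfOver (BasedFunctor.comp e π) :=
    spMapOfOver_eq_of_iso (whiskerLeftIso e θ)
  rw [this]
  exact hP

theorem RepOver.of_equiv_symm {P : MorphismProperty (AlgSp.Sp S)} {U : Over S}
    {𝒲 : BasedCategory.{v, w} (Over S)} {𝒲' : BasedCategory.{v', w'} (Over S)}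
    {π : 𝒲 ⥤ᵇ overCat U} {π' : 𝒲' ⥤ᵇ overCat U} (Φ : 𝒲 ⥤ᵇ 𝒲') (hΦ : IsEquivOver Φ)
    (θ : BasedFunctor.comp Φ π' ≅ π) (h : RepOver P π') : RepOver P π := by
  obtain ⟨Ψ, ⟨η⟩, ⟨ε⟩⟩ := hΦ
  refine RepOver.of_equiv Ψ ⟨Φ, ⟨ε⟩, ⟨η⟩⟩ ?_ h
  exact (whiskerLeftIso Ψ θ.symm) ≪≫ whiskerRightIso ε π'

section transfer

variable {P : MorphismProperty (AlgSp.Sp S)}

/-- invariance of `RepByAlgSpWith` under a 2-commutative square with horizontal equivalences. -/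
theorem repByAlgSpWith_iff_of_square {𝒳 : BasedCategory.{v, w} (Over S)} {𝒴 : BasedCategory.{v', w'} (Over S)}
    {𝒳' : BasedCategory.{v₃, w₃} (Over S)} {𝒴' : BasedCategory.{v₄, w₄} (Over S)}
    (f : 𝒳 ⥤ᵇ 𝒴) (f' : 𝒳' ⥤ᵇ 𝒴') (a : 𝒳' ⥤ᵇ 𝒳) (b : 𝒴' ⥤ᵇ 𝒴)
    (ha : IsEquivOver a) (hb : IsEquivOver b) (e : BasedFunctor.comp f' b ≅ BasedFunctor.comp a f) :
    RepByAlgSpWith P f ↔ RepByAlgSpWith P f' := by
  constructor
  · intro hf U y'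
    exact RepOver.of_equiv_symm (fpSquare f f' a b e y') (isEquivOver_fpSquare f f' a b ha hb e y')
      (eqToIso (fpSquare_comp_fpFst f f' a b e y')) (hf U (BasedFunctor.comp y' b))
  · intro hf' U y
    obtain ⟨b', -, -, ⟨ε⟩⟩ := IsEquivOver.exists_inv hb
    have θ : y ≅ BasedFunctor.comp (BasedFunctor.comp y b') b := (whiskerLeftIso y ε).symm
    have h1 := RepOver.of_equiv (fpSquare f f' a b e (BasedFunctor.comp y b'))
      (isEquivOver_fpSquare f f' a b ha hb e (BasedFunctor.comp y b'))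
      (eqToIso (fpSquare_comp_fpFst f f' a b e (BasedFunctor.comp y b')))
      (hf' U (BasedFunctor.comp y b'))
    exact RepOver.of_equiv_symm (fpCongrLeft f θ) (isEquivOver_fpCongrLeft f θ)
      (eqToIso (fpCongrLeft_comp_fpFst f θ)) h1

theorem repByAlgSpWith_of_iso {𝒳 : BasedCategory.{v, w} (Over S)} {𝒴 : BasedCategory.{v', w'} (Over S)}
    {f f' : 𝒳 ⥤ᵇ 𝒴} (e : f' ≅ f) (hf : RepByAlgSpWith P f) : RepByAlgSpWith P f' :=
  (repByAlgSpWith_iff_of_square f f' (BasedFunctor.id 𝒳) (BasedFunctor.id 𝒴) (isEquivOver_id 𝒳)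
    (isEquivOver_id 𝒴) e).1 hf

/-- precomposition with an equivalence. -/
theorem repByAlgSpWith_equiv_comp {𝒳 : BasedCategory.{v, w} (Over S)} {𝒴 : BasedCategory.{v', w'} (Over S)}
    {𝒳' : BasedCategory.{v₃, w₃} (Over S)} (a : 𝒳' ⥤ᵇ 𝒳) (ha : IsEquivOver a) (f : 𝒳 ⥤ᵇ 𝒴) :
    RepByAlgSpWith P (BasedFunctor.comp a f) ↔ RepByAlgSpWith P f :=
  (repByAlgSpWith_iff_of_square f (BasedFunctor.comp a f) a (BasedFunctor.id 𝒴) ha
    (isEquivOver_id 𝒴) (Iso.refl _)).symm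

/-- postcomposition with an equivalence. -/
theorem repByAlgSpWith_comp_equiv {𝒳 : BasedCategory.{v, w} (Over S)} {𝒴 : BasedCategory.{v', w'} (Over S)}
    {𝒴' : BasedCategory.{v₃, w₃} (Over S)} (f : 𝒳 ⥤ᵇ 𝒴') (b : 𝒴' ⥤ᵇ 𝒴) (hb : IsEquivOver b) :
    RepByAlgSpWith P (BasedFunctor.comp f b) ↔ RepByAlgSpWith P f :=
  repByAlgSpWith_iff_of_square (BasedFunctor.comp f b) f (BasedFunctor.id 𝒳) b (isEquivOver_id 𝒳) hb
    (Iso.refl _)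

/-- base change: first projection. -/
theorem repByAlgSpWith_fpFst {𝒳 : BasedCategory.{v, w} (Over S)} {𝒴 : BasedCategory.{v', w'} (Over S)}
    {𝒵 : BasedCategory.{v₃, w₃} (Over S)} (f : 𝒳 ⥤ᵇ 𝒴) (g : 𝒵 ⥤ᵇ 𝒴) (hf : RepByAlgSpWith P f) :
    RepByAlgSpWith P (fpFst g f) := by
  intro U z
  exact RepOver.of_equiv (pasteL z g f) (isEquivOver_pasteL z g f) (eqToIso (pasteL_comp_fpFst z g f))
    (hf U (BasedFunctor.comp z g))

/-- base change: second projection. -/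
theorem repByAlgSpWith_fpSnd {𝒳 : BasedCategory.{v, w} (Over S)} {𝒴 : BasedCategory.{v', w'} (Over S)}
    {𝒵 : BasedCategory.{v₃, w₃} (Over S)} (z : 𝒵 ⥤ᵇ 𝒴) (f : 𝒳 ⥤ᵇ 𝒴) (hz : RepByAlgSpWith P z) :
    RepByAlgSpWith P (fpSnd z f) := by
  have h1 : RepByAlgSpWith P (fpFst f z) := repByAlgSpWith_fpFst z f hz
  have h2 : RepByAlgSpWith P (BasedFunctor.comp (fpSwap z f) (fpFst f z)) :=
    (repByAlgSpWith_equiv_comp (fpSwap z f) (isEquivOver_fpSwap z f) (fpFst f z)).2 h1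
  exact h2

end transfer

section qc

theorem isQuasiCompact_of_equiv {𝒳 : BasedCategory.{v, w} (Over S)} {𝒳' : BasedCategory.{v', w'} (Over S)}
    (Φ : 𝒳 ⥤ᵇ 𝒳') (hΦ : IsEquivOver Φ) (h : IsQuasiCompact 𝒳) : IsQuasiCompact 𝒳' := by
  obtain ⟨U, x, hU, h1, h2⟩ := h
  exact ⟨U, BasedFunctor.comp x Φ, hU, (repByAlgSpWith_comp_equiv x Φ hΦ).2 h1,
    (repByAlgSpWith_comp_equiv x Φ hΦ).2 h2⟩

end qc

section twoCart

variable {P : MorphismProperty (AlgSp.Sp S)}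

/-- base change along a 2-cartesian square. -/
theorem repByAlgSpWith_of_twoCart {𝒳 : BasedCategory.{v, w} (Over S)} {𝒴 : BasedCategory.{v', w'} (Over S)}
    {𝒮 : BasedCategory.{v₃, w₃} (Over S)} {𝒲 : BasedCategory.{v₄, w₄} (Over S)}
    {F : 𝒳 ⥤ᵇ 𝒮} {G : 𝒴 ⥤ᵇ 𝒮} (a : 𝒲 ⥤ᵇ 𝒳) (b : 𝒲 ⥤ᵇ 𝒴)
    (e : BasedFunctor.comp a F ≅ BasedFunctor.comp b G) (h : IsEquivOver (fpLift a b e))
    (hG : RepByAlgSpWith P G) : RepByAlgSpWith P a := by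
  have h1 : RepByAlgSpWith P (fpFst F G) := repByAlgSpWith_fpFst G F hG
  have h2 : RepByAlgSpWith P (BasedFunctor.comp (fpLift a b e) (fpFst F G)) :=
    (repByAlgSpWith_equiv_comp (fpLift a b e) h (fpFst F G)).2 h1
  exact h2

/-- the comparison `𝒳 ×_𝒵 𝒴 ⟶ 𝒳 ×_𝒯 𝒴` inherits properties of the diagonal of `𝒵 ⟶ 𝒯`. -/
theorem repByAlgSpWith_cmpI {𝒳 : BasedCategory.{v, w} (Over S)} {𝒴 : BasedCategory.{v', w'} (Over S)}
    {𝒵 : BasedCategory.{v₃, w₃} (Over S)} {𝒯 : BasedCategory.{v₄, w₄} (Over S)}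
    (f : 𝒳 ⥤ᵇ 𝒵) (g : 𝒴 ⥤ᵇ 𝒵) (t : 𝒵 ⥤ᵇ 𝒯)
    (e : BasedFunctor.comp (fpFst f g) (BasedFunctor.comp f t) ≅
      BasedFunctor.comp (fpSnd f g) (BasedFunctor.comp g t))
    (he : ∀ x, e.hom.toNatTrans.app x = t.map x.obj.iso.hom)
    (ht : RepByAlgSpWith P (diag t)) :
    RepByAlgSpWith P (fpLift (fpFst f g) (fpSnd f g) e) :=
  repByAlgSpWith_of_twoCart (cmpI f g t e) (BasedFunctor.comp (fpFst f g) f) (cmpSqIso f g t e he)
    (isEquivOver_cmpΦ f g t e he) ht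

end twoCart

section graphSection

variable {P : MorphismProperty (AlgSp.Sp S)}

/-- the graph of `g : 𝒳 ⟶ 𝒴` over `𝒯` inherits properties of the diagonal of `𝒴 ⟶ 𝒯`. -/
theorem repByAlgSpWith_graph {𝒳 : BasedCategory.{v, w} (Over S)} {𝒴 : BasedCategory.{v', w'} (Over S)}
    {𝒯 : BasedCategory.{v₄, w₄} (Over S)} (p : 𝒳 ⥤ᵇ 𝒯) (q : 𝒴 ⥤ᵇ 𝒯) (g : 𝒳 ⥤ᵇ 𝒴)
    (e : BasedFunctor.comp (BasedFunctor.id 𝒳) p ≅ BasedFunctor.comp g q)
    (hq : RepByAlgSpWith P (diag q)) :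
    RepByAlgSpWith P (fpLift (BasedFunctor.id 𝒳) g e) := by
  have h1 : RepByAlgSpWith P (cmpI g (BasedFunctor.id 𝒴) q (graphCmpIso q g)) :=
    repByAlgSpWith_cmpI g (BasedFunctor.id 𝒴) q (graphCmpIso q g) (graphCmpIso_app q g) hq
  have h2 : RepByAlgSpWith P (BasedFunctor.comp (cmpI g (BasedFunctor.id 𝒴) q (graphCmpIso q g))
      (fpCongrLeft (y₁ := BasedFunctor.comp g q) (y₂ := p) q e.symm)) :=
    (repByAlgSpWith_comp_equiv _ _ (isEquivOver_fpCongrLeft q e.symm)).2 h1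
  have h3 := (repByAlgSpWith_equiv_comp (graphId g) (isEquivOver_graphId g) _).2 h2
  exact repByAlgSpWith_of_iso (graphFactor p q g e) h3

/-- a section of `f : 𝒳 ⟶ 𝒯` inherits properties of the diagonal of `f`. -/
theorem repByAlgSpWith_section {𝒳 : BasedCategory.{v, w} (Over S)} {𝒯 : BasedCategory.{v₄, w₄} (Over S)}
    (f : 𝒳 ⥤ᵇ 𝒯) (s : 𝒯 ⥤ᵇ 𝒳) (e : BasedFunctor.comp s f ≅ BasedFunctor.id 𝒯)
    (hf : RepByAlgSpWith P (diag f)) : RepByAlgSpWith P s := by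
  have h1 : RepByAlgSpWith P (fpLift (F := BasedFunctor.id 𝒯) (G := f) (BasedFunctor.id 𝒯) s e.symm) :=
    repByAlgSpWith_graph (BasedFunctor.id 𝒯) f s e.symm hf
  have h2 := (repByAlgSpWith_comp_equiv
    (fpLift (F := BasedFunctor.id 𝒯) (G := f) (BasedFunctor.id 𝒯) s e.symm)
    (fpSnd (BasedFunctor.id 𝒯) f) (isEquivOver_fpSnd_id f)).2 h1
  exact h2

end graphSection

section diagBC

variable {P : MorphismProperty (AlgSp.Sp S)}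

/-- the diagonal of a base change is a base change of the diagonal. -/
theorem repByAlgSpWith_diag_fpFst {𝒳 : BasedCategory.{v, w} (Over S)} {𝒴 : BasedCategory.{v', w'} (Over S)}
    {𝒵 : BasedCategory.{v₃, w₃} (Over S)} (f : 𝒳 ⥤ᵇ 𝒴) (g : 𝒵 ⥤ᵇ 𝒴)
    (hf : RepByAlgSpWith P (diag f)) : RepByAlgSpWith P (diag (fpFst g f)) :=
  repByAlgSpWith_of_twoCart (diag (fpFst g f)) (fpSnd g f) (dbcSqIso f g) (isEquivOver_dbcΦ f g) hf

end diagBC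

end Groth.Agent.Helper19.StLib
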