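import Mathlib
import Groth.Prelude.Def_AlgSt2
import Groth.Prelude.Def_AlgSt3
import Groth.Prelude.Def_AlgSpRep
import Groth.Agent.Lib.Helper19.StLib
import Groth.Agent.Lib.Helper19.PshLib

/-!
# Dictionary between presheaves of sets on `(Sch/S)` and their categories over `(Sch/S)` (helper19)
-/

set_option autoImplicit false
set_option backward.isDefEq.respectTransparency false

universe w₄ v₄ w₃ v₃ w' v' w v u

open CategoryTheory CategoryTheory.Limits Functor AlgebraicGeometry Opposite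

namespace Groth.Agent.Helper19.PshSt

open FibCat AlgSt Stk Groth.Agent.Helper19.FibLib Groth.Agent.Helper19.StLib Groth.Agent.Helper19.PshLib

variable {S : Scheme.{u}}

/-- `toOverCat U ⋙ ofOverCat U ≅ 𝟭`. -/
def toOfOverCat (U : Over S) :
    BasedFunctor.comp (toOverCat U) (ofOverCat U) ≅ BasedFunctor.id (ofSch U) :=
  mkIso (fun a => Iso.refl a) (fun {a b} f => by
    apply EltObj.hom_ext
    simp
    rfl) (fun a => by
    exact IsHomLift.id rfl)

/-- `ofOverCat U ⋙ toOverCat U ≅ 𝟭`. -/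
def ofToOverCat (U : Over S) :
    BasedFunctor.comp (ofOverCat U) (toOverCat U) ≅ BasedFunctor.id (overCat U) :=
  mkIso (fun a => Iso.refl a) (fun {a b} f => by
    apply Over.OverMorphism.ext
    simp
    rfl) (fun a => by
    exact IsHomLift.id rfl)

theorem isEquivOver_toOverCat (U : Over S) : IsEquivOver (toOverCat U) :=
  ⟨ofOverCat U, ⟨toOfOverCat U⟩, ⟨ofToOverCat U⟩⟩

theorem isEquivOver_ofOverCat (U : Over S) : IsEquivOver (ofOverCat U) :=
  ⟨toOverCat U, ⟨ofToOverCat U⟩, ⟨toOfOverCat U⟩⟩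

section bridge

variable {F G : AlgSp.PSp S} (a : F ⟶ G) {U : Over S}

/-- The comparison functor from the category of the corner of a commutative square of presheaves over `h_U` to the
2-fibre product `(Sch/U) ×_G F`. -/
def cmpE (y : overCat U ⥤ᵇ ofPsh G) (ξ : (AlgSp.pyon S).obj U ⟶ G)
    (θ : ofPshMap ξ ≅ BasedFunctor.comp (toOverCat U) y)
    {F' : AlgSp.PSp S} (fst : F' ⟶ F) (snd : F' ⟶ (AlgSp.pyon S).obj U) (hw : snd ≫ ξ = fst ≫ a) :
    ofPsh F' ⥤ᵇ fp y (ofPshMap a) :=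
  BasedFunctor.comp (pbFunctor hw)
    (BasedFunctor.comp (fpCongrLeft (ofPshMap a) θ) (fpPre (toOverCat U) y (ofPshMap a)))

theorem cmpE_comp_fpFst (y : overCat U ⥤ᵇ ofPsh G) (ξ : (AlgSp.pyon S).obj U ⟶ G)
    (θ : ofPshMap ξ ≅ BasedFunctor.comp (toOverCat U) y)
    {F' : AlgSp.PSp S} (fst : F' ⟶ F) (snd : F' ⟶ (AlgSp.pyon S).obj U) (hw : snd ≫ ξ = fst ≫ a) :
    BasedFunctor.comp (cmpE a y ξ θ fst snd hw) (fpFst y (ofPshMap a)) =
      BasedFunctor.comp (ofPshMap snd) (toOverCat U) := rfl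

theorem isEquivOver_cmpE (y : overCat U ⥤ᵇ ofPsh G) (ξ : (AlgSp.pyon S).obj U ⟶ G)
    (θ : ofPshMap ξ ≅ BasedFunctor.comp (toOverCat U) y)
    {F' : AlgSp.PSp S} (fst : F' ⟶ F) (snd : F' ⟶ (AlgSp.pyon S).obj U)
    (sq : IsPbSec snd fst ξ a) : IsEquivOver (cmpE a y ξ θ fst snd sq.w) :=
  IsEquivOver.comp (isEquivOver_pbFunctor sq)
    (IsEquivOver.comp (isEquivOver_fpCongrLeft _ θ) (isEquivOver_fpPre _ (isEquivOver_toOverCat U) _ _))

end bridge

theorem spMapOfOver_ofPshMap_toOverCat {U : Over S} {F' : AlgSp.Sp S} (s : F'.obj ⟶ (AlgSp.pyon S).obj U) :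
    spMapOfOver (BasedFunctor.comp (ofPshMap s) (toOverCat U)) = ObjectProperty.homMk s := by
  apply ObjectProperty.hom_ext
  ext T x
  apply ULift.ext
  show secHom _ _ = _
  unfold secHom
  simp
  rfl

/-- For a presheaf `F'` over `h_U`: the category of `F'` over `(Sch/U)` is represented by an algebraic space whose
map to `h_U` has `Q` exactly when `F'` is an algebraic space and its map to `h_U` has `Q`. -/
theorem repOver_ofPsh_iff (Q : MorphismProperty (AlgSp.Sp S)) [Q.RespectsIso] {U : Over S}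
    (F' : AlgSp.PSp S) (s : F' ⟶ (AlgSp.pyon S).obj U) :
    RepOver Q (BasedFunctor.comp (ofPshMap s) (toOverCat U)) ↔
      ∃ h : Presheaf.IsSheaf (AlgSp.J S) F', AlgSp.IsAlgSpace (⟨F', h⟩ : AlgSp.Sp S) ∧
        Q (ObjectProperty.homMk s : (⟨F', h⟩ : AlgSp.Sp S) ⟶ (AlgSp.yon S).obj U) := by
  constructor
  · rintro ⟨X, e, he, hQ⟩
    obtain ⟨j, hj⟩ := exists_iso_of_isEquivOver e he
    obtain ⟨h, hA⟩ := ((AlgSp.isAlgSpaceP_obj_iff X.obj).2 X.property).of_iso j
    refine ⟨h, hA, ?_⟩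
    let j' : X.obj ≅ (⟨F', h⟩ : AlgSp.Sp S) :=
      (fullyFaithfulSheafToPresheaf (AlgSp.J S) _).preimageIso (X := X.obj) (Y := (⟨F', h⟩ : AlgSp.Sp S)) j
    have e1 : spMapOfOver (BasedFunctor.comp e (BasedFunctor.comp (ofPshMap s) (toOverCat U))) =
        spMapOfOver (BasedFunctor.comp (ofPshMap (j.hom ≫ s)) (toOverCat U)) := by
      apply spMapOfOver_eq_of_iso
      refine ?_ ≪≫ whiskerRightIso (ofPshMapComp j.hom s) (toOverCat U)
      refine eqToIso (BasedFunctor.comp_assoc _ _ _).symm ≪≫ ?_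
      refine whiskerRightIso (whiskerRightIso ?_ _) _
      rw [hj]
      exact isoOfPshMap e
    rw [e1, spMapOfOver_ofPshMap_toOverCat] at hQ
    have e2 : (ObjectProperty.homMk (j.hom ≫ s) : X.obj ⟶ (AlgSp.yon S).obj U) =
        j'.hom ≫ (ObjectProperty.homMk s : (⟨F', h⟩ : AlgSp.Sp S) ⟶ (AlgSp.yon S).obj U) := by
      apply ObjectProperty.hom_ext
      simp [j']
    rw [e2] at hQ
    exact (Q.cancel_left_of_respectsIso j'.hom _).1 hQ
  · rintro ⟨h, hA, hQ⟩
    refine ⟨⟨⟨F', h⟩, hA⟩, BasedFunctor.id _, isEquivOver_id _, ?_⟩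
    rw [BasedFunctor.id_comp, spMapOfOver_ofPshMap_toOverCat]
    exact hQ

/-- The dictionary: a map of presheaves is representable by algebraic spaces with property `Q` iff its functor over
`(Sch/S)` is. -/
theorem repBySpWith_iff (Q : MorphismProperty (AlgSp.Sp S)) [Q.RespectsIso] {F G : AlgSp.PSp S} (a : F ⟶ G) :
    AlgSp.RepBySpWith Q a ↔ RepByAlgSpWith Q (ofPshMap a) := by
  constructor
  · intro h U y
    let ξ : (AlgSp.pyon S).obj U ⟶ G := pshMapOf (BasedFunctor.comp (toOverCat U) y)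
    let θ : ofPshMap ξ ≅ BasedFunctor.comp (toOverCat U) y := (isoOfPshMap _).symm
    have sq : IsPullback (pullback.fst a ξ) (pullback.snd a ξ) a ξ := IsPullback.of_hasPullback a ξ
    have h1 := h ξ _ _ sq
    rw [← repOver_ofPsh_iff] at h1
    have sq' := IsPbSec.of_isPullback sq.flip
    exact RepOver.of_equiv (cmpE a y ξ θ _ _ sq'.w) (isEquivOver_cmpE a y ξ θ _ _ sq')
      (eqToIso (cmpE_comp_fpFst a y ξ θ _ _ sq'.w)) h1
  · intro h U ξ F' fst snd sq
    let y : overCat U ⥤ᵇ ofPsh G := BasedFunctor.comp (ofOverCat U) (ofPshMap ξ)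
    let θ : ofPshMap ξ ≅ BasedFunctor.comp (toOverCat U) y :=
      eqToIso (BasedFunctor.id_comp _).symm ≪≫ (whiskerRightIso (toOfOverCat U) (ofPshMap ξ)).symm ≪≫
        eqToIso (BasedFunctor.comp_assoc _ _ _)
    have sq' := IsPbSec.of_isPullback sq.flip
    rw [← repOver_ofPsh_iff]
    exact RepOver.of_equiv_symm (cmpE a y ξ θ _ _ sq'.w) (isEquivOver_cmpE a y ξ θ _ _ sq')
      (eqToIso (cmpE_comp_fpFst a y ξ θ _ _ sq'.w)) (h U y)

end Groth.Agent.Helper19.PshSt
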