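import Mathlib
import Groth.Agent.Lib.Helper19.PshSt
import Groth.Agent.Lib.Helper15.AlgSpFibre

/-!
# Morphisms between categories over `(Sch/S)` representable by algebraic spaces (helper19)
-/

set_option autoImplicit false
set_option backward.isDefEq.respectTransparency false

universe w₄ v₄ w₃ v₃ w' v' w v u

open CategoryTheory CategoryTheory.Limits Functor AlgebraicGeometry Opposite

namespace Groth.Agent.Helper19.PshSt

open FibCat AlgSt Stk Groth.Agent.Helper19.FibLib Groth.Agent.Helper19.StLib Groth.Agent.Helper19.PshLib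

variable {S : Scheme.{u}}

theorem repByAlgSp1_iff_top {𝒳 : BasedCategory.{v, w} (Over S)} {𝒴 : BasedCategory.{v', w'} (Over S)}
    (f : 𝒳 ⥤ᵇ 𝒴) : RepByAlgSp1 f ↔ RepByAlgSpWith ⊤ f := by
  constructor
  · intro h U y
    obtain ⟨X, e, he⟩ := h U y
    exact ⟨X, e, he, trivial⟩
  · intro h U y
    obtain ⟨X, e, he, -⟩ := h U y
    exact ⟨X, e, he⟩

theorem RepByAlgSpWith.repByAlgSp1 {P : MorphismProperty (AlgSp.Sp S)} {𝒳 : BasedCategory.{v, w} (Over S)}
    {𝒴 : BasedCategory.{v', w'} (Over S)} {f : 𝒳 ⥤ᵇ 𝒴} (h : RepByAlgSpWith P f) : RepByAlgSp1 f := by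
  intro U y
  obtain ⟨X, e, he, -⟩ := h U y
  exact ⟨X, e, he⟩

/-- Every map between (the presheaves of) algebraic spaces is representable by algebraic spaces. -/
theorem repBySp_of_space (X Y : AlgSp.Space S) (a : X.obj.obj ⟶ Y.obj.obj) : AlgSp.RepBySp a := by
  let a' : X.obj ⟶ Y.obj := ObjectProperty.homMk a
  have : AlgSp.RepBySp a'.hom := by
    rw [AlgSp.repBySp_hom_iff]
    intro U ξ F' fst snd sq
    exact Groth.Agent.Helper15.isAlgSpace_of_isPullback Y.property.diag X.property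
      (AlgSp.IsAlgSpace.yon_obj U) sq
  exact this

/-- A functor between categories represented by algebraic spaces is induced by a map of presheaves. -/
theorem exists_pshMap_of_rep {𝒳 : BasedCategory.{v, w} (Over S)} {𝒴 : BasedCategory.{v', w'} (Over S)}
    {X Y : AlgSp.PSp S} (eX : ofPsh X ⥤ᵇ 𝒳) (eY : ofPsh Y ⥤ᵇ 𝒴) (heY : IsEquivOver eY) (f : 𝒳 ⥤ᵇ 𝒴) :
    ∃ a : X ⟶ Y, Nonempty (BasedFunctor.comp (ofPshMap a) eY ≅ BasedFunctor.comp eX f) := by
  obtain ⟨gY, ⟨η⟩, ⟨ε⟩⟩ := heY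
  let Φ : ofPsh X ⥤ᵇ ofPsh Y := BasedFunctor.comp (BasedFunctor.comp eX f) gY
  refine ⟨pshMapOf Φ, ⟨?_⟩⟩
  exact whiskerRightIso (isoOfPshMap Φ).symm eY ≪≫ eqToIso (BasedFunctor.comp_assoc _ _ _) ≪≫
    whiskerLeftIso (BasedFunctor.comp eX f) ε ≪≫ eqToIso (BasedFunctor.comp_id _)

/-- A functor between categories represented by algebraic spaces is representable by algebraic spaces. -/
theorem repByAlgSp1_of_repByAlgSp {𝒳 : BasedCategory.{v, w} (Over S)} {𝒴 : BasedCategory.{v', w'} (Over S)}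
    (hX : RepByAlgSp 𝒳) (hY : RepByAlgSp 𝒴) (f : 𝒳 ⥤ᵇ 𝒴) : RepByAlgSp1 f := by
  obtain ⟨X, eX, heX⟩ := hX
  obtain ⟨Y, eY, heY⟩ := hY
  obtain ⟨a, ⟨e⟩⟩ := exists_pshMap_of_rep (X := X.obj.obj) (Y := Y.obj.obj) eX eY heY f
  rw [repByAlgSp1_iff_top, repByAlgSpWith_iff_of_square f (ofPshMap a) eX eY heX heY e,
    ← repBySpWith_iff ⊤ a]
  intro U ξ F' fst snd sq
  obtain ⟨h, hA⟩ := repBySp_of_space X Y a ξ fst snd sq
  exact ⟨h, hA, trivial⟩

end Groth.Agent.Helper19.PshSt
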