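import Mathlib
import Groth.Agent.Lib.Helper19.DiagLib
import Groth.Agent.Lib.Helper19.PshSt2

/-!
# Fibre products of categories representable by algebraic spaces; diagonal vs charts (helper19)
-/

set_option autoImplicit false
set_option backward.isDefEq.respectTransparency false

universe w₄ v₄ w₃ v₃ w' v' w v u

open CategoryTheory CategoryTheory.Limits Functor AlgebraicGeometry Opposite

namespace Groth.Agent.Helper19.DiagAlgSp

open FibCat AlgSt Stk Groth.Agent.Helper19.FibLib Groth.Agent.Helper19.StLib Groth.Agent.Helper19.PshLib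
  Groth.Agent.Helper19.PshSt Groth.Agent.Helper19.DiagLib

variable {S : Scheme.{u}}

theorem repByAlgSp_of_equiv {𝒜 : BasedCategory.{v, w} (Over S)} {ℬ : BasedCategory.{v', w'} (Over S)}
    (e : 𝒜 ⥤ᵇ ℬ) (he : IsEquivOver e) (h : RepByAlgSp 𝒜) : RepByAlgSp ℬ := by
  obtain ⟨F, eF, heF⟩ := h
  exact ⟨F, BasedFunctor.comp eF e, IsEquivOver.comp heF he⟩

theorem repByAlgSp_of_equiv_symm {𝒜 : BasedCategory.{v, w} (Over S)} {ℬ : BasedCategory.{v', w'} (Over S)}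
    (e : 𝒜 ⥤ᵇ ℬ) (he : IsEquivOver e) (h : RepByAlgSp ℬ) : RepByAlgSp 𝒜 := by
  obtain ⟨e', he', -⟩ := IsEquivOver.exists_inv he
  exact repByAlgSp_of_equiv e' he' h

theorem repByAlgSp_iff_of_equiv {𝒜 : BasedCategory.{v, w} (Over S)} {ℬ : BasedCategory.{v', w'} (Over S)}
    (e : 𝒜 ⥤ᵇ ℬ) (he : IsEquivOver e) : RepByAlgSp 𝒜 ↔ RepByAlgSp ℬ :=
  ⟨repByAlgSp_of_equiv e he, repByAlgSp_of_equiv_symm e he⟩

theorem repByAlgSp_overCat (U : Over S) : RepByAlgSp (overCat U) :=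
  ⟨⟨(AlgSp.yon S).obj U, AlgSp.IsAlgSpace.yon_obj U⟩, toOverCat U, isEquivOver_toOverCat U⟩

theorem repByAlgSp_ofSp (X : AlgSp.Space S) : RepByAlgSp (ofSp X.obj) :=
  ⟨X, BasedFunctor.id _, isEquivOver_id _⟩

/-- A fibre product of categories representable by algebraic spaces, over such a category, is representable by
an algebraic space. -/
theorem repByAlgSp_fp {𝒜 : BasedCategory.{v, w} (Over S)} {ℬ : BasedCategory.{v', w'} (Over S)}
    {𝒵 : BasedCategory.{v₃, w₃} (Over S)} (f : 𝒜 ⥤ᵇ 𝒵) (g : ℬ ⥤ᵇ 𝒵)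
    (hA : RepByAlgSp 𝒜) (hB : RepByAlgSp ℬ) (hZ : RepByAlgSp 𝒵) : RepByAlgSp (fp f g) := by
  obtain ⟨A, eA, heA⟩ := hA
  obtain ⟨B, eB, heB⟩ := hB
  obtain ⟨Z, eZ, heZ⟩ := hZ
  obtain ⟨a, ⟨σ⟩⟩ := exists_pshMap_of_equiv eA eZ heZ f
  obtain ⟨b, ⟨τ⟩⟩ := exists_pshMap_of_equiv eB eZ heZ g
  let a' : A.obj ⟶ Z.obj := ObjectProperty.homMk a
  let b' : B.obj ⟶ Z.obj := ObjectProperty.homMk b
  have sq := IsPullback.of_hasPullback a' b'
  have hW : AlgSp.IsAlgSpace (pullback a' b') :=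
    Groth.Agent.Helper15.isAlgSpace_of_isPullback Z.property.diag A.property B.property sq
  have sqP := IsPullback.map (sheafToPresheaf (AlgSp.J S) (Type (u + 1))) sq
  have h : IsPbSec (pullback.fst a' b').hom (pullback.snd a' b').hom a b := IsPbSec.of_isPullback sqP
  have := IsEquivOver.isEquivalence heZ
  exact ⟨⟨pullback a' b', hW⟩, _, isEquivOver_pbFunctor_fpMap h eA heA eB heB eZ f g σ τ⟩

theorem exists_equiv_fp_selfOver_over (V U : Over S) (F : overCat V ⥤ᵇ selfOver (Over S))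
    (G : overCat U ⥤ᵇ selfOver (Over S)) : ∃ (W : Over S) (E : overCat W ⥤ᵇ fp F G), IsEquivOver E := by
  have : HasBinaryProducts (Over S) := Over.ConstructProducts.over_binaryProduct_of_pullback
  exact exists_equiv_fp_selfOver_prod V U F G

/-- The diagonal of `𝒳` is representable by algebraic spaces iff every chart is. -/
theorem repByAlgSp1_diag_iff (𝒳 : AlgSt.Cat S) :
    RepByAlgSp1 (FibCat.diag (toSelf 𝒳)) ↔ ∀ (U : Over S) (x : overCat U ⥤ᵇ 𝒳), RepByAlgSp1 x := by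
  have R1 : ∀ {𝒜 ℬ : AlgSt.Cat S} (e : 𝒜 ⥤ᵇ ℬ), IsEquivOver e → RepByAlgSp 𝒜 → RepByAlgSp ℬ :=
    fun e he h => repByAlgSp_of_equiv e he h
  have R3 : ∀ {𝒜 ℬ 𝒵 : AlgSt.Cat S} (f : 𝒜 ⥤ᵇ 𝒵) (g : ℬ ⥤ᵇ 𝒵),
      RepByAlgSp 𝒜 → RepByAlgSp ℬ → RepByAlgSp 𝒵 → RepByAlgSp (fp f g) :=
    fun f g hA hB hZ => repByAlgSp_fp f g hA hB hZ
  constructor
  · intro hd U x V y
    exact generic_charts_of_diag (C := Over S) RepByAlgSp R1 exists_equiv_fp_selfOver_over 𝒳 hd x y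
  · intro hc U y
    exact generic_diag_of_charts (C := Over S) RepByAlgSp R1 repByAlgSp_overCat R3
      exists_equiv_fp_selfOver_over 𝒳 hc y

end Groth.Agent.Helper19.DiagAlgSp
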