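import Mathlib
import Groth.Prelude.Def_AlgSt
import Groth.Agent.Lib.Helper19.FibLib
import Groth.Agent.S11722
import Groth.Agent.S6406

/-!
# A category fibred in sets (setoids) is (equivalent to) the category of a presheaf (helper19)
-/

set_option autoImplicit false
set_option backward.isDefEq.respectTransparency false

universe v₃ u₃ v₂ u₂ v u

open CategoryTheory CategoryTheory.Limits Functor Opposite

namespace Groth.Agent.Helper19.FibSetPsh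

open FibCat Stk Groth.Agent.Helper19.FibLib

variable {C : Type u} [Category.{v} C] {𝒴 : BasedCategory.{v₂, u₂} C}

theorem existsUnique_lift (h : IsFibSet 𝒴.p) (a : 𝒴.obj) {V : C} (f : V ⟶ 𝒴.p.obj a) :
    ∃! φ : (Σ ξ : 𝒴.obj, (ξ ⟶ a)), 𝒴.p.IsHomLift f φ.2 :=
  (Groth.Agent.S11722.result 𝒴.p).1 h a V f

/-- the chosen (unique) lift of `f : V ⟶ U` at an object `a` over `U`. -/
noncomputable def pb (h : IsFibSet 𝒴.p) (a : 𝒴.obj) {U V : C} (ha : 𝒴.p.obj a = U) (f : V ⟶ U) :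
    Σ ξ : 𝒴.obj, (ξ ⟶ a) :=
  (existsUnique_lift h a (f ≫ eqToHom ha.symm)).exists.choose

theorem pb_isHomLift (h : IsFibSet 𝒴.p) (a : 𝒴.obj) {U V : C} (ha : 𝒴.p.obj a = U) (f : V ⟶ U) :
    𝒴.p.IsHomLift f (pb h a ha f).2 := by
  have := (existsUnique_lift h a (f ≫ eqToHom ha.symm)).exists.choose_spec
  rw [IsHomLift.lift_comp_eqToHom_iff] at this
  exact this

theorem pb_base (h : IsFibSet 𝒴.p) (a : 𝒴.obj) {U V : C} (ha : 𝒴.p.obj a = U) (f : V ⟶ U) :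
    𝒴.p.obj (pb h a ha f).1 = V :=
  have := pb_isHomLift h a ha f
  IsHomLift.domain_eq 𝒴.p f (pb h a ha f).2

theorem pb_unique (h : IsFibSet 𝒴.p) (a : 𝒴.obj) {U V : C} (ha : 𝒴.p.obj a = U) (f : V ⟶ U)
    {b : 𝒴.obj} (φ : b ⟶ a) (hφ : 𝒴.p.IsHomLift f φ) :
    (⟨b, φ⟩ : Σ ξ : 𝒴.obj, (ξ ⟶ a)) = pb h a ha f := by
  have h1 : 𝒴.p.IsHomLift (f ≫ eqToHom ha.symm) φ := by
    rw [IsHomLift.lift_comp_eqToHom_iff]
    exact hφ
  exact (existsUnique_lift h a (f ≫ eqToHom ha.symm)).unique (y₁ := ⟨b, φ⟩) h1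
    (existsUnique_lift h a (f ≫ eqToHom ha.symm)).exists.choose_spec

theorem pb_fst_eq (h : IsFibSet 𝒴.p) (a : 𝒴.obj) {U V : C} (ha : 𝒴.p.obj a = U) (f : V ⟶ U)
    {b : 𝒴.obj} (φ : b ⟶ a) (hφ : 𝒴.p.IsHomLift f φ) : (pb h a ha f).1 = b :=
  (congrArg Sigma.fst (pb_unique h a ha f φ hφ)).symm

/-- two morphisms over the same arrow are equal. -/
theorem lift_ext (h : IsFibSet 𝒴.p) {a b : 𝒴.obj} {R T : C} (f : R ⟶ T) (φ ψ : b ⟶ a)
    (hφ : 𝒴.p.IsHomLift f φ) (hψ : 𝒴.p.IsHomLift f ψ) : φ = ψ := by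
  have ha : 𝒴.p.obj a = T := IsHomLift.codomain_eq 𝒴.p f φ
  have := (pb_unique h a ha f φ hφ).trans (pb_unique h a ha f ψ hψ).symm
  simpa using this

/-- the presheaf of a category fibred in sets. -/
noncomputable def psh (h : IsFibSet 𝒴.p) : Cᵒᵖ ⥤ Type u₂ where
  obj U := {a : 𝒴.obj // 𝒴.p.obj a = U.unop}
  map {U V} f := ↾fun a => ⟨(pb h a.1 a.2 f.unop).1, pb_base h a.1 a.2 f.unop⟩
  map_id U := by
    ext a
    change (pb h a.1 a.2 (𝟙 U).unop).1 = a.1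
    exact pb_fst_eq h a.1 a.2 _ (𝟙 a.1) (IsHomLift.id a.2)
  map_comp {U V W} f g := by
    ext a
    change (pb h a.1 a.2 (f ≫ g).unop).1 =
      (pb h (pb h a.1 a.2 f.unop).1 (pb_base h a.1 a.2 f.unop) g.unop).1
    have h1 := pb_isHomLift h a.1 a.2 f.unop
    have h2 := pb_isHomLift h (pb h a.1 a.2 f.unop).1 (pb_base h a.1 a.2 f.unop) g.unop
    have h3 : 𝒴.p.IsHomLift (g.unop ≫ f.unop)
        ((pb h (pb h a.1 a.2 f.unop).1 (pb_base h a.1 a.2 f.unop) g.unop).2 ≫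
          (pb h a.1 a.2 f.unop).2) := inferInstance
    exact pb_fst_eq h a.1 a.2 _ ((pb h (pb h a.1 a.2 f.unop).1 (pb_base h a.1 a.2 f.unop) g.unop).2 ≫
      (pb h a.1 a.2 f.unop).2) h3

/-- the comparison functor `𝒴 ⟶ ofPsh (psh h)`. -/
noncomputable def toPsh (h : IsFibSet 𝒴.p) : 𝒴 ⥤ᵇ ofPsh (psh h) where
  toFunctor :=
    { obj := fun a => ⟨𝒴.p.obj a, ⟨a, rfl⟩⟩
      map := fun {a b} φ => ⟨𝒴.p.map φ, by
        apply Subtype.ext
        exact pb_fst_eq h b rfl (𝒴.p.map φ) φ inferInstance⟩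
      map_id := fun a => by
        apply EltObj.hom_ext
        exact 𝒴.p.map_id a
      map_comp := fun φ ψ => by
        apply EltObj.hom_ext
        exact 𝒴.p.map_comp φ ψ }
  w := rfl

theorem isEquivOver_toPsh (h : IsFibSet 𝒴.p) : IsEquivOver (toPsh h) := by
  have hfull : (toPsh h).toFunctor.Full := by
    refine ⟨fun {a b} g => ?_⟩
    let g' : 𝒴.p.obj a ⟶ 𝒴.p.obj b := g.hom
    have h1 : (pb h b rfl g').1 = a := congrArg Subtype.val g.map_sec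
    have h2 := pb_isHomLift h b rfl g'
    refine ⟨eqToHom h1.symm ≫ (pb h b rfl g').2, ?_⟩
    apply EltObj.hom_ext
    have h3 : 𝒴.p.IsHomLift g' (eqToHom h1.symm ≫ (pb h b rfl g').2) := by
      rw [IsHomLift.comp_eqToHom_lift_iff]
      exact h2
    exact (IsHomLift.eq_of_isHomLift 𝒴.p g' _).symm
  have hfaith : (toPsh h).toFunctor.Faithful := by
    refine ⟨fun {a b} φ ψ hφψ => ?_⟩
    have h1 : 𝒴.p.map φ = 𝒴.p.map ψ := congrArg EltObj.Hom.hom hφψ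
    have h2 : 𝒴.p.IsHomLift (𝒴.p.map φ) ψ := by rw [h1]; infer_instance
    exact lift_ext h (𝒴.p.map φ) φ ψ inferInstance h2
  refine isEquivOver_of_fullyFaithful (toPsh h) (fun y => ?_)
  obtain ⟨U, ⟨a, ha⟩⟩ := y
  have ha' : 𝒴.p.obj a = U := ha
  subst ha'
  exact ⟨a, Iso.refl _, IsHomLift.id rfl⟩

/-- A category fibred in setoids over `C` is equivalent over `C` to the category of a presheaf. -/
theorem exists_psh_of_isFibSetoid {𝒳 : BasedCategory.{v, max u v} C} (h𝒳 : IsFibSetoid 𝒳.p) :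
    ∃ (F : Cᵒᵖ ⥤ Type (max u v)) (e : 𝒳 ⥤ᵇ ofPsh F), IsEquivOver e := by
  obtain ⟨𝒴, G, h𝒴, hG⟩ := Groth.Agent.S6406.result h𝒳
  exact ⟨psh h𝒴, BasedFunctor.comp G (toPsh h𝒴), IsEquivOver.comp hG (isEquivOver_toPsh h𝒴)⟩

end Groth.Agent.Helper19.FibSetPsh
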