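import Mathlib
import Groth.Agent.Lib.Helper19.PshSt2
import Groth.Agent.Lib.Helper15.AlgSpLocP

/-!
# More on `RepByAlgSpWith`: equivalences, charts of schemes (helper19)
-/

set_option autoImplicit false
set_option backward.isDefEq.respectTransparency false

universe w₄ v₄ w₃ v₃ w' v' w v u

open CategoryTheory CategoryTheory.Limits Functor AlgebraicGeometry Opposite

namespace Groth.Agent.Helper19.PshSt

open FibCat AlgSt Stk Groth.Agent.Helper19.FibLib Groth.Agent.Helper19.StLib Groth.Agent.Helper19.PshLib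

variable {S : Scheme.{u}}

instance locP_respectsIso (P : MorphismProperty Scheme.{u}) :
    (AlgSp.LocP P : MorphismProperty (AlgSp.Sp S)).RespectsIso := by
  apply MorphismProperty.RespectsIso.mk
  · intro F' F G e f hf U V a b h ha hb hab
    have ha' : AlgSp.RepWith @Etale (a ≫ e.hom) := MorphismProperty.RespectsIso.postcomp _ _ _ ha
    exact hf (a ≫ e.hom) b h ha' hb (by rw [Category.assoc]; exact hab)
  · intro F G G' e f hf U V a b h ha hb hab
    have hb' : AlgSp.RepWith @Etale (b ≫ e.inv) := MorphismProperty.RespectsIso.postcomp _ _ _ hb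
    refine hf a (b ≫ e.inv) h ha hb' ?_
    rw [← Category.assoc, ← hab, Category.assoc, Category.assoc, e.hom_inv_id, Category.comp_id]

section equiv

variable {𝒳 : BasedCategory.{v, w} (Over S)} {𝒴 : BasedCategory.{v', w'} (Over S)}
  {𝒲 : BasedCategory.{v₃, w₃} (Over S)}

/-- The base change of an equivalence is an equivalence. -/
theorem isEquivOver_fpFst_of_equiv (y : 𝒲 ⥤ᵇ 𝒴) (f : 𝒳 ⥤ᵇ 𝒴) (hf : IsEquivOver f) :
    IsEquivOver (fpFst y f) := by
  have h1 : (BasedFunctor.id 𝒴).toFunctor.Full := inferInstanceAs (𝟭 𝒴.obj).Full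
  have h2 : (BasedFunctor.id 𝒴).toFunctor.Faithful := inferInstanceAs (𝟭 𝒴.obj).Faithful
  have h3 : IsEquivOver (fpMap (F := y) (G := f) (F' := y) (G' := BasedFunctor.id 𝒴) (BasedFunctor.id 𝒲) f
      (BasedFunctor.id 𝒴) (Iso.refl _) (Iso.refl _)) :=
    isEquivOver_fpMap _ _ _ _ _ (isEquivOver_id 𝒲) hf
  exact IsEquivOver.comp h3 (isEquivOver_fpFst_id y)

/-- `toOverCat U` represents the identity of `h_U`. -/
theorem spMapOfOver_toOverCat (U : Over S) : spMapOfOver (toOverCat U) = 𝟙 ((AlgSp.yon S).obj U) := by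
  have h := spMapOfOver_ofPshMap_toOverCat (U := U) (F' := (AlgSp.yon S).obj U) (𝟙 _)
  have e : spMapOfOver (toOverCat U) =
      spMapOfOver (BasedFunctor.comp (ofPshMap (𝟙 ((AlgSp.yon S).obj U).obj)) (toOverCat U)) :=
    spMapOfOver_eq_of_iso (eqToIso (BasedFunctor.id_comp _).symm ≪≫
      whiskerRightIso (ofPshMapId _).symm (toOverCat U))
  rw [e, h]
  rfl

/-- A functor to `(Sch/U)` which is an equivalence is represented by `h_U`, with the identity as map to `h_U`. -/
theorem repOver_of_equiv (Q : MorphismProperty (AlgSp.Sp S)) {U : Over S} (hQ : Q (𝟙 ((AlgSp.yon S).obj U)))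
    (π : 𝒲 ⥤ᵇ overCat U) (hπ : IsEquivOver π) : RepOver Q π := by
  refine RepOver.of_equiv_symm π hπ (eqToIso (BasedFunctor.comp_id π)) ?_
  refine ⟨⟨(AlgSp.yon S).obj U, AlgSp.IsAlgSpace.yon_obj U⟩, toOverCat U, isEquivOver_toOverCat U, ?_⟩
  rw [BasedFunctor.comp_id, spMapOfOver_toOverCat]
  exact hQ

/-- An equivalence is representable by algebraic spaces with every property holding for identities. -/
theorem repByAlgSpWith_of_equiv (Q : MorphismProperty (AlgSp.Sp S))
    (hQ : ∀ U : Over S, Q (𝟙 ((AlgSp.yon S).obj U))) (f : 𝒳 ⥤ᵇ 𝒴) (hf : IsEquivOver f) :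
    RepByAlgSpWith Q f := by
  intro U y
  exact repOver_of_equiv Q (hQ U) _ (isEquivOver_fpFst_of_equiv y f hf)

end equiv

section charts

/-- The map of presheaves `h_U ⟶ G` determined by a functor `(Sch/U) ⟶ G` over `(Sch/S)` (Yoneda). -/
def sectionMap {G : AlgSp.PSp S} {U : Over S} (y : overCat U ⥤ᵇ ofPsh G) : (AlgSp.pyon S).obj U ⟶ G :=
  pshMapOf (BasedFunctor.comp (toOverCat U) y)

/-- A functor `(Sch/U) ⟶ G` over `(Sch/S)` is the functor of its map of presheaves. -/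
def sectionMapIso {G : AlgSp.PSp S} {U : Over S} (y : overCat U ⥤ᵇ ofPsh G) :
    y ≅ BasedFunctor.comp (ofOverCat U) (ofPshMap (sectionMap y)) :=
  eqToIso (BasedFunctor.id_comp y).symm ≪≫ whiskerRightIso (ofToOverCat U).symm y ≪≫
    eqToIso (BasedFunctor.comp_assoc _ _ _) ≪≫
    whiskerLeftIso (ofOverCat U) (isoOfPshMap (BasedFunctor.comp (toOverCat U) y))

/-- A functor `(Sch/V) ⟶ (h_U)` over `(Sch/S)` comes from a morphism `V ⟶ U` over `S`. -/
theorem exists_hom_of_overCat_ofSch {U V : Over S} (x : overCat V ⥤ᵇ ofSch U) :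
    ∃ g : V ⟶ U, Nonempty (x ≅ BasedFunctor.comp (ofOverCat V) (ofPshMap ((AlgSp.pyon S).map g))) := by
  obtain ⟨g, hg⟩ := (AlgSp.pyon S).map_surjective (sectionMap x)
  refine ⟨g, ⟨?_⟩⟩
  rw [hg]
  exact sectionMapIso x

/-- If the functor of `g : V ⟶ U` is representable by algebraic spaces with `Q`, then `h_g` has `Q`. -/
theorem of_repByAlgSpWith_pyon_map (Q : MorphismProperty (AlgSp.Sp S)) [Q.RespectsIso] {U V : Over S}
    (g : V ⟶ U) (h : RepByAlgSpWith Q (ofPshMap ((AlgSp.pyon S).map g))) : Q ((AlgSp.yon S).map g) := by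
  rw [← repBySpWith_iff] at h
  have sq : IsPullback (𝟙 ((AlgSp.pyon S).obj V)) ((AlgSp.pyon S).map g) ((AlgSp.pyon S).map g)
      (𝟙 ((AlgSp.pyon S).obj U)) := IsPullback.of_horiz_isIso ⟨by simp⟩
  obtain ⟨h', -, hQ⟩ := h (𝟙 _) _ _ sq
  exact hQ

/-- A chart `x : (Sch/V) ⟶ (h_U)` which is representable by algebraic spaces with `Q` comes from a morphism
`g : V ⟶ U` such that `h_g` has `Q`. -/
theorem exists_hom_of_repByAlgSpWith (Q : MorphismProperty (AlgSp.Sp S)) [Q.RespectsIso] {U V : Over S}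
    (x : overCat V ⥤ᵇ ofSch U) (hx : RepByAlgSpWith Q x) :
    ∃ g : V ⟶ U, Nonempty (x ≅ BasedFunctor.comp (ofOverCat V) (ofPshMap ((AlgSp.pyon S).map g))) ∧
      Q ((AlgSp.yon S).map g) := by
  obtain ⟨g, ⟨e⟩⟩ := exists_hom_of_overCat_ofSch x
  refine ⟨g, ⟨e⟩, of_repByAlgSpWith_pyon_map Q g ?_⟩
  have h1 : RepByAlgSpWith Q (BasedFunctor.comp (ofOverCat V) (ofPshMap ((AlgSp.pyon S).map g))) :=
    repByAlgSpWith_of_iso e.symm hx
  exact (repByAlgSpWith_equiv_comp (ofOverCat V) (isEquivOver_ofOverCat V) _).1 h1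

/-- A morphism of sheaves representable by schemes with `P` gives a functor representable by algebraic spaces with
`Q`, when `Q` holds for morphisms representable with `P`. -/
theorem repByAlgSpWith_ofPshMap_of_repWith (P : MorphismProperty Scheme.{u}) (Q : MorphismProperty (AlgSp.Sp S))
    [Q.RespectsIso] (hPQ : ∀ ⦃F G : AlgSp.Sp S⦄ (f : F ⟶ G), AlgSp.RepWith P f → Q f)
    {X Y : AlgSp.Sp S} (f : X ⟶ Y) (hf : AlgSp.RepWith P f) : RepByAlgSpWith Q (ofPshMap f.hom) := by
  rw [← repBySpWith_iff, AlgSp.repBySpWith_hom_iff]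
  intro U ξ F' fst snd sq
  refine ⟨?_, hPQ snd ((AlgSp.RepWith P).of_isPullback sq hf)⟩
  obtain ⟨V, snd', fst', sq'⟩ := hf.rep ξ
  exact (AlgSp.IsAlgSpace.yon_obj V).of_iso (sq'.isoIsPullback _ _ sq)

end charts

end Groth.Agent.Helper19.PshSt
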