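import Mathlib
import Groth.Prelude.Def_W4stkcategoriessitesFib
import Groth.Agent.Lib.Helper19.FibLib2
import Groth.Agent.S6409

/-!
# Consequences of the 2-Yoneda lemma for categories fibred in groupoids (helper19; uses helper10's S6409)
-/

set_option autoImplicit false
set_option backward.isDefEq.respectTransparency false

universe v u

open CategoryTheory CategoryTheory.Limits Functor Opposite

namespace Groth.Agent.Helper19.YonLib

open FibCat Groth.Agent.Helper19.FibLib

variable {C : Type u} [Category.{v} C] {𝒳 : BasedCategory.{v, max u v} C}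

/-- Every object over `U` of a category fibred in groupoids is, up to an isomorphism over `𝟙 U`, the value at `𝟙_U` of a
functor `C/U ⟶ 𝒳` over `C`. -/
theorem exists_chart_of_obj (h𝒳 : IsFibGrpd 𝒳.p) {U : C} (x : 𝒳.obj) (hx : 𝒳.p.obj x = U) :
    ∃ (G : overCat U ⥤ᵇ 𝒳) (θ : G.obj (Over.mk (𝟙 U)) ≅ x), 𝒳.p.IsHomLift (𝟙 U) θ.hom := by
  have := Groth.Agent.S6409.result h𝒳 U
  let G := (evalAtId 𝒳 U).objPreimage (⟨x, hx⟩ : 𝒳.p.Fiber U)
  let e : (evalAtId 𝒳 U).obj G ≅ ⟨x, hx⟩ := (evalAtId 𝒳 U).objObjPreimageIso (⟨x, hx⟩ : 𝒳.p.Fiber U)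
  refine ⟨G, ⟨e.hom.1, e.inv.1, ?_, ?_⟩, e.hom.2⟩
  · have := congrArg Subtype.val e.hom_inv_id
    exact this
  · have := congrArg Subtype.val e.inv_hom_id
    exact this

end Groth.Agent.Helper19.YonLib
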