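import Mathlib
import Groth.Agent.Lib.Helper19.FibSetPsh
import Groth.Agent.Lib.Helper19.Bootstrap
import Groth.Agent.Lib.Helper19.PshSt2
import Groth.Agent.Lib.Helper19.DiagAlgSp
import Groth.Agent.S12776
import Groth.Agent.S12787
import Groth.Agent.S12800

/-!
# Base change of a functor representable by algebraic spaces to an algebraic space (helper19)
-/

set_option autoImplicit false
set_option backward.isDefEq.respectTransparency false

universe w₄ v₄ w₃ v₃ w' v' w v u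

open CategoryTheory CategoryTheory.Limits Functor AlgebraicGeometry Opposite

namespace Groth.Agent.Helper19.BootSt

open FibCat AlgSt Stk Groth.Agent.Helper19.FibLib Groth.Agent.Helper19.StLib Groth.Agent.Helper19.PshLib
  Groth.Agent.Helper19.PshSt Groth.Agent.Helper19.DiagLib Groth.Agent.Helper19.DiagAlgSp
  Groth.Agent.Helper19.FibSetPsh Groth.Agent.Helper19.Bootstrap

variable {S : Scheme.{u}}

/-- The 2-fibre product of a functor representable by algebraic spaces with a functor from a category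
represented by an algebraic space is represented by an algebraic space. -/
theorem repByAlgSp_fp_of_repByAlgSp1 {𝒳 𝒴 𝒵 : AlgSt.Cat S}
    (h𝒳 : IsFibGrpd 𝒳.p) (h𝒴 : IsFibGrpd 𝒴.p) (h𝒵 : IsFibGrpd 𝒵.p)
    (f : 𝒳 ⥤ᵇ 𝒴) (g : 𝒵 ⥤ᵇ 𝒴) (hf : RepByAlgSp1 f) (hZ : RepByAlgSp 𝒵) :
    RepByAlgSp (fp g f) := by
  have hfaith : f.toFunctor.Faithful := Groth.Agent.S12776.result h𝒳 h𝒴 f hf
  have h𝒵set : IsFibSetoid 𝒵.p := Groth.Agent.S12787.result h𝒵 hZ
  have hW : IsFibSetoid (fp f g).p := Groth.Agent.S12800.result h𝒴 h𝒳 h𝒵set f g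
  obtain ⟨Z, eZ, heZ⟩ := hZ
  obtain ⟨F, e, he⟩ := exists_psh_of_isFibSetoid hW
  obtain ⟨e', he', -, -⟩ := IsEquivOver.exists_inv he
  obtain ⟨a, ⟨θ⟩⟩ := exists_pshMap_of_rep (X := F) (Y := Z.obj.obj) e' eZ heZ (fpSnd f g)
  have h1 : RepByAlgSpWith ⊤ (fpSnd f g) := repByAlgSpWith_fpSnd f g ((repByAlgSp1_iff_top f).1 hf)
  have h2 : RepByAlgSpWith ⊤ (ofPshMap a) :=
    (repByAlgSpWith_iff_of_square (fpSnd f g) (ofPshMap a) e' eZ he' heZ θ).1 h1
  have h3 : AlgSp.RepBySp a := ((repBySpWith_iff ⊤ a).2 h2).repBySp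
  obtain ⟨hFs, hFa⟩ := isAlgSpaceP_of_repBySp a h3 ((AlgSp.isAlgSpaceP_obj_iff Z.obj).2 Z.property)
  have h4 : RepByAlgSp (fp f g) := ⟨⟨⟨F, hFs⟩, hFa⟩, e', he'⟩
  exact repByAlgSp_of_equiv (fpSwap f g) (isEquivOver_fpSwap f g) h4

end Groth.Agent.Helper19.BootSt
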