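import Mathlib
import Groth.Agent.Lib.Helper19.DiagAlgSp
import Groth.Agent.Lib.Helper19.StLib2

/-!
# Composition of a map of algebraic spaces with a functor representable by algebraic spaces (helper19)
-/

set_option autoImplicit false
set_option backward.isDefEq.respectTransparency false

universe w₄ v₄ w₃ v₃ w' v' w v u

open CategoryTheory CategoryTheory.Limits Functor AlgebraicGeometry Opposite

namespace Groth.Agent.Helper19.CompLib

open FibCat AlgSt Stk Groth.Agent.Helper19.FibLib Groth.Agent.Helper19.StLib Groth.Agent.Helper19.PshLib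
  Groth.Agent.Helper19.PshSt Groth.Agent.Helper19.DiagLib Groth.Agent.Helper19.DiagAlgSp

variable {S : Scheme.{u}}

theorem spMapOfOver_ofSpMap_comp {F' F : AlgSp.Sp S} {U : Over S} (φ : F' ⟶ F)
    (Φ : ofSp F ⥤ᵇ overCat U) :
    spMapOfOver (BasedFunctor.comp (ofSpMap φ) Φ) = φ ≫ spMapOfOver Φ := by
  apply ObjectProperty.hom_ext
  ext T x
  apply ULift.ext
  rfl

/-- Base change of a map of algebraic spaces `p : W ⟶ X` along a functor `c : 𝒜 ⟶ ofSp X` from a category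
represented over `(Sch/T)` by an algebraic space with `Q₂`. -/
theorem repOver_fpFst_comp (Q₁ Q₂ Q₃ : MorphismProperty (AlgSp.Sp S))
    (hQ₁ : ∀ ⦃A B A' B' : AlgSp.Sp S⦄ (f : A ⟶ B) (g : B' ⟶ B) (f' : A' ⟶ B') (g' : A' ⟶ A),
      IsPullback g' f' f g → Q₁ f → Q₁ f')
    (hcomp : ∀ ⦃A B C : AlgSp.Sp S⦄ (f : A ⟶ B) (g : B ⟶ C), Q₁ f → Q₂ g → Q₃ (f ≫ g))
    {T : Over S} {𝒜 : BasedCategory.{v, w} (Over S)} (a : 𝒜 ⥤ᵇ overCat T) (ha : RepOver Q₂ a)
    {X W : AlgSp.Space S} (p : W.obj ⟶ X.obj) (hp : Q₁ p) (c : 𝒜 ⥤ᵇ ofSp X.obj) :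
    RepOver Q₃ (BasedFunctor.comp (fpFst c (ofSpMap p)) a) := by
  obtain ⟨A, eA, heA, hA⟩ := ha
  let Φ : ofSp A.obj ⥤ᵇ ofSp X.obj := BasedFunctor.comp eA c
  let b : A.obj ⟶ X.obj := ObjectProperty.homMk (pshMapOf Φ)
  have sq := IsPullback.of_hasPullback b p
  have hB : AlgSp.IsAlgSpace (pullback b p) :=
    Groth.Agent.Helper15.isAlgSpace_of_isPullback X.property.diag A.property W.property sq
  have sqP := IsPullback.map (sheafToPresheaf (AlgSp.J S) (Type (u + 1))) sq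
  have h : IsPbSec (pullback.fst b p).hom (pullback.snd b p).hom b.hom p.hom := IsPbSec.of_isPullback sqP
  have hid1 : (BasedFunctor.id (ofSp X.obj)).toFunctor.Full := inferInstanceAs (𝟭 _).Full
  have hid2 : (BasedFunctor.id (ofSp X.obj)).toFunctor.Faithful := inferInstanceAs (𝟭 _).Faithful
  let σ : BasedFunctor.comp (ofPshMap b.hom) (BasedFunctor.id (ofSp X.obj)) ≅ BasedFunctor.comp eA c :=
    eqToIso (BasedFunctor.comp_id _) ≪≫ (isoOfPshMap Φ).symm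
  let τ : BasedFunctor.comp (ofPshMap p.hom) (BasedFunctor.id (ofSp X.obj)) ≅
      BasedFunctor.comp (BasedFunctor.id (ofSp W.obj)) (ofSpMap p) :=
    eqToIso ((BasedFunctor.comp_id _).trans (BasedFunctor.id_comp _).symm)
  have hE := isEquivOver_pbFunctor_fpMap h eA heA (BasedFunctor.id (ofSp W.obj)) (isEquivOver_id _)
    (BasedFunctor.id (ofSp X.obj)) c (ofSpMap p) σ τ
  refine ⟨⟨pullback b p, hB⟩, _, hE, ?_⟩
  have e1 : spMapOfOver (BasedFunctor.comp (BasedFunctor.comp (pbFunctor h.w)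
      (fpMap eA (BasedFunctor.id (ofSp W.obj)) (BasedFunctor.id (ofSp X.obj)) σ τ))
        (BasedFunctor.comp (fpFst c (ofSpMap p)) a)) =
      spMapOfOver (BasedFunctor.comp (ofSpMap (pullback.fst b p)) (BasedFunctor.comp eA a)) := rfl
  rw [e1, spMapOfOver_ofSpMap_comp]
  exact hcomp _ _ (hQ₁ p b _ _ sq.flip hp) hA

/-- Precomposing a functor `π : ofSp X ⟶ 𝒳` representable by algebraic spaces with `Q₂` by a map of algebraic
spaces `p : W ⟶ X` with `Q₁` gives a functor representable by algebraic spaces with `Q₃`. -/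
theorem repByAlgSpWith_ofSpMap_comp (Q₁ Q₂ Q₃ : MorphismProperty (AlgSp.Sp S))
    (hQ₁ : ∀ ⦃A B A' B' : AlgSp.Sp S⦄ (f : A ⟶ B) (g : B' ⟶ B) (f' : A' ⟶ B') (g' : A' ⟶ A),
      IsPullback g' f' f g → Q₁ f → Q₁ f')
    (hcomp : ∀ ⦃A B C : AlgSp.Sp S⦄ (f : A ⟶ B) (g : B ⟶ C), Q₁ f → Q₂ g → Q₃ (f ≫ g))
    {𝒳 : BasedCategory.{v, w} (Over S)} {X W : AlgSp.Space S} (p : W.obj ⟶ X.obj) (hp : Q₁ p)
    (π : ofSp X.obj ⥤ᵇ 𝒳) (hπ : RepByAlgSpWith Q₂ π) :
    RepByAlgSpWith Q₃ (BasedFunctor.comp (ofSpMap p) π) := by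
  intro T t
  have h1 := repOver_fpFst_comp Q₁ Q₂ Q₃ hQ₁ hcomp (fpFst t π) (hπ T t) p hp (fpSnd t π)
  exact RepOver.of_equiv_symm (pasteR t π (ofSpMap p)) (isEquivOver_pasteR t π (ofSpMap p)) (Iso.refl _) h1

end Groth.Agent.Helper19.CompLib
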