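import Mathlib
import Groth.Prelude.Def_AlgSt
import Groth.Agent.Lib.Helper19.FibLib2
import Groth.Agent.S6439

/-!
# Invariance of `IsFibGrpd` and the stack conditions under equivalences over the base (helper19)
-/

set_option autoImplicit false
set_option backward.isDefEq.respectTransparency false

universe v₃ u₃ v₂ u₂ v u

open CategoryTheory CategoryTheory.Limits Functor Opposite

namespace Groth.Agent.Helper19.StackLib

open FibCat Stk Groth.Agent.Helper19.FibLib

variable {C : Type u} [Category.{v} C]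

section fibgrpd

variable {𝒳 : BasedCategory.{v₂, u₂} C} {𝒴 : BasedCategory.{v₃, u₃} C}

/-- Being fibred in groupoids is invariant under equivalence over the base. -/
theorem isFibGrpd_of_equiv (F : 𝒳 ⥤ᵇ 𝒴) (hF : IsEquivOver F) (h𝒳 : IsFibGrpd 𝒳.p) : IsFibGrpd 𝒴.p := by
  obtain ⟨G, hG, -, ⟨ε⟩⟩ := IsEquivOver.exists_inv hF
  have hGe : G.toFunctor.IsEquivalence := IsEquivOver.isEquivalence hG
  constructor
  · intro y V f
    obtain ⟨x', φ, hφ⟩ := h𝒳.exists_lift (f ≫ eqToHom (G.w_obj y).symm)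
    rw [IsHomLift.lift_comp_eqToHom_iff] at hφ
    have h1 : 𝒴.p.IsHomLift f (F.map φ) := BasedFunctor.preserves_isHomLift F f φ
    have h2 : 𝒴.p.IsHomLift (𝟙 (𝒴.p.obj y)) (ε.hom.toNatTrans.app y) := ε.hom.isHomLift' y
    exact ⟨F.obj x', F.map φ ≫ ε.hom.toNatTrans.app y, inferInstance⟩
  · intro y' y φ
    have i0 : 𝒳.p.IsHomLift (𝒴.p.map φ) (G.map φ) := BasedFunctor.preserves_isHomLift G _ φ
    refine { universal_property' := fun {z} g ψ hψ => ?_ }
    have i1 : 𝒳.p.IsHomLift (g ≫ 𝒴.p.map φ) (G.map ψ) := BasedFunctor.preserves_isHomLift G _ ψ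
    obtain ⟨χ', ⟨hχ1, hχ2⟩, huniq⟩ :=
      existsUnique_fac h𝒳 (𝒴.p.map φ) (G.map φ) g (g ≫ 𝒴.p.map φ) rfl (G.map ψ)
    obtain ⟨χ, rfl⟩ := G.toFunctor.map_surjective χ'
    have hχ : 𝒴.p.IsHomLift g χ := G.isHomLift_map g χ
    refine ⟨χ, ⟨hχ, ?_⟩, ?_⟩
    · apply G.toFunctor.map_injective
      rw [Functor.map_comp]
      exact hχ2
    · rintro χ₂ ⟨h1, h2⟩
      apply G.toFunctor.map_injective
      have i2 : 𝒳.p.IsHomLift g (G.map χ₂) := BasedFunctor.preserves_isHomLift G g χ₂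
      refine huniq (G.map χ₂) ⟨i2, ?_⟩
      have := congrArg G.map h2
      rw [← this]
      exact (G.toFunctor.map_comp χ₂ φ).symm

theorem isFibGrpd_iff_of_equiv (F : 𝒳 ⥤ᵇ 𝒴) (hF : IsEquivOver F) : IsFibGrpd 𝒳.p ↔ IsFibGrpd 𝒴.p := by
  obtain ⟨G, hG, -, -⟩ := IsEquivOver.exists_inv hF
  exact ⟨isFibGrpd_of_equiv F hF, isFibGrpd_of_equiv G hG⟩

end fibgrpd

section stackfor

variable {𝒳 𝒴 : BasedCategory.{v, max u v} C}

/-- restriction along a sieve commutes with postcomposition. -/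
def resPostcompIso (F : 𝒳 ⟶ 𝒴) {U : C} (R : Sieve U) :
    resSieve R 𝒳 ⋙ Bicategory.postcomp (sieveCat R) F ≅
      Bicategory.postcomp (overCat U) F ⋙ resSieve R 𝒴 :=
  NatIso.ofComponents (fun H => Iso.refl _) (fun {H H'} α => by
    apply BasedNatTrans.homCategory.ext
    ext a
    simp
    rfl)

theorem postcomp_isEquivalence (𝒜 : BasedCategory.{v, max u v} C) (F : 𝒳 ⟶ 𝒴) (hF : IsEquivOver F) :
    (Bicategory.postcomp 𝒜 F).IsEquivalence := by
  obtain ⟨G, ⟨η⟩, ⟨ε⟩⟩ := hF
  exact Groth.Agent.S6439.postcomp_isEquivalence 𝒜 F G η ε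

theorem isStackFor_iff_of_equiv (F : 𝒳 ⟶ 𝒴) (hF : IsEquivOver F) {U : C} (R : Sieve U) :
    IsStackFor R 𝒳 ↔ IsStackFor R 𝒴 := by
  have h1 := postcomp_isEquivalence (sieveCat R) F hF
  have h2 := postcomp_isEquivalence (overCat U) F hF
  unfold IsStackFor
  constructor
  · intro h
    have h3 : (resSieve R 𝒳 ⋙ Bicategory.postcomp (sieveCat R) F).IsEquivalence := inferInstance
    have h4 : (Bicategory.postcomp (overCat U) F ⋙ resSieve R 𝒴).IsEquivalence :=
      Functor.isEquivalence_of_iso (resPostcompIso F R)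
    exact Functor.isEquivalence_of_comp_left (Bicategory.postcomp (overCat U) F) _
  · intro h
    have h3 : (Bicategory.postcomp (overCat U) F ⋙ resSieve R 𝒴).IsEquivalence := inferInstance
    have h4 : (resSieve R 𝒳 ⋙ Bicategory.postcomp (sieveCat R) F).IsEquivalence :=
      Functor.isEquivalence_of_iso (resPostcompIso F R).symm
    exact Functor.isEquivalence_of_comp_right _ (Bicategory.postcomp (sieveCat R) F)

theorem isPrestackFor_iff_of_equiv (F : 𝒳 ⟶ 𝒴) (hF : IsEquivOver F) {U : C} (R : Sieve U) :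
    IsPrestackFor R 𝒳 ↔ IsPrestackFor R 𝒴 := by
  have h1 := postcomp_isEquivalence (sieveCat R) F hF
  have h2 := postcomp_isEquivalence (overCat U) F hF
  unfold IsPrestackFor
  constructor
  · rintro ⟨hfu, hfa⟩
    have h3 : (resSieve R 𝒳 ⋙ Bicategory.postcomp (sieveCat R) F).Full := inferInstance
    have h3' : (resSieve R 𝒳 ⋙ Bicategory.postcomp (sieveCat R) F).Faithful := inferInstance
    have h4 : (Bicategory.postcomp (overCat U) F ⋙ resSieve R 𝒴).Full :=
      Functor.Full.of_iso (resPostcompIso F R)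
    have h4' : (Bicategory.postcomp (overCat U) F ⋙ resSieve R 𝒴).Faithful :=
      Functor.Faithful.of_iso (resPostcompIso F R)
    let i : (Bicategory.postcomp (overCat U) F).inv ⋙
        (Bicategory.postcomp (overCat U) F ⋙ resSieve R 𝒴) ≅ resSieve R 𝒴 :=
      (Functor.associator _ _ _).symm ≪≫
        Functor.isoWhiskerRight (Bicategory.postcomp (overCat U) F).asEquivalence.counitIso _ ≪≫
        Functor.leftUnitor _
    exact ⟨Functor.Full.of_iso i, Functor.Faithful.of_iso i⟩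
  · rintro ⟨hfu, hfa⟩
    have h3 : (Bicategory.postcomp (overCat U) F ⋙ resSieve R 𝒴).Full := inferInstance
    have h3' : (Bicategory.postcomp (overCat U) F ⋙ resSieve R 𝒴).Faithful := inferInstance
    have h4 : (resSieve R 𝒳 ⋙ Bicategory.postcomp (sieveCat R) F).Full :=
      Functor.Full.of_iso (resPostcompIso F R).symm
    have h4' : (resSieve R 𝒳 ⋙ Bicategory.postcomp (sieveCat R) F).Faithful :=
      Functor.Faithful.of_iso (resPostcompIso F R).symm
    exact ⟨Functor.Full.of_comp_faithful _ (Bicategory.postcomp (sieveCat R) F),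
      Functor.Faithful.of_comp _ (Bicategory.postcomp (sieveCat R) F)⟩

theorem isStack_iff_of_equiv (J : GrothendieckTopology C) (F : 𝒳 ⟶ 𝒴) (hF : IsEquivOver F) :
    IsStack J 𝒳 ↔ IsStack J 𝒴 := by
  unfold IsStack
  rw [isFibGrpd_iff_of_equiv F hF]
  refine and_congr Iff.rfl ?_
  exact forall_congr' fun U => forall_congr' fun R => forall_congr' fun _ =>
    isStackFor_iff_of_equiv F hF R

theorem isPrestack_iff_of_equiv (J : GrothendieckTopology C) (F : 𝒳 ⟶ 𝒴) (hF : IsEquivOver F) :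
    IsPrestack J 𝒳 ↔ IsPrestack J 𝒴 := by
  unfold IsPrestack
  rw [isFibGrpd_iff_of_equiv F hF]
  refine and_congr Iff.rfl ?_
  exact forall_congr' fun U => forall_congr' fun R => forall_congr' fun _ =>
    isPrestackFor_iff_of_equiv F hF R

end stackfor

end Groth.Agent.Helper19.StackLib
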