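import Mathlib
import Groth.Agent.Lib.Helper19.StLib
import Groth.Agent.Lib.Helper19.StackLib

/-!
# Invariance of `IsAlgStack`, `IsDM` under equivalences over `(Sch/S)` (helper19)
-/

set_option autoImplicit false
set_option backward.isDefEq.respectTransparency false

universe w₄ v₄ w₃ v₃ w' v' w v u

open CategoryTheory CategoryTheory.Limits Functor AlgebraicGeometry Opposite

namespace Groth.Agent.Helper19.StLib

open FibCat AlgSt Groth.Agent.Helper19.FibLib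

section general

variable {C : Type u} [Category.{v} C] {𝒳 : BasedCategory.{v₃, w₃} C} {𝒴 : BasedCategory.{v₄, w₄} C}

/-- the structure functor is compatible with functors over the base. -/
def toSelfIso (e : 𝒳 ⥤ᵇ 𝒴) : BasedFunctor.comp (toSelf 𝒳) (BasedFunctor.id (selfOver C)) ≅
    BasedFunctor.comp e (toSelf 𝒴) :=
  mkIso (fun x => eqToIso (e.w_obj x).symm)
    (fun {x y} f => by
      have := Functor.congr_hom e.w f
      simp only [Functor.comp_map] at this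
      show 𝒳.p.map f ≫ eqToHom (e.w_obj y).symm = eqToHom (e.w_obj x).symm ≫ 𝒴.p.map (e.map f)
      rw [this]
      simp)
    (fun x => by
      apply IsHomLift.of_fac (selfOver C).p _ _ rfl (e.w_obj x)
      simp only [eqToIso.hom, eqToHom_refl, Category.id_comp]
      rw [eqToHom_map, eqToHom_trans, eqToHom_refl]
      rfl)

/-- the functor induced on the self-products by a functor over the base. -/
def selfProdMap (e : 𝒳 ⥤ᵇ 𝒴) : fp (toSelf 𝒳) (toSelf 𝒳) ⥤ᵇ fp (toSelf 𝒴) (toSelf 𝒴) :=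
  fpMap e e (BasedFunctor.id (selfOver C)) (toSelfIso e) (toSelfIso e)

theorem isEquivOver_selfProdMap (e : 𝒳 ⥤ᵇ 𝒴) (he : IsEquivOver e) : IsEquivOver (selfProdMap e) := by
  have h1 : (BasedFunctor.id (selfOver C)).toFunctor.Full := inferInstanceAs (𝟭 C).Full
  have h2 : (BasedFunctor.id (selfOver C)).toFunctor.Faithful := inferInstanceAs (𝟭 C).Faithful
  exact isEquivOver_fpMap _ _ _ _ _ he he

/-- the diagonal square. -/
def diagSelfIso (e : 𝒳 ⥤ᵇ 𝒴) : BasedFunctor.comp (diag (toSelf 𝒳)) (selfProdMap e) ≅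
    BasedFunctor.comp e (diag (toSelf 𝒴)) :=
  fpFunctorIso _ _ (Iso.refl _) (Iso.refl _) (fun x => by
    simp [selfProdMap, FibCat.diag, toSelfIso])

end general

section algst

variable {S : Scheme.{u}}

theorem repByAlgSp1_iff_top' {𝒳 : BasedCategory.{v, w} (Over S)} {𝒴 : BasedCategory.{v', w'} (Over S)}
    (f : 𝒳 ⥤ᵇ 𝒴) : RepByAlgSp1 f ↔ RepByAlgSpWith ⊤ f := by
  constructor
  · intro h U y
    obtain ⟨X, e, he⟩ := h U y
    exact ⟨X, e, he, trivial⟩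
  · intro h U y
    obtain ⟨X, e, he, -⟩ := h U y
    exact ⟨X, e, he⟩

theorem repByAlgSpWith_diag_toSelf_iff_of_equiv (P : MorphismProperty (AlgSp.Sp S))
    {𝒳 : BasedCategory.{v, w} (Over S)} {𝒴 : BasedCategory.{v', w'} (Over S)} (e : 𝒳 ⥤ᵇ 𝒴)
    (he : IsEquivOver e) :
    RepByAlgSpWith P (FibCat.diag (toSelf 𝒳)) ↔ RepByAlgSpWith P (FibCat.diag (toSelf 𝒴)) :=
  (repByAlgSpWith_iff_of_square (FibCat.diag (toSelf 𝒴)) (FibCat.diag (toSelf 𝒳)) e (selfProdMap e) he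
    (isEquivOver_selfProdMap e he) (diagSelfIso e)).symm

theorem hasAtlas_iff_of_equiv (P : MorphismProperty (AlgSp.Sp S))
    {𝒳 : BasedCategory.{v, w} (Over S)} {𝒴 : BasedCategory.{v', w'} (Over S)} (e : 𝒳 ⥤ᵇ 𝒴)
    (he : IsEquivOver e) : HasAtlas P 𝒳 ↔ HasAtlas P 𝒴 := by
  constructor
  · rintro ⟨U, x, h1, h2⟩
    exact ⟨U, BasedFunctor.comp x e, (repByAlgSpWith_comp_equiv x e he).2 h1,
      (repByAlgSpWith_comp_equiv x e he).2 h2⟩
  · rintro ⟨U, x, h1, h2⟩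
    obtain ⟨e', he', -, ⟨ε⟩⟩ := IsEquivOver.exists_inv he
    exact ⟨U, BasedFunctor.comp x e', (repByAlgSpWith_comp_equiv x e' he').2 h1,
      (repByAlgSpWith_comp_equiv x e' he').2 h2⟩

theorem isAlgStack_iff_of_equiv (K : Precoverage Scheme.{u}) {𝒳 𝒴 : AlgSt.Cat S} (e : 𝒳 ⥤ᵇ 𝒴)
    (he : IsEquivOver e) : IsAlgStack K 𝒳 ↔ IsAlgStack K 𝒴 := by
  have h1 : Stk.IsStack (QuotSh.J K S) 𝒳 ↔ Stk.IsStack (QuotSh.J K S) 𝒴 :=
    Groth.Agent.Helper19.StackLib.isStack_iff_of_equiv (QuotSh.J K S) e he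
  have h2 : RepByAlgSp1 (FibCat.diag (toSelf 𝒳)) ↔ RepByAlgSp1 (FibCat.diag (toSelf 𝒴)) := by
    rw [repByAlgSp1_iff_top', repByAlgSp1_iff_top']
    exact repByAlgSpWith_diag_toSelf_iff_of_equiv ⊤ e he
  have h3 := hasAtlas_iff_of_equiv (AlgSp.LocP @Smooth) e he
  constructor
  · rintro ⟨a, b, c⟩
    exact ⟨h1.1 a, h2.1 b, h3.1 c⟩
  · rintro ⟨a, b, c⟩
    exact ⟨h1.2 a, h2.2 b, h3.2 c⟩

theorem isDM_iff_of_equiv (K : Precoverage Scheme.{u}) {𝒳 𝒴 : AlgSt.Cat S} (e : 𝒳 ⥤ᵇ 𝒴)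
    (he : IsEquivOver e) : IsDM K 𝒳 ↔ IsDM K 𝒴 := by
  unfold IsDM
  rw [isAlgStack_iff_of_equiv K e he, hasAtlas_iff_of_equiv AlgSp.IsEtaleMor e he]

end algst

end Groth.Agent.Helper19.StLib
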