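import Mathlib
import Groth.Agent.Lib.Helper19.DiagAlgSp
import Groth.Agent.Lib.Helper19.StLib2
import Groth.Agent.Lib.Helper19.AlgStInv
import Groth.Agent.Lib.Helper19.PshStack
import Groth.Agent.Lib.Helper15.AlgSpPoints
import Groth.Agent.Lib.Helper15.AlgSpLocP2

/-!
# A category representable by an algebraic space is a Deligne-Mumford stack (helper19)
-/

set_option autoImplicit false
set_option backward.isDefEq.respectTransparency false

universe w₄ v₄ w₃ v₃ w' v' w v u

open CategoryTheory CategoryTheory.Limits Functor AlgebraicGeometry Opposite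

namespace Groth.Agent.Helper19.DMLib

open FibCat AlgSt Stk Groth.Agent.Helper19.FibLib Groth.Agent.Helper19.StLib Groth.Agent.Helper19.PshLib
  Groth.Agent.Helper19.PshSt Groth.Agent.Helper19.DiagLib Groth.Agent.Helper19.DiagAlgSp

variable {S : Scheme.{u}}

instance isSurjectiveMor_respectsIso :
    (AlgSp.IsSurjectiveMor : MorphismProperty (AlgSp.Sp S)).RespectsIso := by
  apply MorphismProperty.RespectsIso.mk
  · intro X Y Z e f hf z
    obtain ⟨y, hy⟩ := hf z
    refine ⟨AlgSp.Points.map e.inv y, ?_⟩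
    rw [AlgSp.Points.map_comp, ← AlgSp.Points.map_comp e.inv e.hom, e.inv_hom_id, AlgSp.Points.map_id, hy]
  · intro X Y Z e f hf z
    obtain ⟨x, hx⟩ := hf (AlgSp.Points.map e.inv z)
    refine ⟨x, ?_⟩
    rw [AlgSp.Points.map_comp, hx, ← AlgSp.Points.map_comp e.inv e.hom, e.inv_hom_id, AlgSp.Points.map_id]

instance isEtaleMor_respectsIso :
    (AlgSp.IsEtaleMor : MorphismProperty (AlgSp.Sp S)).RespectsIso := by
  apply MorphismProperty.RespectsIso.mk
  · intro X Y Z e f hf U φ hφ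
    have h1 : AlgSp.RepWith @Etale (φ ≫ e.hom) := MorphismProperty.RespectsIso.postcomp _ _ _ hφ
    have h2 := hf (φ ≫ e.hom) h1
    rwa [Category.assoc] at h2
  · intro X Y Z e f hf U φ hφ
    have h1 := hf φ hφ
    have h2 : AlgSp.RepWith @Etale ((φ ≫ f) ≫ e.hom) := MorphismProperty.RespectsIso.postcomp _ _ _ h1
    rwa [Category.assoc] at h2

theorem isEtaleMor_of_repWith' {F G : AlgSp.Sp S} (f : F ⟶ G) (hf : AlgSp.RepWith @Etale f) :
    AlgSp.IsEtaleMor f :=
  fun _ _ hφ => (AlgSp.repWith_isMultiplicative (S := S) @Etale).comp_mem _ _ hφ hf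

theorem locP_smooth_of_repWith_etale {F G : AlgSp.Sp S} (f : F ⟶ G) (hf : AlgSp.RepWith @Etale f) :
    AlgSp.LocP @Smooth f := by
  have h1 : AlgSp.LocP @Etale f := Groth.Agent.Helper15.locP_of_repWith (P := @Etale) le_rfl f hf
  refine Groth.Agent.Helper15.locP_mono ?_ h1
  intro A B g hg
  have : Etale g := hg
  exact (inferInstance : Smooth g)

/-- the chart of an algebraic space attached to a map from a scheme. -/
theorem hasAtlas_ofSp (X : AlgSp.Space S) (Q : MorphismProperty (AlgSp.Sp S)) [Q.RespectsIso]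
    (hQ : ∀ ⦃F G : AlgSp.Sp S⦄ (f : F ⟶ G), AlgSp.RepWith @Etale f → Q f) :
    HasAtlas Q (ofSp X.obj) := by
  obtain ⟨U, p, hpe, hps⟩ := X.property.atlas
  refine ⟨U, BasedFunctor.comp (ofOverCat U) (ofPshMap p.hom), ?_, ?_⟩
  · rw [repByAlgSpWith_equiv_comp _ (isEquivOver_ofOverCat U)]
    exact repByAlgSpWith_ofPshMap_of_repWith @Etale Q hQ p hpe
  · rw [repByAlgSpWith_equiv_comp _ (isEquivOver_ofOverCat U)]
    exact repByAlgSpWith_ofPshMap_of_repWith @Surjective AlgSp.IsSurjectiveMor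
      (fun F G f hf => Groth.Agent.Helper15.isSurjectiveMor_of_repWith_surjective f hf) p hps

theorem isDM_ofSp (X : AlgSp.Space S) : IsDM Scheme.fppfPrecoverage (ofSp X.obj) := by
  refine ⟨⟨?_, ?_, ?_⟩, ?_⟩
  · exact (isStack_ofPsh_iff _ X.obj.obj).2 ((isSheaf_iff_isSheaf_of_type _ _).1 X.obj.property)
  · rw [repByAlgSp1_diag_iff]
    intro U x
    exact repByAlgSp1_of_repByAlgSp (repByAlgSp_overCat U) (repByAlgSp_ofSp X) x
  · exact hasAtlas_ofSp X _ (fun F G f hf => locP_smooth_of_repWith_etale f hf)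
  · exact hasAtlas_ofSp X _ (fun F G f hf => isEtaleMor_of_repWith' f hf)

theorem isDM_of_repByAlgSp {𝒳 : AlgSt.Cat S} (hr : RepByAlgSp 𝒳) : IsDM Scheme.fppfPrecoverage 𝒳 := by
  obtain ⟨X, e, he⟩ := hr
  exact (isDM_iff_of_equiv _ e he).1 (isDM_ofSp X)

end Groth.Agent.Helper19.DMLib
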