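import Mathlib
import Groth.Agent.Lib.Helper19.BootSt
import Groth.Agent.Lib.Helper19.CompLib
import Groth.Agent.Lib.Helper19.DMLib

/-!
# Base change of functors representable by algebraic spaces with a property to algebraic spaces;
composition (helper19)
-/

set_option autoImplicit false
set_option backward.isDefEq.respectTransparency false

universe w₄ v₄ w₃ v₃ w' v' w v u

open CategoryTheory CategoryTheory.Limits Functor AlgebraicGeometry Opposite

namespace Groth.Agent.Helper19.AlgP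

open FibCat AlgSt Stk Groth.Agent.Helper19.FibLib Groth.Agent.Helper19.StLib Groth.Agent.Helper19.PshLib
  Groth.Agent.Helper19.PshSt Groth.Agent.Helper19.DiagLib Groth.Agent.Helper19.DiagAlgSp
  Groth.Agent.Helper19.FibSetPsh Groth.Agent.Helper19.Bootstrap Groth.Agent.Helper19.BootSt
  Groth.Agent.Helper19.CompLib

variable {S : Scheme.{u}}

/-- the restriction of a property of morphisms of sheaves to morphisms between algebraic spaces. -/
def algP (P : MorphismProperty (AlgSp.Sp S)) : MorphismProperty (AlgSp.Sp S) :=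
  fun X Y f => AlgSp.IsAlgSpace X → AlgSp.IsAlgSpace Y → P f

theorem repByAlgSpWith_algP_iff (P : MorphismProperty (AlgSp.Sp S)) {𝒳 : BasedCategory.{v, w} (Over S)}
    {𝒴 : BasedCategory.{v', w'} (Over S)} (f : 𝒳 ⥤ᵇ 𝒴) :
    RepByAlgSpWith (algP P) f ↔ RepByAlgSpWith P f := by
  constructor
  · intro h U y
    obtain ⟨F, e, he, hP⟩ := h U y
    exact ⟨F, e, he, hP F.property (AlgSp.IsAlgSpace.yon_obj U)⟩
  · intro h U y
    obtain ⟨F, e, he, hP⟩ := h U y
    exact ⟨F, e, he, fun _ _ => hP⟩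

/-- stability under base change among algebraic spaces. -/
def StableAlg (P : MorphismProperty (AlgSp.Sp S)) : Prop :=
  ∀ ⦃X₁ Y₁ X₂ Y₂ : AlgSp.Sp S⦄, AlgSp.IsAlgSpace X₁ → AlgSp.IsAlgSpace Y₁ → AlgSp.IsAlgSpace X₂ →
      AlgSp.IsAlgSpace Y₂ → ∀ (a : X₁ ⟶ Y₁) (b : Y₂ ⟶ Y₁) (a' : X₂ ⟶ Y₂) (b' : X₂ ⟶ X₁),
      IsPullback b' a' a b → P a → P a'

theorem algP_respectsIso {P : MorphismProperty (AlgSp.Sp S)} (hPb : StableAlg P) :
    (algP P).RespectsIso := by
  apply MorphismProperty.RespectsIso.mk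
  · intro X Y Z e f hf hX hZ
    have hY : AlgSp.IsAlgSpace Y := hX.of_iso e
    have sq : IsPullback e.hom (e.hom ≫ f) f (𝟙 Z) :=
      IsPullback.of_horiz_isIso ⟨by rw [Category.comp_id]⟩
    exact hPb hY hZ hX hZ f (𝟙 Z) (e.hom ≫ f) e.hom sq (hf hY hZ)
  · intro X Y Z e f hf hX hZ
    have hY : AlgSp.IsAlgSpace Y := hZ.of_iso e.symm
    have sq : IsPullback (𝟙 X) (f ≫ e.hom) f e.inv :=
      IsPullback.of_horiz_isIso ⟨by rw [Category.id_comp, Category.assoc, e.hom_inv_id, Category.comp_id]⟩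
    exact hPb hX hY hX hZ f e.inv (f ≫ e.hom) (𝟙 X) sq (hf hX hY)

/-- descent of a property along an etale atlas of the target. -/
def DescAtlas (P : MorphismProperty (AlgSp.Sp S)) : Prop :=
  ∀ ⦃X Y : AlgSp.Sp S⦄ (f : X ⟶ Y), AlgSp.IsAlgSpace X → AlgSp.IsAlgSpace Y →
    ∀ (U : Over S) (q : (AlgSp.yon S).obj U ⟶ Y), AlgSp.RepWith @Etale q → AlgSp.RepWith @Surjective q →
      AlgSp.IsAlgSpace (pullback f q) → P (pullback.snd f q) → P f

theorem descAtlas_of_isLocalOnBase {P : MorphismProperty (AlgSp.Sp S)}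
    (hP : AlgSp.IsLocalOnBase AlgSp.IsFppfCover P) : DescAtlas P := by
  intro X Y f hX hY U q hqe hqs hpb hPq
  have h1 : AlgSp.LocP @Etale q := Groth.Agent.Helper15.locP_of_repWith (P := @Etale) le_rfl q hqe
  have hflat : AlgSp.LocP @Flat q := by
    refine Groth.Agent.Helper15.locP_mono ?_ h1
    intro A B g hg
    have : Etale g := hg
    exact (inferInstance : Flat g)
  have hlfp : AlgSp.LocP @LocallyOfFinitePresentation q := by
    refine Groth.Agent.Helper15.locP_mono ?_ h1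
    intro A B g hg
    have : Etale g := hg
    exact (inferInstance : LocallyOfFinitePresentation g)
  have hsurj := Groth.Agent.Helper15.isSurjectiveMor_of_repWith_surjective q hqs
  have hcov : AlgSp.IsFppfCover (fun _ : PUnit.{u + 1} => (AlgSp.yon S).obj U) (fun _ => q) :=
    ⟨fun _ => ⟨hflat, hlfp⟩, fun x => ⟨PUnit.unit, hsurj x⟩⟩
  exact (hP (fun _ : PUnit.{u + 1} => (AlgSp.yon S).obj U) (fun _ => q) hY
    (fun _ => AlgSp.IsAlgSpace.yon_obj U) hcov f hX (fun _ => pullback f q)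
    (fun _ => pullback.snd f q) (fun _ => pullback.fst f q) (fun _ => hpb)
    (fun _ => IsPullback.of_hasPullback f q)).2 (fun _ => hPq)

/-- The base change of a functor representable by algebraic spaces with `P` along a functor from (the category
of) an algebraic space is a morphism of algebraic spaces with `P`. -/
theorem exists_rep_fp_of_space {P : MorphismProperty (AlgSp.Sp S)} (hPb : StableAlg P) (hP : DescAtlas P)
    {𝒳 𝒴 : AlgSt.Cat S} (h𝒳 : IsFibGrpd 𝒳.p) (h𝒴 : IsFibGrpd 𝒴.p) (f : 𝒳 ⥤ᵇ 𝒴)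
    (hf : RepByAlgSpWith P f) (A : AlgSp.Space S) (y' : ofSp A.obj ⥤ᵇ 𝒴) :
    ∃ (B : AlgSp.Space S) (eB : ofSp B.obj ⥤ᵇ fp y' f) (β : B.obj ⟶ A.obj), IsEquivOver eB ∧
      Nonempty (BasedFunctor.comp eB (fpFst y' f) ≅ ofSpMap β) ∧ P β := by
  have := algP_respectsIso hPb
  have hf1 : RepByAlgSp1 f := fun U y => by
    obtain ⟨X, e, he, -⟩ := hf U y
    exact ⟨X, e, he⟩
  obtain ⟨B, eB, heB⟩ := repByAlgSp_fp_of_repByAlgSp1 h𝒳 h𝒴 (Stk.isFibGrpd_ofPsh A.obj.obj) f y' hf1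
    (repByAlgSp_ofSp A)
  let Φ : ofSp B.obj ⥤ᵇ ofSp A.obj := BasedFunctor.comp eB (fpFst y' f)
  let β : B.obj ⟶ A.obj := ObjectProperty.homMk (pshMapOf Φ)
  let θ : Φ ≅ ofSpMap β := isoOfPshMap Φ
  refine ⟨B, eB, β, heB, ⟨θ⟩, ?_⟩
  have hf' : RepByAlgSpWith (algP P) f := (repByAlgSpWith_algP_iff P f).2 hf
  have h0 : RepByAlgSpWith (algP P) (fpFst y' f) := repByAlgSpWith_fpFst f y' hf'
  have h1 : RepByAlgSpWith (algP P) (ofSpMap β) :=
    repByAlgSpWith_of_iso θ.symm ((repByAlgSpWith_equiv_comp eB heB (fpFst y' f)).2 h0)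
  have h2 : AlgSp.RepBySpWith (algP P) β.hom := (repBySpWith_iff (algP P) β.hom).2 h1
  obtain ⟨U, q, hqe, hqs⟩ := A.property.atlas
  have sq := IsPullback.of_hasPullback β q
  have sqp := sq.map (sheafToPresheaf (AlgSp.J S) (Type (u + 1)))
  obtain ⟨h, hA, hQ⟩ := h2 q.hom _ _ sqp
  have hA' : AlgSp.IsAlgSpace (pullback β q) := hA
  exact hP β B.property A.property U q hqe hqs hA' (hQ hA (AlgSp.IsAlgSpace.yon_obj U))

/-- stability under composition among algebraic spaces. -/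
def CompAlg (P : MorphismProperty (AlgSp.Sp S)) : Prop :=
  ∀ ⦃X Y Z : AlgSp.Sp S⦄, AlgSp.IsAlgSpace X → AlgSp.IsAlgSpace Y → AlgSp.IsAlgSpace Z →
      ∀ (a : X ⟶ Y) (b : Y ⟶ Z), P a → P b → P (a ≫ b)

/-- Functors representable by algebraic spaces with `P` compose. -/
theorem repByAlgSpWith_comp {P : MorphismProperty (AlgSp.Sp S)} (hPb : StableAlg P) (hPc : CompAlg P)
    (hP : DescAtlas P) {𝒳 𝒴 𝒵 : AlgSt.Cat S} (h𝒳 : IsFibGrpd 𝒳.p) (h𝒴 : IsFibGrpd 𝒴.p)
    (f : 𝒳 ⥤ᵇ 𝒴) (g : 𝒴 ⥤ᵇ 𝒵) (hf : RepByAlgSpWith P f) (hg : RepByAlgSpWith P g) :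
    RepByAlgSpWith P (BasedFunctor.comp f g) := by
  intro T t
  obtain ⟨A, eA, heA, hα⟩ := hg T t
  obtain ⟨B, eB, β, heB, ⟨θ⟩, hβ⟩ :=
    exists_rep_fp_of_space hPb hP h𝒳 h𝒴 f hf A (BasedFunctor.comp eA (fpSnd t g))
  refine ⟨B, BasedFunctor.comp eB (BasedFunctor.comp (fpPre eA (fpSnd t g) f) (pasteRInv t g f)),
    IsEquivOver.comp heB (IsEquivOver.comp (isEquivOver_fpPre eA heA (fpSnd t g) f)
      (isEquivOver_pasteRInv t g f)), ?_⟩
  have e1 : spMapOfOver (BasedFunctor.comp (BasedFunctor.comp eB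
      (BasedFunctor.comp (fpPre eA (fpSnd t g) f) (pasteRInv t g f))) (fpFst t (BasedFunctor.comp f g))) =
      spMapOfOver (BasedFunctor.comp (ofSpMap β) (BasedFunctor.comp eA (fpFst t g))) :=
    spMapOfOver_eq_of_iso (whiskerRightIso θ (BasedFunctor.comp eA (fpFst t g)))
  rw [e1, spMapOfOver_ofSpMap_comp]
  exact hPc B.property A.property (AlgSp.IsAlgSpace.yon_obj T) β _ hβ hα

end Groth.Agent.Helper19.AlgP
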