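import Mathlib
import Groth.Agent.Lib.Helper19.AlgP
import Groth.Agent.Lib.Helper19.StLib
import Groth.Agent.S6401

/-!
# The diagonal of a composite (helper19)

`Δ_{g ∘ f} = (𝒳 ×_𝒴 𝒳 ⟶ 𝒳 ×_𝒵 𝒳) ∘ Δ_f`, the second factor being a base change of `Δ_g`.
-/

set_option autoImplicit false
set_option backward.isDefEq.respectTransparency false

universe w₄ v₄ w₃ v₃ w' v' w v u

open CategoryTheory CategoryTheory.Limits Functor AlgebraicGeometry Opposite

namespace Groth.Agent.Helper19.DiagComp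

open FibCat AlgSt Stk Groth.Agent.Helper19.FibLib Groth.Agent.Helper19.StLib Groth.Agent.Helper19.AlgP

section general

variable {C : Type*} [Category C] {𝒳 : BasedCategory.{v, w} C} {𝒴 : BasedCategory.{v', w'} C}
  {𝒵 : BasedCategory.{v₃, w₃} C} (f : 𝒳 ⥤ᵇ 𝒴) (g : 𝒴 ⥤ᵇ 𝒵)

/-- the 2-isomorphism used to compare `𝒳 ×_𝒴 𝒳` with `𝒳 ×_𝒵 𝒳`. -/
def cmpE : BasedFunctor.comp (fpFst f f) (BasedFunctor.comp f g) ≅
    BasedFunctor.comp (fpSnd f f) (BasedFunctor.comp f g) :=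
  whiskerRightIso (fpIso f f) g

theorem cmpE_app (x : (fp f f).obj) : (cmpE f g).hom.toNatTrans.app x = g.map x.obj.iso.hom := rfl

/-- the diagonal of a composite factors through the diagonal of the first functor. -/
def diagCompIso : diag (BasedFunctor.comp f g) ≅
    BasedFunctor.comp (diag f) (cmpI f f g (cmpE f g)) :=
  fpFunctorIso _ _ (Iso.refl _) (Iso.refl _) (fun x => by
    simp
    erw [cmpE_app]
    simp)

end general

section comp

variable {S : Scheme.{u}} {P : MorphismProperty (AlgSp.Sp S)}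

/-- a property of the diagonals of `f` and `g` passes to the diagonal of the composite. -/
theorem repByAlgSpWith_diag_comp (hPb : StableAlg P) (hPc : CompAlg P) (hP : DescAtlas P)
    {𝒳 𝒴 𝒵 : AlgSt.Cat S} (h𝒳 : IsFibGrpd 𝒳.p) (h𝒴 : IsFibGrpd 𝒴.p)
    (f : 𝒳 ⥤ᵇ 𝒴) (g : 𝒴 ⥤ᵇ 𝒵) (hf : RepByAlgSpWith P (diag f)) (hg : RepByAlgSpWith P (diag g)) :
    RepByAlgSpWith P (diag (BasedFunctor.comp f g)) := by
  have h1 : RepByAlgSpWith P (cmpI f f g (cmpE f g)) :=
    repByAlgSpWith_cmpI f f g (cmpE f g) (cmpE_app f g) hg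
  have h2 : IsFibGrpd (fp f f).p := Groth.Agent.S6401.result f f h𝒳 h𝒳 h𝒴
  exact repByAlgSpWith_of_iso (diagCompIso f g)
    (repByAlgSpWith_comp hPb hPc hP h𝒳 h2 (diag f) _ hf h1)

end comp

end Groth.Agent.Helper19.DiagComp
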