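import Mathlib
import Groth.Prelude.Def_FibCat2
import Groth.Agent.Lib.Helper19.FibLib2

/-!
# The base change of the relative diagonal is an equalizer of two sections (helper19)

For `F : 𝒳 ⟶ 𝒮` and `t : 𝒲 ⟶ 𝒳 ×_𝒮 𝒳`, with `a, b : 𝒲 ⟶ 𝒳` the two components of `t` and `y = a ⋙ F`, the
two sections `σ₁ = (𝟭, a, 𝟙)`, `σ₂ = (𝟭, b, θ)` of `𝒲 ×_𝒮 𝒳 ⟶ 𝒲` satisfy `𝒲 ×_{𝒳 ×_𝒮 𝒳} 𝒳 ≃ 𝒲 ×_{σ₁, σ₂} 𝒲`.
-/

set_option autoImplicit false
set_option backward.isDefEq.respectTransparency false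

universe v₇ u₇ v₆ u₆ v₅ u₅ v₄ u₄ v₃ u₃ v₂ u₂ v u

open CategoryTheory CategoryTheory.Limits Functor

namespace Groth.Agent.Helper19.DiagFib

open FibCat Groth.Agent.Helper19.FibLib

variable {C : Type u} [Category.{v} C]

variable {𝒳 : BasedCategory.{v₂, u₂} C} {𝒮 : BasedCategory.{v₄, u₄} C} {𝒲 : BasedCategory.{v₅, u₅} C}
  (F : 𝒳 ⥤ᵇ 𝒮) (t : 𝒲 ⥤ᵇ fp F F)

/-- first component of `t`. -/
abbrev dA : 𝒲 ⥤ᵇ 𝒳 := BasedFunctor.comp t (fpFst F F)

/-- second component of `t`. -/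
abbrev dB : 𝒲 ⥤ᵇ 𝒳 := BasedFunctor.comp t (fpSnd F F)

/-- the 2-isomorphism of `t`. -/
def dθ : BasedFunctor.comp (dA F t) F ≅ BasedFunctor.comp (dB F t) F :=
  whiskerLeftIso t (fpIso F F)

@[simp] theorem dθ_hom_app (w : 𝒲.obj) : (dθ F t).hom.toNatTrans.app w = (t.obj w).obj.iso.hom := rfl

@[simp] theorem dθ_inv_app (w : 𝒲.obj) : (dθ F t).inv.toNatTrans.app w = (t.obj w).obj.iso.inv := rfl

/-- the base `y = a ⋙ F`. -/
abbrev dY : 𝒲 ⥤ᵇ 𝒮 := BasedFunctor.comp (dA F t) F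

/-- first section. -/
def σ₁ : 𝒲 ⥤ᵇ fp (dY F t) F :=
  fpLift (F := dY F t) (G := F) (BasedFunctor.id 𝒲) (dA F t) (Iso.refl _)

/-- second section. -/
def σ₂ : 𝒲 ⥤ᵇ fp (dY F t) F :=
  fpLift (F := dY F t) (G := F) (BasedFunctor.id 𝒲) (dB F t) (dθ F t)

@[simp] theorem diag_obj_iso_hom (x : 𝒳.obj) : ((diag F).obj x).obj.iso.hom = 𝟙 (F.obj x) := rfl

@[simp] theorem diag_obj_iso_inv (x : 𝒳.obj) : ((diag F).obj x).obj.iso.inv = 𝟙 (F.obj x) := rfl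

@[simp] theorem diag_obj_fst (x : 𝒳.obj) : ((diag F).obj x).obj.fst = x := rfl

@[simp] theorem diag_obj_snd (x : 𝒳.obj) : ((diag F).obj x).obj.snd = x := rfl

@[simp] theorem diag_map_fst {x x' : 𝒳.obj} (f : x ⟶ x') : ((diag F).map f).hom.fst = f := rfl

@[simp] theorem diag_map_snd {x x' : 𝒳.obj} (f : x ⟶ x') : ((diag F).map f).hom.snd = f := rfl

/-- the first component `α : a w ≅ x` of an object `(w, x, (α, β))`. -/
def iA : BasedFunctor.comp (fpFst t (diag F)) (dA F t) ≅ fpSnd t (diag F) :=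
  whiskerRightIso (fpIso t (diag F)) (fpFst F F)

/-- the second component `β : b w ≅ x`. -/
def iB : BasedFunctor.comp (fpFst t (diag F)) (dB F t) ≅ fpSnd t (diag F) :=
  whiskerRightIso (fpIso t (diag F)) (fpSnd F F)

@[simp] theorem iA_hom_app (z : (fp t (diag F)).obj) :
    (iA F t).hom.toNatTrans.app z = z.obj.iso.hom.hom.fst := rfl

@[simp] theorem iB_hom_app (z : (fp t (diag F)).obj) :
    (iB F t).hom.toNatTrans.app z = z.obj.iso.hom.hom.snd := rfl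

@[simp] theorem iA_inv_app (z : (fp t (diag F)).obj) :
    (iA F t).inv.toNatTrans.app z = z.obj.iso.inv.hom.fst := rfl

@[simp] theorem iB_inv_app (z : (fp t (diag F)).obj) :
    (iB F t).inv.toNatTrans.app z = z.obj.iso.inv.hom.snd := rfl

theorem obj_w (z : (fp t (diag F)).obj) :
    F.map z.obj.iso.hom.hom.fst = (t.obj z.obj.fst).obj.iso.hom ≫ F.map z.obj.iso.hom.hom.snd := by
  have := z.obj.iso.hom.hom.w
  simpa using this

section isoComponents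

variable {𝒴' : BasedCategory.{v₃, u₃} C} {𝒳' : BasedCategory.{v₆, u₆} C} {𝒮' : BasedCategory.{v₇, u₇} C}
  {F' : 𝒳' ⥤ᵇ 𝒮'} {G' : 𝒴' ⥤ᵇ 𝒮'}

@[reassoc (attr := simp)] theorem iso_hom_inv_fst {x y : (fp F' G').obj} (e : x ≅ y) :
    e.hom.hom.fst ≫ e.inv.hom.fst = 𝟙 _ := by
  rw [← fp_comp_fst, e.hom_inv_id]; rfl

@[reassoc (attr := simp)] theorem iso_inv_hom_fst {x y : (fp F' G').obj} (e : x ≅ y) :
    e.inv.hom.fst ≫ e.hom.hom.fst = 𝟙 _ := by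
  rw [← fp_comp_fst, e.inv_hom_id]; rfl

@[reassoc (attr := simp)] theorem iso_hom_inv_snd {x y : (fp F' G').obj} (e : x ≅ y) :
    e.hom.hom.snd ≫ e.inv.hom.snd = 𝟙 _ := by
  rw [← fp_comp_snd, e.hom_inv_id]; rfl

@[reassoc (attr := simp)] theorem iso_inv_hom_snd {x y : (fp F' G').obj} (e : x ≅ y) :
    e.inv.hom.snd ≫ e.hom.hom.snd = 𝟙 _ := by
  rw [← fp_comp_snd, e.inv_hom_id]; rfl

end isoComponents

/-- the 2-isomorphism `σ₁ ≅ σ₂` on `𝒲 ×_{𝒳 ×_𝒮 𝒳} 𝒳`. -/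
def εE : BasedFunctor.comp (fpFst t (diag F)) (σ₁ F t) ≅ BasedFunctor.comp (fpFst t (diag F)) (σ₂ F t) :=
  fpFunctorIso _ _ (Iso.refl _) (iA F t ≪≫ (iB F t).symm) (fun z => by
    simp [σ₁, σ₂]
    rw [obj_w, Category.assoc, ← F.map_comp, iso_hom_inv_snd, F.map_id, Category.comp_id])

/-- the comparison functor. -/
def E : fp t (diag F) ⥤ᵇ fp (σ₁ F t) (σ₂ F t) :=
  fpLift (fpFst t (diag F)) (fpFst t (diag F)) (εE F t)

@[simp] theorem E_map_fst {z z' : (fp t (diag F)).obj} (m : z ⟶ z') :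
    ((E F t).map m).hom.fst = m.hom.fst := rfl

@[simp] theorem E_map_snd {z z' : (fp t (diag F)).obj} (m : z ⟶ z') :
    ((E F t).map m).hom.snd = m.hom.fst := rfl

@[simp] theorem E_obj_fst (z : (fp t (diag F)).obj) : ((E F t).obj z).obj.fst = z.obj.fst := rfl

@[simp] theorem E_obj_snd (z : (fp t (diag F)).obj) : ((E F t).obj z).obj.snd = z.obj.fst := rfl

@[simp] theorem E_obj_iso_hom_fst (z : (fp t (diag F)).obj) :
    ((E F t).obj z).obj.iso.hom.hom.fst = 𝟙 z.obj.fst := rfl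

@[simp] theorem E_obj_iso_hom_snd (z : (fp t (diag F)).obj) :
    ((E F t).obj z).obj.iso.hom.hom.snd = z.obj.iso.hom.hom.fst ≫ z.obj.iso.inv.hom.snd := rfl

/-- the compatibility of a morphism of `𝒲 ×_{𝒳 ×_𝒮 𝒳} 𝒳`, first component. -/
theorem hom_w_fst {z z' : (fp t (diag F)).obj} (m : z ⟶ z') :
    (t.map m.hom.fst).hom.fst ≫ z'.obj.iso.hom.hom.fst = z.obj.iso.hom.hom.fst ≫ m.hom.snd := by
  have h : t.map m.hom.fst ≫ z'.obj.iso.hom = z.obj.iso.hom ≫ (diag F).map m.hom.snd := m.hom.w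
  calc (t.map m.hom.fst).hom.fst ≫ z'.obj.iso.hom.hom.fst
      = (t.map m.hom.fst ≫ z'.obj.iso.hom).hom.fst := rfl
    _ = (z.obj.iso.hom ≫ (diag F).map m.hom.snd).hom.fst := by rw [h]
    _ = z.obj.iso.hom.hom.fst ≫ m.hom.snd := rfl

theorem hom_w_snd {z z' : (fp t (diag F)).obj} (m : z ⟶ z') :
    (t.map m.hom.fst).hom.snd ≫ z'.obj.iso.hom.hom.snd = z.obj.iso.hom.hom.snd ≫ m.hom.snd := by
  have h : t.map m.hom.fst ≫ z'.obj.iso.hom = z.obj.iso.hom ≫ (diag F).map m.hom.snd := m.hom.w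
  calc (t.map m.hom.fst).hom.snd ≫ z'.obj.iso.hom.hom.snd
      = (t.map m.hom.fst ≫ z'.obj.iso.hom).hom.snd := rfl
    _ = (z.obj.iso.hom ≫ (diag F).map m.hom.snd).hom.snd := by rw [h]
    _ = z.obj.iso.hom.hom.snd ≫ m.hom.snd := rfl

theorem E_faithful : (E F t).toFunctor.Faithful := by
  refine ⟨fun {z z'} m m' h => ?_⟩
  have h1 : m.hom.fst = m'.hom.fst := congrArg (fun k => k.hom.fst) h
  apply fp_hom_ext h1
  have e1 := hom_w_fst F t m
  have e2 := hom_w_fst F t m'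
  rw [h1] at e1
  have e3 : z.obj.iso.hom.hom.fst ≫ m.hom.snd = z.obj.iso.hom.hom.fst ≫ m'.hom.snd := e1.symm.trans e2
  have := congrArg (fun k => z.obj.iso.inv.hom.fst ≫ k) e3
  simpa using this

theorem E_full : (E F t).toFunctor.Full := by
  refine ⟨fun {z z'} g => ?_⟩
  have hw : (σ₁ F t).map g.hom.fst ≫ ((E F t).obj z').obj.iso.hom =
      ((E F t).obj z).obj.iso.hom ≫ (σ₂ F t).map g.hom.snd := g.hom.w
  have h1 : g.hom.fst = g.hom.snd := by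
    calc g.hom.fst = g.hom.fst ≫ 𝟙 _ := (Category.comp_id _).symm
      _ = ((σ₁ F t).map g.hom.fst ≫ ((E F t).obj z').obj.iso.hom).hom.fst := rfl
      _ = (((E F t).obj z).obj.iso.hom ≫ (σ₂ F t).map g.hom.snd).hom.fst := by rw [hw]
      _ = 𝟙 _ ≫ g.hom.snd := rfl
      _ = g.hom.snd := Category.id_comp _
  let u : z.obj.fst ⟶ z'.obj.fst := g.hom.fst
  have h2 : (dA F t).map u ≫ z'.obj.iso.hom.hom.fst ≫ z'.obj.iso.inv.hom.snd =
      (z.obj.iso.hom.hom.fst ≫ z.obj.iso.inv.hom.snd) ≫ (dB F t).map u := by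
    calc (dA F t).map u ≫ z'.obj.iso.hom.hom.fst ≫ z'.obj.iso.inv.hom.snd
        = ((σ₁ F t).map g.hom.fst ≫ ((E F t).obj z').obj.iso.hom).hom.snd := rfl
      _ = (((E F t).obj z).obj.iso.hom ≫ (σ₂ F t).map g.hom.snd).hom.snd := by rw [hw]
      _ = (z.obj.iso.hom.hom.fst ≫ z.obj.iso.inv.hom.snd) ≫ (dB F t).map g.hom.snd := rfl
      _ = _ := by rw [← h1]
  let ψ : z.obj.snd ⟶ z'.obj.snd :=
    z.obj.iso.inv.hom.fst ≫ (dA F t).map u ≫ z'.obj.iso.hom.hom.fst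
  have hm : t.map u ≫ z'.obj.iso.hom = z.obj.iso.hom ≫ (diag F).map ψ := by
    apply fp_hom_ext
    · show (dA F t).map u ≫ z'.obj.iso.hom.hom.fst = z.obj.iso.hom.hom.fst ≫ ψ
      simp [ψ]
    · show (dB F t).map u ≫ z'.obj.iso.hom.hom.snd = z.obj.iso.hom.hom.snd ≫ ψ
      calc (dB F t).map u ≫ z'.obj.iso.hom.hom.snd
          = z.obj.iso.hom.hom.snd ≫ z.obj.iso.inv.hom.fst ≫
              ((z.obj.iso.hom.hom.fst ≫ z.obj.iso.inv.hom.snd) ≫ (dB F t).map u) ≫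
                z'.obj.iso.hom.hom.snd := by
            simp only [Category.assoc, iso_inv_hom_fst_assoc, iso_hom_inv_snd_assoc]
        _ = z.obj.iso.hom.hom.snd ≫ z.obj.iso.inv.hom.fst ≫
              ((dA F t).map u ≫ z'.obj.iso.hom.hom.fst ≫ z'.obj.iso.inv.hom.snd) ≫
                z'.obj.iso.hom.hom.snd := by rw [h2]
        _ = z.obj.iso.hom.hom.snd ≫ ψ := by
            simp only [Category.assoc, ψ]
            rw [iso_inv_hom_snd]
            erw [Category.comp_id]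
  refine ⟨fpHomMk u ψ hm, ?_⟩
  apply fp_hom_ext
  · rfl
  · exact h1

theorem E_essSurj (o : (fp (σ₁ F t) (σ₂ F t)).obj) :
    ∃ (z : (fp t (diag F)).obj) (e : (E F t).obj z ≅ o),
      (fp (σ₁ F t) (σ₂ F t)).p.IsHomLift (𝟙 ((fp (σ₁ F t) (σ₂ F t)).p.obj o)) e.hom := by
  let w : 𝒲.obj := o.obj.fst
  let w' : 𝒲.obj := o.obj.snd
  let κ : (σ₁ F t).obj w ≅ (σ₂ F t).obj w' := o.obj.iso
  let γ : w ≅ w' := ⟨κ.hom.hom.fst, κ.inv.hom.fst, iso_hom_inv_fst κ, iso_inv_hom_fst κ⟩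
  let δ : (dA F t).obj w ≅ (dB F t).obj w' :=
    ⟨κ.hom.hom.snd, κ.inv.hom.snd, iso_hom_inv_snd κ, iso_inv_hom_snd κ⟩
  have ow : F.map ((dA F t).map γ.hom) ≫ (t.obj w').obj.iso.hom = F.map δ.hom := by
    have := κ.hom.hom.w
    simpa [σ₁, σ₂] using this
  have nat : F.map ((dA F t).map γ.hom) ≫ (t.obj w').obj.iso.hom =
      (t.obj w).obj.iso.hom ≫ F.map ((dB F t).map γ.hom) := fp_w (t.map γ.hom)
  let β : (dB F t).obj w ≅ (dA F t).obj w := (dB F t).toFunctor.mapIso γ ≪≫ δ.symm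
  have cond : F.map (Iso.refl ((dA F t).obj w)).hom ≫ ((diag F).obj ((dA F t).obj w)).obj.iso.hom =
      (t.obj w).obj.iso.hom ≫ F.map β.hom := by
    have h1 : (t.obj w).obj.iso.hom ≫ F.map ((dB F t).map γ.hom) = F.map δ.hom := nat.symm.trans ow
    simp only [Iso.refl_hom, F.map_id, diag_obj_iso_hom, Category.comp_id, β, Iso.trans_hom,
      Functor.mapIso_hom, Iso.symm_hom, F.map_comp]
    rw [← Category.assoc]
    erw [h1]
    rw [← F.map_comp, δ.hom_inv_id, F.map_id]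
  let ι : t.obj w ≅ (diag F).obj ((dA F t).obj w) := fpIsoMk (Iso.refl _) β cond
  have hι : (fp F F).p.IsHomLift (𝟙 (𝒲.p.obj w)) ι.hom :=
    (fp_isHomLift_iff _ _).2 (IsHomLift.id ((dA F t).w_obj w))
  let z : (fp t (diag F)).obj := fpMk t (diag F) w ((dA F t).obj w) ι hι
  have cond' : (σ₁ F t).map (Iso.refl w).hom ≫ o.obj.iso.hom =
      ((E F t).obj z).obj.iso.hom ≫ (σ₂ F t).map γ.hom := by
    apply fp_hom_ext
    · show 𝟙 w ≫ γ.hom = 𝟙 w ≫ γ.hom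
      rfl
    · show (dA F t).map (𝟙 w) ≫ δ.hom = (𝟙 _ ≫ (δ.hom ≫ (dB F t).map γ.inv)) ≫ (dB F t).map γ.hom
      rw [(dA F t).map_id, Category.id_comp, Category.id_comp, Category.assoc, ← (dB F t).map_comp,
        γ.inv_hom_id, (dB F t).map_id, Category.comp_id]
  refine ⟨z, fpIsoMk (Iso.refl w) γ cond', ?_⟩
  exact (fp_isHomLift_iff _ _).2 (IsHomLift.id rfl)

/-- **The base change of the relative diagonal along `t` is the equalizer of the two sections.** -/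
theorem isEquivOver_E : IsEquivOver (E F t) := by
  have := E_full F t
  have := E_faithful F t
  exact isEquivOver_of_fullyFaithful (E F t) (E_essSurj F t)

theorem E_comp_fpFst : BasedFunctor.comp (E F t) (fpFst (σ₁ F t) (σ₂ F t)) = fpFst t (diag F) := rfl

end Groth.Agent.Helper19.DiagFib
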