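import Mathlib
import Groth.Agent.Lib.Helper19.DiagFib
import Groth.Agent.Lib.Helper19.DiagAlgSp
import Groth.Agent.Lib.Helper19.StLib2
import Groth.Agent.Lib.Helper19.CompLib
import Groth.Agent.Lib.Helper15.AlgSpPsh2
import Groth.Agent.Lib.Helper15.AlgSpDiagMor
import Groth.Agent.Lib.Helper15.AlgSpDescent

/-!
# The relative diagonal of a functor representable by algebraic spaces (helper19)
-/

set_option autoImplicit false
set_option backward.isDefEq.respectTransparency false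

universe w₄ v₄ w₃ v₃ w' v' w v u

open CategoryTheory CategoryTheory.Limits Functor AlgebraicGeometry Opposite

namespace Groth.Agent.Helper19.DiagRep

open FibCat AlgSt Stk Groth.Agent.Helper19.FibLib Groth.Agent.Helper19.StLib Groth.Agent.Helper19.PshLib
  Groth.Agent.Helper19.PshSt Groth.Agent.Helper19.DiagLib Groth.Agent.Helper19.DiagAlgSp
  Groth.Agent.Helper19.DiagFib Groth.Agent.Helper19.CompLib

variable {S : Scheme.{u}}

/-- the property of the equalizer of two sections of a morphism from an algebraic space to a scheme. -/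
def SectionEq (Q : MorphismProperty (AlgSp.Sp S)) : Prop :=
  ∀ (A : AlgSp.Space S) (T : Over S) (a : A.obj ⟶ (AlgSp.yon S).obj T)
    (s₁ s₂ : (AlgSp.yon S).obj T ⟶ A.obj), s₁ ≫ a = 𝟙 _ → s₂ ≫ a = 𝟙 _ → Q (pullback.fst s₁ s₂)

theorem repByAlgSpWith_diag {Q : MorphismProperty (AlgSp.Sp S)} (hQ : SectionEq Q)
    {𝒳 : AlgSt.Cat S} {𝒴 : AlgSt.Cat S} (f : 𝒳 ⥤ᵇ 𝒴) (hf : RepByAlgSp1 f) :
    RepByAlgSpWith Q (FibCat.diag f) := by
  intro T t
  obtain ⟨A, eA, heA⟩ := hf T (dY f t)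
  obtain ⟨s₁, ⟨τ₁⟩⟩ := exists_pshMap_of_equiv (X := ((AlgSp.yon S).obj T).obj) (Y := A.obj.obj)
    (toOverCat T) eA heA (σ₁ f t)
  obtain ⟨s₂, ⟨τ₂⟩⟩ := exists_pshMap_of_equiv (X := ((AlgSp.yon S).obj T).obj) (Y := A.obj.obj)
    (toOverCat T) eA heA (σ₂ f t)
  let s₁' : (AlgSp.yon S).obj T ⟶ A.obj := ObjectProperty.homMk s₁
  let s₂' : (AlgSp.yon S).obj T ⟶ A.obj := ObjectProperty.homMk s₂
  have sq := IsPullback.of_hasPullback s₁' s₂'
  have hW : AlgSp.IsAlgSpace (pullback s₁' s₂') :=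
    Groth.Agent.Helper15.isAlgSpace_of_isPullback A.property.diag (AlgSp.IsAlgSpace.yon_obj T)
      (AlgSp.IsAlgSpace.yon_obj T) sq
  have sqP := IsPullback.map (sheafToPresheaf (AlgSp.J S) (Type (u + 1))) sq
  have h : IsPbSec (pullback.fst s₁' s₂').hom (pullback.snd s₁' s₂').hom s₁ s₂ := IsPbSec.of_isPullback sqP
  have := IsEquivOver.isEquivalence heA
  have hE2 := isEquivOver_pbFunctor_fpMap h (toOverCat T) (isEquivOver_toOverCat T) (toOverCat T)
    (isEquivOver_toOverCat T) eA (σ₁ f t) (σ₂ f t) τ₁ τ₂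
  let a : A.obj ⟶ (AlgSp.yon S).obj T := spMapOfOver (BasedFunctor.comp eA (fpFst (dY f t) f))
  have ha₁ : s₁' ≫ a = 𝟙 _ := by
    rw [← spMapOfOver_ofSpMap_comp, ← spMapOfOver_toOverCat]
    exact spMapOfOver_eq_of_iso (whiskerRightIso τ₁ (fpFst (dY f t) f))
  have ha₂ : s₂' ≫ a = 𝟙 _ := by
    rw [← spMapOfOver_ofSpMap_comp, ← spMapOfOver_toOverCat]
    exact spMapOfOver_eq_of_iso (whiskerRightIso τ₂ (fpFst (dY f t) f))
  have h1 : RepOver Q (fpFst (σ₁ f t) (σ₂ f t)) := by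
    refine ⟨⟨pullback s₁' s₂', hW⟩, _, hE2, ?_⟩
    have e1 : spMapOfOver (BasedFunctor.comp (BasedFunctor.comp (pbFunctor h.w)
        (fpMap (toOverCat T) (toOverCat T) eA τ₁ τ₂)) (fpFst (σ₁ f t) (σ₂ f t))) =
        spMapOfOver (BasedFunctor.comp (ofSpMap (pullback.fst s₁' s₂')) (toOverCat T)) := rfl
    rw [e1]
    have e2 : spMapOfOver (BasedFunctor.comp (ofSpMap (pullback.fst s₁' s₂')) (toOverCat T)) =
        pullback.fst s₁' s₂' :=
      spMapOfOver_ofPshMap_toOverCat (F' := pullback s₁' s₂') (pullback.fst s₁' s₂').hom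
    rw [e2]
    exact hQ A T a s₁' s₂' ha₁ ha₂
  exact RepOver.of_equiv_symm (E f t) (isEquivOver_E f t) (Iso.refl _) h1

/-- The equalizer of two sections is a base change of the relative diagonal. -/
theorem isPullback_fst_diagonal {A : AlgSp.Sp S} {T : AlgSp.Sp S} (a : A ⟶ T)
    (s₁ s₂ : T ⟶ A) (h₁ : s₁ ≫ a = 𝟙 _) (h₂ : s₂ ≫ a = 𝟙 _) :
    IsPullback (pullback.fst s₁ s₂ ≫ s₁) (pullback.fst s₁ s₂) (pullback.diagonal a)
      (pullback.lift s₁ s₂ (by rw [h₁, h₂])) := by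
  have sqP : IsPullback a (𝟙 A) (s₁ ≫ a) a := by
    rw [h₁]
    exact IsPullback.of_vert_isIso ⟨by rw [Category.comp_id, Category.id_comp]⟩
  exact Groth.Agent.Helper15.isPullback_diagonal_of_sections a s₁ s₂ (by rw [h₁, h₂]) sqP s₁ s₂ h₁
    (Category.comp_id _) h₂ (Category.comp_id _) (IsPullback.of_hasPullback s₁ s₂)

theorem sectionEq_mono : SectionEq (S := S) (MorphismProperty.monomorphisms (AlgSp.Sp S)) := by
  intro A T a s₁ s₂ h₁ h₂
  have : Mono s₂ := mono_of_mono_fac h₂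
  exact (inferInstance : Mono (pullback.fst s₁ s₂))

theorem sectionEq_isSeparatedMor : SectionEq (S := S) AlgSp.IsSeparatedMor := by
  intro A T a s₁ s₂ h₁ h₂
  have : Mono s₂ := mono_of_mono_fac h₂
  exact Groth.Agent.Helper15.isSeparatedMor_of_mono (pullback.fst s₁ s₂)

/-- properties of the diagonal that are representable and stable under base change. -/
theorem sectionEq_repWith (P : MorphismProperty Scheme.{u})
    (hP : ∀ (A : AlgSp.Space S) (T : Over S) (a : A.obj ⟶ (AlgSp.yon S).obj T),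
      AlgSp.RepWith P (pullback.diagonal a)) : SectionEq (S := S) (AlgSp.RepWith P) := by
  intro A T a s₁ s₂ h₁ h₂
  exact (AlgSp.RepWith P).of_isPullback (isPullback_fst_diagonal a s₁ s₂ h₁ h₂) (hP A T a)

theorem sectionEq_unramified :
    SectionEq (S := S) (AlgSp.LocP (@LocallyOfFiniteType ⊓ @FormallyUnramified)) := by
  intro A T a s₁ s₂ h₁ h₂
  have hd := Groth.Agent.Helper15.diagonal_properties A.property a
  have sq := isPullback_fst_diagonal a s₁ s₂ h₁ h₂
  have h1 : AlgSp.RepWith @LocallyOfFiniteType (pullback.fst s₁ s₂) :=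
    (AlgSp.RepWith @LocallyOfFiniteType).of_isPullback sq hd.2.1
  have h2 : AlgSp.RepWith (MorphismProperty.monomorphisms Scheme.{u}) (pullback.fst s₁ s₂) :=
    (AlgSp.RepWith (MorphismProperty.monomorphisms Scheme.{u})).of_isPullback sq hd.2.2.1
  have h3 : AlgSp.RepWith (@LocallyOfFiniteType ⊓ @FormallyUnramified) (pullback.fst s₁ s₂) := by
    refine Groth.Agent.Helper15.repWith_mono ?_ (Groth.Agent.Helper15.repWith_inf h1 h2)
    intro X Y g hg
    have : Mono g := hg.2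
    exact ⟨hg.1, inferInstance⟩
  refine Groth.Agent.Helper15.locP_of_repWith ?_ _ h3
  intro X Y g hg
  have : Etale g := hg
  exact ⟨inferInstance, inferInstance⟩

theorem sectionEq_quasiDM :
    SectionEq (S := S) (AlgSp.LocP (@LocallyQuasiFinite ⊓ @LocallyOfFiniteType)) := by
  intro A T a s₁ s₂ h₁ h₂
  have hd := Groth.Agent.Helper15.diagonal_properties A.property a
  have sq := isPullback_fst_diagonal a s₁ s₂ h₁ h₂
  have h3 : AlgSp.RepWith (@LocallyQuasiFinite ⊓ @LocallyOfFiniteType) (pullback.fst s₁ s₂) :=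
    (AlgSp.RepWith (@LocallyQuasiFinite ⊓ @LocallyOfFiniteType)).of_isPullback sq hd.2.2.2.2
  refine Groth.Agent.Helper15.locP_of_repWith ?_ _ h3
  intro X Y g hg
  have : Etale g := hg
  exact ⟨Groth.Agent.Helper15.etale_le_lqf _ _ g hg, inferInstance⟩

end Groth.Agent.Helper19.DiagRep
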