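import Mathlib
import Groth.Prelude.Def_AlgSt
import Groth.Agent.Lib.Helper19.FibLib2

/-!
# Restriction of functors into a 2-fibre product (helper19)

`restr ι (fp F G)` is faithful / full / essentially surjective as soon as the restriction functors of the three
corners are suitably so.
-/

set_option autoImplicit false
set_option backward.isDefEq.respectTransparency false

universe v₇ u₇ v₆ u₆ v₅ u₅ v₄ u₄ v₃ u₃ v₂ u₂ v u

open CategoryTheory CategoryTheory.Limits Functor Opposite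

namespace Groth.Agent.Helper19.FpStack

open FibCat Stk Groth.Agent.Helper19.FibLib

variable {C : Type u} [Category.{v} C]
variable {𝒳 : BasedCategory.{v₂, u₂} C} {𝒴 : BasedCategory.{v₃, u₃} C} {𝒮 : BasedCategory.{v₄, u₄} C}
  (F : 𝒳 ⥤ᵇ 𝒮) (G : 𝒴 ⥤ᵇ 𝒮)
  {𝒜 : BasedCategory.{v₅, u₅} C} {ℬ : BasedCategory.{v₆, u₆} C} (ι : 𝒜 ⥤ᵇ ℬ)

/-- Build a 2-morphism between functors into a 2-fibre product from 2-morphisms of the projections. -/
def fpFunctorHom {𝒲 : BasedCategory.{v₇, u₇} C} (H H' : 𝒲 ⥤ᵇ fp F G)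
    (α : BasedFunctor.comp H (fpFst F G) ⟶ BasedFunctor.comp H' (fpFst F G))
    (β : BasedFunctor.comp H (fpSnd F G) ⟶ BasedFunctor.comp H' (fpSnd F G))
    (w : ∀ x : 𝒲.obj, F.map (α.toNatTrans.app x) ≫ (H'.obj x).obj.iso.hom =
      (H.obj x).obj.iso.hom ≫ G.map (β.toNatTrans.app x)) : H ⟶ H' where
  toNatTrans :=
    { app := fun x => fpHomMk (α.toNatTrans.app x) (β.toNatTrans.app x) (w x)
      naturality := fun {x y} f => fp_hom_ext (α.toNatTrans.naturality f) (β.toNatTrans.naturality f) }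
  isHomLift' := fun x => (fp_isHomLift_iff _ _).2 (α.isHomLift' x)

theorem restr_fp_faithful [(restr ι 𝒳).Faithful] [(restr ι 𝒴).Faithful] :
    (restr ι (fp F G)).Faithful := by
  constructor
  intro H H' α β h
  have h1 : BasedCategory.whiskerRight α (fpFst F G) = BasedCategory.whiskerRight β (fpFst F G) := by
    apply (restr ι 𝒳).map_injective
    have := congrArg (fun γ => BasedCategory.whiskerRight γ (fpFst F G)) h
    exact this
  have h2 : BasedCategory.whiskerRight α (fpSnd F G) = BasedCategory.whiskerRight β (fpSnd F G) := by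
    apply (restr ι 𝒴).map_injective
    have := congrArg (fun γ => BasedCategory.whiskerRight γ (fpSnd F G)) h
    exact this
  apply BasedNatTrans.homCategory.ext
  ext x
  · exact congrArg (fun γ => γ.toNatTrans.app x) h1
  · exact congrArg (fun γ => γ.toNatTrans.app x) h2

theorem restr_fp_full [(restr ι 𝒳).Full] [(restr ι 𝒴).Full] [(restr ι 𝒮).Faithful] :
    (restr ι (fp F G)).Full := by
  constructor
  intro H H' γ
  obtain ⟨α, hα⟩ : ∃ α : BasedFunctor.comp H (fpFst F G) ⟶ BasedFunctor.comp H' (fpFst F G),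
      (restr ι 𝒳).map α = BasedCategory.whiskerRight γ (fpFst F G) :=
    (restr ι 𝒳).map_surjective _
  obtain ⟨β, hβ⟩ : ∃ β : BasedFunctor.comp H (fpSnd F G) ⟶ BasedFunctor.comp H' (fpSnd F G),
      (restr ι 𝒴).map β = BasedCategory.whiskerRight γ (fpSnd F G) :=
    (restr ι 𝒴).map_surjective _
  let L : BasedFunctor.comp (BasedFunctor.comp H (fpFst F G)) F ⟶
      BasedFunctor.comp (BasedFunctor.comp H' (fpSnd F G)) G :=
    BasedCategory.whiskerRight α F ≫ BasedCategory.whiskerLeft H' (fpIso F G).hom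
  let R : BasedFunctor.comp (BasedFunctor.comp H (fpFst F G)) F ⟶
      BasedFunctor.comp (BasedFunctor.comp H' (fpSnd F G)) G :=
    BasedCategory.whiskerLeft H (fpIso F G).hom ≫ BasedCategory.whiskerRight β G
  have hLR : L = R := by
    apply (restr ι 𝒮).map_injective
    apply BasedNatTrans.homCategory.ext
    ext a
    have e1 : α.toNatTrans.app (ι.obj a) = (γ.toNatTrans.app a).hom.fst :=
      congrArg (fun δ => δ.toNatTrans.app a) hα
    have e2 : β.toNatTrans.app (ι.obj a) = (γ.toNatTrans.app a).hom.snd :=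
      congrArg (fun δ => δ.toNatTrans.app a) hβ
    show F.map (α.toNatTrans.app (ι.obj a)) ≫ (H'.obj (ι.obj a)).obj.iso.hom =
      (H.obj (ι.obj a)).obj.iso.hom ≫ G.map (β.toNatTrans.app (ι.obj a))
    rw [e1, e2]
    exact fp_w (γ.toNatTrans.app a)
  refine ⟨fpFunctorHom F G H H' α β (fun x => congrArg (fun δ => δ.toNatTrans.app x) hLR), ?_⟩
  apply BasedNatTrans.homCategory.ext
  ext a
  · exact congrArg (fun δ => δ.toNatTrans.app a) hα
  · exact congrArg (fun δ => δ.toNatTrans.app a) hβ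

theorem restr_fp_essSurj [(restr ι 𝒳).EssSurj] [(restr ι 𝒴).EssSurj] [(restr ι 𝒮).Full]
    [(restr ι 𝒮).Faithful] : (restr ι (fp F G)).EssSurj := by
  constructor
  intro K
  let a : ℬ ⥤ᵇ 𝒳 := (restr ι 𝒳).objPreimage (BasedFunctor.comp K (fpFst F G))
  let e₁ : BasedFunctor.comp ι a ≅ BasedFunctor.comp K (fpFst F G) :=
    (restr ι 𝒳).objObjPreimageIso (BasedFunctor.comp K (fpFst F G))
  let b : ℬ ⥤ᵇ 𝒴 := (restr ι 𝒴).objPreimage (BasedFunctor.comp K (fpSnd F G))
  let e₂ : BasedFunctor.comp ι b ≅ BasedFunctor.comp K (fpSnd F G) :=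
    (restr ι 𝒴).objObjPreimageIso (BasedFunctor.comp K (fpSnd F G))
  let τ : (restr ι 𝒮).obj (BasedFunctor.comp a F) ≅ (restr ι 𝒮).obj (BasedFunctor.comp b G) :=
    whiskerRightIso e₁ F ≪≫ whiskerLeftIso K (fpIso F G) ≪≫ (whiskerRightIso e₂ G).symm
  let θ : BasedFunctor.comp a F ≅ BasedFunctor.comp b G := (restr ι 𝒮).preimageIso τ
  have hθ : ∀ x : 𝒜.obj, θ.hom.toNatTrans.app (ι.obj x) = τ.hom.toNatTrans.app x := fun x => by
    have h1 : (restr ι 𝒮).map θ.hom = τ.hom := (restr ι 𝒮).map_preimage τ.hom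
    exact congrArg (fun δ => δ.toNatTrans.app x) h1
  refine ⟨fpLift a b θ, ⟨fpFunctorIso _ _ e₁ e₂ (fun x => ?_)⟩⟩
  have h2 : ((BasedFunctor.comp ι (fpLift a b θ)).obj x).obj.iso.hom = θ.hom.toNatTrans.app (ι.obj x) := rfl
  have h3 : τ.hom.toNatTrans.app x = F.map (e₁.hom.toNatTrans.app x) ≫ (K.obj x).obj.iso.hom ≫
      G.map (e₂.inv.toNatTrans.app x) := rfl
  have h4 : ((restr ι (fp F G)).obj (fpLift a b θ)).obj x = (BasedFunctor.comp ι (fpLift a b θ)).obj x := rfl
  show F.map (e₁.hom.toNatTrans.app x) ≫ (K.obj x).obj.iso.hom =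
    ((BasedFunctor.comp ι (fpLift a b θ)).obj x).obj.iso.hom ≫ G.map (e₂.hom.toNatTrans.app x)
  rw [h2, hθ x, h3]
  simp only [Category.assoc]
  rw [← G.map_comp, inv_hom_app]
  have h5 : G.map (𝟙 ((BasedFunctor.comp K (fpSnd F G)).obj x)) = 𝟙 _ := G.toFunctor.map_id _
  rw [h5]
  exact (congrArg (fun t => F.map (e₁.hom.toNatTrans.app x) ≫ t) (Category.comp_id _)).symm

end Groth.Agent.Helper19.FpStack
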