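import Mathlib
import Groth.Prelude.Def_AlgSt
import Groth.Agent.Lib.Helper19.FpStack

/-!
# The stack conditions pass up along a morphism whose base changes satisfy them (helper19)

`F : 𝒮 ⟶ 𝒯` over `C`, `ι : 𝒜 ⟶ ℬ` over `C`.  If `restr ι 𝒯` and all `restr ι (fp y F)` (`y : ℬ ⟶ 𝒯`) are
faithful / full / essentially surjective, then so is `restr ι 𝒮` (`𝒯` fibred in groupoids).
-/

set_option autoImplicit false
set_option backward.isDefEq.respectTransparency false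

universe v₇ u₇ v₆ u₆ v₅ u₅ v₄ u₄ v₃ u₃ v₂ u₂ v u

open CategoryTheory CategoryTheory.Limits Functor Opposite

namespace Groth.Agent.Helper19.DescLib

open FibCat Stk Groth.Agent.Helper19.FibLib Groth.Agent.Helper19.FpStack

variable {C : Type u} [Category.{v} C]
variable {𝒮 : BasedCategory.{v₂, u₂} C} {𝒯 : BasedCategory.{v₄, u₄} C} (F : 𝒮 ⥤ᵇ 𝒯)
  {𝒜 : BasedCategory.{v₅, u₅} C} {ℬ : BasedCategory.{v₆, u₆} C} (ι : 𝒜 ⥤ᵇ ℬ)

/-- In a category fibred in groupoids every 2-morphism is invertible. -/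
noncomputable def isoOfHom (h𝒯 : IsFibGrpd 𝒯.p) {G G' : ℬ ⥤ᵇ 𝒯} (δ : G ⟶ G') : G ≅ G' :=
  have hiso : ∀ b : ℬ.obj, IsIso (δ.toNatTrans.app b) := fun b => by
    have h1 : 𝒯.p.IsHomLift (𝟙 (ℬ.p.obj b)) (δ.toNatTrans.app b) := δ.isHomLift' b
    exact isIso_of_isHomLift h𝒯 (𝟙 (ℬ.p.obj b)) (δ.toNatTrans.app b)
  mkIso (fun b => asIso (δ.toNatTrans.app b)) (fun f => δ.toNatTrans.naturality f)
    (fun b => δ.isHomLift' b)

@[simp] theorem isoOfHom_hom_app (h𝒯 : IsFibGrpd 𝒯.p) {G G' : ℬ ⥤ᵇ 𝒯} (δ : G ⟶ G') (b : ℬ.obj) :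
    (isoOfHom h𝒯 δ).hom.toNatTrans.app b = δ.toNatTrans.app b := rfl

theorem isoOfHom_inv_app_comp (h𝒯 : IsFibGrpd 𝒯.p) {G G' : ℬ ⥤ᵇ 𝒯} (δ : G ⟶ G') (b : ℬ.obj) :
    (isoOfHom h𝒯 δ).inv.toNatTrans.app b ≫ δ.toNatTrans.app b = 𝟙 _ :=
  inv_hom_app (isoOfHom h𝒯 δ) b

section sections

variable (h𝒯 : IsFibGrpd 𝒯.p) {x x' : ℬ ⥤ᵇ 𝒮}
  (δ : BasedFunctor.comp x F ⟶ BasedFunctor.comp x' F)

/-- the section of `ℬ ×_𝒯 𝒮 ⟶ ℬ` (over `y = x' ⋙ F`) attached to `x` and `δ : x ⋙ F ⟶ x' ⋙ F`. -/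
noncomputable def secOfHom : ℬ ⥤ᵇ fp (BasedFunctor.comp x' F) F :=
  fpLift (F := BasedFunctor.comp x' F) (G := F) (BasedFunctor.id ℬ) x (isoOfHom h𝒯 δ).symm

/-- the tautological section attached to `x'`. -/
def secTaut (x' : ℬ ⥤ᵇ 𝒮) : ℬ ⥤ᵇ fp (BasedFunctor.comp x' F) F :=
  fpLift (F := BasedFunctor.comp x' F) (G := F) (BasedFunctor.id ℬ) x' (Iso.refl _)

theorem secOfHom_obj_iso_hom (b : ℬ.obj) :
    ((secOfHom F h𝒯 δ).obj b).obj.iso.hom = (isoOfHom h𝒯 δ).inv.toNatTrans.app b := rfl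

theorem secTaut_obj_iso_hom (b : ℬ.obj) :
    ((secTaut F x').obj b).obj.iso.hom = 𝟙 _ := rfl

/-- a 2-morphism `α : x ⟶ x'` inducing `δ` gives a 2-morphism of sections. -/
noncomputable def secHomOfHom (α : x ⟶ x') (hα : BasedCategory.whiskerRight α F = δ) :
    secOfHom F h𝒯 δ ⟶ secTaut F x' :=
  fpFunctorHom (BasedFunctor.comp x' F) F (secOfHom F h𝒯 δ) (secTaut F x') (𝟙 (BasedFunctor.id ℬ)) α
    (fun b => by
      rw [secOfHom_obj_iso_hom, secTaut_obj_iso_hom]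
      have h1 : F.map (α.toNatTrans.app b) = δ.toNatTrans.app b :=
        congrArg (fun γ => γ.toNatTrans.app b) hα
      rw [h1, isoOfHom_inv_app_comp]
      have h2 : (BasedFunctor.comp x' F).map ((𝟙 (BasedFunctor.id ℬ) : BasedFunctor.id ℬ ⟶ _).toNatTrans.app b) =
          𝟙 _ := (BasedFunctor.comp x' F).toFunctor.map_id _
      rw [h2]
      exact Category.comp_id _)

theorem secHomOfHom_app_snd (α : x ⟶ x') (hα : BasedCategory.whiskerRight α F = δ) (b : ℬ.obj) :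
    ((secHomOfHom F h𝒯 δ α hα).toNatTrans.app b).hom.snd = α.toNatTrans.app b := rfl

end sections

theorem restr_faithful_of_fp (h𝒯 : IsFibGrpd 𝒯.p) [(restr ι 𝒯).Faithful]
    (hfp : ∀ y : ℬ ⥤ᵇ 𝒯, (restr ι (fp y F)).Faithful) : (restr ι 𝒮).Faithful := by
  constructor
  intro x x' α β h
  have hδ : BasedCategory.whiskerRight β F = BasedCategory.whiskerRight α F := by
    apply (restr ι 𝒯).map_injective
    have := congrArg (fun γ => BasedCategory.whiskerRight γ F) h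
    exact this.symm
  have := hfp (BasedFunctor.comp x' F)
  have hAB : secHomOfHom F h𝒯 (BasedCategory.whiskerRight α F) α rfl =
      secHomOfHom F h𝒯 (BasedCategory.whiskerRight α F) β hδ := by
    apply (restr ι (fp (BasedFunctor.comp x' F) F)).map_injective
    apply BasedNatTrans.homCategory.ext
    ext a
    · rfl
    · exact congrArg (fun γ => γ.toNatTrans.app a) h
  apply BasedNatTrans.homCategory.ext
  ext b
  exact congrArg (fun γ => (γ.toNatTrans.app b).hom.snd) hAB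

theorem restr_full_of_fp (h𝒯 : IsFibGrpd 𝒯.p) [(restr ι 𝒯).Full]
    (hfp : ∀ y : ℬ ⥤ᵇ 𝒯, (restr ι (fp y F)).Full) : (restr ι 𝒮).Full := by
  constructor
  intro x x' γ
  obtain ⟨δ, hδ⟩ : ∃ δ : BasedFunctor.comp x F ⟶ BasedFunctor.comp x' F,
      (restr ι 𝒯).map δ = BasedCategory.whiskerRight γ F := (restr ι 𝒯).map_surjective _
  have := hfp (BasedFunctor.comp x' F)
  have hδa : ∀ a : 𝒜.obj, δ.toNatTrans.app (ι.obj a) = F.map (γ.toNatTrans.app a) := fun a =>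
    congrArg (fun ε => ε.toNatTrans.app a) hδ
  let Γ : (restr ι (fp (BasedFunctor.comp x' F) F)).obj (secOfHom F h𝒯 δ) ⟶
      (restr ι (fp (BasedFunctor.comp x' F) F)).obj (secTaut F x') :=
    fpFunctorHom (BasedFunctor.comp x' F) F _ _ (𝟙 ι) γ (fun a => by
      have e1 : (((restr ι (fp (BasedFunctor.comp x' F) F)).obj (secOfHom F h𝒯 δ)).obj a).obj.iso.hom =
          (isoOfHom h𝒯 δ).inv.toNatTrans.app (ι.obj a) := rfl
      have e2 : (((restr ι (fp (BasedFunctor.comp x' F) F)).obj (secTaut F x')).obj a).obj.iso.hom = 𝟙 _ := rfl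
      rw [e1, e2, ← hδa a, isoOfHom_inv_app_comp]
      have h2 : (BasedFunctor.comp x' F).map ((𝟙 ι : ι ⟶ ι).toNatTrans.app a) = 𝟙 _ :=
        (BasedFunctor.comp x' F).toFunctor.map_id _
      rw [h2]
      exact Category.comp_id _)
  obtain ⟨A, hA⟩ := (restr ι (fp (BasedFunctor.comp x' F) F)).map_surjective Γ
  refine ⟨BasedCategory.whiskerRight A (fpSnd (BasedFunctor.comp x' F) F), ?_⟩
  apply BasedNatTrans.homCategory.ext
  ext a
  exact congrArg (fun ε => (ε.toNatTrans.app a).hom.snd) hA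

theorem restr_essSurj_of_fp [(restr ι 𝒯).EssSurj]
    (hfp : ∀ y : ℬ ⥤ᵇ 𝒯, (restr ι (fp y F)).EssSurj) : (restr ι 𝒮).EssSurj := by
  constructor
  intro K
  let y : ℬ ⥤ᵇ 𝒯 := (restr ι 𝒯).objPreimage (BasedFunctor.comp K F)
  let θ : BasedFunctor.comp ι y ≅ BasedFunctor.comp K F :=
    (restr ι 𝒯).objObjPreimageIso (BasedFunctor.comp K F)
  have := hfp y
  let K' : 𝒜 ⥤ᵇ fp y F := fpLift ι K θ
  let s : ℬ ⥤ᵇ fp y F := (restr ι (fp y F)).objPreimage K'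
  let e : BasedFunctor.comp ι s ≅ K' := (restr ι (fp y F)).objObjPreimageIso K'
  exact ⟨BasedFunctor.comp s (fpSnd y F), ⟨whiskerRightIso e (fpSnd y F)⟩⟩

/-- If `𝒯` is a stack in groupoids and every base change of `F : 𝒮 ⟶ 𝒯` to a slice is a stack in groupoids, then
`𝒮`, fibred in groupoids, is a stack in groupoids. -/
theorem isStack_of_isStack_fp (J : GrothendieckTopology C) (h𝒮 : IsFibGrpd 𝒮.p) (h𝒯 : IsStack J 𝒯)
    (h : ∀ (U : C) (y : overCat U ⥤ᵇ 𝒯), IsStack J (fp y F)) : IsStack J 𝒮 := by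
  refine ⟨h𝒮, fun U R hR => ?_⟩
  have e𝒯 : (restr (sieveIncl R) 𝒯).IsEquivalence := h𝒯.2 R hR
  have efp : ∀ y : overCat U ⥤ᵇ 𝒯, (restr (sieveIncl R) (fp y F)).IsEquivalence := fun y => (h U y).2 R hR
  have h1 : (restr (sieveIncl R) 𝒮).Faithful :=
    restr_faithful_of_fp F (sieveIncl R) h𝒯.1 (fun y => have := efp y; inferInstance)
  have h2 : (restr (sieveIncl R) 𝒮).Full :=
    restr_full_of_fp F (sieveIncl R) h𝒯.1 (fun y => have := efp y; inferInstance)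
  have h3 : (restr (sieveIncl R) 𝒮).EssSurj :=
    restr_essSurj_of_fp F (sieveIncl R) (fun y => have := efp y; inferInstance)
  exact { }

end Groth.Agent.Helper19.DescLib
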