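import Mathlib
import Groth.Agent.Lib.Helper19.DescLib
import Groth.Agent.Lib.Helper19.DMLib
import Groth.Agent.S6401

/-!
# Stack conditions along morphisms representable by algebraic spaces (helper19)
-/

set_option autoImplicit false
set_option backward.isDefEq.respectTransparency false

universe u

open CategoryTheory CategoryTheory.Limits Functor AlgebraicGeometry Opposite

namespace Groth.Agent.Helper19.DescAlgSt

open FibCat AlgSt Stk Groth.Agent.Helper19.FibLib Groth.Agent.Helper19.StLib Groth.Agent.Helper19.PshLib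
  Groth.Agent.Helper19.PshSt Groth.Agent.Helper19.DiagLib Groth.Agent.Helper19.DiagAlgSp
  Groth.Agent.Helper19.DMLib Groth.Agent.Helper19.DescLib

variable {S : Scheme.{u}}

theorem isStack_of_repByAlgSp {𝒳 : AlgSt.Cat S} (h : RepByAlgSp 𝒳) :
    IsStack (QuotSh.J Scheme.fppfPrecoverage S) 𝒳 :=
  (isDM_of_repByAlgSp h).1.isStack

/-- The source of a morphism representable by algebraic spaces to a stack in groupoids is a stack in groupoids. -/
theorem isStack_of_repByAlgSp1 {𝒳 𝒴 : AlgSt.Cat S} (h𝒳 : IsFibGrpd 𝒳.p)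
    (h𝒴 : IsStack (QuotSh.J Scheme.fppfPrecoverage S) 𝒴) (j : 𝒳 ⥤ᵇ 𝒴) (hj : RepByAlgSp1 j) :
    IsStack (QuotSh.J Scheme.fppfPrecoverage S) 𝒳 :=
  isStack_of_isStack_fp j _ h𝒳 h𝒴 (fun U y => isStack_of_repByAlgSp (hj U y))

theorem isStack_fp_of_repByAlgSp1 {𝒳 𝒴 𝒵 : AlgSt.Cat S} (h𝒳 : IsFibGrpd 𝒳.p) (h𝒵 : IsFibGrpd 𝒵.p)
    (h𝒴 : IsStack (QuotSh.J Scheme.fppfPrecoverage S) 𝒴) (f : 𝒳 ⥤ᵇ 𝒵) (g : 𝒴 ⥤ᵇ 𝒵) (hf : RepByAlgSp1 f) :
    IsStack (QuotSh.J Scheme.fppfPrecoverage S) (fp f g) := by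
  have h1 : IsFibGrpd (fp f g).p := Groth.Agent.S6401.result f g h𝒳 h𝒴.1 h𝒵
  have h2 : RepByAlgSp1 (fpSnd f g) := by
    rw [repByAlgSp1_iff_top] at hf ⊢
    exact repByAlgSpWith_fpSnd f g hf
  exact isStack_of_repByAlgSp1 h1 h𝒴 (fpSnd f g) h2

end Groth.Agent.Helper19.DescAlgSt
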