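import Mathlib
import Groth.Agent.Lib.Helper19.CompLib
import Groth.Agent.Lib.Helper19.DescAlgSt

/-!
# The source of a morphism representable by algebraic spaces to an algebraic stack is algebraic (helper19)
-/

set_option autoImplicit false
set_option backward.isDefEq.respectTransparency false

universe u

open CategoryTheory CategoryTheory.Limits Functor AlgebraicGeometry Opposite

namespace Groth.Agent.Helper19.AlgStRep

open FibCat AlgSt Stk Groth.Agent.Helper19.FibLib Groth.Agent.Helper19.StLib Groth.Agent.Helper19.PshLib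
  Groth.Agent.Helper19.PshSt Groth.Agent.Helper19.DiagLib Groth.Agent.Helper19.DiagAlgSp
  Groth.Agent.Helper19.DMLib Groth.Agent.Helper19.DescLib Groth.Agent.Helper19.DescAlgSt
  Groth.Agent.Helper19.CompLib

variable {S : Scheme.{u}}

theorem repWith_stable (P : MorphismProperty Scheme.{u}) [P.IsStableUnderBaseChange] :
    ∀ ⦃A B A' B' : AlgSp.Sp S⦄ (f : A ⟶ B) (g : B' ⟶ B) (f' : A' ⟶ B') (g' : A' ⟶ A),
      IsPullback g' f' f g → AlgSp.RepWith P f → AlgSp.RepWith P f' :=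
  fun _ _ _ _ _ _ _ _ sq hf => (AlgSp.RepWith P).of_isPullback sq hf

theorem locP_comp_repWith_etale (P : MorphismProperty Scheme.{u}) ⦃A B C : AlgSp.Sp S⦄ (f : A ⟶ B) (g : B ⟶ C)
    (hf : AlgSp.RepWith @Etale f) (hg : AlgSp.LocP P g) : AlgSp.LocP P (f ≫ g) := by
  intro U V a b h ha hb comm
  have ha' : AlgSp.RepWith @Etale (a ≫ f) := (AlgSp.RepWith @Etale).comp_mem _ _ ha hf
  exact hg (a ≫ f) b h ha' hb (by rw [Category.assoc]; exact comm)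

theorem isSurjectiveMor_comp_repWith ⦃A B C : AlgSp.Sp S⦄ (f : A ⟶ B) (g : B ⟶ C)
    (hf : AlgSp.RepWith @Surjective f) (hg : AlgSp.IsSurjectiveMor g) : AlgSp.IsSurjectiveMor (f ≫ g) := by
  intro z
  obtain ⟨y, hy⟩ := hg z
  obtain ⟨x, hx⟩ := Groth.Agent.Helper15.isSurjectiveMor_of_repWith_surjective f hf y
  exact ⟨x, by rw [AlgSp.Points.map_comp, hx, hy]⟩

theorem isEtaleMor_comp_repWith ⦃A B C : AlgSp.Sp S⦄ (f : A ⟶ B) (g : B ⟶ C)
    (hf : AlgSp.RepWith @Etale f) (hg : AlgSp.IsEtaleMor g) : AlgSp.IsEtaleMor (f ≫ g) := by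
  intro U φ hφ
  have h1 : AlgSp.RepWith @Etale (φ ≫ f) := (AlgSp.RepWith @Etale).comp_mem _ _ hφ hf
  have h2 := hg (φ ≫ f) h1
  rwa [Category.assoc] at h2

/-- An atlas of the target pulls back, and then refines by an etale atlas of the algebraic space, to an atlas of the
source. -/
theorem hasAtlas_of_repByAlgSp1 {𝒳 𝒴 : AlgSt.Cat S} (j : 𝒳 ⥤ᵇ 𝒴) (hj : RepByAlgSp1 j)
    (Q : MorphismProperty (AlgSp.Sp S))
    (hQ : ∀ ⦃A B C : AlgSp.Sp S⦄ (f : A ⟶ B) (g : B ⟶ C), AlgSp.RepWith @Etale f → Q g → Q (f ≫ g))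
    (h : HasAtlas Q 𝒴) : HasAtlas Q 𝒳 := by
  obtain ⟨U, u, hu, hus⟩ := h
  obtain ⟨X, e, he⟩ := hj U u
  obtain ⟨W, p, hpe, hps⟩ := X.property.atlas
  let W' : AlgSp.Space S := ⟨(AlgSp.yon S).obj W, AlgSp.IsAlgSpace.yon_obj W⟩
  let p' : W'.obj ⟶ X.obj := p
  let π : ofSp X.obj ⥤ᵇ 𝒳 := BasedFunctor.comp e (fpSnd u j)
  have hπ : RepByAlgSpWith Q π := (repByAlgSpWith_equiv_comp e he _).2 (repByAlgSpWith_fpSnd u j hu)
  have hπs : RepByAlgSpWith AlgSp.IsSurjectiveMor π :=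
    (repByAlgSpWith_equiv_comp e he _).2 (repByAlgSpWith_fpSnd u j hus)
  refine ⟨W, BasedFunctor.comp (ofOverCat W) (BasedFunctor.comp (ofSpMap p') π), ?_, ?_⟩
  · rw [repByAlgSpWith_equiv_comp _ (isEquivOver_ofOverCat W)]
    exact repByAlgSpWith_ofSpMap_comp (AlgSp.RepWith @Etale) Q Q (repWith_stable @Etale) hQ p' hpe π hπ
  · rw [repByAlgSpWith_equiv_comp _ (isEquivOver_ofOverCat W)]
    exact repByAlgSpWith_ofSpMap_comp (AlgSp.RepWith @Surjective) AlgSp.IsSurjectiveMor AlgSp.IsSurjectiveMor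
      (repWith_stable @Surjective) isSurjectiveMor_comp_repWith p' hps π hπs

/-- The diagonal of the source of a morphism representable by algebraic spaces is representable by algebraic spaces
as soon as that of the target is. -/
theorem repByAlgSp1_diag_of_repByAlgSp1 {𝒳 𝒴 : AlgSt.Cat S} (j : 𝒳 ⥤ᵇ 𝒴) (hj : RepByAlgSp1 j)
    (h𝒴 : RepByAlgSp1 (FibCat.diag (toSelf 𝒴))) : RepByAlgSp1 (FibCat.diag (toSelf 𝒳)) := by
  rw [repByAlgSp1_diag_iff]
  intro U x V y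
  have hch := (repByAlgSp1_diag_iff 𝒴).1 h𝒴
  let s : overCat V ⥤ᵇ fp (BasedFunctor.comp y j) j :=
    fpLift (F := BasedFunctor.comp y j) (G := j) (BasedFunctor.id _) y (Iso.refl _)
  have h1 : RepByAlgSp (fp (BasedFunctor.comp y j) (BasedFunctor.comp x j)) :=
    hch U (BasedFunctor.comp x j) V (BasedFunctor.comp y j)
  have h2 : RepByAlgSp (fp (fpSnd (BasedFunctor.comp y j) j) x) :=
    repByAlgSp_of_equiv (pasteR (BasedFunctor.comp y j) j x) (isEquivOver_pasteR _ _ _) h1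
  have h3 : RepByAlgSp (fp s (fpFst (fpSnd (BasedFunctor.comp y j) j) x)) :=
    repByAlgSp_fp _ _ (repByAlgSp_overCat V) h2 (hj V (BasedFunctor.comp y j))
  exact repByAlgSp_of_equiv (pasteLInv s (fpSnd (BasedFunctor.comp y j) j) x)
    (isEquivOver_pasteLInv s (fpSnd (BasedFunctor.comp y j) j) x) h3

theorem isAlgStack_of_repByAlgSp1 {𝒳 𝒴 : AlgSt.Cat S} (h𝒳 : IsFibGrpd 𝒳.p)
    (h𝒴 : IsAlgStack Scheme.fppfPrecoverage 𝒴) (j : 𝒳 ⥤ᵇ 𝒴) (hj : RepByAlgSp1 j) :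
    IsAlgStack Scheme.fppfPrecoverage 𝒳 :=
  ⟨isStack_of_repByAlgSp1 h𝒳 h𝒴.isStack j hj, repByAlgSp1_diag_of_repByAlgSp1 j hj h𝒴.diag,
    hasAtlas_of_repByAlgSp1 j hj _ (locP_comp_repWith_etale @Smooth) h𝒴.atlas⟩

theorem isDM_of_repByAlgSp1 {𝒳 𝒴 : AlgSt.Cat S} (h𝒳 : IsFibGrpd 𝒳.p)
    (h𝒴 : IsDM Scheme.fppfPrecoverage 𝒴) (j : 𝒳 ⥤ᵇ 𝒴) (hj : RepByAlgSp1 j) :
    IsDM Scheme.fppfPrecoverage 𝒳 :=
  ⟨isAlgStack_of_repByAlgSp1 h𝒳 h𝒴.1 j hj, hasAtlas_of_repByAlgSp1 j hj _ isEtaleMor_comp_repWith h𝒴.2⟩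

end Groth.Agent.Helper19.AlgStRep
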