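import Mathlib
import Groth.Agent.Lib.Helper19.AlgStRep

/-!
# Properties of schemes local in the smooth topology, on algebraic stacks (helper19)
-/

set_option autoImplicit false
set_option backward.isDefEq.respectTransparency false

universe w₄ v₄ w₃ v₃ w' v' w v u

open CategoryTheory CategoryTheory.Limits Functor AlgebraicGeometry Opposite

namespace Groth.Agent.Helper19.SmLocLib

open FibCat AlgSt Stk Groth.Agent.Helper19.FibLib Groth.Agent.Helper19.StLib Groth.Agent.Helper19.PshLib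
  Groth.Agent.Helper19.PshSt Groth.Agent.Helper19.DiagLib Groth.Agent.Helper19.DiagAlgSp
  Groth.Agent.Helper19.DMLib Groth.Agent.Helper19.CompLib Groth.Agent.Helper19.AlgStRep

variable {S : Scheme.{u}}

/-- For a property respecting isomorphisms, `RepOver Q π` may be tested on any representing space. -/
theorem RepOver.of_any_equiv {Q : MorphismProperty (AlgSp.Sp S)} [Q.RespectsIso] {T : Over S}
    {𝒲 : BasedCategory.{v, w} (Over S)} {π : 𝒲 ⥤ᵇ overCat T} (h : RepOver Q π)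
    (A : AlgSp.Space S) (e : ofSp A.obj ⥤ᵇ 𝒲) (he : IsEquivOver e) :
    Q (spMapOfOver (BasedFunctor.comp e π)) := by
  obtain ⟨A₀, e₀, he₀, hQ⟩ := h
  obtain ⟨g₀, hg₀, ⟨η⟩, ⟨ε⟩⟩ := IsEquivOver.exists_inv he₀
  let Φ : ofSp A.obj ⥤ᵇ ofSp A₀.obj := BasedFunctor.comp e g₀
  have hΦ : IsEquivOver Φ := IsEquivOver.comp he hg₀
  obtain ⟨i, hi⟩ := exists_iso_of_isEquivOver Φ hΦ
  let i' : A.obj ≅ A₀.obj :=
    { hom := ObjectProperty.homMk i.hom
      inv := ObjectProperty.homMk i.inv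
      hom_inv_id := by apply ObjectProperty.hom_ext; exact i.hom_inv_id
      inv_hom_id := by apply ObjectProperty.hom_ext; exact i.inv_hom_id }
  have θ₁ : e ≅ BasedFunctor.comp Φ e₀ :=
    (eqToIso (BasedFunctor.comp_id e)).symm ≪≫ (whiskerLeftIso e ε).symm ≪≫
      (eqToIso (BasedFunctor.comp_assoc e g₀ e₀)).symm
  have hi' : ofPshMap (pshMapOf Φ) = ofSpMap i'.hom := by rw [← hi]; rfl
  have θ₂ : Φ ≅ ofSpMap i'.hom := isoOfPshMap Φ ≪≫ eqToIso hi'
  have θ₃ : e ≅ BasedFunctor.comp (ofSpMap i'.hom) e₀ := θ₁ ≪≫ whiskerRightIso θ₂ e₀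
  have θ : BasedFunctor.comp e π ≅ BasedFunctor.comp (ofSpMap i'.hom) (BasedFunctor.comp e₀ π) :=
    whiskerRightIso θ₃ π ≪≫ eqToIso (BasedFunctor.comp_assoc _ _ _)
  have h1 : spMapOfOver (BasedFunctor.comp e π) = i'.hom ≫ spMapOfOver (BasedFunctor.comp e₀ π) :=
    (spMapOfOver_eq_of_iso θ).trans (spMapOfOver_ofSpMap_comp i'.hom (BasedFunctor.comp e₀ π))
  rw [h1]
  have : IsIso i'.hom := Iso.isIso_hom i'
  exact MorphismProperty.RespectsIso.precomp Q i'.hom _ hQ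

theorem surjective_of_isSurjectiveMor_yon_map {T T' : Over S} (φ : T ⟶ T')
    (h : AlgSp.IsSurjectiveMor ((AlgSp.yon S).map φ)) : Function.Surjective φ.left := by
  intro v
  obtain ⟨x, hx⟩ := h (AlgSp.Points.schemeHomeo T' v)
  obtain ⟨t, rfl⟩ := (AlgSp.Points.schemeHomeo T).surjective x
  rw [AlgSp.Points.map_yon_map_apply] at hx
  exact ⟨t, (AlgSp.Points.schemeHomeo T').injective hx⟩

/-- A property of schemes local in the smooth topology which holds for one smooth surjective scheme chart holds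
smooth locally. -/
theorem smoothLocally_of_chart {𝒳 : AlgSt.Cat S} (P : Scheme.{u} → Prop)
    (hP : ∀ (U : Scheme.{u}) (R : Presieve U), R ∈ Scheme.precoverage @Smooth U →
      (P U ↔ ∀ ⦃V : Scheme.{u}⦄ (g : V ⟶ U), R g → P V))
    {W : Over S} (w : overCat W ⥤ᵇ 𝒳) (hw₁ : RepByAlgSpWith (AlgSp.LocP @Smooth) w)
    (hw₂ : RepByAlgSpWith AlgSp.IsSurjectiveMor w) (hPW : P W.left) : SmoothLocally P 𝒳 := by
  intro V y hy
  obtain ⟨A, e, he, ha₁⟩ := hw₁ V y
  have ha₁s : AlgSp.IsSurjectiveMor (spMapOfOver (BasedFunctor.comp e (fpFst y w))) :=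
    RepOver.of_any_equiv (hw₂ V y) A e he
  have h2 : RepOver (AlgSp.LocP @Smooth) (fpSnd y w) :=
    RepOver.of_equiv (fpSwap w y) (isEquivOver_fpSwap w y) (Iso.refl _) (hy W w)
  have ha₂ : AlgSp.LocP @Smooth (spMapOfOver (BasedFunctor.comp e (fpSnd y w))) :=
    RepOver.of_any_equiv h2 A e he
  obtain ⟨A', q, hqe, hqs⟩ := A.property.atlas
  obtain ⟨g₁, hg₁⟩ := (AlgSp.yon S).map_surjective (q ≫ spMapOfOver (BasedFunctor.comp e (fpFst y w)))
  obtain ⟨g₂, hg₂⟩ := (AlgSp.yon S).map_surjective (q ≫ spMapOfOver (BasedFunctor.comp e (fpSnd y w)))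
  have hsm₁ : Smooth g₁.left :=
    ha₁ q (𝟙 _) g₁ hqe (AlgSp.repWith_id _ V) (by rw [hg₁, Category.comp_id])
  have hsm₂ : Smooth g₂.left :=
    ha₂ q (𝟙 _) g₂ hqe (AlgSp.repWith_id _ W) (by rw [hg₂, Category.comp_id])
  have hsurj₁ : Function.Surjective g₁.left := by
    apply surjective_of_isSurjectiveMor_yon_map
    rw [hg₁]
    exact isSurjectiveMor_comp_repWith q _ hqs ha₁s
  -- `P A'`
  have hPA' : P A'.left := by
    let Y : Bool → Scheme.{u} := fun b => cond b A'.left W.left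
    let f : ∀ b, Y b ⟶ W.left := fun b => match b with
      | true => g₂.left
      | false => 𝟙 _
    have hmem : Presieve.ofArrows Y f ∈ Scheme.precoverage @Smooth W.left := by
      rw [Scheme.ofArrows_mem_precoverage_iff]
      refine ⟨fun x => ⟨false, ⟨x, rfl⟩⟩, fun b => ?_⟩
      cases b
      · exact (inferInstance : Smooth (𝟙 W.left))
      · exact hsm₂
    exact (hP W.left _ hmem).1 hPW (f true) (Presieve.ofArrows.mk true)
  have hmem : Presieve.singleton g₁.left ∈ Scheme.precoverage @Smooth V.left := by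
    rw [Scheme.singleton_mem_precoverage_iff]
    exact ⟨hsurj₁, hsm₁⟩
  refine (hP V.left _ hmem).2 ?_
  intro Z g hg
  cases hg
  exact hPA'

section statements

variable {𝒳 : AlgSt.Cat S} (P : Scheme.{u} → Prop)
  (hP : ∀ (U : Scheme.{u}) (R : Presieve U), R ∈ Scheme.precoverage @Smooth U →
      (P U ↔ ∀ ⦃V : Scheme.{u}⦄ (g : V ⟶ U), R g → P V))

include hP in
theorem smoothLocally_iff_exists_chart (h𝒳 : IsAlgStack Scheme.fppfPrecoverage 𝒳) :
    SmoothLocally P 𝒳 ↔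
      ∃ (U : Over S) (x : overCat U ⥤ᵇ 𝒳),
        RepByAlgSpWith (AlgSp.LocP @Smooth) x ∧ RepByAlgSpWith AlgSp.IsSurjectiveMor x ∧ P U.left := by
  constructor
  · intro h
    obtain ⟨U, x, hx₁, hx₂⟩ := h𝒳.atlas
    exact ⟨U, x, hx₁, hx₂, h U x hx₁⟩
  · rintro ⟨U, x, hx₁, hx₂, hPU⟩
    exact smoothLocally_of_chart P hP x hx₁ hx₂ hPU

/-- the scheme chart of `𝒳` obtained from a chart by an algebraic space and an etale chart of the space. -/
theorem chart_of_space_chart {Q : MorphismProperty (AlgSp.Sp S)}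
    (hQ : ∀ ⦃A B C : AlgSp.Sp S⦄ (f : A ⟶ B) (g : B ⟶ C), AlgSp.RepWith @Etale f → Q g → Q (f ≫ g))
    (U : AlgSp.Space S) (x : ofSp U.obj ⥤ᵇ 𝒳) (hx : RepByAlgSpWith Q x) {W : Over S}
    (p : (AlgSp.yon S).obj W ⟶ U.obj) (hpe : AlgSp.RepWith @Etale p) :
    RepByAlgSpWith Q (BasedFunctor.comp (ofOverCat W) (BasedFunctor.comp (ofSpMap p) x)) := by
  let W' : AlgSp.Space S := ⟨(AlgSp.yon S).obj W, AlgSp.IsAlgSpace.yon_obj W⟩
  let p' : W'.obj ⟶ U.obj := p
  rw [repByAlgSpWith_equiv_comp _ (isEquivOver_ofOverCat W)]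
  exact repByAlgSpWith_ofSpMap_comp (AlgSp.RepWith @Etale) Q Q (repWith_stable @Etale) hQ p' hpe x hx

theorem chart_of_space_chart_surj
    (U : AlgSp.Space S) (x : ofSp U.obj ⥤ᵇ 𝒳) (hx : RepByAlgSpWith AlgSp.IsSurjectiveMor x) {W : Over S}
    (p : (AlgSp.yon S).obj W ⟶ U.obj) (hps : AlgSp.RepWith @Surjective p) :
    RepByAlgSpWith AlgSp.IsSurjectiveMor
      (BasedFunctor.comp (ofOverCat W) (BasedFunctor.comp (ofSpMap p) x)) := by
  let W' : AlgSp.Space S := ⟨(AlgSp.yon S).obj W, AlgSp.IsAlgSpace.yon_obj W⟩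
  let p' : W'.obj ⟶ U.obj := p
  rw [repByAlgSpWith_equiv_comp _ (isEquivOver_ofOverCat W)]
  exact repByAlgSpWith_ofSpMap_comp (AlgSp.RepWith @Surjective) AlgSp.IsSurjectiveMor AlgSp.IsSurjectiveMor
    (repWith_stable @Surjective) isSurjectiveMor_comp_repWith p' hps x hx

include hP in
theorem of_etaleLocally_yon (V : Over S) (h : AlgSp.EtaleLocally P ((AlgSp.yon S).obj V)) : P V.left := by
  obtain ⟨W, p, hpe, hps, hPW⟩ := h
  obtain ⟨g, rfl⟩ := (AlgSp.yon S).map_surjective p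
  have hge : Etale g.left := (AlgSp.repWith_yon_map_iff _ g).1 hpe
  have hgs : Surjective g.left := (AlgSp.repWith_yon_map_iff _ g).1 hps
  have hmem : Presieve.singleton g.left ∈ Scheme.precoverage @Smooth V.left := by
    rw [Scheme.singleton_mem_precoverage_iff]
    exact ⟨hgs.surj, inferInstance⟩
  refine (hP V.left _ hmem).2 ?_
  intro Z g' hg'
  cases hg'
  exact hPW

include hP in
theorem smoothLocally_iff_forall_space_chart :
    SmoothLocally P 𝒳 ↔
      ∀ (U : AlgSp.Space S) (x : ofSp U.obj ⥤ᵇ 𝒳),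
        RepByAlgSpWith (AlgSp.LocP @Smooth) x → AlgSp.EtaleLocally P U.obj := by
  constructor
  · intro h U x hx
    obtain ⟨W, p, hpe, hps⟩ := U.property.atlas
    refine ⟨W, p, hpe, hps, h W _ (chart_of_space_chart (locP_comp_repWith_etale @Smooth) U x hx p hpe)⟩
  · intro h V y hy
    let U : AlgSp.Space S := ⟨(AlgSp.yon S).obj V, AlgSp.IsAlgSpace.yon_obj V⟩
    have h1 : RepByAlgSpWith (AlgSp.LocP @Smooth) (BasedFunctor.comp (toOverCat V) y) :=
      (repByAlgSpWith_equiv_comp _ (isEquivOver_toOverCat V) y).2 hy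
    exact of_etaleLocally_yon P hP V (h U (BasedFunctor.comp (toOverCat V) y) h1)

include hP in
theorem smoothLocally_iff_exists_space_chart (h𝒳 : IsAlgStack Scheme.fppfPrecoverage 𝒳) :
    SmoothLocally P 𝒳 ↔
      ∃ (U : AlgSp.Space S) (x : ofSp U.obj ⥤ᵇ 𝒳),
        RepByAlgSpWith (AlgSp.LocP @Smooth) x ∧ RepByAlgSpWith AlgSp.IsSurjectiveMor x ∧
          AlgSp.EtaleLocally P U.obj := by
  constructor
  · intro h
    obtain ⟨U₀, x₀, hx₁, hx₂⟩ := h𝒳.atlas
    refine ⟨⟨(AlgSp.yon S).obj U₀, AlgSp.IsAlgSpace.yon_obj U₀⟩, BasedFunctor.comp (toOverCat U₀) x₀,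
      (repByAlgSpWith_equiv_comp _ (isEquivOver_toOverCat U₀) x₀).2 hx₁,
      (repByAlgSpWith_equiv_comp _ (isEquivOver_toOverCat U₀) x₀).2 hx₂, ?_⟩
    exact ⟨U₀, 𝟙 _, AlgSp.repWith_id _ U₀, AlgSp.repWith_id _ U₀, h U₀ x₀ hx₁⟩
  · rintro ⟨U, x, hx₁, hx₂, W, p, hpe, hps, hPW⟩
    exact smoothLocally_of_chart P hP _
      (chart_of_space_chart (locP_comp_repWith_etale @Smooth) U x hx₁ p hpe)
      (chart_of_space_chart_surj U x hx₂ p hps) hPW

end statements

end Groth.Agent.Helper19.SmLocLib
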