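import Mathlib
import Groth.Agent.Lib.Helper19.SmLocLib

/-!
# Composition of functors representable by schemes with a property (immersions) (helper19)
-/

set_option autoImplicit false
set_option backward.isDefEq.respectTransparency false

universe w₄ v₄ w₃ v₃ w' v' w v u

open CategoryTheory CategoryTheory.Limits Functor AlgebraicGeometry Opposite

namespace Groth.Agent.Helper19.ImmLib

open FibCat AlgSt Stk Groth.Agent.Helper19.FibLib Groth.Agent.Helper19.StLib Groth.Agent.Helper19.PshLib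
  Groth.Agent.Helper19.PshSt Groth.Agent.Helper19.DiagLib Groth.Agent.Helper19.DiagAlgSp
  Groth.Agent.Helper19.CompLib Groth.Agent.Helper19.SmLocLib

variable {S : Scheme.{u}}

theorem spMapOfOver_comp_overMap {F : AlgSp.Sp S} {T' T : Over S} (Φ : ofSp F ⥤ᵇ overCat T') (τ : T' ⟶ T) :
    spMapOfOver (BasedFunctor.comp Φ (overMap τ)) = spMapOfOver Φ ≫ (AlgSp.yon S).map τ := by
  apply ObjectProperty.hom_ext
  ext X x
  apply ULift.ext
  show secHom _ _ = secHom _ _ ≫ τ
  unfold secHom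
  simp
  rfl

/-- every functor from the category of a sheaf to a slice is induced by a map of sheaves. -/
def functorToOverIso {F : AlgSp.Sp S} {T : Over S} (Φ : ofSp F ⥤ᵇ overCat T) :
    Φ ≅ BasedFunctor.comp (ofPshMap (pshMapOf (BasedFunctor.comp Φ (ofOverCat T)))) (toOverCat T) :=
  (eqToIso (BasedFunctor.comp_id Φ)).symm ≪≫ (whiskerLeftIso Φ (ofToOverCat T)).symm ≪≫
    (eqToIso (BasedFunctor.comp_assoc Φ (ofOverCat T) (toOverCat T))).symm ≪≫
    whiskerRightIso (isoOfPshMap (BasedFunctor.comp Φ (ofOverCat T))) (toOverCat T)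

theorem spMapOfOver_eq_homMk {F : AlgSp.Sp S} {T : Over S} (Φ : ofSp F ⥤ᵇ overCat T) :
    spMapOfOver Φ = ObjectProperty.homMk (pshMapOf (BasedFunctor.comp Φ (ofOverCat T))) :=
  (spMapOfOver_eq_of_iso (functorToOverIso Φ)).trans (spMapOfOver_ofPshMap_toOverCat _)

/-- the functor `(Sch/T') ⟶ (Sch/T)` of a morphism, through the categories of the sheaves. -/
def overMapIso {T' T : Over S} (τ : T' ⟶ T) :
    BasedFunctor.comp (ofOverCat T')
      (BasedFunctor.comp (ofSpMap ((AlgSp.yon S).map τ)) (toOverCat T)) ≅ overMap τ :=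
  mkIso (fun v => Iso.refl _) (fun {v v'} f => by
    apply Over.OverMorphism.ext
    simp
    rfl) (fun v => IsHomLift.id rfl)

/-- a functor from the category of a sheaf to a slice is determined by its map of sheaves. -/
def isoOfSpMapOfOver {F : AlgSp.Sp S} {T : Over S} (Φ : ofSp F ⥤ᵇ overCat T) :
    Φ ≅ BasedFunctor.comp (ofSpMap (spMapOfOver Φ)) (toOverCat T) :=
  functorToOverIso Φ ≪≫ eqToIso (by rw [spMapOfOver_eq_homMk]; rfl)

/-- A category over `(Sch/T)` represented by an algebraic space whose map to `h_T` is representable by schemes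
with `P` is equivalent to `(Sch/T')` for a `T' ⟶ T` with `P`. -/
theorem exists_scheme_of_repOver_repWith (P : MorphismProperty Scheme.{u}) [P.IsStableUnderBaseChange]
    {T : Over S} {𝒜 : BasedCategory.{v, w} (Over S)} (a : 𝒜 ⥤ᵇ overCat T)
    (ha : RepOver (AlgSp.RepWith P) a) :
    ∃ (T' : Over S) (τ : T' ⟶ T) (e' : overCat T' ⥤ᵇ 𝒜), IsEquivOver e' ∧
      Nonempty (BasedFunctor.comp e' a ≅ overMap τ) ∧ P τ.left := by
  obtain ⟨A, eA, heA, hA⟩ := ha
  have hrep := hA.rep
  let ξ : (AlgSp.yon S).obj T ⟶ (AlgSp.yon S).obj T := 𝟙 _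
  let T' : Over S := hrep.pullback ξ
  let τ : T' ⟶ T := hrep.snd ξ
  have sq := hrep.isPullback ξ
  have hiso : IsIso (hrep.fst ξ) := IsPullback.isIso_fst_of_isIso sq
  have hτ : P τ.left := hA.property_snd ξ
  let i : (AlgSp.yon S).obj T' ⟶ A.obj := hrep.fst ξ
  have hi : i ≫ spMapOfOver (BasedFunctor.comp eA a) = (AlgSp.yon S).map τ := by
    have := sq.w
    rw [Category.comp_id] at this
    exact this
  let Ψ : ofSch T' ⥤ᵇ overCat T := BasedFunctor.comp (ofSpMap i) (BasedFunctor.comp eA a)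
  have hΨ : spMapOfOver Ψ = (AlgSp.yon S).map τ := by
    rw [spMapOfOver_ofSpMap_comp, hi]
  have hei : IsEquivOver (ofSpMap i) := isEquivOver_ofPshMap_iso
    ((sheafToPresheaf (AlgSp.J S) (Type (u + 1))).mapIso (asIso i))
  refine ⟨T', τ, BasedFunctor.comp (ofOverCat T') (BasedFunctor.comp (ofSpMap i) eA),
    IsEquivOver.comp (isEquivOver_ofOverCat T') (IsEquivOver.comp hei heA), ⟨?_⟩, hτ⟩
  refine whiskerLeftIso (ofOverCat T') (isoOfSpMapOfOver Ψ ≪≫ eqToIso (by rw [hΨ])) ≪≫ overMapIso τ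

/-- Functors representable by schemes with `P` (seen as representable by algebraic spaces) compose. -/
theorem repByAlgSpWith_repWith_comp (P : MorphismProperty Scheme.{u}) [P.IsStableUnderBaseChange]
    [P.IsMultiplicative] {𝒳 : BasedCategory.{v, w} (Over S)} {𝒴 : BasedCategory.{v', w'} (Over S)}
    {𝒵 : BasedCategory.{v₃, w₃} (Over S)} (f : 𝒳 ⥤ᵇ 𝒴) (g : 𝒴 ⥤ᵇ 𝒵)
    (hf : RepByAlgSpWith (AlgSp.RepWith P) f) (hg : RepByAlgSpWith (AlgSp.RepWith P) g) :
    RepByAlgSpWith (AlgSp.RepWith P) (BasedFunctor.comp f g) := by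
  intro T t
  obtain ⟨T', τ, e', he', ⟨θ⟩, hτ⟩ := exists_scheme_of_repOver_repWith P (fpFst t g) (hg T t)
  obtain ⟨B, eB, heB, hB⟩ := hf T' (BasedFunctor.comp e' (fpSnd t g))
  refine ⟨B, BasedFunctor.comp eB (BasedFunctor.comp (fpPre e' (fpSnd t g) f) (pasteRInv t g f)),
    IsEquivOver.comp heB (IsEquivOver.comp (isEquivOver_fpPre e' he' (fpSnd t g) f)
      (isEquivOver_pasteRInv t g f)), ?_⟩
  have e1 : spMapOfOver (BasedFunctor.comp (BasedFunctor.comp eB
      (BasedFunctor.comp (fpPre e' (fpSnd t g) f) (pasteRInv t g f))) (fpFst t (BasedFunctor.comp f g))) =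
      spMapOfOver (BasedFunctor.comp (BasedFunctor.comp eB
        (fpFst (BasedFunctor.comp e' (fpSnd t g)) f)) (overMap τ)) :=
    spMapOfOver_eq_of_iso (whiskerLeftIso (BasedFunctor.comp eB
        (fpFst (BasedFunctor.comp e' (fpSnd t g)) f)) θ)
  rw [e1, spMapOfOver_comp_overMap]
  exact (AlgSp.RepWith P).comp_mem _ _ hB ((AlgSp.repWith_yon_map_iff P τ).2 hτ)

end Groth.Agent.Helper19.ImmLib
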