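import Mathlib
import Groth.Agent.Lib.Helper19.DiagRep
import Groth.Agent.Lib.Helper19.ImmLib

/-!
# The diagonal of a functor from (the category of) a sheaf to a slice (helper19)

For an equivalence `eA : ofSp A ⟶ 𝒜` and `p : 𝒜 ⟶ (Sch/T)`, the diagonal of `p` corresponds to the diagonal of the map of
sheaves `A ⟶ h_T`.
-/

set_option autoImplicit false
set_option backward.isDefEq.respectTransparency false

universe w₄ v₄ w₃ v₃ w' v' w v u

open CategoryTheory CategoryTheory.Limits Functor AlgebraicGeometry Opposite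

namespace Groth.Agent.Helper19.DiagSp

open FibCat AlgSt Stk Groth.Agent.Helper19.FibLib Groth.Agent.Helper19.StLib Groth.Agent.Helper19.PshLib
  Groth.Agent.Helper19.PshSt Groth.Agent.Helper19.DiagLib Groth.Agent.Helper19.DiagAlgSp
  Groth.Agent.Helper19.DiagFib Groth.Agent.Helper19.CompLib Groth.Agent.Helper19.ImmLib

/-- parallel morphisms of a slice lying over identities are equal. -/
theorem overCat_hom_ext_id {C : Type*} [Category C] {T : C} {x y : (overCat T).obj} {R R' : C}
    {f g : x ⟶ y} (hf : (overCat T).p.IsHomLift (𝟙 R) f) (hg : (overCat T).p.IsHomLift (𝟙 R') g) : f = g := by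
  have h1 := IsHomLift.domain_eq (overCat T).p (𝟙 R) f
  have h2 := IsHomLift.domain_eq (overCat T).p (𝟙 R') g
  have : R = R' := h1.symm.trans h2
  subst this
  apply (Over.forget T).map_injective
  exact (IsHomLift.fac' (overCat T).p (𝟙 R) f).trans (IsHomLift.fac' (overCat T).p (𝟙 R) g).symm

variable {S : Scheme.{u}}

section

variable {A : AlgSp.Sp S} {T : Over S} {𝒜 : BasedCategory.{v, w} (Over S)} (eA : ofSp A ⥤ᵇ 𝒜)
  (p : 𝒜 ⥤ᵇ overCat T)

/-- the map of sheaves of `p`. -/
abbrev aMap : A ⟶ (AlgSp.yon S).obj T := spMapOfOver (BasedFunctor.comp eA p)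

/-- the 2-isomorphism identifying `p` with the functor of its map of sheaves. -/
def σIso : BasedFunctor.comp (ofSpMap (aMap eA p)) (toOverCat T) ≅ BasedFunctor.comp eA p :=
  (isoOfSpMapOfOver (BasedFunctor.comp eA p)).symm

theorem isPbSec_aMap : IsPbSec (pullback.fst (aMap eA p) (aMap eA p)).hom (pullback.snd (aMap eA p) (aMap eA p)).hom
    (aMap eA p).hom (aMap eA p).hom :=
  IsPbSec.of_isPullback (IsPullback.map (sheafToPresheaf (AlgSp.J S) (Type (u + 1)))
    (IsPullback.of_hasPullback (aMap eA p) (aMap eA p)))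

/-- the comparison of the fibre product of sheaves with the 2-fibre product. -/
noncomputable def Φ : ofSp (pullback (aMap eA p) (aMap eA p)) ⥤ᵇ fp p p :=
  haveI := IsEquivOver.isEquivalence (isEquivOver_toOverCat T)
  BasedFunctor.comp (pbFunctor (isPbSec_aMap eA p).w) (fpMap eA eA (toOverCat T) (σIso eA p) (σIso eA p))

theorem isEquivOver_Φ (heA : IsEquivOver eA) : IsEquivOver (Φ eA p) := by
  have := IsEquivOver.isEquivalence (isEquivOver_toOverCat T)
  exact isEquivOver_pbFunctor_fpMap (isPbSec_aMap eA p) eA heA eA heA (toOverCat T) p p (σIso eA p) (σIso eA p)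

/-- first component of the square. -/
noncomputable def αIso : BasedFunctor.comp (BasedFunctor.comp (ofSpMap (pullback.diagonal (aMap eA p))) (Φ eA p)) (fpFst p p) ≅
    BasedFunctor.comp (BasedFunctor.comp eA (diag p)) (fpFst p p) :=
  whiskerRightIso (ofPshMapComp (pullback.diagonal (aMap eA p)).hom (pullback.fst (aMap eA p) (aMap eA p)).hom ≪≫
    eqToIso (by
      have : (pullback.diagonal (aMap eA p)).hom ≫ (pullback.fst (aMap eA p) (aMap eA p)).hom = 𝟙 _ := by
        rw [← ObjectProperty.FullSubcategory.comp_hom, pullback.diagonal_fst]; rfl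
      rw [this]) ≪≫ ofPshMapId _) eA

/-- second component of the square. -/
noncomputable def βIso : BasedFunctor.comp (BasedFunctor.comp (ofSpMap (pullback.diagonal (aMap eA p))) (Φ eA p)) (fpSnd p p) ≅
    BasedFunctor.comp (BasedFunctor.comp eA (diag p)) (fpSnd p p) :=
  whiskerRightIso (ofPshMapComp (pullback.diagonal (aMap eA p)).hom (pullback.snd (aMap eA p) (aMap eA p)).hom ≪≫
    eqToIso (by
      have : (pullback.diagonal (aMap eA p)).hom ≫ (pullback.snd (aMap eA p) (aMap eA p)).hom = 𝟙 _ := by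
        rw [← ObjectProperty.FullSubcategory.comp_hom, pullback.diagonal_snd]; rfl
      rw [this]) ≪≫ ofPshMapId _) eA

/-- the square comparing the diagonal of sheaves with the diagonal of `p`. -/
noncomputable def sqIso : BasedFunctor.comp (ofSpMap (pullback.diagonal (aMap eA p))) (Φ eA p) ≅
    BasedFunctor.comp eA (diag p) :=
  fpFunctorIso _ _ (αIso eA p) (βIso eA p) (fun x => by
    have h1 : 𝒜.p.IsHomLift (𝟙 ((ofSp A).p.obj x)) ((αIso eA p).hom.toNatTrans.app x) :=
      (αIso eA p).hom.isHomLift' x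
    have h2 : (overCat T).p.IsHomLift (𝟙 ((ofSp A).p.obj x)) (p.map ((αIso eA p).hom.toNatTrans.app x)) :=
      inferInstance
    have h3 := fp_iso_isHomLift ((BasedFunctor.comp eA (diag p)).obj x)
    have h1' : 𝒜.p.IsHomLift (𝟙 ((ofSp A).p.obj x)) ((βIso eA p).hom.toNatTrans.app x) :=
      (βIso eA p).hom.isHomLift' x
    have h2' : (overCat T).p.IsHomLift (𝟙 ((ofSp A).p.obj x)) (p.map ((βIso eA p).hom.toNatTrans.app x)) :=
      inferInstance
    have h3' := fp_iso_isHomLift
      ((BasedFunctor.comp (ofSpMap (pullback.diagonal (aMap eA p))) (Φ eA p)).obj x)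
    exact overCat_hom_ext_id
      (isHomLift_id_comp' (R := (ofSp A).p.obj x)
        (R' := 𝒜.p.obj ((BasedFunctor.comp eA (diag p)).obj x).obj.fst) _ _)
      (isHomLift_id_comp'
        (R := 𝒜.p.obj ((BasedFunctor.comp (ofSpMap (pullback.diagonal (aMap eA p))) (Φ eA p)).obj x).obj.fst)
        (R' := (ofSp A).p.obj x) _ _))

theorem repByAlgSpWith_diag_iff {Q : MorphismProperty (AlgSp.Sp S)} (heA : IsEquivOver eA) :
    RepByAlgSpWith Q (diag p) ↔ RepByAlgSpWith Q (ofSpMap (pullback.diagonal (aMap eA p))) :=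
  repByAlgSpWith_iff_of_square (diag p) (ofSpMap (pullback.diagonal (aMap eA p))) eA (Φ eA p) heA
    (isEquivOver_Φ eA p heA) (sqIso eA p)

end

end Groth.Agent.Helper19.DiagSp
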