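import Mathlib
import Groth.Agent.Lib.Helper19.AlgP
import Groth.Agent.Lib.Helper16.AlgSp.LocPEngine
import Groth.Agent.Lib.Helper16.AlgSp.FppfFpqc
import Groth.Agent.Lib.Helper16.AlgSp.LftSp
import Groth.Agent.Lib.Helper16.AlgSp.LqfDesc
import Groth.Agent.Lib.Helper16.AlgSp.SrcEtLocal
import Groth.Agent.Lib.Helper16.AlgSp.StdRef
import Groth.Agent.Lib.Helper16.AlgSp.FpqcQc
import Groth.Agent.Lib.Helper15.AlgSpProper2
import Groth.Agent.Lib.Helper15.AlgSpUnivClosed

/-!
# Base change, composition and descent packages for properties of morphisms of algebraic spaces (helper19)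
-/

set_option autoImplicit false

universe u

open CategoryTheory CategoryTheory.Limits AlgebraicGeometry Opposite

namespace Groth.Agent.Helper19.SpProps

open AlgSp Groth.Agent.Helper19.AlgP Groth.Agent.Helper15 Groth.Agent.Helper16.AS

variable {S : Scheme.{u}}

theorem isLocalOnBase_fppf_of_fpqc {Q : MorphismProperty (Sp S)}
    (h : IsLocalOnBase (IsFpqcCover (S := S)) Q) : IsLocalOnBase (IsFppfCover (S := S)) Q := by
  intro ι Y Yi g hY hYi hcov X f hX Xi p q hXi sq
  exact h Yi g hY hYi (isFpqcCover_of_isFppfCover hY hYi hcov) f hX Xi p q hXi sq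

theorem descAtlas_of_fpqc {Q : MorphismProperty (Sp S)}
    (h : IsLocalOnBase (IsFpqcCover (S := S)) Q) : DescAtlas Q :=
  descAtlas_of_isLocalOnBase (isLocalOnBase_fppf_of_fpqc h)

theorem stableAlg_locP {P : MorphismProperty Scheme.{u}} (hP : GoodP P) (hsrc : SrcEtLoc P) :
    StableAlg (S := S) (LocP P) := by
  intro X₁ Y₁ X₂ Y₂ hX₁ hY₁ hX₂ hY₂ a b a' b' sq ha
  exact locP_of_isPullback hP hsrc hX₁ hY₁ hY₂ sq ha

theorem compAlg_locP {P : MorphismProperty Scheme.{u}} (hP : GoodP P) (hsrc : SrcEtLoc P) :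
    CompAlg (S := S) (LocP P) := by
  intro X Y Z hX hY hZ a b ha hb
  exact locP_comp hP hsrc hX hY hZ a b ha hb

/-! ### conjunctions -/

theorem stableAlg_inf {P Q : MorphismProperty (Sp S)} (hP : StableAlg P) (hQ : StableAlg Q) :
    StableAlg (P ⊓ Q) := by
  intro X₁ Y₁ X₂ Y₂ hX₁ hY₁ hX₂ hY₂ a b a' b' sq ha
  exact ⟨hP hX₁ hY₁ hX₂ hY₂ a b a' b' sq ha.1, hQ hX₁ hY₁ hX₂ hY₂ a b a' b' sq ha.2⟩

theorem compAlg_inf {P Q : MorphismProperty (Sp S)} (hP : CompAlg P) (hQ : CompAlg Q) :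
    CompAlg (P ⊓ Q) := by
  intro X Y Z hX hY hZ a b ha hb
  exact ⟨hP hX hY hZ a b ha.1 hb.1, hQ hX hY hZ a b ha.2 hb.2⟩

theorem descAtlas_inf {P Q : MorphismProperty (Sp S)} (hP : DescAtlas P) (hQ : DescAtlas Q) :
    DescAtlas (P ⊓ Q) := by
  intro X Y f hX hY U q hqe hqs hpb h
  exact ⟨hP f hX hY U q hqe hqs hpb h.1, hQ f hX hY U q hqe hqs hpb h.2⟩

/-! ### separated and quasi-separated morphisms -/

theorem stableAlg_isSeparatedMor : StableAlg (S := S) IsSeparatedMor := by
  intro X₁ Y₁ X₂ Y₂ _ _ _ _ a b a' b' sq ha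
  exact (RepWith @IsClosedImmersion).diagonal.of_isPullback sq ha

theorem compAlg_isSeparatedMor : CompAlg (S := S) IsSeparatedMor := by
  intro X Y Z _ _ _ a b ha hb
  exact (RepWith @IsClosedImmersion).diagonal.comp_mem a b ha hb

theorem descAtlas_isSeparatedMor : DescAtlas (S := S) IsSeparatedMor :=
  descAtlas_of_fpqc (isLocalOnBase_fpqc_of_std isLocalOnBase_std_isSeparatedMor)

theorem stableAlg_isQuasiSeparatedMor : StableAlg (S := S) IsQuasiSeparatedMor := by
  intro X₁ Y₁ X₂ Y₂ _ _ _ _ a b a' b' sq ha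
  exact (RepWith @QuasiCompact).diagonal.of_isPullback sq ha

theorem compAlg_isQuasiSeparatedMor : CompAlg (S := S) IsQuasiSeparatedMor := by
  intro X Y Z _ _ _ a b ha hb
  exact (RepWith @QuasiCompact).diagonal.comp_mem a b ha hb

theorem descAtlas_isQuasiSeparatedMor : DescAtlas (S := S) IsQuasiSeparatedMor :=
  descAtlas_of_fpqc (isLocalOnBase_fpqc_of_std isLocalOnBase_std_isQuasiSeparatedMor)

/-! ### quasi-compact morphisms -/

theorem stableAlg_isQuasiCompactMor : StableAlg (S := S) IsQuasiCompactMor := by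
  intro X₁ Y₁ X₂ Y₂ _ _ _ _ a b a' b' sq ha
  exact isQuasiCompactMor_of_isPullback sq ha

theorem compAlg_isQuasiCompactMor : CompAlg (S := S) IsQuasiCompactMor := by
  intro X Y Z _ hY hZ a b ha hb
  exact isQuasiCompactMor_comp hY hZ.diag a b ha hb

theorem descAtlas_isQuasiCompactMor : DescAtlas (S := S) IsQuasiCompactMor :=
  descAtlas_of_fpqc isLocalOnBase_fpqc_isQuasiCompactMor

/-! ### universally closed morphisms -/

theorem stableAlg_isUnivClosedMor : StableAlg (S := S) IsUnivClosedMor := by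
  intro X₁ Y₁ X₂ Y₂ _ _ _ _ a b a' b' sq ha
  exact UnivSp.of_isPullback sq ha

theorem compAlg_isUnivClosedMor : CompAlg (S := S) IsUnivClosedMor := by
  intro X Y Z _ hY hZ a b ha hb
  exact isUnivClosedMor_comp hY hZ.diag a b ha hb

theorem descAtlas_isUnivClosedMor : DescAtlas (S := S) IsUnivClosedMor :=
  descAtlas_of_fpqc isLocalOnBase_fpqc_isUnivClosedMor

/-! ### proper morphisms -/

theorem isProperMor_eq : (IsProperMor : MorphismProperty (Sp S)) =
    IsSeparatedMor ⊓ ((LocP @LocallyOfFiniteType ⊓ IsQuasiCompactMor) ⊓ IsUnivClosedMor) := rfl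

theorem stableAlg_isProperMor : StableAlg (S := S) IsProperMor := by
  rw [isProperMor_eq]
  exact stableAlg_inf stableAlg_isSeparatedMor (stableAlg_inf
    (stableAlg_inf (stableAlg_locP goodP_lft srcEtLoc_lft) stableAlg_isQuasiCompactMor)
    stableAlg_isUnivClosedMor)

theorem compAlg_isProperMor : CompAlg (S := S) IsProperMor := by
  rw [isProperMor_eq]
  exact compAlg_inf compAlg_isSeparatedMor (compAlg_inf
    (compAlg_inf (compAlg_locP goodP_lft srcEtLoc_lft) compAlg_isQuasiCompactMor)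
    compAlg_isUnivClosedMor)

theorem descAtlas_isProperMor : DescAtlas (S := S) IsProperMor := by
  rw [isProperMor_eq]
  exact descAtlas_inf descAtlas_isSeparatedMor (descAtlas_inf
    (descAtlas_inf (descAtlas_of_fpqc isLocalOnBase_fpqc_locP_lft) descAtlas_isQuasiCompactMor)
    descAtlas_isUnivClosedMor)

end Groth.Agent.Helper19.SpProps
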