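import Mathlib
import Groth.Agent.Lib.Helper19.DiagRep
import Groth.Agent.Lib.Helper19.DiagSp
import Groth.Agent.Lib.Helper19.DiagComp
import Groth.Agent.Lib.Helper19.SpProps

/-!
# The relative diagonal, continued (helper19)
-/

set_option autoImplicit false
set_option backward.isDefEq.respectTransparency false

universe w₄ v₄ w₃ v₃ w' v' w v u

open CategoryTheory CategoryTheory.Limits Functor AlgebraicGeometry Opposite

namespace Groth.Agent.Helper19.DiagRep

open FibCat AlgSt Stk Groth.Agent.Helper19.FibLib Groth.Agent.Helper19.StLib Groth.Agent.Helper19.PshLib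
  Groth.Agent.Helper19.PshSt Groth.Agent.Helper19.DiagLib Groth.Agent.Helper19.DiagAlgSp
  Groth.Agent.Helper19.DiagFib Groth.Agent.Helper19.CompLib Groth.Agent.Helper19.AlgP

variable {S : Scheme.{u}}

/-- the relative form of `SectionEq`: the base changes of `f` are assumed to have `R`. -/
def SectionEqOf (R Q : MorphismProperty (AlgSp.Sp S)) : Prop :=
  ∀ (A : AlgSp.Space S) (T : Over S) (a : A.obj ⟶ (AlgSp.yon S).obj T)
    (s₁ s₂ : (AlgSp.yon S).obj T ⟶ A.obj), R a → s₁ ≫ a = 𝟙 _ → s₂ ≫ a = 𝟙 _ → Q (pullback.fst s₁ s₂)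

theorem repByAlgSpWith_diag_of {R Q : MorphismProperty (AlgSp.Sp S)} (hQ : SectionEqOf R Q)
    {𝒳 : AlgSt.Cat S} {𝒴 : AlgSt.Cat S} (f : 𝒳 ⥤ᵇ 𝒴) (hf : RepByAlgSpWith R f) :
    RepByAlgSpWith Q (FibCat.diag f) := by
  intro T t
  obtain ⟨A, eA, heA, hR⟩ := hf T (dY f t)
  obtain ⟨s₁, ⟨τ₁⟩⟩ := exists_pshMap_of_equiv (X := ((AlgSp.yon S).obj T).obj) (Y := A.obj.obj)
    (toOverCat T) eA heA (σ₁ f t)
  obtain ⟨s₂, ⟨τ₂⟩⟩ := exists_pshMap_of_equiv (X := ((AlgSp.yon S).obj T).obj) (Y := A.obj.obj)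
    (toOverCat T) eA heA (σ₂ f t)
  let s₁' : (AlgSp.yon S).obj T ⟶ A.obj := ObjectProperty.homMk s₁
  let s₂' : (AlgSp.yon S).obj T ⟶ A.obj := ObjectProperty.homMk s₂
  have sq := IsPullback.of_hasPullback s₁' s₂'
  have hW : AlgSp.IsAlgSpace (pullback s₁' s₂') :=
    Groth.Agent.Helper15.isAlgSpace_of_isPullback A.property.diag (AlgSp.IsAlgSpace.yon_obj T)
      (AlgSp.IsAlgSpace.yon_obj T) sq
  have sqP := IsPullback.map (sheafToPresheaf (AlgSp.J S) (Type (u + 1))) sq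
  have h : IsPbSec (pullback.fst s₁' s₂').hom (pullback.snd s₁' s₂').hom s₁ s₂ := IsPbSec.of_isPullback sqP
  have := IsEquivOver.isEquivalence heA
  have hE2 := isEquivOver_pbFunctor_fpMap h (toOverCat T) (isEquivOver_toOverCat T) (toOverCat T)
    (isEquivOver_toOverCat T) eA (σ₁ f t) (σ₂ f t) τ₁ τ₂
  let a : A.obj ⟶ (AlgSp.yon S).obj T := spMapOfOver (BasedFunctor.comp eA (fpFst (dY f t) f))
  have ha₁ : s₁' ≫ a = 𝟙 _ := by
    rw [← spMapOfOver_ofSpMap_comp, ← spMapOfOver_toOverCat]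
    exact spMapOfOver_eq_of_iso (whiskerRightIso τ₁ (fpFst (dY f t) f))
  have ha₂ : s₂' ≫ a = 𝟙 _ := by
    rw [← spMapOfOver_ofSpMap_comp, ← spMapOfOver_toOverCat]
    exact spMapOfOver_eq_of_iso (whiskerRightIso τ₂ (fpFst (dY f t) f))
  have h1 : RepOver Q (fpFst (σ₁ f t) (σ₂ f t)) := by
    refine ⟨⟨pullback s₁' s₂', hW⟩, _, hE2, ?_⟩
    have e1 : spMapOfOver (BasedFunctor.comp (BasedFunctor.comp (pbFunctor h.w)
        (fpMap (toOverCat T) (toOverCat T) eA τ₁ τ₂)) (fpFst (σ₁ f t) (σ₂ f t))) =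
        spMapOfOver (BasedFunctor.comp (ofSpMap (pullback.fst s₁' s₂')) (toOverCat T)) := rfl
    rw [e1]
    have e2 : spMapOfOver (BasedFunctor.comp (ofSpMap (pullback.fst s₁' s₂')) (toOverCat T)) =
        pullback.fst s₁' s₂' :=
      spMapOfOver_ofPshMap_toOverCat (F' := pullback s₁' s₂') (pullback.fst s₁' s₂').hom
    rw [e2]
    exact hQ A T a s₁' s₂' hR ha₁ ha₂
  exact RepOver.of_equiv_symm (E f t) (isEquivOver_E f t) (Iso.refl _) h1

/-- equalizers of sections of a separated morphism are closed immersions. -/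
theorem sectionEqOf_separated :
    SectionEqOf (S := S) AlgSp.IsSeparatedMor (AlgSp.RepWith @IsClosedImmersion) := by
  intro A T a s₁ s₂ hR h₁ h₂
  exact (AlgSp.RepWith @IsClosedImmersion).of_isPullback (isPullback_fst_diagonal a s₁ s₂ h₁ h₂) hR

/-- equalizers of sections of a quasi-separated morphism are quasi-compact. -/
theorem sectionEqOf_quasiSeparated :
    SectionEqOf (S := S) AlgSp.IsQuasiSeparatedMor (AlgSp.RepWith @QuasiCompact) := by
  intro A T a s₁ s₂ hR h₁ h₂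
  exact (AlgSp.RepWith @QuasiCompact).of_isPullback (isPullback_fst_diagonal a s₁ s₂ h₁ h₂) hR

end Groth.Agent.Helper19.DiagRep
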