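import Mathlib
import Groth.Agent.Lib.Helper19.DiagRep2

/-!
# Cancellation for functors representable by algebraic spaces (helper19)
-/

set_option autoImplicit false
set_option backward.isDefEq.respectTransparency false

universe w₄ v₄ w₃ v₃ w' v' w v u

open CategoryTheory CategoryTheory.Limits Functor AlgebraicGeometry Opposite

namespace Groth.Agent.Helper19.CancelLib

open FibCat AlgSt Stk Groth.Agent.Helper19.FibLib Groth.Agent.Helper19.StLib Groth.Agent.Helper19.PshLib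
  Groth.Agent.Helper19.PshSt Groth.Agent.Helper19.DiagLib Groth.Agent.Helper19.DiagAlgSp
  Groth.Agent.Helper19.DiagFib Groth.Agent.Helper19.CompLib Groth.Agent.Helper19.AlgP
  Groth.Agent.Helper19.DiagRep Groth.Agent.Helper19.DiagComp

theorem isFibGrpd_id (C : Type u) [Category.{v} C] : IsFibGrpd (𝟭 C) := by
  refine ⟨fun {x V} f => ⟨V, f, ?_⟩, fun {y x} φ => ?_⟩
  · exact IsHomLift.of_fac (𝟭 C) f f rfl rfl (by simp)
  · have : (𝟭 C).IsHomLift ((𝟭 C).map φ) φ := inferInstance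
    refine ⟨fun {a'} g φ' h => ?_⟩
    refine ⟨g, ⟨?_, ?_⟩, ?_⟩
    · exact IsHomLift.of_fac (𝟭 C) g g rfl rfl (by simp)
    · have := IsHomLift.fac' (𝟭 C) (g ≫ (𝟭 C).map φ) φ'
      have h2 : φ' = g ≫ φ := by simpa using this
      exact h2.symm
    · rintro χ ⟨hχ, -⟩
      have := IsHomLift.fac' (𝟭 C) g χ
      have h2 : χ = g := by simpa using this
      exact h2

theorem isFibGrpd_selfOver (C : Type u) [Category.{v} C] : IsFibGrpd (selfOver C).p := isFibGrpd_id C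

section general

variable {C : Type*} [Category C] {𝒳 : BasedCategory.{v, w} C} {𝒴 : BasedCategory.{v', w'} C}
  {F F' : 𝒳 ⥤ᵇ 𝒴} (θ : F ≅ F')

/-- the equivalence `𝒳 ×_F 𝒳 ⟶ 𝒳 ×_{F'} 𝒳` of a 2-isomorphism `F ≅ F'`. -/
def fpCongr : fp F F ⥤ᵇ fp F' F' :=
  fpMap (F := F) (G := F) (F' := F') (G' := F') (BasedFunctor.id 𝒳) (BasedFunctor.id 𝒳)
    (BasedFunctor.id 𝒴) θ θ

theorem isEquivOver_fpCongr : IsEquivOver (fpCongr θ) := by
  have h1 : (BasedFunctor.id 𝒴).toFunctor.Full := inferInstanceAs (𝟭 𝒴.obj).Full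
  have h2 : (BasedFunctor.id 𝒴).toFunctor.Faithful := inferInstanceAs (𝟭 𝒴.obj).Faithful
  exact isEquivOver_fpMap _ _ _ _ _ (isEquivOver_id 𝒳) (isEquivOver_id 𝒳)

/-- the diagonals of 2-isomorphic functors correspond. -/
def diagCongrIso : BasedFunctor.comp (diag F) (fpCongr θ) ≅ diag F' :=
  fpFunctorIso _ _ (Iso.refl _) (Iso.refl _) (fun x => by
    simp [fpCongr])

end general

variable {S : Scheme.{u}}

theorem repByAlgSpWith_diag_congr {P : MorphismProperty (AlgSp.Sp S)} {𝒳 : BasedCategory.{v, w} (Over S)}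
    {𝒴 : BasedCategory.{v', w'} (Over S)} {F F' : 𝒳 ⥤ᵇ 𝒴} (θ : F ≅ F')
    (h : RepByAlgSpWith P (diag F)) : RepByAlgSpWith P (diag F') :=
  repByAlgSpWith_of_iso (diagCongrIso θ).symm
    ((repByAlgSpWith_comp_equiv (diag F) (fpCongr θ) (isEquivOver_fpCongr θ)).2 h)

theorem stableAlg_top : StableAlg (S := S) ⊤ := fun _ _ _ _ _ _ _ _ _ _ _ _ _ _ => trivial
theorem compAlg_top : CompAlg (S := S) ⊤ := fun _ _ _ _ _ _ _ _ _ _ => trivial
theorem descAtlas_top : DescAtlas (S := S) ⊤ := fun _ _ _ _ _ _ _ _ _ _ _ => trivial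

/-- if `a ⋙ b` has `P` and the diagonal of `b` has `P`, then `a` has `P`. -/
theorem repByAlgSpWith_of_comp {P : MorphismProperty (AlgSp.Sp S)} (hPb : StableAlg P) (hPc : CompAlg P)
    (hP : DescAtlas P) {𝒳 𝒴 𝒵 : AlgSt.Cat S} (h𝒳 : IsFibGrpd 𝒳.p) (h𝒴 : IsFibGrpd 𝒴.p)
    (h𝒵 : IsFibGrpd 𝒵.p) (a : 𝒳 ⥤ᵇ 𝒴) (b : 𝒴 ⥤ᵇ 𝒵)
    (hab : RepByAlgSpWith P (BasedFunctor.comp a b)) (hΔ : RepByAlgSpWith P (diag b)) :
    RepByAlgSpWith P a := by
  have hΓ := repByAlgSpWith_graph (BasedFunctor.comp a b) b a (Iso.refl _) hΔ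
  have hsnd := repByAlgSpWith_fpSnd (BasedFunctor.comp a b) b hab
  have hfp : IsFibGrpd (fp (BasedFunctor.comp a b) b).p := Groth.Agent.S6401.result _ _ h𝒳 h𝒴 h𝒵
  exact repByAlgSpWith_comp hPb hPc hP h𝒳 hfp _ _ hΓ hsnd

theorem sectionEq_top : SectionEq (S := S) ⊤ := fun _ _ _ _ _ _ _ => trivial

/-- if `a ⋙ b` and `b` are representable by algebraic spaces then so is `a`. -/
theorem repByAlgSp1_of_comp {𝒳 𝒴 𝒵 : AlgSt.Cat S} (h𝒳 : IsFibGrpd 𝒳.p) (h𝒴 : IsFibGrpd 𝒴.p)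
    (h𝒵 : IsFibGrpd 𝒵.p) (a : 𝒳 ⥤ᵇ 𝒴) (b : 𝒴 ⥤ᵇ 𝒵)
    (hab : RepByAlgSp1 (BasedFunctor.comp a b)) (hb : RepByAlgSp1 b) : RepByAlgSp1 a := by
  rw [repByAlgSp1_iff_top] at hab ⊢
  exact repByAlgSpWith_of_comp stableAlg_top compAlg_top descAtlas_top h𝒳 h𝒴 h𝒵 a b hab
    (repByAlgSpWith_diag sectionEq_top b hb)

/-- the relative diagonal of a functor between categories whose diagonals are representable by algebraic spaces
is representable by algebraic spaces. -/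
theorem repByAlgSp1_diag {𝒴 𝒵 : AlgSt.Cat S} (h𝒴 : IsFibGrpd 𝒴.p) (h𝒵 : IsFibGrpd 𝒵.p)
    (hd𝒴 : RepByAlgSp1 (diag (toSelf 𝒴))) (hd𝒵 : RepByAlgSp1 (diag (toSelf 𝒵))) (g : 𝒴 ⥤ᵇ 𝒵) :
    RepByAlgSp1 (diag g) := by
  have h1 : RepByAlgSpWith ⊤ (diag (BasedFunctor.comp g (toSelf 𝒵))) :=
    repByAlgSpWith_diag_congr (selfOverIso (toSelf 𝒴) (BasedFunctor.comp g (toSelf 𝒵)))
      ((repByAlgSp1_iff_top _).1 hd𝒴)
  have h2 : RepByAlgSpWith ⊤ (cmpI g g (toSelf 𝒵) (cmpE g (toSelf 𝒵))) :=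
    repByAlgSpWith_cmpI g g (toSelf 𝒵) (cmpE g (toSelf 𝒵)) (cmpE_app g (toSelf 𝒵))
      ((repByAlgSp1_iff_top _).1 hd𝒵)
  have h3 : RepByAlgSpWith ⊤ (BasedFunctor.comp (diag g) (cmpI g g (toSelf 𝒵) (cmpE g (toSelf 𝒵)))) :=
    repByAlgSpWith_of_iso (diagCompIso g (toSelf 𝒵)).symm h1
  have hfp1 : IsFibGrpd (fp g g).p := Groth.Agent.S6401.result g g h𝒴 h𝒴 h𝒵
  have hself : IsFibGrpd (selfOver (Over S)).p := isFibGrpd_selfOver (Over S)
  have hfp2 : IsFibGrpd (fp (BasedFunctor.comp g (toSelf 𝒵)) (BasedFunctor.comp g (toSelf 𝒵))).p :=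
    Groth.Agent.S6401.result _ _ h𝒴 h𝒴 hself
  exact repByAlgSp1_of_comp h𝒴 hfp1 hfp2 (diag g) _ ((repByAlgSp1_iff_top _).2 h3)
    ((repByAlgSp1_iff_top _).2 h2)

/-- monotonicity of `RepByAlgSpWith` in the property (on morphisms from algebraic spaces to schemes). -/
theorem repByAlgSpWith_mono {P Q : MorphismProperty (AlgSp.Sp S)} {𝒳 : BasedCategory.{v, w} (Over S)}
    {𝒴 : BasedCategory.{v', w'} (Over S)} {f : 𝒳 ⥤ᵇ 𝒴}
    (hPQ : ∀ (A : AlgSp.Space S) (T : Over S) (a : A.obj ⟶ (AlgSp.yon S).obj T), P a → Q a)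
    (h : RepByAlgSpWith P f) : RepByAlgSpWith Q f := by
  intro U y
  obtain ⟨X, e, he, hP⟩ := h U y
  exact ⟨X, e, he, hPQ X U _ hP⟩

/-- a closed immersion is proper. -/
theorem isProperMor_of_closedImmersion {X Y : AlgSp.Sp S} (i : X ⟶ Y)
    (hi : AlgSp.RepWith @IsClosedImmersion i) : AlgSp.IsProperMor i := by
  have : Mono i := Groth.Agent.Helper15.mono_of_repWith
    (le_trans Groth.Agent.Helper15.isClosedImmersion_le_isImmersion Groth.Agent.Helper15.isImmersion_le_mono) i hi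
  refine ⟨Groth.Agent.Helper15.isSeparatedMor_of_mono i, ⟨?_, ?_⟩, ?_⟩
  · exact Groth.Agent.Helper15.locP_of_repWith Groth.Agent.Helper15.etale_le_lft i
      (Groth.Agent.Helper15.repWith_mono (le_trans Groth.Agent.Helper15.isClosedImmersion_le_isImmersion
        Groth.Agent.Helper15.isImmersion_le_lft) hi)
  · exact Groth.Agent.Helper15.isQuasiCompactMor_of_repWith i
      (Groth.Agent.Helper15.repWith_mono Groth.Agent.Helper15.isClosedImmersion_le_quasiCompact hi)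
  · exact Groth.Agent.Helper15.isUnivClosedMor_of_repWith i
      (Groth.Agent.Helper15.repWith_mono Groth.Agent.Helper15.isClosedImmersion_le_universallyClosed hi)

/-- if the diagonal of `f ⋙ g` has `P` and so does the diagonal of the comparison `𝒳 ×_𝒴 𝒳 ⟶ 𝒳 ×_𝒵 𝒳`,
then the diagonal of `f` has `P`. -/
theorem repByAlgSpWith_diag_of_comp {P : MorphismProperty (AlgSp.Sp S)} (hPb : StableAlg P) (hPc : CompAlg P)
    (hP : DescAtlas P) {𝒳 𝒴 𝒵 : AlgSt.Cat S} (h𝒳 : IsFibGrpd 𝒳.p) (h𝒴 : IsFibGrpd 𝒴.p)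
    (h𝒵 : IsFibGrpd 𝒵.p) (f : 𝒳 ⥤ᵇ 𝒴) (g : 𝒴 ⥤ᵇ 𝒵)
    (hfg : RepByAlgSpWith P (diag (BasedFunctor.comp f g)))
    (hΔ : RepByAlgSpWith P (diag (cmpI f f g (cmpE f g)))) : RepByAlgSpWith P (diag f) := by
  have hfp1 : IsFibGrpd (fp f f).p := Groth.Agent.S6401.result f f h𝒳 h𝒳 h𝒴
  have hfp2 : IsFibGrpd (fp (BasedFunctor.comp f g) (BasedFunctor.comp f g)).p :=
    Groth.Agent.S6401.result _ _ h𝒳 h𝒳 h𝒵
  exact repByAlgSpWith_of_comp hPb hPc hP h𝒳 hfp1 hfp2 (diag f) _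
    (repByAlgSpWith_of_iso (diagCompIso f g).symm hfg) hΔ

/-- the comparison `𝒳 ×_𝒴 𝒳 ⟶ 𝒳 ×_𝒵 𝒳` is representable by algebraic spaces for `g` a morphism of
categories with representable diagonals. -/
theorem repByAlgSp1_cmpI {𝒳 𝒴 𝒵 : AlgSt.Cat S} (h𝒴 : IsFibGrpd 𝒴.p) (h𝒵 : IsFibGrpd 𝒵.p)
    (hd𝒴 : RepByAlgSp1 (diag (toSelf 𝒴))) (hd𝒵 : RepByAlgSp1 (diag (toSelf 𝒵)))
    (f : 𝒳 ⥤ᵇ 𝒴) (g : 𝒴 ⥤ᵇ 𝒵) : RepByAlgSp1 (cmpI f f g (cmpE f g)) := by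
  rw [repByAlgSp1_iff_top]
  exact repByAlgSpWith_cmpI f f g (cmpE f g) (cmpE_app f g)
    ((repByAlgSp1_iff_top _).1 (repByAlgSp1_diag h𝒴 h𝒵 hd𝒴 hd𝒵 g))

theorem sectionEqOf_inf {R Q₁ Q₂ : MorphismProperty (AlgSp.Sp S)} (h₁ : SectionEqOf R Q₁)
    (h₂ : SectionEqOf R Q₂) : SectionEqOf R (Q₁ ⊓ Q₂) :=
  fun A T a s₁ s₂ hR e₁ e₂ => ⟨h₁ A T a s₁ s₂ hR e₁ e₂, h₂ A T a s₁ s₂ hR e₁ e₂⟩

theorem sectionEqOf_of_sectionEq {R Q : MorphismProperty (AlgSp.Sp S)} (h : SectionEq Q) :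
    SectionEqOf R Q :=
  fun A T a s₁ s₂ _ e₁ e₂ => h A T a s₁ s₂ e₁ e₂

/-- the diagonal of a separated functor (representable by algebraic spaces) is proper. -/
theorem repByAlgSpWith_isProperMor_diag {𝒳 𝒴 : AlgSt.Cat S} (f : 𝒳 ⥤ᵇ 𝒴)
    (hf : RepByAlgSpWith AlgSp.IsSeparatedMor f) : RepByAlgSpWith AlgSp.IsProperMor (diag f) :=
  repByAlgSpWith_mono (fun _ _ a h => isProperMor_of_closedImmersion a h)
    (repByAlgSpWith_diag_of sectionEqOf_separated f hf)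

/-- the diagonal of a quasi-separated functor (representable by algebraic spaces) is quasi-compact and
quasi-separated. -/
theorem repByAlgSpWith_qcqs_diag {𝒳 𝒴 : AlgSt.Cat S} (f : 𝒳 ⥤ᵇ 𝒴)
    (hf : RepByAlgSpWith AlgSp.IsQuasiSeparatedMor f) :
    RepByAlgSpWith (AlgSp.IsQuasiCompactMor ⊓ AlgSp.IsQuasiSeparatedMor) (diag f) := by
  refine repByAlgSpWith_mono (P := AlgSp.RepWith @QuasiCompact ⊓ MorphismProperty.monomorphisms (AlgSp.Sp S))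
    (fun _ _ a h => ?_)
    (repByAlgSpWith_diag_of (sectionEqOf_inf sectionEqOf_quasiSeparated
      (sectionEqOf_of_sectionEq sectionEq_mono)) f hf)
  have : Mono a := h.2
  exact ⟨Groth.Agent.Helper15.isQuasiCompactMor_of_repWith a h.1,
    Groth.Agent.Helper15.isQuasiSeparatedMor_of_mono a⟩

end Groth.Agent.Helper19.CancelLib
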