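import Mathlib
import Groth.Agent.Lib.Helper19.CancelLib
import Groth.Agent.Lib.Helper15.AlgSpProper

/-!
# From the diagonal of a functor to the diagonals of its base changes (helper19)
-/

set_option autoImplicit false
set_option backward.isDefEq.respectTransparency false

universe w₄ v₄ w₃ v₃ w' v' w v u

open CategoryTheory CategoryTheory.Limits Functor AlgebraicGeometry Opposite

namespace Groth.Agent.Helper19.DiagConv

open FibCat AlgSt Stk Groth.Agent.Helper19.FibLib Groth.Agent.Helper19.StLib Groth.Agent.Helper19.PshLib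
  Groth.Agent.Helper19.PshSt Groth.Agent.Helper19.DiagLib Groth.Agent.Helper19.DiagAlgSp
  Groth.Agent.Helper19.DiagFib Groth.Agent.Helper19.CompLib Groth.Agent.Helper19.AlgP
  Groth.Agent.Helper19.DiagRep Groth.Agent.Helper19.DiagComp Groth.Agent.Helper19.DiagSp
  Groth.Agent.Helper19.CancelLib Groth.Agent.Helper19.SpProps

variable {S : Scheme.{u}}

/-- a property of the diagonal of `f` passes to the diagonals of the base changes of `f` to schemes. -/
theorem repBySpWith_diagonal_of_diag {Q : MorphismProperty (AlgSp.Sp S)} (hQ : StableAlg Q)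
    {𝒳 𝒴 : AlgSt.Cat S} (f : 𝒳 ⥤ᵇ 𝒴) (h : RepByAlgSpWith Q (diag f)) {T : Over S} (t : overCat T ⥤ᵇ 𝒴)
    {A : AlgSp.Sp S} (eA : ofSp A ⥤ᵇ fp t f) (heA : IsEquivOver eA) :
    AlgSp.RepBySpWith (algP Q)
      (pullback.diagonal (spMapOfOver (BasedFunctor.comp eA (fpFst t f)))).hom := by
  have := algP_respectsIso hQ
  have h' : RepByAlgSpWith (algP Q) (diag f) := (repByAlgSpWith_algP_iff Q (diag f)).2 h
  have h5 := (repByAlgSpWith_diag_iff eA (fpFst t f) heA).1 (repByAlgSpWith_diag_fpFst f t h')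
  exact (repBySpWith_iff _ _).2 h5

/-- from representability by algebraic spaces with `Q` to representability by schemes with `P`, for a
representable map of sheaves. -/
theorem repWith_of_repBySpWith {P : MorphismProperty Scheme.{u}} {Q : MorphismProperty (AlgSp.Sp S)}
    (hQP : ∀ {U V : Over S} (φ : V ⟶ U), Q ((AlgSp.yon S).map φ) → P φ.left) {X Y : AlgSp.Sp S} (d : X ⟶ Y)
    (hrep : AlgSp.Representable d) (h : AlgSp.RepBySpWith (algP Q) d.hom) : AlgSp.RepWith P d := by
  rw [AlgSp.repWith_iff]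
  refine ⟨hrep, fun U V g fst snd sq => ?_⟩
  have sqP := sq.map (sheafToPresheaf (AlgSp.J S) (Type (u + 1)))
  obtain ⟨hsh, hA, hQ⟩ := h g.hom fst.hom ((AlgSp.yon S).map snd).hom sqP
  exact hQP snd (hQ (AlgSp.IsAlgSpace.yon_obj V) (AlgSp.IsAlgSpace.yon_obj U))

theorem universallyClosed_of_isUnivClosedMor_yon_map {U V : Over S} (φ : V ⟶ U)
    (h : AlgSp.IsUnivClosedMor ((AlgSp.yon S).map φ)) : UniversallyClosed φ.left :=
  (AlgSp.repWith_yon_map_iff _ φ).1
    ((Groth.Agent.Helper15.repWith_universallyClosed_iff _ (AlgSp.representable_yon_map φ)).2 h)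

theorem quasiCompact_of_isQuasiCompactMor_yon_map {U V : Over S} (φ : V ⟶ U)
    (h : AlgSp.IsQuasiCompactMor ((AlgSp.yon S).map φ)) : QuasiCompact φ.left :=
  (AlgSp.repWith_yon_map_iff _ φ).1
    ((Groth.Agent.Helper15.repWith_quasiCompact_iff _ (AlgSp.representable_yon_map φ)).2 h)

/-- universally closed diagonal implies separated, for functors representable by algebraic spaces. -/
theorem repByAlgSpWith_isSeparatedMor_of_univClosed_diag {𝒳 𝒴 : AlgSt.Cat S} (f : 𝒳 ⥤ᵇ 𝒴)
    (hf : RepByAlgSp1 f) (h4 : RepByAlgSpWith AlgSp.IsUnivClosedMor (diag f)) :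
    RepByAlgSpWith AlgSp.IsSeparatedMor f := by
  intro T t
  obtain ⟨A, eA, heA⟩ := hf T t
  refine ⟨A, eA, heA, ?_⟩
  have h6 := repBySpWith_diagonal_of_diag stableAlg_isUnivClosedMor f h4 t eA heA
  have h0 := (Groth.Agent.Helper15.diagonal_properties A.property
    (spMapOfOver (BasedFunctor.comp eA (fpFst t f)))).1
  have h7 : AlgSp.RepWith @UniversallyClosed
      (pullback.diagonal (spMapOfOver (BasedFunctor.comp eA (fpFst t f)))) :=
    repWith_of_repBySpWith (fun φ hφ => universallyClosed_of_isUnivClosedMor_yon_map φ hφ) _ h0 h6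
  exact ((Groth.Agent.Helper15.isSeparatedMor_iff_diagonal A.property _).1).2
    (Groth.Agent.Helper15.isUnivClosedMor_of_repWith _ h7)

/-- quasi-compact diagonal implies quasi-separated, for functors representable by algebraic spaces. -/
theorem repByAlgSpWith_isQuasiSeparatedMor_of_qc_diag {𝒳 𝒴 : AlgSt.Cat S} (f : 𝒳 ⥤ᵇ 𝒴)
    (hf : RepByAlgSp1 f) (h4 : RepByAlgSpWith AlgSp.IsQuasiCompactMor (diag f)) :
    RepByAlgSpWith AlgSp.IsQuasiSeparatedMor f := by
  intro T t
  obtain ⟨A, eA, heA⟩ := hf T t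
  refine ⟨A, eA, heA, ?_⟩
  have h6 := repBySpWith_diagonal_of_diag stableAlg_isQuasiCompactMor f h4 t eA heA
  have h0 := (Groth.Agent.Helper15.diagonal_properties A.property
    (spMapOfOver (BasedFunctor.comp eA (fpFst t f)))).1
  exact repWith_of_repBySpWith (fun φ hφ => quasiCompact_of_isQuasiCompactMor_yon_map φ hφ) _ h0 h6

/-- the diagonal of a quasi-separated functor (representable by algebraic spaces) is of finite type. -/
theorem repByAlgSpWith_isFiniteTypeMor_diag {𝒳 𝒴 : AlgSt.Cat S} (f : 𝒳 ⥤ᵇ 𝒴)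
    (hf : RepByAlgSpWith AlgSp.IsQuasiSeparatedMor f) :
    RepByAlgSpWith AlgSp.IsFiniteTypeMor (diag f) := by
  refine repByAlgSpWith_mono (P := AlgSp.RepWith @QuasiCompact ⊓ AlgSp.RepWith @LocallyOfFiniteType)
    (fun _ _ a h => ?_)
    (repByAlgSpWith_diag_of (sectionEqOf_inf sectionEqOf_quasiSeparated
      (sectionEqOf_of_sectionEq (sectionEq_repWith @LocallyOfFiniteType (fun A T a =>
        (Groth.Agent.Helper15.diagonal_properties A.property a).2.1)))) f hf)
  exact ⟨Groth.Agent.Helper15.locP_of_repWith Groth.Agent.Helper15.etale_le_lft a h.2,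
    Groth.Agent.Helper15.isQuasiCompactMor_of_repWith a h.1⟩

end Groth.Agent.Helper19.DiagConv
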