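import Mathlib
import Groth.Agent.Lib.Helper22.ArtFlat

/-!
# Non-zero-divisors on flat modules over a local ring with nilpotent maximal ideal (helper19)
-/

set_option autoImplicit false

namespace Groth.Agent.Helper19.ArtReg

open IsLocalRing Function Groth.Agent.Helper1 Groth.Agent.Helper22.ArtFlat Pointwise

universe u v w

section flat

variable {A : Type u} [CommRing A] {M : Type v} [AddCommGroup M] [Module A M]

theorem exists_sum_of_mem_smul_top (I : Ideal A) (x : M) (h : x ∈ I • (⊤ : Submodule A M)) :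
    ∃ (ι : Type) (_ : Fintype ι) (b : ι → A) (s : ι → M), (∀ i, b i ∈ I) ∧ x = ∑ i, b i • s i := by
  refine Submodule.smul_induction_on h ?_ ?_
  · intro r hr n _
    exact ⟨Unit, inferInstance, fun _ => r, fun _ => n, fun _ => hr, by simp⟩
  · rintro x y ⟨ι₁, _, b₁, s₁, hb₁, h₁⟩ ⟨ι₂, _, b₂, s₂, hb₂, h₂⟩
    refine ⟨ι₁ ⊕ ι₂, inferInstance, Sum.elim b₁ b₂, Sum.elim s₁ s₂, ?_, ?_⟩
    · rintro (i | i)
      · exact hb₁ i
      · exact hb₂ i
    · rw [Fintype.sum_sum_type, h₁, h₂]
      simp

/-- For a flat module, `(I M : a) = (I : a) M`. -/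
theorem mem_colon_smul_top_of_flat [Module.Flat A M] (I : Ideal A) (a : A) (z : M)
    (h : a • z ∈ I • (⊤ : Submodule A M)) : z ∈ (I.colon {a}) • (⊤ : Submodule A M) := by
  classical
  obtain ⟨ι, _, b, s, hb, hsum⟩ := exists_sum_of_mem_smul_top I _ h
  let f : Option ι → A := fun o => o.elim a fun i => -b i
  let x : Option ι → M := fun o => o.elim z s
  have hrel : ∑ o, f o • x o = 0 := by
    rw [Fintype.sum_option]
    simp only [f, x, Option.elim_none, Option.elim_some, neg_smul, Finset.sum_neg_distrib]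
    rw [hsum, add_neg_cancel]
  obtain ⟨k, α, y, hx, hα⟩ := Module.Flat.isTrivialRelation_of_sum_smul_eq_zero hrel
  have hz : z = ∑ j, α none j • y j := hx none
  rw [hz]
  refine Submodule.sum_mem _ fun j _ => Submodule.smul_mem_smul ?_ Submodule.mem_top
  rw [Submodule.mem_colon_singleton, smul_eq_mul]
  have := hα j
  rw [Fintype.sum_option] at this
  simp only [f, Option.elim_none, Option.elim_some, neg_mul, Finset.sum_neg_distrib] at this
  have h2 : a * α none j = ∑ i, b i * α (some i) j := by
    rw [← sub_eq_zero, sub_eq_add_neg]; exact this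
  rw [mul_comm, h2]
  exact Ideal.sum_mem _ fun i _ => Ideal.mul_mem_right _ _ (hb i)

end flat

section loc

variable {A : Type u} [CommRing A]
  {S : Type w} [CommRing S] [Algebra A S]
  {M : Type v} [AddCommGroup M] [Module A M] [Module S M] [IsScalarTower A S M]

/-- `r` is a non-zero-divisor on `M ⧸ J M`. -/
def NzdMod (J : Ideal A) (r : S) (M : Type v) [AddCommGroup M] [Module A M] [Module S M] : Prop :=
  ∀ z : M, r • z ∈ J • (⊤ : Submodule A M) → z ∈ J • (⊤ : Submodule A M)

/-- multiplication by `r` as an `A`-linear map. -/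
def mulMap (A : Type u) [CommRing A] {S : Type w} [CommRing S] [Algebra A S] (M : Type v)
    [AddCommGroup M] [Module A M] [Module S M] [IsScalarTower A S M] (r : S) : M →ₗ[A] M :=
  (LinearMap.lsmul S M r).restrictScalars A

@[simp] theorem mulMap_apply (r : S) (z : M) : mulMap A M r z = r • z := rfl

theorem nzdMod_iff_lTensor_injective (J : Ideal A) (r : S) :
    NzdMod J r M ↔ Injective ((mulMap A M r).lTensor (A ⧸ J)) := by
  rw [lTensor_quotient_injective_iff]
  rfl

theorem nzdMod_bot_iff (r : S) : NzdMod (⊥ : Ideal A) r M ↔ ∀ z : M, r • z = 0 → z = 0 := by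
  unfold NzdMod
  simp only [Submodule.bot_smul, Submodule.mem_bot]

end loc

section main

variable {A : Type u} [CommRing A] [IsLocalRing A]
  {S : Type w} [CommRing S] [Algebra A S]
  {M : Type v} [AddCommGroup M] [Module A M] [Module S M] [IsScalarTower A S M]

/-- (i) regular modulo the maximal ideal implies regular modulo every ideal. -/
theorem nzdMod_of_nzdMod_maximalIdeal [Module.Flat A M] (hm : IsNilpotent (maximalIdeal A))
    (r : S) (h : NzdMod (maximalIdeal A) r M) (I : Ideal A) : NzdMod I r M := by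
  rw [nzdMod_iff_lTensor_injective] at h ⊢
  exact lTensor_injective_of_nilpotent hm (mulMap A M r) h (A ⧸ I)

/-- (ii) regular modulo the maximal ideal implies the quotient is flat. -/
theorem flat_quotSMulTop_of_nzdMod_maximalIdeal [Module.Flat A M]
    (hm : IsNilpotent (maximalIdeal A)) (r : S) (h : NzdMod (maximalIdeal A) r M) :
    Module.Flat A (QuotSMulTop r M) := by
  rw [nzdMod_iff_lTensor_injective] at h
  refine flat_of_exact hm (mulMap A M r)
    ((Submodule.mkQ (r • (⊤ : Submodule S M))).restrictScalars A) ?_ ?_ h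
  · intro z
    constructor
    · intro hz
      have hz' : z ∈ r • (⊤ : Submodule S M) := (Submodule.Quotient.mk_eq_zero _).1 hz
      obtain ⟨w, _, rfl⟩ := (Submodule.mem_smul_pointwise_iff_exists _ _ _).1 hz'
      exact ⟨w, rfl⟩
    · rintro ⟨w, rfl⟩
      exact (Submodule.Quotient.mk_eq_zero _).2
        (Submodule.smul_mem_pointwise_smul _ _ _ Submodule.mem_top)
  · exact Submodule.mkQ_surjective _

/-- (iii) regular modulo a proper ideal implies regular modulo the maximal ideal. -/
theorem nzdMod_maximalIdeal_of_nzdMod [Module.Flat A M] (hm : IsNilpotent (maximalIdeal A))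
    (r : S) (I : Ideal A) (hI : I ≠ ⊤) (h : NzdMod I r M) : NzdMod (maximalIdeal A) r M := by
  classical
  have hIm : I ≤ maximalIdeal A := IsLocalRing.le_maximalIdeal hI
  -- the least `N` with `m^N ≤ I`
  obtain ⟨N₀, hN₀⟩ := hm
  have hex : ∃ N, maximalIdeal A ^ N ≤ I := ⟨N₀, by rw [hN₀]; exact bot_le⟩
  set N := Nat.find hex with hN
  have hNle : maximalIdeal A ^ N ≤ I := Nat.find_spec hex
  have hNpos : N ≠ 0 := by
    intro h0
    rw [h0, pow_zero, Ideal.one_eq_top, top_le_iff] at hNle
    exact hI hNle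
  obtain ⟨N', hN'⟩ : ∃ N', N = N' + 1 := ⟨N - 1, by omega⟩
  have hnot : ¬ maximalIdeal A ^ N' ≤ I := Nat.find_min hex (by omega)
  obtain ⟨a, haN, haI⟩ := Set.not_subset.1 hnot
  have ham : ∀ b ∈ maximalIdeal A, a * b ∈ I := by
    intro b hb
    apply hNle
    rw [hN', pow_succ]
    exact Ideal.mul_mem_mul haN hb
  have hcolon : I.colon {a} ≤ maximalIdeal A := by
    apply IsLocalRing.le_maximalIdeal
    intro htop
    have : (1 : A) ∈ I.colon {a} := htop ▸ Submodule.mem_top
    rw [Submodule.mem_colon_singleton, one_smul] at this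
    exact haI this
  intro z hz
  -- a • (r • z) ∈ I M
  have h1 : a • (r • z) ∈ I • (⊤ : Submodule A M) := by
    obtain ⟨ι, _, b, s, hb, hsum⟩ := exists_sum_of_mem_smul_top _ _ hz
    rw [hsum, Finset.smul_sum]
    refine Submodule.sum_mem _ fun i _ => ?_
    rw [smul_smul]
    exact Submodule.smul_mem_smul (ham _ (hb i)) Submodule.mem_top
  have h2 : r • (a • z) ∈ I • (⊤ : Submodule A M) := by
    rwa [smul_comm]
  have h3 := h _ h2
  have h4 := mem_colon_smul_top_of_flat I a z h3
  exact Submodule.smul_mono_left hcolon h4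

end main

end Groth.Agent.Helper19.ArtReg
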