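import Mathlib
import Groth.Agent.Lib.Helper19.ArtReg

/-!
# Regular sequences on flat modules over a local ring with nilpotent maximal ideal (helper19)
-/

set_option autoImplicit false

namespace Groth.Agent.Helper19.ArtReg

open IsLocalRing Function Groth.Agent.Helper1 Groth.Agent.Helper22.ArtFlat Pointwise
open RingTheory.Sequence TensorProduct

universe u v w

section basic

variable {A : Type u} [CommRing A] {S : Type w} [CommRing S] [Algebra A S]
  {M : Type v} [AddCommGroup M] [Module A M] [Module S M] [IsScalarTower A S M]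

theorem mem_map_smul_top_iff (I : Ideal A) (x : M) :
    x ∈ (I.map (algebraMap A S) • (⊤ : Submodule S M)) ↔ x ∈ I • (⊤ : Submodule A M) := by
  have := Ideal.smul_restrictScalars (R := A) (S := S) I (⊤ : Submodule S M)
  rw [Submodule.restrictScalars_top] at this
  rw [← this, Submodule.restrictScalars_mem]

theorem isSMulRegular_quot_iff_nzdMod (I : Ideal A) (r : S) :
    IsSMulRegular (M ⧸ (I.map (algebraMap A S) • (⊤ : Submodule S M))) r ↔ NzdMod I r M := by
  rw [isSMulRegular_quotient_iff_mem_of_smul_mem]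
  unfold NzdMod
  simp only [mem_map_smul_top_iff]

theorem isSMulRegular_iff_nzdMod_bot (r : S) :
    IsSMulRegular M r ↔ NzdMod (⊥ : Ideal A) r M := by
  rw [nzdMod_bot_iff, isSMulRegular_iff_right_eq_zero_of_smul]

theorem subsingleton_of_smul_top_eq_top (I : Ideal A) (hI : IsNilpotent I)
    (h : I • (⊤ : Submodule A M) = ⊤) : Subsingleton M := by
  obtain ⟨k, hk⟩ := hI
  have : ∀ j : ℕ, I ^ j • (⊤ : Submodule A M) = ⊤ := by
    intro j
    induction j with
    | zero => simp
    | succ j ih => rw [pow_succ, mul_smul, h, ih]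
  have h2 := this k
  rw [hk, Ideal.zero_eq_bot, Submodule.bot_smul] at h2
  exact (Submodule.subsingleton_iff A).1 (subsingleton_of_bot_eq_top h2)

/-- `(M/rM)/J(M/rM) ≃ (M/JM)/r(M/JM)` -/
noncomputable def quotSwap (J : Ideal S) (r : S) :
    ((QuotSMulTop r M) ⧸ (J • (⊤ : Submodule S (QuotSMulTop r M)))) ≃ₗ[S]
      QuotSMulTop r (M ⧸ (J • (⊤ : Submodule S M))) :=
  (quotTensorEquivQuotSMul (QuotSMulTop r M) J).symm ≪≫ₗ
    LinearEquiv.lTensor (S ⧸ J) (QuotSMulTop.equivQuotTensor r M) ≪≫ₗ
    TensorProduct.leftComm S (S ⧸ J) (S ⧸ Ideal.span {r}) M ≪≫ₗ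
    LinearEquiv.lTensor (S ⧸ Ideal.span {r}) (quotTensorEquivQuotSMul M J) ≪≫ₗ
    (QuotSMulTop.equivQuotTensor r (M ⧸ (J • (⊤ : Submodule S M)))).symm

theorem le_of_le_sup_smul (I : Ideal A) (hI : IsNilpotent I) (N F : Submodule A M)
    (h : N ≤ F ⊔ I • N) : N ≤ F := by
  obtain ⟨k, hk⟩ := hI
  have key : ∀ j : ℕ, N ≤ F ⊔ I ^ j • N := by
    intro j
    induction j with
    | zero => simp
    | succ j ih =>
      calc N ≤ F ⊔ I • N := h
        _ ≤ F ⊔ I • (F ⊔ I ^ j • N) := sup_le_sup_left (Submodule.smul_mono le_rfl ih) _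
        _ ≤ F ⊔ I ^ (j + 1) • N := by
          rw [Submodule.smul_sup, ← mul_smul, ← pow_succ']
          exact sup_le le_sup_left
            (sup_le (le_sup_of_le_left Submodule.smul_le_right) le_sup_right)
  have := key k
  rw [hk, Ideal.zero_eq_bot, Submodule.bot_smul, sup_bot_eq] at this
  exact this

/-- If `P ⧸ K` is flat then `K ∩ I P = I K`. -/
theorem mem_smul_of_mem_smul_top_of_flat_quotient (K : Submodule A M) [Module.Flat A (M ⧸ K)]
    (I : Ideal A) (d : M) (hdK : d ∈ K) (hd : d ∈ I • (⊤ : Submodule A M)) : d ∈ I • K := by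
  classical
  obtain ⟨ι, _, a, p, ha, hsum⟩ := exists_sum_of_mem_smul_top I d hd
  have hrel : ∑ i, a i • K.mkQ (p i) = 0 := by
    simp_rw [← map_smul]
    rw [← map_sum, ← hsum]
    exact (Submodule.Quotient.mk_eq_zero _).2 hdK
  obtain ⟨k, α, y, hx, hα⟩ := Module.Flat.isTrivialRelation_of_sum_smul_eq_zero hrel
  choose y' hy' using fun j => Submodule.mkQ_surjective K (y j)
  have hκ : ∀ i, p i - ∑ j, α i j • y' j ∈ K := by
    intro i
    rw [← Submodule.Quotient.mk_eq_zero, ← Submodule.mkQ_apply, map_sub, map_sum]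
    simp_rw [map_smul, hy']
    rw [← hx i]
    exact sub_self _
  have hd2 : d = ∑ i, a i • (p i - ∑ j, α i j • y' j) := by
    simp_rw [smul_sub, Finset.sum_sub_distrib, Finset.smul_sum, smul_smul]
    rw [Finset.sum_comm]
    simp_rw [← Finset.sum_smul, hα, zero_smul, Finset.sum_const_zero, sub_zero]
    exact hsum
  rw [hd2]
  exact Submodule.sum_mem _ fun i _ => Submodule.smul_mem_smul (ha i) (hκ i)

end basic

section main

variable {A : Type u} [CommRing A] [IsLocalRing A]
  {S : Type w} [CommRing S] [Algebra A S]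

theorem nontrivial_quot_iff (hm : IsNilpotent (maximalIdeal A)) (I : Ideal A) (hI : I ≠ ⊤)
    (M : Type v) [AddCommGroup M] [Module A M] [Module S M] [IsScalarTower A S M] :
    Nontrivial (M ⧸ (I.map (algebraMap A S) • (⊤ : Submodule S M))) ↔ Nontrivial M := by
  constructor
  · intro h
    by_contra hM
    rw [not_nontrivial_iff_subsingleton] at hM
    exact not_subsingleton _ (inferInstance : Subsingleton
      (M ⧸ (I.map (algebraMap A S) • (⊤ : Submodule S M))))
  · intro h
    rw [Submodule.Quotient.nontrivial_iff]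
    intro htop
    have hInil : IsNilpotent I := by
      obtain ⟨k, hk⟩ := hm
      refine ⟨k, ?_⟩
      have := Ideal.pow_right_mono (IsLocalRing.le_maximalIdeal hI) k
      rw [hk] at this
      exact le_bot_iff.1 this
    have h2 : I • (⊤ : Submodule A M) = ⊤ := by
      ext x
      rw [← mem_map_smul_top_iff (S := S), htop]
      simp
    have := subsingleton_of_smul_top_eq_top I hInil h2
    exact not_subsingleton M this

theorem isRegular_iff_isRegular_quot (hm : IsNilpotent (maximalIdeal A)) (I : Ideal A)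
    (hI : I ≠ ⊤) (rs : List S) :
    ∀ (M : Type v) [AddCommGroup M] [Module A M] [Module S M] [IsScalarTower A S M]
      [Module.Flat A M],
      IsRegular M rs ↔
        IsRegular (M ⧸ (I.map (algebraMap A S) • (⊤ : Submodule S M))) rs := by
  have hbot : (⊥ : Ideal A) ≠ ⊤ := bot_ne_top
  induction rs with
  | nil =>
    intro M _ _ _ _ _
    rw [isRegular_iff, isRegular_iff]
    simp only [IsWeaklyRegular.nil, true_and, Ideal.ofList_nil, Submodule.bot_smul, ne_eq]
    rw [eq_comm, eq_comm (a := (⊤ : Submodule S (M ⧸ _))),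
      subsingleton_iff_bot_eq_top, subsingleton_iff_bot_eq_top,
      Submodule.subsingleton_iff, Submodule.subsingleton_iff, not_subsingleton_iff_nontrivial,
      not_subsingleton_iff_nontrivial]
    exact (nontrivial_quot_iff hm I hI M).symm
  | cons r rs ih =>
    intro M _ _ _ _ _
    rw [isRegular_cons_iff, isRegular_cons_iff, isSMulRegular_quot_iff_nzdMod,
      isSMulRegular_iff_nzdMod_bot (A := A)]
    constructor
    · rintro ⟨h1, h2⟩
      have h3 := nzdMod_maximalIdeal_of_nzdMod hm r ⊥ hbot h1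
      have : Module.Flat A (QuotSMulTop r M) := flat_quotSMulTop_of_nzdMod_maximalIdeal hm r h3
      refine ⟨nzdMod_of_nzdMod_maximalIdeal hm r h3 I, ?_⟩
      rw [ih (QuotSMulTop r M)] at h2
      exact ((quotSwap (I.map (algebraMap A S)) r).isRegular_congr rs).1 h2
    · rintro ⟨h1, h2⟩
      have h3 := nzdMod_maximalIdeal_of_nzdMod hm r I hI h1
      have : Module.Flat A (QuotSMulTop r M) := flat_quotSMulTop_of_nzdMod_maximalIdeal hm r h3
      refine ⟨nzdMod_of_nzdMod_maximalIdeal hm r h3 ⊥, ?_⟩
      rw [ih (QuotSMulTop r M)]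
      exact ((quotSwap (I.map (algebraMap A S)) r).isRegular_congr rs).2 h2

theorem flat_quot_of_isWeaklyRegular (hm : IsNilpotent (maximalIdeal A)) (rs : List S) :
    ∀ (M : Type v) [AddCommGroup M] [Module A M] [Module S M] [IsScalarTower A S M]
      [Module.Flat A M], IsWeaklyRegular M rs →
        Module.Flat A (M ⧸ (Ideal.ofList rs • (⊤ : Submodule S M))) := by
  have hbot : (⊥ : Ideal A) ≠ ⊤ := bot_ne_top
  induction rs with
  | nil =>
    intro M _ _ _ _ _ _
    have h0 : (Ideal.ofList ([] : List S) • (⊤ : Submodule S M)) = ⊥ := by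
      rw [Ideal.ofList_nil, Submodule.bot_smul]
    exact Module.Flat.of_linearEquiv
      ((Submodule.quotEquivOfEqBot _ h0).restrictScalars A)
  | cons r rs ih =>
    intro M _ _ _ _ _ h
    rw [isWeaklyRegular_cons_iff, isSMulRegular_iff_nzdMod_bot (A := A)] at h
    have h3 := nzdMod_maximalIdeal_of_nzdMod hm r ⊥ hbot h.1
    have : Module.Flat A (QuotSMulTop r M) := flat_quotSMulTop_of_nzdMod_maximalIdeal hm r h3
    have h4 := ih (QuotSMulTop r M) h.2
    exact Module.Flat.of_linearEquiv
      ((Submodule.quotOfListConsSMulTopEquivQuotSMulTopInner M r rs).restrictScalars A)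

end main

end Groth.Agent.Helper19.ArtReg
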