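import Mathlib
import Groth.Agent.Lib.Helper19.DiagConv
import Groth.Agent.Lib.Helper19.SmLocLib

/-!
# Conjunctions of properties of functors representable by algebraic spaces (helper19)
-/

set_option autoImplicit false
set_option backward.isDefEq.respectTransparency false

universe w₄ v₄ w₃ v₃ w' v' w v u

open CategoryTheory CategoryTheory.Limits Functor AlgebraicGeometry Opposite

namespace Groth.Agent.Helper19.InfLib

open FibCat AlgSt Stk Groth.Agent.Helper19.FibLib Groth.Agent.Helper19.StLib Groth.Agent.Helper19.AlgP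
  Groth.Agent.Helper19.SmLocLib

variable {S : Scheme.{u}}

/-- `RepByAlgSpWith` of a conjunction, the second property being stable under base change. -/
theorem repByAlgSpWith_inf {P Q : MorphismProperty (AlgSp.Sp S)} (hQ : StableAlg Q)
    {𝒳 : BasedCategory.{v, w} (Over S)} {𝒴 : BasedCategory.{v', w'} (Over S)} {f : 𝒳 ⥤ᵇ 𝒴}
    (hP : RepByAlgSpWith P f) (hQf : RepByAlgSpWith Q f) : RepByAlgSpWith (P ⊓ Q) f := by
  have := algP_respectsIso hQ
  intro U y
  obtain ⟨X, e, he, hPx⟩ := hP U y
  have h2 : RepOver (algP Q) (fpFst y f) := (repByAlgSpWith_algP_iff Q f).2 hQf U y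
  exact ⟨X, e, he, hPx, RepOver.of_any_equiv h2 X e he X.property (AlgSp.IsAlgSpace.yon_obj U)⟩

end Groth.Agent.Helper19.InfLib
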