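import Mathlib
import Groth.Agent.Lib.Helper19.DiagSp

/-!
# Recognising fibre products of sheaves from 2-fibre products of their categories (helper19)
-/

set_option autoImplicit false
set_option backward.isDefEq.respectTransparency false

universe w₄ v₄ w₃ v₃ w' v' w v u

open CategoryTheory CategoryTheory.Limits Functor AlgebraicGeometry Opposite

namespace Groth.Agent.Helper19.PbRec

open FibCat AlgSt Stk Groth.Agent.Helper19.FibLib Groth.Agent.Helper19.StLib Groth.Agent.Helper19.PshLib
  Groth.Agent.Helper19.PshSt Groth.Agent.Helper19.DiagLib Groth.Agent.Helper19.ImmLib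

variable {S : Scheme.{u}}

section

variable {A B C : AlgSp.Sp S} {T : Over S} (α : ofSp A ⥤ᵇ overCat T) (β : ofSp B ⥤ᵇ overCat T)
  (E : ofSp C ⥤ᵇ fp β α)

/-- the first projection as a map of sheaves. -/
noncomputable def γMap : C ⟶ B := ObjectProperty.homMk (pshMapOf (BasedFunctor.comp E (fpFst β α)))

/-- the second projection as a map of sheaves. -/
noncomputable def qMap : C ⟶ A := ObjectProperty.homMk (pshMapOf (BasedFunctor.comp E (fpSnd β α)))

theorem isPbSec_ba : IsPbSec (pullback.fst (spMapOfOver β) (spMapOfOver α)).hom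
    (pullback.snd (spMapOfOver β) (spMapOfOver α)).hom (spMapOfOver β).hom (spMapOfOver α).hom :=
  IsPbSec.of_isPullback (IsPullback.map (sheafToPresheaf (AlgSp.J S) (Type (u + 1)))
    (IsPullback.of_hasPullback (spMapOfOver β) (spMapOfOver α)))

/-- the comparison functor from the category of the fibre product of sheaves. -/
noncomputable def Φ : ofSp (pullback (spMapOfOver β) (spMapOfOver α)) ⥤ᵇ fp β α :=
  haveI := IsEquivOver.isEquivalence (isEquivOver_toOverCat T)
  BasedFunctor.comp (pbFunctor (isPbSec_ba α β).w)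
    (fpMap (BasedFunctor.id (ofSp B)) (BasedFunctor.id (ofSp A)) (toOverCat T)
      (isoOfSpMapOfOver β).symm (isoOfSpMapOfOver α).symm)

theorem isEquivOver_Φ : IsEquivOver (Φ α β) := by
  have := IsEquivOver.isEquivalence (isEquivOver_toOverCat T)
  exact isEquivOver_pbFunctor_fpMap (isPbSec_ba α β) (BasedFunctor.id (ofSp B)) (isEquivOver_id _)
    (BasedFunctor.id (ofSp A)) (isEquivOver_id _) (toOverCat T) β α
    (isoOfSpMapOfOver β).symm (isoOfSpMapOfOver α).symm

theorem Φ_comp_fpFst : BasedFunctor.comp (Φ α β) (fpFst β α) =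
    ofSpMap (pullback.fst (spMapOfOver β) (spMapOfOver α)) := rfl

theorem Φ_comp_fpSnd : BasedFunctor.comp (Φ α β) (fpSnd β α) =
    ofSpMap (pullback.snd (spMapOfOver β) (spMapOfOver α)) := rfl

/-- the square of sheaves underlying an equivalence with a 2-fibre product over a slice is cartesian. -/
theorem isPullback_of_equiv (hE : IsEquivOver E) :
    IsPullback (γMap α β E) (qMap α β E) (spMapOfOver β) (spMapOfOver α) := by
  obtain ⟨Ψ, hΨ, ⟨η⟩, ⟨ε⟩⟩ := IsEquivOver.exists_inv (isEquivOver_Φ α β)
  let E' : ofSp C ⥤ᵇ ofSp (pullback (spMapOfOver β) (spMapOfOver α)) := BasedFunctor.comp E Ψ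
  have hE' : IsEquivOver E' := IsEquivOver.comp hE hΨ
  obtain ⟨j, hj⟩ := exists_iso_of_isEquivOver E' hE'
  let j' : C ≅ pullback (spMapOfOver β) (spMapOfOver α) :=
    { hom := ObjectProperty.homMk j.hom
      inv := ObjectProperty.homMk j.inv
      hom_inv_id := by apply ObjectProperty.hom_ext; exact j.hom_inv_id
      inv_hom_id := by apply ObjectProperty.hom_ext; exact j.inv_hom_id }
  have θ : E ≅ BasedFunctor.comp E' (Φ α β) :=
    (eqToIso (BasedFunctor.comp_id E)).symm ≪≫ (whiskerLeftIso E ε).symm ≪≫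
      (eqToIso (BasedFunctor.comp_assoc E Ψ (Φ α β))).symm
  have h1 : γMap α β E = j'.hom ≫ pullback.fst (spMapOfOver β) (spMapOfOver α) := by
    apply ObjectProperty.hom_ext
    change pshMapOf (BasedFunctor.comp E (fpFst β α)) = j.hom ≫ _
    rw [pshMapOf_eq_of_iso (whiskerRightIso θ (fpFst β α)), hj]
    change pshMapOf (BasedFunctor.comp E' (BasedFunctor.comp (Φ α β) (fpFst β α))) = _
    rw [Φ_comp_fpFst, pshMapOf_comp, pshMapOf_ofPshMap]
  have h2 : qMap α β E = j'.hom ≫ pullback.snd (spMapOfOver β) (spMapOfOver α) := by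
    apply ObjectProperty.hom_ext
    change pshMapOf (BasedFunctor.comp E (fpSnd β α)) = j.hom ≫ _
    rw [pshMapOf_eq_of_iso (whiskerRightIso θ (fpSnd β α)), hj]
    change pshMapOf (BasedFunctor.comp E' (BasedFunctor.comp (Φ α β) (fpSnd β α))) = _
    rw [Φ_comp_fpSnd, pshMapOf_comp, pshMapOf_ofPshMap]
  rw [h1, h2]
  exact IsPullback.of_iso (IsPullback.of_hasPullback (spMapOfOver β) (spMapOfOver α)) j'.symm
    (Iso.refl _) (Iso.refl _) (Iso.refl _) (by simp) (by simp) (by simp) (by simp)

end

end Groth.Agent.Helper19.PbRec
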