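import Mathlib
import Groth.Agent.Lib.Helper19.SpProps
import Groth.Agent.Lib.Helper16.AlgSp.LfpSp
import Groth.Agent.Lib.Helper16.AlgSp.FlatSp
import Groth.Agent.Lib.Helper16.AlgSp.SmSp
import Groth.Agent.Lib.Helper15.AlgSpPoints

/-!
# More base change / composition / descent packages (helper19)
-/

set_option autoImplicit false

universe u

open CategoryTheory CategoryTheory.Limits AlgebraicGeometry Opposite

namespace Groth.Agent.Helper19.SpProps

open AlgSp Groth.Agent.Helper19.AlgP Groth.Agent.Helper15 Groth.Agent.Helper16.AS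

variable {S : Scheme.{u}}

theorem stableAlg_isSurjectiveMor : StableAlg (S := S) IsSurjectiveMor := by
  intro X₁ Y₁ X₂ Y₂ _ _ _ _ a b a' b' sq ha
  exact isSurjectiveMor_of_isPullback sq ha

theorem compAlg_isSurjectiveMor : CompAlg (S := S) IsSurjectiveMor := by
  intro X Y Z _ _ _ a b ha hb z
  obtain ⟨y, hy⟩ := hb z
  obtain ⟨x, hx⟩ := ha y
  exact ⟨x, by rw [Points.map_comp, hx, hy]⟩

theorem descAtlas_isSurjectiveMor : DescAtlas (S := S) IsSurjectiveMor := by
  intro X Y f _ _ U q _ hqs _ h y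
  obtain ⟨v, hv⟩ := isSurjectiveMor_of_repWith_surjective q hqs y
  obtain ⟨p, hp⟩ := h v
  refine ⟨Points.map (pullback.fst f q) p, ?_⟩
  rw [← Points.map_comp, pullback.condition, Points.map_comp, hp, hv]

end Groth.Agent.Helper19.SpProps
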