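import Mathlib
import Groth.Agent.Lib.Helper19.PbRec
import Groth.Agent.Lib.Helper19.SpProps2
import Groth.Agent.Lib.Helper19.InfLib

/-!
# Descent of properties of functors representable by algebraic spaces along fppf covers of the target (helper19)
-/

set_option autoImplicit false
set_option backward.isDefEq.respectTransparency false

universe w₄ v₄ w₃ v₃ w' v' w v u

open CategoryTheory CategoryTheory.Limits Functor AlgebraicGeometry Opposite

namespace Groth.Agent.Helper19.DescCover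

open FibCat AlgSt Stk Groth.Agent.Helper19.FibLib Groth.Agent.Helper19.StLib Groth.Agent.Helper19.PshLib
  Groth.Agent.Helper19.PshSt Groth.Agent.Helper19.DiagLib Groth.Agent.Helper19.ImmLib
  Groth.Agent.Helper19.AlgP Groth.Agent.Helper19.PbRec Groth.Agent.Helper19.SpProps
  Groth.Agent.Helper19.InfLib

variable {S : Scheme.{u}}

/-- the property of being an fppf cover (flat, locally of finite presentation, surjective). -/
abbrev fppfP : MorphismProperty (AlgSp.Sp S) :=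
  (AlgSp.LocP @Flat ⊓ AlgSp.LocP @LocallyOfFinitePresentation) ⊓ AlgSp.IsSurjectiveMor

theorem repByAlgSpWith_fppfP {𝒵 𝒴 : AlgSt.Cat S} (w : 𝒵 ⥤ᵇ 𝒴)
    (hw₁ : RepByAlgSpWith (AlgSp.LocP @Flat) w)
    (hw₂ : RepByAlgSpWith (AlgSp.LocP @LocallyOfFinitePresentation) w)
    (hw₃ : RepByAlgSpWith AlgSp.IsSurjectiveMor w) : RepByAlgSpWith fppfP w :=
  repByAlgSpWith_inf stableAlg_isSurjectiveMor
    (repByAlgSpWith_inf (stableAlg_locP Groth.Agent.Helper15.goodP_lfp Groth.Agent.Helper16.AS.srcEtLoc_lfp)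
      hw₁ hw₂) hw₃

/-- **Descent along an fppf cover of the target.** -/
theorem repByAlgSpWith_of_cover {P : MorphismProperty (AlgSp.Sp S)} (hPb : StableAlg P)
    (hP : AlgSp.IsLocalOnBase AlgSp.IsFppfCover P)
    {𝒳 𝒴 𝒵 : AlgSt.Cat S} (h𝒳 : IsFibGrpd 𝒳.p) (h𝒴 : IsFibGrpd 𝒴.p) (h𝒵 : IsFibGrpd 𝒵.p)
    (f : 𝒳 ⥤ᵇ 𝒴) (hf : RepByAlgSp1 f) (w : 𝒵 ⥤ᵇ 𝒴) (hw : RepByAlgSpWith fppfP w)
    (h' : RepByAlgSpWith P (fpFst w f)) : RepByAlgSpWith P f := by
  intro T t
  obtain ⟨B, eB, heB, ⟨⟨hflat, hlfp⟩, hsurj⟩⟩ := hw T t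
  obtain ⟨A, eA, heA⟩ := hf T t
  refine ⟨A, eA, heA, ?_⟩
  let y' : ofSp B.obj ⥤ᵇ 𝒵 := BasedFunctor.comp eB (fpSnd t w)
  have hfp : IsFibGrpd (fp w f).p := Groth.Agent.S6401.result w f h𝒵 h𝒳 h𝒴
  obtain ⟨C, eC, γ₀, heC, ⟨θC⟩, hPγ⟩ := exists_rep_fp_of_space hPb (descAtlas_of_isLocalOnBase hP) hfp h𝒵
    (fpFst w f) h' B y'
  let β : ofSp B.obj ⥤ᵇ overCat T := BasedFunctor.comp eB (fpFst t w)
  let α : ofSp A.obj ⥤ᵇ overCat T := BasedFunctor.comp eA (fpFst t f)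
  obtain ⟨gA, hgA, ⟨ηA⟩, ⟨εA⟩⟩ := IsEquivOver.exists_inv heA
  let θ₁ : BasedFunctor.comp y' w ≅ BasedFunctor.comp β t := whiskerLeftIso eB (fpIso t w).symm
  let τ : BasedFunctor.comp (fpFst t f) (BasedFunctor.id (overCat T)) ≅ BasedFunctor.comp gA α :=
    (whiskerRightIso εA (fpFst t f)).symm
  let σ : BasedFunctor.comp β (BasedFunctor.id (overCat T)) ≅
      BasedFunctor.comp (BasedFunctor.id (ofSp B.obj)) β := Iso.refl _
  let M : fp β (fpFst t f) ⥤ᵇ fp β α :=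
    fpMap (BasedFunctor.id (ofSp B.obj)) gA (BasedFunctor.id (overCat T)) σ τ
  have hM : IsEquivOver M := by
    have h1 : (BasedFunctor.id (overCat T)).toFunctor.Full := inferInstanceAs (𝟭 _).Full
    have h2 : (BasedFunctor.id (overCat T)).toFunctor.Faithful := inferInstanceAs (𝟭 _).Faithful
    exact isEquivOver_fpMap _ _ _ _ _ (isEquivOver_id _) hgA
  let E : ofSp C.obj ⥤ᵇ fp β α :=
    BasedFunctor.comp eC (BasedFunctor.comp (pasteLInv y' w f)
      (BasedFunctor.comp (fpCongrLeft f θ₁) (BasedFunctor.comp (pasteL β t f) M)))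
  have hE : IsEquivOver E :=
    IsEquivOver.comp heC (IsEquivOver.comp (isEquivOver_pasteLInv y' w f)
      (IsEquivOver.comp (isEquivOver_fpCongrLeft f θ₁) (IsEquivOver.comp (isEquivOver_pasteL β t f) hM)))
  have sq := isPullback_of_equiv α β E hE
  have hγ : γMap α β E = γ₀ := by
    apply ObjectProperty.hom_ext
    change pshMapOf (BasedFunctor.comp E (fpFst β α)) = γ₀.hom
    have e1 : BasedFunctor.comp E (fpFst β α) = BasedFunctor.comp eC (fpFst y' (fpFst w f)) := rfl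
    rw [e1, pshMapOf_eq_of_iso θC, pshMapOf_ofPshMap]
  rw [hγ] at sq
  have hcov : AlgSp.IsFppfCover (fun _ : PUnit.{u + 1} => B.obj) (fun _ => spMapOfOver β) :=
    ⟨fun _ => ⟨hflat, hlfp⟩, fun x => ⟨PUnit.unit, hsurj x⟩⟩
  exact (hP (fun _ : PUnit.{u + 1} => B.obj) (fun _ => spMapOfOver β) (AlgSp.IsAlgSpace.yon_obj T)
    (fun _ => B.property) hcov (spMapOfOver α) A.property (fun _ => C.obj)
    (fun _ => γ₀) (fun _ => qMap α β E) (fun _ => C.property)
    (fun _ => sq.flip)).2 (fun _ => hPγ)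

end Groth.Agent.Helper19.DescCover
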