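import Mathlib
import Groth.Agent.Lib.Helper19.DescCover
import Groth.Agent.Lib.Helper19.DiagConv

/-!
# Descent of properties of the diagonal along fppf covers of the target (helper19)
-/

set_option autoImplicit false
set_option backward.isDefEq.respectTransparency false

universe w₄ v₄ w₃ v₃ w' v' w v u

open CategoryTheory CategoryTheory.Limits Functor AlgebraicGeometry Opposite

namespace Groth.Agent.Helper19.DiagCover

open FibCat AlgSt Stk Groth.Agent.Helper19.FibLib Groth.Agent.Helper19.StLib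

section general

variable {C : Type*} [Category C] {𝒳 : BasedCategory.{v, w} C} {𝒴 : BasedCategory.{v', w'} C}
  {𝒵 : BasedCategory.{v₃, w₃} C} (f : 𝒳 ⥤ᵇ 𝒴) (w : 𝒵 ⥤ᵇ 𝒴)

/-- `𝒳 ×_𝒴 𝒳 ⟶ 𝒴`. -/
abbrev cMap : fp f f ⥤ᵇ 𝒴 := BasedFunctor.comp (fpFst f f) f

/-- `𝒳_𝒵 ×_𝒵 𝒳_𝒵 ≃ 𝒵 ×_𝒴 (𝒳 ×_𝒴 𝒳)`. -/
def Ξ : fp (fpFst w f) (fpFst w f) ⥤ᵇ fp w (cMap f) :=
  BasedFunctor.comp (pasteLInv (fpFst w f) w f)
    (BasedFunctor.comp (fpCongrLeft f (fpIso w f))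
      (BasedFunctor.comp (pasteL (fpSnd w f) f f) (pasteRInv w f (fpFst f f))))

theorem isEquivOver_Ξ : IsEquivOver (Ξ f w) :=
  IsEquivOver.comp (isEquivOver_pasteLInv (fpFst w f) w f)
    (IsEquivOver.comp (isEquivOver_fpCongrLeft f (fpIso w f))
      (IsEquivOver.comp (isEquivOver_pasteL (fpSnd w f) f f) (isEquivOver_pasteRInv w f (fpFst f f))))

/-- the projection of `Ξ` to `𝒳 ×_𝒴 𝒳` is `dbcN`. -/
def ΞIso : BasedFunctor.comp (Ξ f w) (fpSnd w (cMap f)) ≅ dbcN f w :=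
  fpFunctorIso _ _ (Iso.refl _) (Iso.refl _) (fun x => by
    simp [Ξ, dbcN, pasteL, pasteLInv, pasteRInv, fpCongrLeft])

end general

section descent

open Groth.Agent.Helper19.AlgP Groth.Agent.Helper19.DescCover Groth.Agent.Helper19.SpProps
  Groth.Agent.Helper16.AS

variable {S : Scheme.{u}}

theorem isLocalOnBase_inf {τ : AlgSp.CovNotion S} {P Q : MorphismProperty (AlgSp.Sp S)}
    (hP : AlgSp.IsLocalOnBase τ P) (hQ : AlgSp.IsLocalOnBase τ Q) : AlgSp.IsLocalOnBase τ (P ⊓ Q) := by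
  intro ι Y Yi g hY hYi hcov X f hX Xi p q hXi sq
  have h1 := hP Yi g hY hYi hcov f hX Xi p q hXi sq
  have h2 := hQ Yi g hY hYi hcov f hX Xi p q hXi sq
  constructor
  · intro h i
    exact ⟨h1.1 h.1 i, h2.1 h.2 i⟩
  · intro h
    exact ⟨h1.2 fun i => (h i).1, h2.2 fun i => (h i).2⟩

theorem isLocalOnBase_fppf_unramified :
    AlgSp.IsLocalOnBase (AlgSp.IsFppfCover (S := S)) (AlgSp.LocP (@LocallyOfFiniteType ⊓ @FormallyUnramified)) :=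
  isLocalOnBase_fppf_of_fpqc isLocalOnBase_fpqc_locP_unramified

theorem isLocalOnBase_fppf_lqf_lft :
    AlgSp.IsLocalOnBase (AlgSp.IsFppfCover (S := S)) (AlgSp.LocP (@LocallyQuasiFinite ⊓ @LocallyOfFiniteType)) :=
  isLocalOnBase_fppf_of_fpqc isLocalOnBase_fpqc_locP_lqf_lft

theorem isLocalOnBase_fppf_isProperMor :
    AlgSp.IsLocalOnBase (AlgSp.IsFppfCover (S := S)) AlgSp.IsProperMor := by
  rw [isProperMor_eq]
  exact isLocalOnBase_inf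
    (isLocalOnBase_fppf_of_fpqc (isLocalOnBase_fpqc_of_std isLocalOnBase_std_isSeparatedMor))
    (isLocalOnBase_inf
      (isLocalOnBase_inf (isLocalOnBase_fppf_of_fpqc isLocalOnBase_fpqc_locP_lft)
        (isLocalOnBase_fppf_of_fpqc isLocalOnBase_fpqc_isQuasiCompactMor))
      (isLocalOnBase_fppf_of_fpqc isLocalOnBase_fpqc_isUnivClosedMor))

theorem isLocalOnBase_fppf_qcqs :
    AlgSp.IsLocalOnBase (AlgSp.IsFppfCover (S := S)) (AlgSp.IsQuasiCompactMor ⊓ AlgSp.IsQuasiSeparatedMor) :=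
  isLocalOnBase_inf (isLocalOnBase_fppf_of_fpqc isLocalOnBase_fpqc_isQuasiCompactMor)
    (isLocalOnBase_fppf_of_fpqc (isLocalOnBase_fpqc_of_std isLocalOnBase_std_isQuasiSeparatedMor))

/-- the cover `𝒳_𝒵 ×_𝒵 𝒳_𝒵 ⟶ 𝒳 ×_𝒴 𝒳` inherits the properties of `w`. -/
theorem repByAlgSpWith_dbcN {Q : MorphismProperty (AlgSp.Sp S)} {𝒳 : BasedCategory.{v, w} (Over S)}
    {𝒴 : BasedCategory.{v', w'} (Over S)} {𝒵 : BasedCategory.{v₃, w₃} (Over S)} (f : 𝒳 ⥤ᵇ 𝒴) (w : 𝒵 ⥤ᵇ 𝒴)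
    (hw : RepByAlgSpWith Q w) : RepByAlgSpWith Q (dbcN f w) :=
  repByAlgSpWith_of_iso (ΞIso f w).symm
    ((repByAlgSpWith_equiv_comp (Ξ f w) (isEquivOver_Ξ f w) _).2 (repByAlgSpWith_fpSnd w (cMap f) hw))

/-- **Descent of a property of the diagonal along an fppf cover of the target.** -/
theorem repByAlgSpWith_diag_of_cover {P : MorphismProperty (AlgSp.Sp S)} (hPb : StableAlg P)
    (hP : AlgSp.IsLocalOnBase AlgSp.IsFppfCover P)
    {𝒳 𝒴 𝒵 : AlgSt.Cat S} (h𝒳 : IsFibGrpd 𝒳.p) (h𝒴 : IsFibGrpd 𝒴.p) (h𝒵 : IsFibGrpd 𝒵.p)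
    (f : 𝒳 ⥤ᵇ 𝒴) (hΔ : RepByAlgSp1 (diag f)) (w : 𝒵 ⥤ᵇ 𝒴) (hw : RepByAlgSpWith fppfP w)
    (h' : RepByAlgSpWith P (diag (fpFst w f))) : RepByAlgSpWith P (diag f) := by
  have hfp1 : IsFibGrpd (fp f f).p := Groth.Agent.S6401.result f f h𝒳 h𝒳 h𝒴
  have hfp2 : IsFibGrpd (fp w f).p := Groth.Agent.S6401.result w f h𝒵 h𝒳 h𝒴
  have hfp3 : IsFibGrpd (fp (fpFst w f) (fpFst w f)).p := Groth.Agent.S6401.result _ _ hfp2 hfp2 h𝒵
  refine repByAlgSpWith_of_cover hPb hP h𝒳 hfp1 hfp3 (diag f) hΔ (dbcN f w) (repByAlgSpWith_dbcN f w hw) ?_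
  exact (repByAlgSpWith_equiv_comp (dbcΦ f w) (isEquivOver_dbcΦ f w) (fpFst (dbcN f w) (diag f))).1 h'

end descent

end Groth.Agent.Helper19.DiagCover
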