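import Mathlib
import Groth.Agent.Lib.Helper19.DiagCover

/-!
# Products of covers and the diagonal read on an atlas (helper19)
-/

set_option autoImplicit false
set_option backward.isDefEq.respectTransparency false

universe w₅ v₅ w₄ v₄ w₃ v₃ w' v' w v u

open CategoryTheory CategoryTheory.Limits Functor AlgebraicGeometry Opposite

namespace Groth.Agent.Helper19.ProdCover

open FibCat AlgSt Stk Groth.Agent.Helper19.FibLib Groth.Agent.Helper19.StLib Groth.Agent.Helper19.DiagAlgSp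
  Groth.Agent.Helper19.PshSt

theorem isEquivOver_toSelf_overCat {C : Type u} [Category.{v} C] {X : C} (hX : IsTerminal X) :
    IsEquivOver (toSelf (overCat X)) := by
  have h1 : (toSelf (overCat X)).toFunctor.Full :=
    inferInstanceAs (Over.equivalenceOfIsTerminal hX).functor.Full
  have h2 : (toSelf (overCat X)).toFunctor.Faithful :=
    inferInstanceAs (Over.equivalenceOfIsTerminal hX).functor.Faithful
  refine isEquivOver_of_fullyFaithful _ (fun y => ⟨Over.mk (hX.from y), Iso.refl _, ?_⟩)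
  exact IsHomLift.id rfl

theorem repByAlgSp_selfOver (S : Scheme.{u}) : RepByAlgSp (selfOver (Over S)) :=
  repByAlgSp_of_equiv _ (isEquivOver_toSelf_overCat Over.mkIdTerminal) (repByAlgSp_overCat (Over.mk (𝟙 S)))

/-- every functor from a category representable by an algebraic space to the base is representable by
algebraic spaces. -/
theorem repByAlgSp1_to_selfOver {S : Scheme.{u}} {𝒜 : BasedCategory.{v, w} (Over S)} (h𝒜 : RepByAlgSp 𝒜)
    (g : 𝒜 ⥤ᵇ selfOver (Over S)) : RepByAlgSp1 g :=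
  fun U y => repByAlgSp_fp y g (repByAlgSp_overCat U) h𝒜 (repByAlgSp_selfOver S)

section general

variable {C : Type*} [Category C] {𝒳 : BasedCategory.{v, w} C} {𝒴 : BasedCategory.{v', w'} C}
  {𝒵 : BasedCategory.{v₃, w₃} C} {𝒯 : BasedCategory.{v₄, w₄} C} (f : 𝒳 ⥤ᵇ 𝒵) (g : 𝒴 ⥤ᵇ 𝒵) (t : 𝒵 ⥤ᵇ 𝒯)

/-- `𝒳 ×_𝒯 𝒴 ⟶ 𝒵 ×_𝒯 𝒴`, a base change of `f`. -/
def step1 : fp (BasedFunctor.comp f t) (BasedFunctor.comp g t) ⥤ᵇ fp t (BasedFunctor.comp g t) :=
  BasedFunctor.comp (pasteL f t (BasedFunctor.comp g t)) (fpSnd f (fpFst t (BasedFunctor.comp g t)))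

/-- `𝒵 ×_𝒯 𝒴 ⟶ 𝒵 ×_𝒯 𝒵`, a base change of `g`. -/
def step2 : fp t (BasedFunctor.comp g t) ⥤ᵇ fp t t :=
  BasedFunctor.comp (pasteR t t g) (fpFst (fpSnd t t) g)

/-- `f × g` is the composite of a base change of `f` and a base change of `g`. -/
def cmpProdIso : cmpProd f g t ≅ BasedFunctor.comp (step1 f g t) (step2 g t) :=
  fpFunctorIso _ _ (Iso.refl _) (Iso.refl _) (fun x => by
    simp [cmpProd, step1, step2, pasteL, pasteR])

end general

section cover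

open Groth.Agent.Helper19.AlgP Groth.Agent.Helper19.DescCover Groth.Agent.Helper19.SpProps
  Groth.Agent.Helper19.CancelLib Groth.Agent.Helper19.DiagComp Groth.Agent.Helper16.AS

variable {S : Scheme.{u}} {P : MorphismProperty (AlgSp.Sp S)}

/-- `f × g` has `P` if `f` and `g` do. -/
theorem repByAlgSpWith_cmpProd (hPb : StableAlg P) (hPc : CompAlg P) (hP : DescAtlas P)
    {𝒳 𝒴 𝒵 𝒯 : AlgSt.Cat S} (h𝒳 : IsFibGrpd 𝒳.p) (h𝒴 : IsFibGrpd 𝒴.p) (h𝒵 : IsFibGrpd 𝒵.p)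
    (h𝒯 : IsFibGrpd 𝒯.p) (f : 𝒳 ⥤ᵇ 𝒵) (g : 𝒴 ⥤ᵇ 𝒵) (t : 𝒵 ⥤ᵇ 𝒯)
    (hf : RepByAlgSpWith P f) (hg : RepByAlgSpWith P g) : RepByAlgSpWith P (cmpProd f g t) := by
  have h1 : RepByAlgSpWith P (step1 f g t) :=
    (repByAlgSpWith_equiv_comp _ (isEquivOver_pasteL f t (BasedFunctor.comp g t)) _).2
      (repByAlgSpWith_fpSnd f (fpFst t (BasedFunctor.comp g t)) hf)
  have h2 : RepByAlgSpWith P (step2 g t) :=
    (repByAlgSpWith_equiv_comp _ (isEquivOver_pasteR t t g) _).2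
      (repByAlgSpWith_fpFst g (fpSnd t t) hg)
  have hfib1 : IsFibGrpd (fp (BasedFunctor.comp f t) (BasedFunctor.comp g t)).p :=
    Groth.Agent.S6401.result _ _ h𝒳 h𝒴 h𝒯
  have hfib2 : IsFibGrpd (fp t (BasedFunctor.comp g t)).p := Groth.Agent.S6401.result _ _ h𝒵 h𝒴 h𝒯
  exact repByAlgSpWith_of_iso (cmpProdIso f g t) (repByAlgSpWith_comp hPb hPc hP hfib1 hfib2 _ _ h1 h2)

theorem stableAlg_fppfP : StableAlg (S := S) fppfP :=
  stableAlg_inf (stableAlg_inf (stableAlg_locP Groth.Agent.Helper15.goodP_flat srcEtLoc_flat)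
    (stableAlg_locP Groth.Agent.Helper15.goodP_lfp srcEtLoc_lfp)) stableAlg_isSurjectiveMor

theorem compAlg_fppfP : CompAlg (S := S) fppfP :=
  compAlg_inf (compAlg_inf (compAlg_locP Groth.Agent.Helper15.goodP_flat srcEtLoc_flat)
    (compAlg_locP Groth.Agent.Helper15.goodP_lfp srcEtLoc_lfp)) compAlg_isSurjectiveMor

theorem descAtlas_fppfP : DescAtlas (S := S) fppfP :=
  descAtlas_inf (descAtlas_inf (descAtlas_of_fpqc (isLocalOnBase_fpqc_of_std isLocalOnBase_std_locP_flat))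
    (descAtlas_of_fpqc isLocalOnBase_fpqc_locP_lfp)) descAtlas_isSurjectiveMor

/-- **The diagonal read on a cover of the source.** -/
theorem repByAlgSpWith_diag_of_atlas (hPb : StableAlg P) (hPc : CompAlg P)
    (hP : AlgSp.IsLocalOnBase AlgSp.IsFppfCover P)
    {𝒳 𝒯 𝒵 : AlgSt.Cat S} (h𝒳 : IsFibGrpd 𝒳.p) (h𝒯 : IsFibGrpd 𝒯.p) (h𝒵 : IsFibGrpd 𝒵.p)
    (t : 𝒳 ⥤ᵇ 𝒯) (hΔ : RepByAlgSp1 (diag t)) (w : 𝒵 ⥤ᵇ 𝒳) (hw : RepByAlgSpWith fppfP w)
    (hwP : RepByAlgSpWith P w) (hb : RepByAlgSpWith P (diag (BasedFunctor.comp w t))) :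
    RepByAlgSpWith P (diag t) := by
  have hcov : RepByAlgSpWith fppfP (cmpProd w w t) :=
    repByAlgSpWith_cmpProd stableAlg_fppfP compAlg_fppfP descAtlas_fppfP h𝒵 h𝒵 h𝒳 h𝒯 w w t hw hw
  have hfww : IsFibGrpd (fp w w).p := Groth.Agent.S6401.result w w h𝒵 h𝒵 h𝒳
  have hfwt : IsFibGrpd (fp (BasedFunctor.comp w t) (BasedFunctor.comp w t)).p :=
    Groth.Agent.S6401.result _ _ h𝒵 h𝒵 h𝒯
  have hftt : IsFibGrpd (fp t t).p := Groth.Agent.S6401.result t t h𝒳 h𝒳 h𝒯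
  have hI : RepByAlgSpWith P (cmpI w w t (cmpE w t)) :=
    repByAlgSpWith_of_comp hPb hPc (descAtlas_of_isLocalOnBase hP) hfww hfwt h𝒵
      (cmpI w w t (cmpE w t)) (fpFst (BasedFunctor.comp w t) (BasedFunctor.comp w t))
      (repByAlgSpWith_fpFst w w hwP)
      (repByAlgSpWith_diag_fpFst (BasedFunctor.comp w t) (BasedFunctor.comp w t) hb)
  have h' : RepByAlgSpWith P (fpFst (cmpProd w w t) (diag t)) :=
    (repByAlgSpWith_equiv_comp (cmpΦ w w t (cmpE w t) (cmpE_app w t))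
      (isEquivOver_cmpΦ w w t (cmpE w t) (cmpE_app w t)) _).1 hI
  exact repByAlgSpWith_of_cover hPb hP h𝒳 hftt hfwt (diag t) hΔ (cmpProd w w t) hcov h'

end cover

end Groth.Agent.Helper19.ProdCover
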