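import Mathlib
import Groth.Agent.Lib.Helper19.ProdCover
import Groth.Agent.Lib.Helper19.StackLib

/-!
# The diagonal of a morphism of algebraic stacks is locally of finite type (helper19)
-/

set_option autoImplicit false
set_option backward.isDefEq.respectTransparency false

universe w₅ v₅ w₄ v₄ w₃ v₃ w' v' w v u

open CategoryTheory CategoryTheory.Limits Functor AlgebraicGeometry Opposite

namespace Groth.Agent.Helper19.DiagLft

open FibCat AlgSt Stk Groth.Agent.Helper19.FibLib Groth.Agent.Helper19.StLib Groth.Agent.Helper19.DiagAlgSp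
  Groth.Agent.Helper19.PshSt Groth.Agent.Helper19.AlgP Groth.Agent.Helper19.DescCover
  Groth.Agent.Helper19.SpProps Groth.Agent.Helper19.CancelLib Groth.Agent.Helper19.DiagComp
  Groth.Agent.Helper19.DiagRep Groth.Agent.Helper19.ProdCover Groth.Agent.Helper19.DiagLib
  Groth.Agent.Helper16.AS

variable {S : Scheme.{u}}

theorem sectionEq_of_le {Q Q' : MorphismProperty (AlgSp.Sp S)} (h : SectionEq Q)
    (hQ : ∀ ⦃X Y : AlgSp.Sp S⦄ (f : X ⟶ Y), Q f → Q' f) : SectionEq Q' :=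
  fun A T a s₁ s₂ e₁ e₂ => hQ _ (h A T a s₁ s₂ e₁ e₂)

theorem sectionEq_lft : SectionEq (S := S) (AlgSp.LocP @LocallyOfFiniteType) :=
  sectionEq_of_le (sectionEq_repWith @LocallyOfFiniteType (fun A T a =>
    (Groth.Agent.Helper15.diagonal_properties A.property a).2.1))
    (fun _ _ f hf => Groth.Agent.Helper15.locP_of_repWith Groth.Agent.Helper15.etale_le_lft f hf)

theorem isLocalOnBase_fppf_lft :
    AlgSp.IsLocalOnBase (AlgSp.IsFppfCover (S := S)) (AlgSp.LocP @LocallyOfFiniteType) :=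
  isLocalOnBase_fppf_of_fpqc isLocalOnBase_fpqc_locP_lft

/-- a smooth surjective functor is an fppf cover. -/
theorem repByAlgSpWith_fppfP_of_smooth {𝒵 𝒴 : AlgSt.Cat S} (w : 𝒵 ⥤ᵇ 𝒴)
    (hw₁ : RepByAlgSpWith (AlgSp.LocP @Smooth) w) (hw₃ : RepByAlgSpWith AlgSp.IsSurjectiveMor w) :
    RepByAlgSpWith fppfP w := by
  refine repByAlgSpWith_fppfP w (repByAlgSpWith_mono (fun _ _ a h => ?_) hw₁)
    (repByAlgSpWith_mono (fun _ _ a h => ?_) hw₁) hw₃
  · refine Groth.Agent.Helper15.locP_mono ?_ h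
    intro X Y g hg
    have : Smooth g := hg
    exact (inferInstance : Flat g)
  · refine Groth.Agent.Helper15.locP_mono ?_ h
    intro X Y g hg
    have : Smooth g := hg
    exact (inferInstance : LocallyOfFinitePresentation g)

/-- S12938: the diagonal of an algebraic stack is locally of finite type. -/
theorem repByAlgSpWith_lft_diag_toSelf {𝒳 : AlgSt.Cat S} (h𝒳 : IsAlgStack Scheme.fppfPrecoverage 𝒳) :
    RepByAlgSpWith (AlgSp.LocP @LocallyOfFiniteType) (diag (toSelf 𝒳)) := by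
  obtain ⟨U, u, hu₁, hu₃⟩ := h𝒳.atlas
  refine repByAlgSpWith_diag_of_atlas (stableAlg_locP Groth.Agent.Helper15.goodP_lft srcEtLoc_lft)
    (compAlg_locP Groth.Agent.Helper15.goodP_lft srcEtLoc_lft) isLocalOnBase_fppf_lft
    h𝒳.isStack.1 (isFibGrpd_selfOver (Over S)) ?_ (toSelf 𝒳) h𝒳.diag u
    (repByAlgSpWith_fppfP_of_smooth u hu₁ hu₃) (repByAlgSpWith_mono (fun _ _ a h => ?_) hu₁)
    (repByAlgSpWith_diag sectionEq_lft _ (repByAlgSp1_to_selfOver (repByAlgSp_overCat U) _))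
  · exact Groth.Agent.Helper19.StackLib.isFibGrpd_of_equiv (toOverCat U) (isEquivOver_toOverCat U) (Stk.isFibGrpd_ofPsh _)
  · refine Groth.Agent.Helper15.locP_mono ?_ h
    intro X Y g hg
    have : Smooth g := hg
    exact (inferInstance : LocallyOfFiniteType g)

theorem repByAlgSp1_diag_selfOver (S : Scheme.{u}) :
    RepByAlgSp1 (diag (toSelf (selfOver (Over S)))) :=
  Groth.Agent.Helper19.PshSt.repByAlgSp1_of_repByAlgSp (repByAlgSp_selfOver S)
    (repByAlgSp_fp _ _ (repByAlgSp_selfOver S) (repByAlgSp_selfOver S) (repByAlgSp_selfOver S)) _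

/-- S12939: the diagonal of a morphism of algebraic stacks is locally of finite type. -/
theorem repByAlgSpWith_lft_diag {𝒳 𝒴 : AlgSt.Cat S} (h𝒳 : IsAlgStack Scheme.fppfPrecoverage 𝒳)
    (h𝒴 : IsAlgStack Scheme.fppfPrecoverage 𝒴) (f : 𝒳 ⥤ᵇ 𝒴) :
    RepByAlgSpWith (AlgSp.LocP @LocallyOfFiniteType) (diag f) := by
  have hself : IsFibGrpd (selfOver (Over S)).p := isFibGrpd_selfOver (Over S)
  refine repByAlgSpWith_diag_of_comp (stableAlg_locP Groth.Agent.Helper15.goodP_lft srcEtLoc_lft)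
    (compAlg_locP Groth.Agent.Helper15.goodP_lft srcEtLoc_lft)
    (descAtlas_of_fpqc isLocalOnBase_fpqc_locP_lft) h𝒳.isStack.1 h𝒴.isStack.1 hself f (toSelf 𝒴) ?_ ?_
  · exact repByAlgSpWith_diag_congr (selfOverIso (toSelf 𝒳) (BasedFunctor.comp f (toSelf 𝒴)))
      (repByAlgSpWith_lft_diag_toSelf h𝒳)
  · exact repByAlgSpWith_diag sectionEq_lft _
      (repByAlgSp1_cmpI h𝒴.isStack.1 hself h𝒴.diag (repByAlgSp1_diag_selfOver S) f (toSelf 𝒴))

end Groth.Agent.Helper19.DiagLft
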