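import Mathlib
import Groth.Agent.Lib.Helper19.DiagLft

/-!
# Morphisms of algebraic spaces as functors; descent along covers of the source (helper19)
-/

set_option autoImplicit false
set_option backward.isDefEq.respectTransparency false

universe w₅ v₅ w₄ v₄ w₃ v₃ w' v' w v u

open CategoryTheory CategoryTheory.Limits Functor AlgebraicGeometry Opposite

namespace Groth.Agent.Helper19.SrcLoc

open FibCat AlgSt Stk Groth.Agent.Helper19.FibLib Groth.Agent.Helper19.StLib Groth.Agent.Helper19.DiagAlgSp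
  Groth.Agent.Helper19.PshSt Groth.Agent.Helper19.AlgP Groth.Agent.Helper19.DescCover
  Groth.Agent.Helper19.SpProps Groth.Agent.Helper19.CancelLib Groth.Agent.Helper19.PshLib
  Groth.Agent.Helper19.SmLocLib Groth.Agent.Helper19.CompLib
  Groth.Agent.Helper16.AS

variable {S : Scheme.{u}} {P : MorphismProperty (AlgSp.Sp S)}

theorem repBySpWith_of_space (hPb : StableAlg P) {A B : AlgSp.Space S} (β : B.obj ⟶ A.obj) (h : P β) :
    AlgSp.RepBySpWith (algP P) β.hom := by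
  intro U ξ F' fst snd sq
  obtain ⟨hsh, hA⟩ := repBySp_of_space B A β.hom ξ fst snd sq
  refine ⟨hsh, hA, fun _ _ => ?_⟩
  have sq' : IsPullback (ObjectProperty.homMk fst : (⟨F', hsh⟩ : AlgSp.Sp S) ⟶ B.obj)
      (ObjectProperty.homMk snd : (⟨F', hsh⟩ : AlgSp.Sp S) ⟶ (AlgSp.yon S).obj U) β
      (ObjectProperty.homMk ξ : (AlgSp.yon S).obj U ⟶ A.obj) := by
    refine IsPullback.of_map (sheafToPresheaf (AlgSp.J S) _) ?_ sq
    apply ObjectProperty.hom_ext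
    exact sq.w
  exact hPb B.property A.property hA (AlgSp.IsAlgSpace.yon_obj U) β _ _ _ sq' h

/-- for a morphism of algebraic spaces, its functor has `P` iff it has `P`. -/
theorem repByAlgSpWith_ofSpMap_iff (hPb : StableAlg P) (hP : DescAtlas P) {A B : AlgSp.Space S}
    (β : B.obj ⟶ A.obj) : RepByAlgSpWith P (ofSpMap β) ↔ P β := by
  have := algP_respectsIso hPb
  constructor
  · intro h1'
    have h1 : RepByAlgSpWith (algP P) (ofSpMap β) := (repByAlgSpWith_algP_iff P _).2 h1'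
    have h2 : AlgSp.RepBySpWith (algP P) β.hom := (repBySpWith_iff (algP P) β.hom).2 h1
    obtain ⟨U, q, hqe, hqs⟩ := A.property.atlas
    have sq := IsPullback.of_hasPullback β q
    have sqp := sq.map (sheafToPresheaf (AlgSp.J S) (Type (u + 1)))
    obtain ⟨h, hA, hQ⟩ := h2 q.hom _ _ sqp
    have hA' : AlgSp.IsAlgSpace (pullback β q) := hA
    exact hP β B.property A.property U q hqe hqs hA' (hQ hA (AlgSp.IsAlgSpace.yon_obj U))
  · intro h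
    exact (repByAlgSpWith_algP_iff P _).1
      ((repBySpWith_iff (algP P) β.hom).1 (repBySpWith_of_space hPb β h))

/-- **Descent along a cover of the source.** -/
theorem repByAlgSpWith_of_precomp {P Q : MorphismProperty (AlgSp.Sp S)} (hPb : StableAlg P)
    (hQb : StableAlg Q) (hQd : DescAtlas Q)
    (hsrc : ∀ ⦃A B T : AlgSp.Sp S⦄, AlgSp.IsAlgSpace A → AlgSp.IsAlgSpace B → AlgSp.IsAlgSpace T →
      ∀ (b : B ⟶ A) (a : A ⟶ T), Q b → P (b ≫ a) → P a)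
    {𝒳 𝒴 𝒵 : AlgSt.Cat S} (h𝒳 : IsFibGrpd 𝒳.p) (h𝒴 : IsFibGrpd 𝒴.p)
    (x : 𝒳 ⥤ᵇ 𝒴) (y : 𝒴 ⥤ᵇ 𝒵) (hy : RepByAlgSp1 y) (hx : RepByAlgSpWith Q x)
    (h : RepByAlgSpWith P (BasedFunctor.comp x y)) : RepByAlgSpWith P y := by
  have := algP_respectsIso hPb
  intro T t
  obtain ⟨A, eA, heA⟩ := hy T t
  refine ⟨A, eA, heA, ?_⟩
  let y' : ofSp A.obj ⥤ᵇ 𝒴 := BasedFunctor.comp eA (fpSnd t y)
  obtain ⟨B, eB, β, heB, ⟨θ⟩, hQβ⟩ := exists_rep_fp_of_space hQb hQd h𝒳 h𝒴 x hx A y'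
  let E : ofSp B.obj ⥤ᵇ fp t (BasedFunctor.comp x y) :=
    BasedFunctor.comp eB (BasedFunctor.comp (fpPre eA (fpSnd t y) x) (pasteRInv t y x))
  have hE : IsEquivOver E :=
    IsEquivOver.comp heB (IsEquivOver.comp (isEquivOver_fpPre eA heA _ x) (isEquivOver_pasteRInv t y x))
  have h2 : RepOver (algP P) (fpFst t (BasedFunctor.comp x y)) :=
    (repByAlgSpWith_algP_iff P _).2 h T t
  have h3 := RepOver.of_any_equiv h2 B E hE B.property (AlgSp.IsAlgSpace.yon_obj T)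
  have e1 : spMapOfOver (BasedFunctor.comp E (fpFst t (BasedFunctor.comp x y))) =
      β ≫ spMapOfOver (BasedFunctor.comp eA (fpFst t y)) := by
    rw [← spMapOfOver_ofSpMap_comp]
    apply spMapOfOver_eq_of_iso
    exact whiskerRightIso θ (BasedFunctor.comp eA (fpFst t y))
  rw [e1] at h3
  exact hsrc A.property B.property (AlgSp.IsAlgSpace.yon_obj T) β _ hQβ h3

/-- reading `IsLocalOnSource` on a single surjective morphism. -/
theorem of_isLocalOnSource_single {P Q : MorphismProperty (AlgSp.Sp S)}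
    (hP' : AlgSp.IsLocalOnSource (fun _ _ Y g => AlgSp.IsCover Q Y g) P) :
    ∀ ⦃A B T : AlgSp.Sp S⦄, AlgSp.IsAlgSpace A → AlgSp.IsAlgSpace B → AlgSp.IsAlgSpace T →
      ∀ (b : B ⟶ A) (a : A ⟶ T), (Q ⊓ AlgSp.IsSurjectiveMor) b → P (b ≫ a) → P a := by
  intro A B T hA hB hT b a hb hba
  have hcov : AlgSp.IsCover Q (fun _ : PUnit.{u + 1} => B) (fun _ => b) :=
    ⟨fun _ => hb.1, fun x => ⟨PUnit.unit, hb.2 x⟩⟩
  exact (hP' (fun _ : PUnit.{u + 1} => B) (fun _ => b) hA (fun _ => hB) hcov a hT).2 (fun _ => hba)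

/-- S12849. -/
theorem repByAlgSpWith_of_comp_smooth_surjective {𝒳 𝒴 𝒵 : AlgSt.Cat S} (h𝒳 : IsFibGrpd 𝒳.p)
    (h𝒴 : IsFibGrpd 𝒴.p) (hPb : StableAlg P) (hP' : AlgSp.IsLocalOnSource AlgSp.IsSmCover P)
    (x : 𝒳 ⥤ᵇ 𝒴) (y : 𝒴 ⥤ᵇ 𝒵) (hy : RepByAlgSp1 y)
    (hx₁ : RepByAlgSpWith (AlgSp.LocP @Smooth) x) (hx₂ : RepByAlgSpWith AlgSp.IsSurjectiveMor x)
    (h : RepByAlgSpWith P (BasedFunctor.comp x y)) : RepByAlgSpWith P y :=
  repByAlgSpWith_of_precomp (Q := AlgSp.LocP @Smooth ⊓ AlgSp.IsSurjectiveMor) hPb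
    (stableAlg_inf (stableAlg_locP Groth.Agent.Helper15.goodP_smooth srcEtLoc_smooth) stableAlg_isSurjectiveMor)
    (descAtlas_inf (descAtlas_of_fpqc isLocalOnBase_fpqc_locP_smooth) descAtlas_isSurjectiveMor)
    (of_isLocalOnSource_single hP') h𝒳 h𝒴 x y hy
    (Groth.Agent.Helper19.InfLib.repByAlgSpWith_inf stableAlg_isSurjectiveMor hx₁ hx₂) h

/-- S12851. -/
theorem repByAlgSpWith_of_comp_fppf_surjective {𝒳 𝒴 𝒵 : AlgSt.Cat S} (h𝒳 : IsFibGrpd 𝒳.p)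
    (h𝒴 : IsFibGrpd 𝒴.p) (hPb : StableAlg P) (hP' : AlgSp.IsLocalOnSource AlgSp.IsFppfCover P)
    (x : 𝒳 ⥤ᵇ 𝒴) (y : 𝒴 ⥤ᵇ 𝒵) (hy : RepByAlgSp1 y)
    (hx : RepByAlgSpWith fppfP x)
    (h : RepByAlgSpWith P (BasedFunctor.comp x y)) : RepByAlgSpWith P y :=
  repByAlgSpWith_of_precomp (Q := fppfP) hPb
    Groth.Agent.Helper19.ProdCover.stableAlg_fppfP Groth.Agent.Helper19.ProdCover.descAtlas_fppfP
    (of_isLocalOnSource_single hP') h𝒳 h𝒴 x y hy hx h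

/-- S12850. -/
theorem repByAlgSpWith_of_comp_etale_surjective {𝒳 𝒴 𝒵 : AlgSt.Cat S} (h𝒳 : IsFibGrpd 𝒳.p)
    (h𝒴 : IsFibGrpd 𝒴.p) (hPb : StableAlg P) (hP' : AlgSp.IsLocalOnSource AlgSp.IsEtCover P)
    (x : 𝒳 ⥤ᵇ 𝒴) (y : 𝒴 ⥤ᵇ 𝒵) (hy : RepByAlgSp1 y)
    (hx₁ : RepByAlgSpWith AlgSp.IsEtaleMor x) (hx₂ : RepByAlgSpWith AlgSp.IsSurjectiveMor x)
    (h : RepByAlgSpWith P (BasedFunctor.comp x y)) : RepByAlgSpWith P y := by
  have hx₁' : RepByAlgSpWith (AlgSp.LocP @Etale) x :=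
    repByAlgSpWith_mono (fun A T a ha =>
      Groth.Agent.Helper15.locP_etale_of_isEtaleMor (AlgSp.IsAlgSpace.yon_obj T) a ha) hx₁
  refine repByAlgSpWith_of_precomp (Q := AlgSp.LocP @Etale ⊓ AlgSp.IsSurjectiveMor) hPb
    (stableAlg_inf (stableAlg_locP Groth.Agent.Helper15.goodP_etale srcEtLoc_etale) stableAlg_isSurjectiveMor)
    (descAtlas_inf (descAtlas_of_fpqc isLocalOnBase_fpqc_locP_etale) descAtlas_isSurjectiveMor)
    ?_ h𝒳 h𝒴 x y hy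
    (Groth.Agent.Helper19.InfLib.repByAlgSpWith_inf stableAlg_isSurjectiveMor hx₁' hx₂) h
  intro A B T hA hB hT b a hb hba
  exact of_isLocalOnSource_single hP' hA hB hT b a
    ⟨Groth.Agent.Helper15.isEtaleMor_of_locP_etale hA b hb.1, hb.2⟩ hba

end Groth.Agent.Helper19.SrcLoc
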