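import Mathlib
import Groth.Agent.Lib.Helper19.SrcLoc

/-!
# Descent along a covering sieve of local lifts (helper19)
-/

set_option autoImplicit false
set_option backward.isDefEq.respectTransparency false

universe w₅ v₅ w₄ v₄ w₃ v₃ w' v' w v u

open CategoryTheory CategoryTheory.Limits Functor AlgebraicGeometry Opposite

namespace Groth.Agent.Helper19.SieveCover

open FibCat AlgSt Stk Groth.Agent.Helper19.FibLib Groth.Agent.Helper19.StLib Groth.Agent.Helper19.PshLib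
  Groth.Agent.Helper19.PshSt Groth.Agent.Helper19.DiagLib Groth.Agent.Helper19.ImmLib
  Groth.Agent.Helper19.AlgP Groth.Agent.Helper19.PbRec Groth.Agent.Helper19.SpProps
  Groth.Agent.Helper19.InfLib

variable {S : Scheme.{u}} {P : MorphismProperty (AlgSp.Sp S)}

/-- the base change of `T ×_𝒴 𝒳 ⟶ T` along a map `B ⟶ T` from an algebraic space which lifts to `𝒵`. -/
theorem exists_isPullback_of_lift (hPb : StableAlg P) (hPd : DescAtlas P)
    {𝒳 𝒴 𝒵 : AlgSt.Cat S} (h𝒳 : IsFibGrpd 𝒳.p) (h𝒴 : IsFibGrpd 𝒴.p) (h𝒵 : IsFibGrpd 𝒵.p)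
    (f : 𝒳 ⥤ᵇ 𝒴) (g : 𝒵 ⥤ᵇ 𝒴) (h' : RepByAlgSpWith P (fpFst g f))
    {T : Over S} (t : overCat T ⥤ᵇ 𝒴) (A : AlgSp.Space S) (eA : ofSp A.obj ⥤ᵇ fp t f)
    (heA : IsEquivOver eA) (B : AlgSp.Space S) (y' : ofSp B.obj ⥤ᵇ 𝒵) (β : ofSp B.obj ⥤ᵇ overCat T)
    (θ₁ : BasedFunctor.comp y' g ≅ BasedFunctor.comp β t) :
    ∃ (C : AlgSp.Space S) (γ₀ : C.obj ⟶ B.obj) (q : C.obj ⟶ A.obj),
      IsPullback γ₀ q (spMapOfOver β) (spMapOfOver (BasedFunctor.comp eA (fpFst t f))) ∧ P γ₀ := by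
  have hfp : IsFibGrpd (fp g f).p := Groth.Agent.S6401.result g f h𝒵 h𝒳 h𝒴
  obtain ⟨C, eC, γ₀, heC, ⟨θC⟩, hPγ⟩ := exists_rep_fp_of_space hPb hPd hfp h𝒵
    (fpFst g f) h' B y'
  let α : ofSp A.obj ⥤ᵇ overCat T := BasedFunctor.comp eA (fpFst t f)
  obtain ⟨gA, hgA, ⟨ηA⟩, ⟨εA⟩⟩ := IsEquivOver.exists_inv heA
  let τ : BasedFunctor.comp (fpFst t f) (BasedFunctor.id (overCat T)) ≅ BasedFunctor.comp gA α :=
    (whiskerRightIso εA (fpFst t f)).symm
  let σ : BasedFunctor.comp β (BasedFunctor.id (overCat T)) ≅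
      BasedFunctor.comp (BasedFunctor.id (ofSp B.obj)) β := Iso.refl _
  let M : fp β (fpFst t f) ⥤ᵇ fp β α :=
    fpMap (BasedFunctor.id (ofSp B.obj)) gA (BasedFunctor.id (overCat T)) σ τ
  have hM : IsEquivOver M := by
    have h1 : (BasedFunctor.id (overCat T)).toFunctor.Full := inferInstanceAs (𝟭 _).Full
    have h2 : (BasedFunctor.id (overCat T)).toFunctor.Faithful := inferInstanceAs (𝟭 _).Faithful
    exact isEquivOver_fpMap _ _ _ _ _ (isEquivOver_id _) hgA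
  let E : ofSp C.obj ⥤ᵇ fp β α :=
    BasedFunctor.comp eC (BasedFunctor.comp (pasteLInv y' g f)
      (BasedFunctor.comp (fpCongrLeft f θ₁) (BasedFunctor.comp (pasteL β t f) M)))
  have hE : IsEquivOver E :=
    IsEquivOver.comp heC (IsEquivOver.comp (isEquivOver_pasteLInv y' g f)
      (IsEquivOver.comp (isEquivOver_fpCongrLeft f θ₁) (IsEquivOver.comp (isEquivOver_pasteL β t f) hM)))
  have sq := isPullback_of_equiv α β E hE
  have hγ : γMap α β E = γ₀ := by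
    apply ObjectProperty.hom_ext
    change pshMapOf (BasedFunctor.comp E (fpFst β α)) = γ₀.hom
    have e1 : BasedFunctor.comp E (fpFst β α) = BasedFunctor.comp eC (fpFst y' (fpFst g f)) := rfl
    rw [e1, pshMapOf_eq_of_iso θC, pshMapOf_ofPshMap]
  rw [hγ] at sq
  exact ⟨C, γ₀, qMap α β E, sq, hPγ⟩

theorem mem_fppfPrecoverage_unfold {X : Scheme.{u}} {R₀ : Presieve X} (hR₀ : R₀ ∈ Scheme.fppfPrecoverage X) :
    (∀ x : X, ∃ (V : Scheme.{u}) (i : V ⟶ X), R₀ i ∧ x ∈ Set.range i) ∧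
      ∀ (V : Scheme.{u}) (i : V ⟶ X), R₀ i → Flat i ∧ LocallyOfFinitePresentation i := by
  constructor
  · intro x
    obtain ⟨Y, g, ⟨hg⟩, hx⟩ := hR₀.1 x
    exact ⟨_, _, hg, hx⟩
  · intro V i hi
    exact hR₀.2 hi

/-- **Descent along a covering sieve of local lifts** (S12781). -/
theorem repByAlgSpWith_of_sieve (hPb : StableAlg P) (hP : AlgSp.IsLocalOnBase AlgSp.IsFppfCover P)
    {𝒳 𝒴 𝒵 : AlgSt.Cat S} (h𝒳 : IsFibGrpd 𝒳.p) (h𝒴 : IsFibGrpd 𝒴.p) (h𝒵 : IsFibGrpd 𝒵.p)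
    (f : 𝒳 ⥤ᵇ 𝒴) (hf : RepByAlgSp1 f) (g : 𝒵 ⥤ᵇ 𝒴)
    (hg : ∀ (U : Over S) (y : overCat U ⥤ᵇ 𝒴), ∃ R ∈ (QuotSh.J Scheme.fppfPrecoverage S) U,
      ∀ ⦃V : Over S⦄ (h : V ⟶ U), R.arrows h →
        ∃ z : overCat V ⥤ᵇ 𝒵, Nonempty (BasedFunctor.comp z g ≅ BasedFunctor.comp (overMap h) y))
    (h' : RepByAlgSpWith P (fpFst g f)) : RepByAlgSpWith P f := by
  intro T t
  obtain ⟨A, eA, heA⟩ := hf T t
  refine ⟨A, eA, heA, ?_⟩
  obtain ⟨R, hR, hz⟩ := hg T t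
  obtain ⟨R₀, hR₀, hle⟩ := Groth.Agent.Helper15.exists_fppf_presieve_of_mem_J R hR
  obtain ⟨hsurj, hprop⟩ := mem_fppfPrecoverage_unfold hR₀
  choose V i hi hx using hsurj
  let V' : T.left → Over S := fun x => Over.mk (i x ≫ T.hom)
  let h : ∀ x, V' x ⟶ T := fun x => Over.homMk (i x)
  have hz' : ∀ x, ∃ z : overCat (V' x) ⥤ᵇ 𝒵,
      Nonempty (BasedFunctor.comp z g ≅ BasedFunctor.comp (overMap (h x)) t) :=
    fun x => hz (h x) (hle _ (hi x))
  choose z θ using hz'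
  let B : T.left → AlgSp.Space S := fun x => ⟨(AlgSp.yon S).obj (V' x), AlgSp.IsAlgSpace.yon_obj _⟩
  let β : ∀ x, ofSp (B x).obj ⥤ᵇ overCat T := fun x => BasedFunctor.comp (toOverCat (V' x)) (overMap (h x))
  have core := fun x => exists_isPullback_of_lift hPb (descAtlas_of_isLocalOnBase hP) h𝒳 h𝒴 h𝒵 f g h' t A eA heA
    (B x) (BasedFunctor.comp (toOverCat (V' x)) (z x)) (β x) (whiskerLeftIso (toOverCat (V' x)) (θ x).some)
  choose C γ₀ q sq hPγ using core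
  have hβ : ∀ x, spMapOfOver (β x) = (AlgSp.yon S).map (h x) := by
    intro x
    rw [spMapOfOver_comp_overMap, spMapOfOver_toOverCat, Category.id_comp]
  have hcov : AlgSp.IsFppfCover (fun x : T.left => (B x).obj) (fun x => spMapOfOver (β x)) := by
    refine ⟨fun x => ?_, fun p => ?_⟩
    · show AlgSp.LocP (@Flat) (spMapOfOver (β x)) ∧
        AlgSp.LocP (@LocallyOfFinitePresentation) (spMapOfOver (β x))
      rw [hβ]
      obtain ⟨h1, h2⟩ := hprop _ _ (hi x)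
      exact ⟨Groth.Agent.Helper15.locP_of_repWith Groth.Agent.Helper15.etale_le_flat _
          ((AlgSp.repWith_yon_map_iff _ (h x)).2 h1),
        Groth.Agent.Helper15.locP_of_repWith Groth.Agent.Helper15.etale_le_lfp _
          ((AlgSp.repWith_yon_map_iff _ (h x)).2 h2)⟩
    · obtain ⟨x, rfl⟩ := (AlgSp.Points.schemeHomeo T).surjective p
      obtain ⟨v, hv⟩ := hx x
      refine ⟨x, AlgSp.Points.schemeHomeo (V' x) v, ?_⟩
      show AlgSp.Points.map (spMapOfOver (β x)) _ = _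
      rw [hβ, AlgSp.Points.map_yon_map_apply]
      congr 1
  exact (hP (fun x : T.left => (B x).obj) (fun x => spMapOfOver (β x)) (AlgSp.IsAlgSpace.yon_obj T)
    (fun x => (B x).property) hcov (spMapOfOver (BasedFunctor.comp eA (fpFst t f))) A.property
    (fun x => (C x).obj) γ₀ q (fun x => (C x).property)
    (fun x => (sq x).flip)).2 hPγ

end Groth.Agent.Helper19.SieveCover
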