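import Mathlib
import Groth.Agent.Lib.Helper19.SieveCover
import Groth.Agent.Lib.Helper19.AlgStRep
import Groth.Agent.Lib.Helper19.DescAlgSt
import Groth.Agent.S12792

/-!
# Products and fibre products of algebraic stacks are algebraic (helper19)
-/

set_option autoImplicit false
set_option backward.isDefEq.respectTransparency false

universe w₆ v₆ w₅ v₅ w₄ v₄ w₃ v₃ w' v' w v u

open CategoryTheory CategoryTheory.Limits Functor AlgebraicGeometry Opposite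

namespace Groth.Agent.Helper19.ProdAlg

open FibCat AlgSt Stk Groth.Agent.Helper19.FibLib Groth.Agent.Helper19.StLib Groth.Agent.Helper19.DiagAlgSp
  Groth.Agent.Helper19.PshSt Groth.Agent.Helper19.AlgP Groth.Agent.Helper19.DescCover
  Groth.Agent.Helper19.SpProps Groth.Agent.Helper19.CancelLib Groth.Agent.Helper19.PshLib
  Groth.Agent.Helper19.SmLocLib Groth.Agent.Helper19.CompLib Groth.Agent.Helper19.DiagLib
  Groth.Agent.Helper19.AlgStRep Groth.Agent.Helper19.DescAlgSt Groth.Agent.Helper19.ProdCover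
  Groth.Agent.Helper19.DiagComp
  Groth.Agent.Helper16.AS

section general

variable {C : Type*} [Category C] {𝒰 : BasedCategory.{v, w} C} {𝒱 : BasedCategory.{v', w'} C}
  {𝒳 : BasedCategory.{v₃, w₃} C} {𝒴 : BasedCategory.{v₄, w₄} C} {ℬ : BasedCategory.{v₅, w₅} C}

/-- `𝒰 ×_ℬ 𝒱' ⟶ 𝒳 ×_ℬ 𝒱'`, a base change of `u`. -/
def prodStepA (u : 𝒰 ⥤ᵇ 𝒳) (F : 𝒳 ⥤ᵇ ℬ) (G' : 𝒱 ⥤ᵇ ℬ) :
    fp (BasedFunctor.comp u F) G' ⥤ᵇ fp F G' :=
  BasedFunctor.comp (pasteL u F G') (fpSnd u (fpFst F G'))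

/-- `𝒳 ×_ℬ 𝒱 ⟶ 𝒳 ×_ℬ 𝒴`, a base change of `v`. -/
def prodStepB (F : 𝒳 ⥤ᵇ ℬ) (G : 𝒴 ⥤ᵇ ℬ) (v : 𝒱 ⥤ᵇ 𝒴) :
    fp F (BasedFunctor.comp v G) ⥤ᵇ fp F G :=
  BasedFunctor.comp (pasteR F G v) (fpFst (fpSnd F G) v)

/-- `u × v : 𝒰 ×_ℬ 𝒱 ⟶ 𝒳 ×_ℬ 𝒴`. -/
def prodMapGen (u : 𝒰 ⥤ᵇ 𝒳) (v : 𝒱 ⥤ᵇ 𝒴) (F : 𝒳 ⥤ᵇ ℬ) (G : 𝒴 ⥤ᵇ ℬ) :
    fp (BasedFunctor.comp u F) (BasedFunctor.comp v G) ⥤ᵇ fp F G :=
  BasedFunctor.comp (prodStepA u F (BasedFunctor.comp v G)) (prodStepB F G v)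

end general

variable {S : Scheme.{u}} {P : MorphismProperty (AlgSp.Sp S)}

theorem repByAlgSpWith_prodMapGen (hPb : StableAlg P) (hPc : CompAlg P) (hP : DescAtlas P)
    {𝒰 𝒱 𝒳 𝒴 ℬ : AlgSt.Cat S} (h𝒰 : IsFibGrpd 𝒰.p) (h𝒱 : IsFibGrpd 𝒱.p) (h𝒳 : IsFibGrpd 𝒳.p)
    (hℬ : IsFibGrpd ℬ.p) (u : 𝒰 ⥤ᵇ 𝒳) (v : 𝒱 ⥤ᵇ 𝒴) (F : 𝒳 ⥤ᵇ ℬ) (G : 𝒴 ⥤ᵇ ℬ)
    (hu : RepByAlgSpWith P u) (hv : RepByAlgSpWith P v) : RepByAlgSpWith P (prodMapGen u v F G) := by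
  have h1 : RepByAlgSpWith P (prodStepA u F (BasedFunctor.comp v G)) :=
    (repByAlgSpWith_equiv_comp _ (isEquivOver_pasteL u F (BasedFunctor.comp v G)) _).2
      (repByAlgSpWith_fpSnd u (fpFst F (BasedFunctor.comp v G)) hu)
  have h2 : RepByAlgSpWith P (prodStepB F G v) :=
    (repByAlgSpWith_equiv_comp _ (isEquivOver_pasteR F G v) _).2
      (repByAlgSpWith_fpFst v (fpSnd F G) hv)
  have hfib1 : IsFibGrpd (fp (BasedFunctor.comp u F) (BasedFunctor.comp v G)).p :=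
    Groth.Agent.S6401.result _ _ h𝒰 h𝒱 hℬ
  have hfib2 : IsFibGrpd (fp F (BasedFunctor.comp v G)).p := Groth.Agent.S6401.result _ _ h𝒳 h𝒱 hℬ
  exact repByAlgSpWith_comp hPb hPc hP hfib1 hfib2 _ _ h1 h2

/-- An atlas from an algebraic space refines to an atlas from a scheme. -/
theorem hasAtlas_of_space {𝒳 : AlgSt.Cat S} (Q : MorphismProperty (AlgSp.Sp S))
    (hQ : ∀ ⦃A B C : AlgSp.Sp S⦄ (f : A ⟶ B) (g : B ⟶ C), AlgSp.RepWith @Etale f → Q g → Q (f ≫ g))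
    (X : AlgSp.Space S) (π : ofSp X.obj ⥤ᵇ 𝒳) (hπ : RepByAlgSpWith Q π)
    (hπs : RepByAlgSpWith AlgSp.IsSurjectiveMor π) : HasAtlas Q 𝒳 := by
  obtain ⟨W, p, hpe, hps⟩ := X.property.atlas
  let W' : AlgSp.Space S := ⟨(AlgSp.yon S).obj W, AlgSp.IsAlgSpace.yon_obj W⟩
  let p' : W'.obj ⟶ X.obj := p
  refine ⟨W, BasedFunctor.comp (ofOverCat W) (BasedFunctor.comp (ofSpMap p') π), ?_, ?_⟩
  · rw [repByAlgSpWith_equiv_comp _ (isEquivOver_ofOverCat W)]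
    exact repByAlgSpWith_ofSpMap_comp (AlgSp.RepWith @Etale) Q Q (repWith_stable @Etale) hQ p' hpe π hπ
  · rw [repByAlgSpWith_equiv_comp _ (isEquivOver_ofOverCat W)]
    exact repByAlgSpWith_ofSpMap_comp (AlgSp.RepWith @Surjective) AlgSp.IsSurjectiveMor AlgSp.IsSurjectiveMor
      (repWith_stable @Surjective) isSurjectiveMor_comp_repWith p' hps π hπs

theorem isPrestack_of_isStack {C : Type*} [Category C] (J : GrothendieckTopology C)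
    {𝒮 : BasedCategory.{v, w} C} (h𝒮 : IsStack J 𝒮) : IsPrestack J 𝒮 := by
  refine ⟨h𝒮.1, fun U R hR => ?_⟩
  have : (resSieve R 𝒮).IsEquivalence := h𝒮.2 R hR
  exact ⟨inferInstance, inferInstance⟩

theorem isStack_selfOver (S : Scheme.{u}) :
    IsStack (QuotSh.J Scheme.fppfPrecoverage S) (selfOver (Over S)) :=
  isStack_of_repByAlgSp (repByAlgSp_selfOver S)

/-- the product of two algebraic stacks is an algebraic stack (S12764). -/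
theorem isAlgStack_prod {𝒳 𝒴 : AlgSt.Cat S} (h𝒳 : IsAlgStack Scheme.fppfPrecoverage 𝒳)
    (h𝒴 : IsAlgStack Scheme.fppfPrecoverage 𝒴) :
    IsAlgStack Scheme.fppfPrecoverage (fp (toSelf 𝒳) (toSelf 𝒴)) := by
  have hself : IsFibGrpd (selfOver (Over S)).p := isFibGrpd_selfOver (Over S)
  have hst : IsStack (QuotSh.J Scheme.fppfPrecoverage S) (fp (toSelf 𝒳) (toSelf 𝒴)) :=
    Groth.Agent.S12792.result _ (toSelf 𝒳) (toSelf 𝒴) h𝒳.isStack h𝒴.isStack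
      (isPrestack_of_isStack _ (isStack_selfOver S))
  refine ⟨hst, ?_, ?_⟩
  · rw [repByAlgSp1_diag_iff]
    intro U x
    rw [repByAlgSp1_iff_top]
    have hU : IsFibGrpd (overCat U).p :=
      Groth.Agent.Helper19.StackLib.isFibGrpd_of_equiv (toOverCat U) (isEquivOver_toOverCat U)
        (Stk.isFibGrpd_ofPsh _)
    refine repByAlgSpWith_of_comp stableAlg_top compAlg_top descAtlas_top hU hst.1 h𝒳.isStack.1 x
      (fpFst (toSelf 𝒳) (toSelf 𝒴)) ?_ ?_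
    · exact (repByAlgSp1_iff_top _).1 ((repByAlgSp1_diag_iff 𝒳).1 h𝒳.diag U _)
    · exact repByAlgSpWith_diag_fpFst (toSelf 𝒴) (toSelf 𝒳) ((repByAlgSp1_iff_top _).1 h𝒴.diag)
  · obtain ⟨U, u, hu, hus⟩ := h𝒳.atlas
    obtain ⟨V, v, hv, hvs⟩ := h𝒴.atlas
    have hU : IsFibGrpd (overCat U).p :=
      Groth.Agent.Helper19.StackLib.isFibGrpd_of_equiv (toOverCat U) (isEquivOver_toOverCat U)
        (Stk.isFibGrpd_ofPsh _)
    have hV : IsFibGrpd (overCat V).p :=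
      Groth.Agent.Helper19.StackLib.isFibGrpd_of_equiv (toOverCat V) (isEquivOver_toOverCat V)
        (Stk.isFibGrpd_ofPsh _)
    obtain ⟨X, e, he⟩ := repByAlgSp_fp (BasedFunctor.comp u (toSelf 𝒳)) (BasedFunctor.comp v (toSelf 𝒴))
      (repByAlgSp_overCat U) (repByAlgSp_overCat V) (repByAlgSp_selfOver S)
    have hsm : RepByAlgSpWith (AlgSp.LocP @Smooth) (prodMapGen u v (toSelf 𝒳) (toSelf 𝒴)) :=
      repByAlgSpWith_prodMapGen (stableAlg_locP Groth.Agent.Helper15.goodP_smooth srcEtLoc_smooth)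
        (compAlg_locP Groth.Agent.Helper15.goodP_smooth srcEtLoc_smooth)
        (descAtlas_of_fpqc isLocalOnBase_fpqc_locP_smooth) hU hV h𝒳.isStack.1 hself u v _ _ hu hv
    have hsu : RepByAlgSpWith AlgSp.IsSurjectiveMor (prodMapGen u v (toSelf 𝒳) (toSelf 𝒴)) :=
      repByAlgSpWith_prodMapGen stableAlg_isSurjectiveMor compAlg_isSurjectiveMor descAtlas_isSurjectiveMor
        hU hV h𝒳.isStack.1 hself u v _ _ hus hvs
    exact hasAtlas_of_space _ (locP_comp_repWith_etale @Smooth) X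
      (BasedFunctor.comp e (prodMapGen u v (toSelf 𝒳) (toSelf 𝒴)))
      ((repByAlgSpWith_equiv_comp e he _).2 hsm) ((repByAlgSpWith_equiv_comp e he _).2 hsu)

/-- the 2-fibre product of algebraic stacks over a stack with representable diagonal is algebraic (S12763). -/
theorem isAlgStack_fp {𝒳 𝒴 𝒵 : AlgSt.Cat S} (h𝒵 : IsStack (QuotSh.J Scheme.fppfPrecoverage S) 𝒵)
    (hΔ : RepByAlgSp1 (diag (toSelf 𝒵))) (h𝒳 : IsAlgStack Scheme.fppfPrecoverage 𝒳)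
    (h𝒴 : IsAlgStack Scheme.fppfPrecoverage 𝒴) (f : 𝒳 ⥤ᵇ 𝒵) (g : 𝒴 ⥤ᵇ 𝒵) :
    IsAlgStack Scheme.fppfPrecoverage (fp f g) := by
  have hfib : IsFibGrpd (fp f g).p := Groth.Agent.S6401.result f g h𝒳.isStack.1 h𝒴.isStack.1 h𝒵.1
  let t := toSelf 𝒵
  let e : BasedFunctor.comp (fpFst f g) (BasedFunctor.comp f t) ≅
      BasedFunctor.comp (fpSnd f g) (BasedFunctor.comp g t) := whiskerRightIso (fpIso f g) t
  have he : ∀ x, e.hom.toNatTrans.app x = t.map x.obj.iso.hom := fun x => rfl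
  have h1 : RepByAlgSpWith ⊤ (fpLift (fpFst f g) (fpSnd f g) e) :=
    repByAlgSpWith_cmpI f g t e he ((repByAlgSp1_iff_top _).1 hΔ)
  let K₁ : fp (BasedFunctor.comp f t) (BasedFunctor.comp g t) ⥤ᵇ fp (toSelf 𝒳) (BasedFunctor.comp g t) :=
    fpCongrLeft (BasedFunctor.comp g t) (selfOverIso (BasedFunctor.comp f t) (toSelf 𝒳))
  let K₂ : fp (toSelf 𝒳) (BasedFunctor.comp g t) ⥤ᵇ fp (toSelf 𝒳) (toSelf 𝒴) :=
    fpCongrRight (toSelf 𝒳) (selfOverIso (BasedFunctor.comp g t) (toSelf 𝒴))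
  have hK₁ : IsEquivOver K₁ := isEquivOver_fpCongrLeft _ _
  have hK₂ : IsEquivOver K₂ := isEquivOver_fpCongrRight _ _
  have h2 : RepByAlgSpWith ⊤ (BasedFunctor.comp (fpLift (fpFst f g) (fpSnd f g) e)
      (BasedFunctor.comp K₁ K₂)) :=
    (repByAlgSpWith_comp_equiv _ _ (IsEquivOver.comp hK₁ hK₂)).2 h1
  exact isAlgStack_of_repByAlgSp1 hfib (isAlgStack_prod h𝒳 h𝒴) _ ((repByAlgSp1_iff_top _).2 h2)

end Groth.Agent.Helper19.ProdAlg
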