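import Mathlib
import Groth.Agent.Lib.Helper19.ProdAlg
import Groth.Agent.Lib.Helper19.ImmLib

/-!
# Smooth surjective charts over a chart of the target (helper19)
-/

set_option autoImplicit false
set_option backward.isDefEq.respectTransparency false

universe w₆ v₆ w₅ v₅ w₄ v₄ w₃ v₃ w' v' w v u

open CategoryTheory CategoryTheory.Limits Functor AlgebraicGeometry Opposite

namespace Groth.Agent.Helper19.ChartOver

open FibCat AlgSt Stk Groth.Agent.Helper19.FibLib Groth.Agent.Helper19.StLib Groth.Agent.Helper19.DiagAlgSp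
  Groth.Agent.Helper19.PshSt Groth.Agent.Helper19.AlgP Groth.Agent.Helper19.ProdAlg
  Groth.Agent.Helper19.ImmLib Groth.Agent.Helper19.SpProps Groth.Agent.Helper16.AS

variable {S : Scheme.{u}}

/-- every functor `(Sch/U) ⟶ (Sch/V)` over `(Sch/S)` is the functor of a morphism `U ⟶ V`. -/
theorem exists_overMap_iso {U V : Over S} (Φ : overCat U ⥤ᵇ overCat V) :
    ∃ a : U ⟶ V, Nonempty (Φ ≅ overMap a) := by
  let Φ' : ofSch U ⥤ᵇ overCat V := BasedFunctor.comp (toOverCat U) Φ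
  obtain ⟨a, ha⟩ := (AlgSp.yon S).map_surjective (spMapOfOver Φ')
  refine ⟨a, ⟨?_⟩⟩
  have θ : Φ' ≅ BasedFunctor.comp (ofSpMap ((AlgSp.yon S).map a)) (toOverCat V) :=
    isoOfSpMapOfOver Φ' ≪≫ eqToIso (by rw [ha])
  exact (eqToIso (BasedFunctor.id_comp Φ)).symm ≪≫ (whiskerRightIso (ofToOverCat U) Φ).symm ≪≫
    whiskerLeftIso (ofOverCat U) θ ≪≫ overMapIso a

theorem isFibGrpd_overCat (U : Over S) : IsFibGrpd (overCat U).p :=
  Groth.Agent.Helper19.StackLib.isFibGrpd_of_equiv (toOverCat U) (isEquivOver_toOverCat U)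
    (Stk.isFibGrpd_ofPsh _)

theorem isAlgStack_overCat (U : Over S) : IsAlgStack Scheme.fppfPrecoverage (overCat U) :=
  (Groth.Agent.Helper19.DMLib.isDM_of_repByAlgSp (repByAlgSp_overCat U)).1

/-- S12773. -/
theorem exists_smooth_surjective_chart_over {𝒳 𝒴 : AlgSt.Cat S}
    (h𝒳 : IsAlgStack Scheme.fppfPrecoverage 𝒳) (h𝒴 : IsAlgStack Scheme.fppfPrecoverage 𝒴)
    (f : 𝒳 ⥤ᵇ 𝒴) (V : Over S) (y : overCat V ⥤ᵇ 𝒴)
    (hy : RepByAlgSpWith (AlgSp.LocP @Smooth) y) (hy' : RepByAlgSpWith AlgSp.IsSurjectiveMor y) :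
    ∃ (U : Over S) (a : U ⟶ V) (x : overCat U ⥤ᵇ 𝒳),
      RepByAlgSpWith (AlgSp.LocP @Smooth) x ∧ RepByAlgSpWith AlgSp.IsSurjectiveMor x ∧
        Nonempty (BasedFunctor.comp x f ≅ BasedFunctor.comp (overMap a) y) := by
  have h𝒫 : IsAlgStack Scheme.fppfPrecoverage (fp y f) :=
    isAlgStack_fp h𝒴.isStack h𝒴.diag (isAlgStack_overCat V) h𝒳 y f
  obtain ⟨U, u, hu, hus⟩ := h𝒫.atlas
  obtain ⟨a, ⟨θ⟩⟩ := exists_overMap_iso (BasedFunctor.comp u (fpFst y f))
  have hU := isFibGrpd_overCat U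
  refine ⟨U, a, BasedFunctor.comp u (fpSnd y f), ?_, ?_, ⟨?_⟩⟩
  · exact repByAlgSpWith_comp (stableAlg_locP Groth.Agent.Helper15.goodP_smooth srcEtLoc_smooth)
      (compAlg_locP Groth.Agent.Helper15.goodP_smooth srcEtLoc_smooth)
      (descAtlas_of_fpqc isLocalOnBase_fpqc_locP_smooth) hU h𝒫.isStack.1 u (fpSnd y f) hu
      (repByAlgSpWith_fpSnd y f hy)
  · exact repByAlgSpWith_comp stableAlg_isSurjectiveMor compAlg_isSurjectiveMor descAtlas_isSurjectiveMor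
      hU h𝒫.isStack.1 u (fpSnd y f) hus (repByAlgSpWith_fpSnd y f hy')
  · exact (whiskerLeftIso u (fpIso y f)).symm ≪≫ whiskerRightIso θ y

end Groth.Agent.Helper19.ChartOver
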