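import Mathlib
import Groth.Agent.Lib.Helper19.PbRec
import Groth.Agent.Lib.Helper19.SrcLoc

/-!
# A dictionary between categories over `(Sch/S)` presented by sheaves and the sheaves (helper19)

A presentation of `𝒜` is a sheaf `A` with an equivalence `ofSp A ≃ 𝒜` over `(Sch/S)`.  Functors between presented
categories have underlying maps of sheaves; 2-isomorphic functors have equal maps; 2-fibre products give
pullback squares.
-/

set_option autoImplicit false
set_option backward.isDefEq.respectTransparency false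

universe w₄ v₄ w₃ v₃ w' v' w v u

open CategoryTheory CategoryTheory.Limits Functor AlgebraicGeometry Opposite

namespace Groth.Agent.Helper19.SpDict

open FibCat AlgSt Stk Groth.Agent.Helper19.FibLib Groth.Agent.Helper19.StLib Groth.Agent.Helper19.PshLib
  Groth.Agent.Helper19.PshSt Groth.Agent.Helper19.DiagLib Groth.Agent.Helper19.ImmLib
  Groth.Agent.Helper19.AlgP Groth.Agent.Helper19.SrcLoc

variable {S : Scheme.{u}}

/-- a presentation of a category over `(Sch/S)` by a sheaf. -/
structure Pres (𝒜 : BasedCategory.{v, w} (Over S)) where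
  /-- the sheaf -/
  sp : AlgSp.Sp S
  /-- the equivalence -/
  e : ofSp sp ⥤ᵇ 𝒜
  /-- its inverse -/
  inv : 𝒜 ⥤ᵇ ofSp sp
  /-- unit -/
  unit : BasedFunctor.comp e inv ≅ BasedFunctor.id _
  /-- counit -/
  counit : BasedFunctor.comp inv e ≅ BasedFunctor.id _

namespace Pres

variable {𝒜 : BasedCategory.{v, w} (Over S)} {ℬ : BasedCategory.{v', w'} (Over S)}
  {𝒞 : BasedCategory.{v₃, w₃} (Over S)}

theorem isEquivOver_e (p : Pres 𝒜) : IsEquivOver p.e := ⟨p.inv, ⟨p.unit⟩, ⟨p.counit⟩⟩

theorem isEquivOver_inv (p : Pres 𝒜) : IsEquivOver p.inv := ⟨p.e, ⟨p.counit⟩, ⟨p.unit⟩⟩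

/-- a presentation from an equivalence. -/
noncomputable def ofEquiv (A : AlgSp.Sp S) (e : ofSp A ⥤ᵇ 𝒜) (he : IsEquivOver e) : Pres 𝒜 where
  sp := A
  e := e
  inv := he.choose
  unit := he.choose_spec.1.some
  counit := he.choose_spec.2.some

@[simp] theorem ofEquiv_sp (A : AlgSp.Sp S) (e : ofSp A ⥤ᵇ 𝒜) (he : IsEquivOver e) :
    (ofEquiv A e he).sp = A := rfl

@[simp] theorem ofEquiv_e (A : AlgSp.Sp S) (e : ofSp A ⥤ᵇ 𝒜) (he : IsEquivOver e) :
    (ofEquiv A e he).e = e := rfl

/-- the canonical presentation of the category of a sheaf. -/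
def can (A : AlgSp.Sp S) : Pres (ofSp A) where
  sp := A
  e := BasedFunctor.id _
  inv := BasedFunctor.id _
  unit := Iso.refl _
  counit := Iso.refl _

/-- the presentation of a slice by the sheaf of the scheme. -/
def ov (U : Over S) : Pres (overCat U) where
  sp := (AlgSp.yon S).obj U
  e := toOverCat U
  inv := ofOverCat U
  unit := toOfOverCat U
  counit := ofToOverCat U

/-- the map of sheaves underlying a functor between presented categories. -/
def map (p : Pres 𝒜) (q : Pres ℬ) (M : 𝒜 ⥤ᵇ ℬ) : p.sp ⟶ q.sp :=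
  ObjectProperty.homMk (pshMapOf (BasedFunctor.comp p.e (BasedFunctor.comp M q.inv)))

/-- the functor is the functor of its map, through the presentations. -/
def mapIso (p : Pres 𝒜) (q : Pres ℬ) (M : 𝒜 ⥤ᵇ ℬ) :
    BasedFunctor.comp p.e M ≅ BasedFunctor.comp (ofSpMap (map p q M)) q.e :=
  (whiskerLeftIso (BasedFunctor.comp p.e M) q.counit).symm ≪≫
    whiskerRightIso (isoOfPshMap (BasedFunctor.comp p.e (BasedFunctor.comp M q.inv))) q.e

/-- the map is determined by a 2-isomorphism. -/
theorem map_unique (p : Pres 𝒜) (q : Pres ℬ) (M : 𝒜 ⥤ᵇ ℬ) (m : p.sp ⟶ q.sp)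
    (θ : BasedFunctor.comp p.e M ≅ BasedFunctor.comp (ofSpMap m) q.e) : map p q M = m := by
  apply ObjectProperty.hom_ext
  have e1 : BasedFunctor.comp p.e (BasedFunctor.comp M q.inv) ≅ ofSpMap m :=
    whiskerRightIso θ q.inv ≪≫ whiskerLeftIso (ofSpMap m) q.unit
  change pshMapOf _ = m.hom
  rw [pshMapOf_eq_of_iso e1, pshMapOf_ofPshMap]

theorem map_congr (p : Pres 𝒜) (q : Pres ℬ) {M M' : 𝒜 ⥤ᵇ ℬ} (θ : M ≅ M') : map p q M = map p q M' :=
  map_unique p q M _ (whiskerLeftIso p.e θ ≪≫ mapIso p q M')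

theorem map_comp (p : Pres 𝒜) (q : Pres ℬ) (r : Pres 𝒞) (M : 𝒜 ⥤ᵇ ℬ) (N : ℬ ⥤ᵇ 𝒞) :
    map p r (BasedFunctor.comp M N) = map p q M ≫ map q r N := by
  apply map_unique
  exact whiskerRightIso (mapIso p q M) N ≪≫ whiskerLeftIso (ofSpMap (map p q M)) (mapIso q r N) ≪≫
    whiskerRightIso (ofPshMapComp (map p q M).hom (map q r N).hom) r.e

theorem map_id (p : Pres 𝒜) : map p p (BasedFunctor.id 𝒜) = 𝟙 _ := by
  apply map_unique
  exact (whiskerRightIso (ofPshMapId p.sp.obj) p.e).symm

theorem map_ofSpMap {A B : AlgSp.Sp S} (m : A ⟶ B) : map (can A) (can B) (ofSpMap m) = m := by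
  apply map_unique
  exact Iso.refl _

theorem map_overMap {U V : Over S} (h : U ⟶ V) : map (ov U) (ov V) (overMap h) = (AlgSp.yon S).map h := by
  apply map_unique
  exact mkIso (fun v => Iso.refl _) (fun {v v'} f => by
    apply Over.OverMorphism.ext
    simp
    rfl) (fun v => IsHomLift.id rfl)

/-- the comparison of two presentations. -/
def cmp (p p' : Pres 𝒜) : p.sp ≅ p'.sp where
  hom := map p p' (BasedFunctor.id 𝒜)
  inv := map p' p (BasedFunctor.id 𝒜)
  hom_inv_id := by rw [← map_comp, ← map_id p]; rfl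
  inv_hom_id := by rw [← map_comp, ← map_id p']; rfl

theorem cmp_hom_map (p p' : Pres 𝒜) (q : Pres ℬ) (M : 𝒜 ⥤ᵇ ℬ) :
    (cmp p p').hom ≫ map p' q M = map p q M := by
  change map p p' (BasedFunctor.id 𝒜) ≫ _ = _
  rw [← map_comp]
  rfl

theorem map_cmp_hom (p : Pres 𝒜) (q q' : Pres ℬ) (M : 𝒜 ⥤ᵇ ℬ) :
    map p q M ≫ (cmp q q').hom = map p q' M := by
  change _ ≫ map q q' (BasedFunctor.id ℬ) = _
  rw [← map_comp]
  rfl

section pullback

variable {𝒵 : BasedCategory.{v₄, w₄} (Over S)} (p : Pres 𝒜) (q : Pres ℬ) (r : Pres 𝒵)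
  (F : 𝒜 ⥤ᵇ 𝒵) (G : ℬ ⥤ᵇ 𝒵)

theorem isPbSec_map : IsPbSec (pullback.fst (map p r F) (map q r G)).hom
    (pullback.snd (map p r F) (map q r G)).hom (map p r F).hom (map q r G).hom :=
  IsPbSec.of_isPullback (IsPullback.map (sheafToPresheaf (AlgSp.J S) (Type (u + 1)))
    (IsPullback.of_hasPullback (map p r F) (map q r G)))

/-- the presentation of a 2-fibre product by the fibre product of sheaves. -/
noncomputable def fpPres : Pres (fp F G) :=
  haveI := IsEquivOver.isEquivalence r.isEquivOver_e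
  ofEquiv (pullback (map p r F) (map q r G))
    (BasedFunctor.comp (pbFunctor (isPbSec_map p q r F G).w)
      (fpMap p.e q.e r.e (mapIso p r F).symm (mapIso q r G).symm))
    (by
      haveI := IsEquivOver.isEquivalence r.isEquivOver_e
      exact isEquivOver_pbFunctor_fpMap (isPbSec_map p q r F G) p.e p.isEquivOver_e q.e q.isEquivOver_e
        r.e F G (mapIso p r F).symm (mapIso q r G).symm)

theorem map_fpPres_fpFst : map (fpPres p q r F G) p (fpFst F G) = pullback.fst (map p r F) (map q r G) := by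
  apply map_unique
  exact Iso.refl _

theorem map_fpPres_fpSnd : map (fpPres p q r F G) q (fpSnd F G) = pullback.snd (map p r F) (map q r G) := by
  apply map_unique
  exact Iso.refl _

/-- **2-fibre products of presented categories give pullback squares of sheaves.** -/
theorem isPullback_map (c : Pres (fp F G)) :
    IsPullback (map c p (fpFst F G)) (map c q (fpSnd F G)) (map p r F) (map q r G) := by
  have h1 : map c p (fpFst F G) = (cmp c (fpPres p q r F G)).hom ≫ pullback.fst (map p r F) (map q r G) := by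
    rw [← map_fpPres_fpFst, cmp_hom_map]
  have h2 : map c q (fpSnd F G) = (cmp c (fpPres p q r F G)).hom ≫ pullback.snd (map p r F) (map q r G) := by
    rw [← map_fpPres_fpSnd, cmp_hom_map]
  rw [h1, h2]
  exact IsPullback.of_iso (IsPullback.of_hasPullback (map p r F) (map q r G))
    (cmp c (fpPres p q r F G)).symm (Iso.refl _) (Iso.refl _) (Iso.refl _) (by simp) (by simp) (by simp)
    (by simp)

end pullback

section rep

/-- a functor between categories presented by algebraic spaces has `Q` iff its map of sheaves has. -/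
theorem repByAlgSpWith_iff_map {Q : MorphismProperty (AlgSp.Sp S)} (hQb : StableAlg Q) (hQ : DescAtlas Q)
    (p : Pres 𝒜) (q : Pres ℬ) (hp : AlgSp.IsAlgSpace p.sp) (hq : AlgSp.IsAlgSpace q.sp) (M : 𝒜 ⥤ᵇ ℬ) :
    RepByAlgSpWith Q M ↔ Q (map p q M) := by
  rw [repByAlgSpWith_iff_of_square M (ofSpMap (map p q M)) p.e q.e p.isEquivOver_e q.isEquivOver_e
    (mapIso p q M).symm]
  exact repByAlgSpWith_ofSpMap_iff hQb hQ (A := ⟨q.sp, hq⟩) (B := ⟨p.sp, hp⟩) (map p q M)

end rep

end Pres

end Groth.Agent.Helper19.SpDict
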