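import Mathlib
import Groth.Agent.Lib.Helper19.SpDict
import Groth.Agent.Lib.Helper19.ProdAlg
import Groth.Agent.Lib.Helper19.SpProps2
import Groth.Agent.S10565
import Groth.Agent.S10566

/-!
# The two-square argument for properties read on smooth charts (helper19)
-/

set_option autoImplicit false
set_option backward.isDefEq.respectTransparency false

universe w₈ v₈ w₇ v₇ w₆ v₆ w₅ v₅ w₄ v₄ w₃ v₃ w' v' w v u

open CategoryTheory CategoryTheory.Limits Functor AlgebraicGeometry Opposite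

namespace Groth.Agent.Helper19.LocQCore

open FibCat AlgSt Stk Groth.Agent.Helper19.FibLib Groth.Agent.Helper19.StLib

section crux

variable {C : Type*} [Category C] {𝒳 : BasedCategory.{v, w} C} {𝒴 : BasedCategory.{v', w'} C}
  {𝒰₀ : BasedCategory.{v₃, w₃} C} {𝒱₀ : BasedCategory.{v₄, w₄} C}
  {𝒰 : BasedCategory.{v₅, w₅} C} {𝒱 : BasedCategory.{v₆, w₆} C}
  (f : 𝒳 ⥤ᵇ 𝒴) (x₀ : 𝒰₀ ⥤ᵇ 𝒳) (y₀ : 𝒱₀ ⥤ᵇ 𝒴) (H₀ : 𝒰₀ ⥤ᵇ 𝒱₀)
  (α₀ : BasedFunctor.comp x₀ f ≅ BasedFunctor.comp H₀ y₀)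
  (x : 𝒰 ⥤ᵇ 𝒳) (y : 𝒱 ⥤ᵇ 𝒴) (H : 𝒰 ⥤ᵇ 𝒱)
  (α : BasedFunctor.comp x f ≅ BasedFunctor.comp H y)

/-- the map between the fibre products of the charts. -/
abbrev sqM : fp x₀ x ⥤ᵇ fp y₀ y := fpMap H₀ H f α₀ α

/-- the comparison to the base change of the first square. -/
abbrev sqΘ : fp x₀ x ⥤ᵇ fp H₀ (fpFst y₀ y) :=
  fpLift (F := H₀) (G := fpFst y₀ y) (fpFst x₀ x) (sqM f x₀ y₀ H₀ α₀ x y H α) (Iso.refl _)

/-- the chart of the fibre product. -/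
abbrev sqℓ : 𝒰 ⥤ᵇ fp f y := fpLift x H α

/-- the identification `𝒰₀ ×_{𝒱₀} (𝒱₀ ×_𝒴 𝒱) ≃ 𝒰₀ ×_𝒳 (𝒳 ×_𝒴 𝒱)`. -/
abbrev sqΞ : fp H₀ (fpFst y₀ y) ⥤ᵇ fp x₀ (fpFst f y) :=
  BasedFunctor.comp (pasteLInv H₀ y₀ y) (BasedFunctor.comp (fpCongrLeft y α₀.symm) (pasteL x₀ f y))

theorem isEquivOver_sqΞ : IsEquivOver (sqΞ f x₀ y₀ H₀ α₀ y) :=
  IsEquivOver.comp (isEquivOver_pasteLInv H₀ y₀ y)
    (IsEquivOver.comp (isEquivOver_fpCongrLeft y α₀.symm) (isEquivOver_pasteL x₀ f y))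

/-- the second component of the crux isomorphism. -/
def cruxβ : BasedFunctor.comp (BasedFunctor.comp (sqΘ f x₀ y₀ H₀ α₀ x y H α) (sqΞ f x₀ y₀ H₀ α₀ y))
      (fpSnd x₀ (fpFst f y)) ≅
    BasedFunctor.comp (fpSnd x₀ x) (sqℓ f x y H α) :=
  fpFunctorIso _ _ (fpIso x₀ x) (Iso.refl _) (fun a => by
    simp [pasteL, pasteLInv, fpCongrLeft])

/-- **the comparison map is a base change of the chart of the fibre product.** -/
def cruxIso : BasedFunctor.comp (sqΘ f x₀ y₀ H₀ α₀ x y H α) (sqΞ f x₀ y₀ H₀ α₀ y) ≅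
    Groth.Agent.Helper19.ProdAlg.prodStepB x₀ (fpFst f y) (sqℓ f x y H α) :=
  fpFunctorIso _ _ (Iso.refl _) (cruxβ f x₀ y₀ H₀ α₀ x y H α) (fun a => by
    simp [pasteL, pasteLInv, fpCongrLeft, Groth.Agent.Helper19.ProdAlg.prodStepB, pasteR, cruxβ])

end crux

section smooth

open Groth.Agent.Helper19.AlgP Groth.Agent.Helper19.SpProps
  Groth.Agent.Helper16.AS Groth.Agent.Helper19.SpDict Groth.Agent.Helper19.ProdAlg
  Groth.Agent.Helper19.DiagAlgSp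

variable {S : Scheme.{u}}

theorem stableAlg_smooth : StableAlg (S := S) (AlgSp.LocP @Smooth) :=
  stableAlg_locP Groth.Agent.Helper15.goodP_smooth srcEtLoc_smooth

theorem compAlg_smooth : CompAlg (S := S) (AlgSp.LocP @Smooth) :=
  compAlg_locP Groth.Agent.Helper15.goodP_smooth srcEtLoc_smooth

theorem descAtlas_smooth : DescAtlas (S := S) (AlgSp.LocP @Smooth) :=
  descAtlas_of_fpqc isLocalOnBase_fpqc_locP_smooth

section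

variable {𝒜 : BasedCategory.{v, w} (Over S)} {ℬ : BasedCategory.{v', w'} (Over S)}

theorem smooth_map_iff (p : Pres 𝒜) (q : Pres ℬ) (hp : AlgSp.IsAlgSpace p.sp) (hq : AlgSp.IsAlgSpace q.sp)
    (M : 𝒜 ⥤ᵇ ℬ) : RepByAlgSpWith (AlgSp.LocP @Smooth) M ↔ AlgSp.LocP @Smooth (Pres.map p q M) :=
  Pres.repByAlgSpWith_iff_map stableAlg_smooth descAtlas_smooth p q hp hq M

theorem surjective_map_iff (p : Pres 𝒜) (q : Pres ℬ) (hp : AlgSp.IsAlgSpace p.sp)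
    (hq : AlgSp.IsAlgSpace q.sp) (M : 𝒜 ⥤ᵇ ℬ) :
    RepByAlgSpWith AlgSp.IsSurjectiveMor M ↔ AlgSp.IsSurjectiveMor (Pres.map p q M) :=
  Pres.repByAlgSpWith_iff_map stableAlg_isSurjectiveMor descAtlas_isSurjectiveMor p q hp hq M

/-- a presentation by an algebraic space, from representability. -/
theorem exists_pres (h : RepByAlgSp 𝒜) : ∃ p : Pres 𝒜, AlgSp.IsAlgSpace p.sp := by
  obtain ⟨A, e, he⟩ := h
  exact ⟨Pres.ofEquiv A.obj e he, A.property⟩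

end

variable {P : MorphismProperty (AlgSp.Sp S)}

/-- locality on the source for one smooth surjective morphism. -/
theorem of_precomp_smooth_surjective (hP : AlgSp.IsSmoothLocalST P) {X' X Y : AlgSp.Sp S}
    (hX' : AlgSp.IsAlgSpace X') (hX : AlgSp.IsAlgSpace X) (hY : AlgSp.IsAlgSpace Y) (a : X' ⟶ X) (g : X ⟶ Y)
    (ha : AlgSp.LocP @Smooth a) (has : AlgSp.IsSurjectiveMor a) (h : P (a ≫ g)) : P g := by
  have hloc := isLocalOnSource_sm_of_isSmoothLocalST hP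
  have hcov : AlgSp.IsSmCover (fun _ : PUnit.{u + 1} => X') (fun _ => a) :=
    ⟨fun _ => ha, fun x => ⟨PUnit.unit, has x⟩⟩
  exact (hloc (fun _ : PUnit.{u + 1} => X') (fun _ => a) hX (fun _ => hX') hcov g hY).2 (fun _ => h)

/-- a category presented by a sheaf is fibred in groupoids. -/
theorem isFibGrpd_of_pres {𝒜 : BasedCategory.{v, w} (Over S)} (p : Pres 𝒜) : IsFibGrpd 𝒜.p :=
  Groth.Agent.Helper19.StackLib.isFibGrpd_of_equiv p.e p.isEquivOver_e (Stk.isFibGrpd_ofPsh _)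

theorem repByAlgSp_of_pres {𝒜 : BasedCategory.{v, w} (Over S)} (p : Pres 𝒜) (hp : AlgSp.IsAlgSpace p.sp) :
    RepByAlgSp 𝒜 := ⟨⟨p.sp, hp⟩, p.e, p.isEquivOver_e⟩

/-- **The two-square argument.**  If `P` holds on one chart square with surjective smooth `x₀`, it holds on
every square of charts by algebraic spaces whose map to the fibre product is smooth. -/
theorem of_square_pres (hP : AlgSp.IsSmoothLocalST P) {𝒳 𝒴 : AlgSt.Cat S} (h𝒳 : IsFibGrpd 𝒳.p)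
    (h𝒴 : IsFibGrpd 𝒴.p) (f : 𝒳 ⥤ᵇ 𝒴)
    {U₀ V₀ : Over S} (x₀ : overCat U₀ ⥤ᵇ 𝒳) (y₀ : overCat V₀ ⥤ᵇ 𝒴) (h₀ : U₀ ⟶ V₀)
    (α₀ : BasedFunctor.comp x₀ f ≅ BasedFunctor.comp (overMap h₀) y₀)
    (hx₀ : RepByAlgSpWith (AlgSp.LocP @Smooth) x₀) (hx₀s : RepByAlgSpWith AlgSp.IsSurjectiveMor x₀)
    (hy₀ : RepByAlgSpWith (AlgSp.LocP @Smooth) y₀) (hP₀ : P ((AlgSp.yon S).map h₀))
    {𝒰 𝒱 : AlgSt.Cat S} (pU : Pres 𝒰) (pV : Pres 𝒱) (hU : AlgSp.IsAlgSpace pU.sp)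
    (hV : AlgSp.IsAlgSpace pV.sp) (x : 𝒰 ⥤ᵇ 𝒳) (y : 𝒱 ⥤ᵇ 𝒴) (H : 𝒰 ⥤ᵇ 𝒱)
    (α : BasedFunctor.comp x f ≅ BasedFunctor.comp H y)
    (hy : RepByAlgSpWith (AlgSp.LocP @Smooth) y)
    (hℓ : RepByAlgSpWith (AlgSp.LocP @Smooth) (fpLift x H α)) :
    P (Pres.map pU pV H) := by
  have hU₀ : AlgSp.IsAlgSpace ((AlgSp.yon S).obj U₀) := AlgSp.IsAlgSpace.yon_obj U₀
  have hV₀ : AlgSp.IsAlgSpace ((AlgSp.yon S).obj V₀) := AlgSp.IsAlgSpace.yon_obj V₀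
  have hfU₀ := isFibGrpd_of_pres (Pres.ov U₀)
  have hfV₀ := isFibGrpd_of_pres (Pres.ov V₀)
  -- presentations
  have hA : RepByAlgSp (fp x₀ x) := repByAlgSp_of_equiv (fpSwap x x₀) (isEquivOver_fpSwap x x₀)
    (Groth.Agent.Helper19.BootSt.repByAlgSp_fp_of_repByAlgSp1 hfU₀ h𝒳 (isFibGrpd_of_pres pU) x₀ x
      (Groth.Agent.Helper19.PshSt.RepByAlgSpWith.repByAlgSp1 hx₀) (repByAlgSp_of_pres pU hU))
  have hB : RepByAlgSp (fp y₀ y) := repByAlgSp_of_equiv (fpSwap y y₀) (isEquivOver_fpSwap y y₀)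
    (Groth.Agent.Helper19.BootSt.repByAlgSp_fp_of_repByAlgSp1 hfV₀ h𝒴 (isFibGrpd_of_pres pV) y₀ y
      (Groth.Agent.Helper19.PshSt.RepByAlgSpWith.repByAlgSp1 hy₀) (repByAlgSp_of_pres pV hV))
  have hZ : RepByAlgSp (fp (overMap h₀) (fpFst y₀ y)) :=
    repByAlgSp_fp _ _ (repByAlgSp_overCat U₀) hB (repByAlgSp_overCat V₀)
  obtain ⟨pA, hpA⟩ := exists_pres hA
  obtain ⟨pB, hpB⟩ := exists_pres hB
  obtain ⟨pZ, hpZ⟩ := exists_pres hZ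
  -- Step 1: base change of `h₀`
  have hb₀ : AlgSp.LocP @Smooth (Pres.map pB (Pres.ov V₀) (fpFst y₀ y)) :=
    (smooth_map_iff pB (Pres.ov V₀) hpB hV₀ _).1 (repByAlgSpWith_fpFst y y₀ hy)
  have sq := Pres.isPullback_map (Pres.ov U₀) pB (Pres.ov V₀) (overMap h₀) (fpFst y₀ y) pZ
  have h1 : P (Pres.map pZ pB (fpSnd (overMap h₀) (fpFst y₀ y))) :=
    hP.baseChange hU₀ hV₀ hpZ hpB _ _ _ _ sq hb₀ (by rw [Pres.map_overMap]; exact hP₀)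
  -- Step 2: the comparison map is smooth
  have hstep : RepByAlgSpWith (AlgSp.LocP @Smooth)
      (prodStepB x₀ (fpFst f y) (sqℓ f x y H α)) :=
    (repByAlgSpWith_equiv_comp _ (isEquivOver_pasteR x₀ (fpFst f y) (sqℓ f x y H α)) _).2
      (repByAlgSpWith_fpFst (sqℓ f x y H α) (fpSnd x₀ (fpFst f y)) hℓ)
  have hΘΞ : RepByAlgSpWith (AlgSp.LocP @Smooth)
      (BasedFunctor.comp (sqΘ f x₀ y₀ (overMap h₀) α₀ x y H α) (sqΞ f x₀ y₀ (overMap h₀) α₀ y)) :=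
    repByAlgSpWith_of_iso (cruxIso f x₀ y₀ (overMap h₀) α₀ x y H α) hstep
  have hΘ : RepByAlgSpWith (AlgSp.LocP @Smooth) (sqΘ f x₀ y₀ (overMap h₀) α₀ x y H α) :=
    (repByAlgSpWith_comp_equiv _ _ (isEquivOver_sqΞ f x₀ y₀ (overMap h₀) α₀ y)).1 hΘΞ
  have hΘ' := (smooth_map_iff pA pZ hpA hpZ _).1 hΘ
  -- Step 3
  have h2 : P (Pres.map pA pB (sqM f x₀ y₀ (overMap h₀) α₀ x y H α)) := by
    have e : sqM f x₀ y₀ (overMap h₀) α₀ x y H α =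
        BasedFunctor.comp (sqΘ f x₀ y₀ (overMap h₀) α₀ x y H α)
          (fpSnd (overMap h₀) (fpFst y₀ y)) := rfl
    rw [e, Pres.map_comp pA pZ pB]
    exact hP.precomp hpA hpZ hpB _ _ hΘ' h1
  -- Step 4
  have hb : AlgSp.LocP @Smooth (Pres.map pB pV (fpSnd y₀ y)) :=
    (smooth_map_iff pB pV hpB hV _).1 (repByAlgSpWith_fpSnd y₀ y hy₀)
  have h3 : P (Pres.map pA pV
      (BasedFunctor.comp (sqM f x₀ y₀ (overMap h₀) α₀ x y H α) (fpSnd y₀ y))) := by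
    rw [Pres.map_comp pA pB pV]
    exact postcomp_smooth_of_isSmoothLocalST hP hpA hpB hV _ _ h2 hb
  -- Step 5
  have h4 : P (Pres.map pA pU (fpSnd x₀ x) ≫ Pres.map pU pV H) := by
    have e : BasedFunctor.comp (sqM f x₀ y₀ (overMap h₀) α₀ x y H α) (fpSnd y₀ y) =
        BasedFunctor.comp (fpSnd x₀ x) H := rfl
    rw [e, Pres.map_comp pA pU pV] at h3
    exact h3
  -- Step 6
  have ha : AlgSp.LocP @Smooth (Pres.map pA pU (fpSnd x₀ x)) :=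
    (smooth_map_iff pA pU hpA hU _).1 (repByAlgSpWith_fpSnd x₀ x hx₀)
  have has : AlgSp.IsSurjectiveMor (Pres.map pA pU (fpSnd x₀ x)) :=
    (surjective_map_iff pA pU hpA hU _).1 (repByAlgSpWith_fpSnd x₀ x hx₀s)
  exact of_precomp_smooth_surjective hP hpA hU hV _ _ ha has h4

/-- the two-square argument for scheme charts. -/
theorem of_square (hP : AlgSp.IsSmoothLocalST P) {𝒳 𝒴 : AlgSt.Cat S} (h𝒳 : IsFibGrpd 𝒳.p)
    (h𝒴 : IsFibGrpd 𝒴.p) (f : 𝒳 ⥤ᵇ 𝒴)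
    {U₀ V₀ : Over S} (x₀ : overCat U₀ ⥤ᵇ 𝒳) (y₀ : overCat V₀ ⥤ᵇ 𝒴) (h₀ : U₀ ⟶ V₀)
    (α₀ : BasedFunctor.comp x₀ f ≅ BasedFunctor.comp (overMap h₀) y₀)
    (hx₀ : RepByAlgSpWith (AlgSp.LocP @Smooth) x₀) (hx₀s : RepByAlgSpWith AlgSp.IsSurjectiveMor x₀)
    (hy₀ : RepByAlgSpWith (AlgSp.LocP @Smooth) y₀) (hP₀ : P ((AlgSp.yon S).map h₀))
    {U V : Over S} (x : overCat U ⥤ᵇ 𝒳) (y : overCat V ⥤ᵇ 𝒴) (h : U ⟶ V)
    (α : BasedFunctor.comp x f ≅ BasedFunctor.comp (overMap h) y)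
    (hy : RepByAlgSpWith (AlgSp.LocP @Smooth) y)
    (hℓ : RepByAlgSpWith (AlgSp.LocP @Smooth) (fpLift x (overMap h) α)) :
    P ((AlgSp.yon S).map h) := by
  have := of_square_pres hP h𝒳 h𝒴 f x₀ y₀ h₀ α₀ hx₀ hx₀s hy₀ hP₀ (Pres.ov U) (Pres.ov V)
    (AlgSp.IsAlgSpace.yon_obj U) (AlgSp.IsAlgSpace.yon_obj V) x y (overMap h) α hy hℓ
  rwa [Pres.map_overMap] at this

end smooth

end Groth.Agent.Helper19.LocQCore
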