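import Mathlib
import Groth.Agent.Lib.Helper19.LocQCore
import Groth.Agent.Lib.Helper19.ChartOver

/-!
# Properties read on smooth charts: existence of chart squares and the main equivalence (helper19)
-/

set_option autoImplicit false
set_option backward.isDefEq.respectTransparency false

universe w₃ v₃ w' v' w v u

open CategoryTheory CategoryTheory.Limits Functor AlgebraicGeometry Opposite

namespace Groth.Agent.Helper19.LocQCore

open FibCat AlgSt Stk Groth.Agent.Helper19.FibLib Groth.Agent.Helper19.StLib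
  Groth.Agent.Helper19.AlgP Groth.Agent.Helper19.SpProps Groth.Agent.Helper19.ChartOver
  Groth.Agent.Helper19.ProdAlg

variable {S : Scheme.{u}}

section general

variable {C : Type*} [Category C] {𝒳 : BasedCategory.{v, w} C} {𝒴 : BasedCategory.{v', w'} C}
  {𝒰 : BasedCategory.{v₃, w₃} C} {𝒱 : BasedCategory.{v₃, w₃} C}

/-- the chart of the fibre product determined by a functor to the fibre product (in the other order). -/
def liftIso (f : 𝒳 ⥤ᵇ 𝒴) (y : 𝒱 ⥤ᵇ 𝒴) (u : 𝒰 ⥤ᵇ fp y f) (H : 𝒰 ⥤ᵇ 𝒱)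
    (θ : BasedFunctor.comp u (fpFst y f) ≅ H) :
    BasedFunctor.comp (BasedFunctor.comp u (fpSnd y f)) f ≅ BasedFunctor.comp H y :=
  (whiskerLeftIso u (fpIso y f)).symm ≪≫ whiskerRightIso θ y

def liftSwapIso (f : 𝒳 ⥤ᵇ 𝒴) (y : 𝒱 ⥤ᵇ 𝒴) (u : 𝒰 ⥤ᵇ fp y f) (H : 𝒰 ⥤ᵇ 𝒱)
    (θ : BasedFunctor.comp u (fpFst y f) ≅ H) :
    fpLift (F := f) (G := y) (BasedFunctor.comp u (fpSnd y f)) H (liftIso f y u H θ) ≅
      BasedFunctor.comp u (fpSwap y f) :=
  fpFunctorIso _ _ (Iso.refl _) θ.symm (fun t => by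
    have h1 : θ.hom.toNatTrans.app t ≫ θ.inv.toNatTrans.app t = 𝟙 _ := (appIso θ t).hom_inv_id
    have h2 : y.map (θ.hom.toNatTrans.app t) ≫ y.map (θ.inv.toNatTrans.app t) = 𝟙 _ := by
      rw [← y.toFunctor.map_comp, h1, y.toFunctor.map_id]
    simp [liftIso, fpSwap, h2])

end general

variable {𝒳 𝒴 : AlgSt.Cat S}

/-- over every smooth chart of the target there is a chart square whose map to the fibre product is smooth and
surjective. -/
theorem exists_chart_square (h𝒳 : IsAlgStack Scheme.fppfPrecoverage 𝒳) (h𝒴 : IsAlgStack Scheme.fppfPrecoverage 𝒴)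
    (f : 𝒳 ⥤ᵇ 𝒴) {V : Over S} (y : overCat V ⥤ᵇ 𝒴) :
    ∃ (U : Over S) (x : overCat U ⥤ᵇ 𝒳) (h : U ⟶ V)
      (α : BasedFunctor.comp x f ≅ BasedFunctor.comp (overMap h) y),
      RepByAlgSpWith (AlgSp.LocP @Smooth) (fpLift x (overMap h) α) ∧
      RepByAlgSpWith AlgSp.IsSurjectiveMor (fpLift x (overMap h) α) ∧
      (RepByAlgSpWith (AlgSp.LocP @Smooth) y → RepByAlgSpWith (AlgSp.LocP @Smooth) x) ∧
      (RepByAlgSpWith AlgSp.IsSurjectiveMor y → RepByAlgSpWith AlgSp.IsSurjectiveMor x) := by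
  have h𝒫 : IsAlgStack Scheme.fppfPrecoverage (fp y f) :=
    isAlgStack_fp h𝒴.isStack h𝒴.diag (isAlgStack_overCat V) h𝒳 y f
  obtain ⟨U, u, hu, hus⟩ := h𝒫.atlas
  obtain ⟨a, ⟨θ⟩⟩ := exists_overMap_iso (BasedFunctor.comp u (fpFst y f))
  have hU := isFibGrpd_overCat U
  refine ⟨U, BasedFunctor.comp u (fpSnd y f), a, liftIso f y u (overMap a) θ, ?_, ?_, ?_, ?_⟩
  · exact repByAlgSpWith_of_iso (liftSwapIso f y u (overMap a) θ)
      ((repByAlgSpWith_comp_equiv u (fpSwap y f) (isEquivOver_fpSwap y f)).2 hu)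
  · exact repByAlgSpWith_of_iso (liftSwapIso f y u (overMap a) θ)
      ((repByAlgSpWith_comp_equiv u (fpSwap y f) (isEquivOver_fpSwap y f)).2 hus)
  · intro hy
    exact repByAlgSpWith_comp stableAlg_smooth compAlg_smooth descAtlas_smooth hU h𝒫.isStack.1 u
      (fpSnd y f) hu (repByAlgSpWith_fpSnd y f hy)
  · intro hy'
    exact repByAlgSpWith_comp stableAlg_isSurjectiveMor compAlg_isSurjectiveMor descAtlas_isSurjectiveMor
      hU h𝒫.isStack.1 u (fpSnd y f) hus (repByAlgSpWith_fpSnd y f hy')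

/-- S12990. -/
theorem locQ_iff_forall {P : MorphismProperty (AlgSp.Sp S)} (hP : AlgSp.IsSmoothLocalST P)
    (h𝒳 : IsAlgStack Scheme.fppfPrecoverage 𝒳) (h𝒴 : IsAlgStack Scheme.fppfPrecoverage 𝒴) (f : 𝒳 ⥤ᵇ 𝒴) :
    LocQ P f ↔
      ∀ (U V : Over S) (x : overCat U ⥤ᵇ 𝒳) (y : overCat V ⥤ᵇ 𝒴) (h : U ⟶ V)
        (α : BasedFunctor.comp x f ≅ BasedFunctor.comp (overMap h) y),
        RepByAlgSpWith (AlgSp.LocP @Smooth) x → RepByAlgSpWith (AlgSp.LocP @Smooth) y →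
        RepByAlgSpWith (AlgSp.LocP @Smooth) (fpLift x (overMap h) α) → P ((AlgSp.yon S).map h) := by
  constructor
  · rintro ⟨U₀, V₀, x₀, y₀, h₀, α₀, hx₀, hx₀s, hy₀, hP₀⟩ U V x y h α - hy hℓ
    exact of_square hP h𝒳.isStack.1 h𝒴.isStack.1 f x₀ y₀ h₀ α₀ hx₀ hx₀s hy₀ hP₀ x y h α hy hℓ
  · intro H
    obtain ⟨V, y, hy, hys⟩ := h𝒴.atlas
    obtain ⟨U, x, h, α, hℓ, -, hx, hxs⟩ := exists_chart_square h𝒳 h𝒴 f y
    exact ⟨U, V, x, y, h, α, hx hy, hxs hys, hy, H U V x y h α (hx hy) hy hℓ⟩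

end Groth.Agent.Helper19.LocQCore
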