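import Mathlib
import Groth.Agent.Lib.Helper19.LocQCore2

/-!
# Calculus of properties read on smooth charts (helper19)
-/

set_option autoImplicit false
set_option backward.isDefEq.respectTransparency false

universe w₃ v₃ w' v' w v u

open CategoryTheory CategoryTheory.Limits Functor AlgebraicGeometry Opposite

namespace Groth.Agent.Helper19.LocQCore

open FibCat AlgSt Stk Groth.Agent.Helper19.FibLib Groth.Agent.Helper19.StLib
  Groth.Agent.Helper19.AlgP Groth.Agent.Helper19.SpProps Groth.Agent.Helper19.ChartOver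
  Groth.Agent.Helper19.ProdAlg Groth.Agent.Helper19.SpDict Groth.Agent.Helper19.PshSt
  Groth.Agent.Helper19.ImmLib Groth.Agent.Helper16.AS Groth.Agent.Helper19.DiagAlgSp

variable {S : Scheme.{u}}

section pres

variable {𝒜 : BasedCategory.{v, w} (Over S)}

theorem map_ofEquiv_ov (F : AlgSp.Sp S) (e : ofSp F ⥤ᵇ 𝒜) (he : IsEquivOver e) {T : Over S}
    (π : 𝒜 ⥤ᵇ overCat T) :
    Pres.map (Pres.ofEquiv F e he) (Pres.ov T) π = spMapOfOver (BasedFunctor.comp e π) := by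
  apply Pres.map_unique
  exact isoOfSpMapOfOver (BasedFunctor.comp e π)

/-- the chart from a scheme given by a map from its sheaf to the presenting sheaf. -/
def chartOf (p : Pres 𝒜) {W : Over S} (q : (AlgSp.yon S).obj W ⟶ p.sp) : overCat W ⥤ᵇ 𝒜 :=
  BasedFunctor.comp (ofOverCat W) (BasedFunctor.comp (ofSpMap q) p.e)

theorem map_chartOf (p : Pres 𝒜) {W : Over S} (q : (AlgSp.yon S).obj W ⟶ p.sp) :
    Pres.map (Pres.ov W) p (chartOf p q) = q := by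
  apply Pres.map_unique
  exact whiskerRightIso (toOfOverCat W) (BasedFunctor.comp (ofSpMap q) p.e)

theorem locP_smooth_of_repWith_etale {X Y : AlgSp.Sp S} (q : X ⟶ Y) (hq : AlgSp.RepWith @Etale q) :
    AlgSp.LocP @Smooth q := by
  refine Groth.Agent.Helper15.locP_mono ?_ (Groth.Agent.Helper15.locP_of_repWith (P := @Etale) le_rfl q hq)
  intro A B g hg
  have : Etale g := hg
  exact (inferInstance : Smooth g)

/-- a category presented by an algebraic space has a smooth surjective scheme chart. -/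
theorem exists_scheme_atlas (p : Pres 𝒜) (hp : AlgSp.IsAlgSpace p.sp) :
    ∃ (W : Over S) (u : overCat W ⥤ᵇ 𝒜),
      AlgSp.LocP @Smooth (Pres.map (Pres.ov W) p u) ∧ AlgSp.IsSurjectiveMor (Pres.map (Pres.ov W) p u) := by
  obtain ⟨W, q, hqe, hqs⟩ := hp.atlas
  refine ⟨W, chartOf p q, ?_, ?_⟩
  · rw [map_chartOf]
    exact locP_smooth_of_repWith_etale q hqe
  · rw [map_chartOf]
    exact Groth.Agent.Helper15.isSurjectiveMor_of_repWith_surjective q hqs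

end pres

variable {𝒳 𝒴 : AlgSt.Cat S} {P : MorphismProperty (AlgSp.Sp S)}

/-- a square with a chart by an algebraic space on the source gives a square of scheme charts. -/
theorem locQ_of_pres_square (hP : AlgSp.IsSmoothLocalST P) (f : 𝒳 ⥤ᵇ 𝒴)
    {𝒰 : AlgSt.Cat S} (pU : Pres 𝒰) (hU : AlgSp.IsAlgSpace pU.sp) (x : 𝒰 ⥤ᵇ 𝒳)
    (hx : RepByAlgSpWith (AlgSp.LocP @Smooth) x) (hxs : RepByAlgSpWith AlgSp.IsSurjectiveMor x)
    {V : Over S} (y : overCat V ⥤ᵇ 𝒴) (hy : RepByAlgSpWith (AlgSp.LocP @Smooth) y)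
    (H : 𝒰 ⥤ᵇ overCat V) (α : BasedFunctor.comp x f ≅ BasedFunctor.comp H y)
    (hH : P (Pres.map pU (Pres.ov V) H)) : LocQ P f := by
  obtain ⟨W, u, hu, hus⟩ := exists_scheme_atlas pU hU
  have hW : AlgSp.IsAlgSpace ((AlgSp.yon S).obj W) := AlgSp.IsAlgSpace.yon_obj W
  have hV : AlgSp.IsAlgSpace ((AlgSp.yon S).obj V) := AlgSp.IsAlgSpace.yon_obj V
  have hu' : RepByAlgSpWith (AlgSp.LocP @Smooth) u := (smooth_map_iff (Pres.ov W) pU hW hU u).2 hu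
  have hus' : RepByAlgSpWith AlgSp.IsSurjectiveMor u := (surjective_map_iff (Pres.ov W) pU hW hU u).2 hus
  obtain ⟨h, ⟨η⟩⟩ := exists_overMap_iso (BasedFunctor.comp u H)
  have hfW := isFibGrpd_of_pres (Pres.ov W)
  have hfU := isFibGrpd_of_pres pU
  refine ⟨W, V, BasedFunctor.comp u x, y, h, whiskerLeftIso u α ≪≫ whiskerRightIso η y, ?_, ?_, hy, ?_⟩
  · exact repByAlgSpWith_comp stableAlg_smooth compAlg_smooth descAtlas_smooth hfW hfU u x hu' hx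
  · exact repByAlgSpWith_comp stableAlg_isSurjectiveMor compAlg_isSurjectiveMor descAtlas_isSurjectiveMor
      hfW hfU u x hus' hxs
  · rw [← Pres.map_overMap, ← Pres.map_congr (Pres.ov W) (Pres.ov V) η, Pres.map_comp (Pres.ov W) pU (Pres.ov V)]
    exact hP.precomp hW hU hV _ _ hu hH

/-- the functor of a composite of morphisms of schemes. -/
def overMapComp {U V W : Over S} (h : U ⟶ V) (k : V ⟶ W) :
    BasedFunctor.comp (overMap h) (overMap k) ≅ overMap (h ≫ k) :=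
  mkIso (fun v => Over.isoMk (Iso.refl _) (by simp [overMap]))
    (fun {v v'} m => by
      apply Over.OverMorphism.ext
      simp [overMap]
      erw [Category.comp_id])
    (fun v => IsHomLift.of_fac _ _ _ rfl rfl (by simp; rfl))

/-- S13038. -/
theorem locQ_comp (hP : AlgSp.IsSmoothLocalST P) (hPc : CompAlg P) {𝒵 : AlgSt.Cat S}
    (h𝒳 : IsAlgStack Scheme.fppfPrecoverage 𝒳) (h𝒴 : IsAlgStack Scheme.fppfPrecoverage 𝒴)
    (f : 𝒳 ⥤ᵇ 𝒴) (g : 𝒴 ⥤ᵇ 𝒵) (hf : LocQ P f) (hg : LocQ P g) : LocQ P (BasedFunctor.comp f g) := by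
  obtain ⟨U₀, V₀, x₀, y₀, h₀, α₀, hx₀, hx₀s, hy₀, hP₀⟩ := hf
  obtain ⟨U₁, W₁, y₁, z₁, k₁, β₁, hy₁, hy₁s, hz₁, hQ₁⟩ := hg
  obtain ⟨U, x, h, α, hℓ, -, hx, hxs⟩ := exists_chart_square h𝒳 h𝒴 f y₁
  have hPh : P ((AlgSp.yon S).map h) :=
    of_square hP h𝒳.isStack.1 h𝒴.isStack.1 f x₀ y₀ h₀ α₀ hx₀ hx₀s hy₀ hP₀ x y₁ h α hy₁ hℓ
  refine ⟨U, W₁, x, z₁, h ≫ k₁,
    whiskerRightIso α g ≪≫ whiskerLeftIso (overMap h) β₁ ≪≫ whiskerRightIso (overMapComp h k₁) z₁,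
    hx hy₁, hxs hy₁s, hz₁, ?_⟩
  rw [Functor.map_comp]
  exact hPc (AlgSp.IsAlgSpace.yon_obj U) (AlgSp.IsAlgSpace.yon_obj U₁) (AlgSp.IsAlgSpace.yon_obj W₁) _ _
    hPh hQ₁

/-- **Base change to a scheme.**  For `P` stable under base change and `f` with `P` on a chart square, the base
change of `f` to any scheme has a smooth surjective chart by an algebraic space whose map to the scheme has `P`. -/
theorem exists_atlas_baseChange (hP : AlgSp.IsSmoothLocalST P) (hPb : StableAlg P) (f : 𝒳 ⥤ᵇ 𝒴)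
    (hf : LocQ P f) {T : Over S} (t : overCat T ⥤ᵇ 𝒴) :
    ∃ (𝒜 : AlgSt.Cat S) (pA : Pres 𝒜) (_ : AlgSp.IsAlgSpace pA.sp) (a : 𝒜 ⥤ᵇ fp t f),
      RepByAlgSpWith (AlgSp.LocP @Smooth) a ∧ RepByAlgSpWith AlgSp.IsSurjectiveMor a ∧
        P (Pres.map pA (Pres.ov T) (BasedFunctor.comp a (fpFst t f))) := by
  obtain ⟨U₀, V₀, x₀, y₀, h₀, α₀, hx₀, hx₀s, hy₀, hP₀⟩ := hf
  have hU₀ : AlgSp.IsAlgSpace ((AlgSp.yon S).obj U₀) := AlgSp.IsAlgSpace.yon_obj U₀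
  have hV₀ : AlgSp.IsAlgSpace ((AlgSp.yon S).obj V₀) := AlgSp.IsAlgSpace.yon_obj V₀
  have hT : AlgSp.IsAlgSpace ((AlgSp.yon S).obj T) := AlgSp.IsAlgSpace.yon_obj T
  have hB : RepByAlgSp (fp t y₀) := Groth.Agent.Helper19.PshSt.RepByAlgSpWith.repByAlgSp1 hy₀ T t
  have hA : RepByAlgSp (fp (fpSnd t y₀) (overMap h₀)) :=
    repByAlgSp_fp _ _ hB (repByAlgSp_overCat U₀) (repByAlgSp_overCat V₀)
  obtain ⟨pB, hpB⟩ := exists_pres hB
  obtain ⟨pA, hpA⟩ := exists_pres hA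
  let E : fp (fpSnd t y₀) (overMap h₀) ⥤ᵇ fp (fpSnd t f) x₀ :=
    BasedFunctor.comp (pasteRInv t y₀ (overMap h₀))
      (BasedFunctor.comp (fpCongrRight t α₀.symm) (pasteR t f x₀))
  have hE : IsEquivOver E := IsEquivOver.comp (isEquivOver_pasteRInv t y₀ (overMap h₀))
    (IsEquivOver.comp (isEquivOver_fpCongrRight t α₀.symm) (isEquivOver_pasteR t f x₀))
  refine ⟨fp (fpSnd t y₀) (overMap h₀), pA, hpA, BasedFunctor.comp E (fpFst (fpSnd t f) x₀), ?_, ?_, ?_⟩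
  · exact (repByAlgSpWith_equiv_comp E hE _).2 (repByAlgSpWith_fpFst x₀ (fpSnd t f) hx₀)
  · exact (repByAlgSpWith_equiv_comp E hE _).2 (repByAlgSpWith_fpFst x₀ (fpSnd t f) hx₀s)
  · have e : BasedFunctor.comp (BasedFunctor.comp E (fpFst (fpSnd t f) x₀)) (fpFst t f) =
        BasedFunctor.comp (fpFst (fpSnd t y₀) (overMap h₀)) (fpFst t y₀) := rfl
    rw [e, Pres.map_comp pA pB (Pres.ov T)]
    have sq := Pres.isPullback_map pB (Pres.ov U₀) (Pres.ov V₀) (fpSnd t y₀) (overMap h₀) pA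
    have h1 : P (Pres.map pA pB (fpFst (fpSnd t y₀) (overMap h₀))) :=
      hPb hU₀ hV₀ hpA hpB _ _ _ _ sq.flip (by rw [Pres.map_overMap]; exact hP₀)
    have h2 : AlgSp.LocP @Smooth (Pres.map pB (Pres.ov T) (fpFst t y₀)) :=
      (smooth_map_iff pB (Pres.ov T) hpB hT _).1 (repByAlgSpWith_fpFst y₀ t hy₀)
    exact postcomp_smooth_of_isSmoothLocalST hP hpA hpB hT _ _ h1 h2

/-- S13039. -/
theorem locQ_fpFst (hP : AlgSp.IsSmoothLocalST P) (hPb : StableAlg P) {𝒴' : AlgSt.Cat S}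
    (h𝒳 : IsAlgStack Scheme.fppfPrecoverage 𝒳) (h𝒴 : IsAlgStack Scheme.fppfPrecoverage 𝒴)
    (h𝒴' : IsAlgStack Scheme.fppfPrecoverage 𝒴') (f : 𝒳 ⥤ᵇ 𝒴) (g : 𝒴' ⥤ᵇ 𝒴) (hf : LocQ P f) :
    LocQ P (fpFst g f) := by
  obtain ⟨V', y', hy', hy's⟩ := h𝒴'.atlas
  obtain ⟨𝒜, pA, hpA, a, ha, has, hPa⟩ := exists_atlas_baseChange hP hPb f hf (BasedFunctor.comp y' g)
  have hfA := isFibGrpd_of_pres pA
  have hfV' := isFibGrpd_of_pres (Pres.ov V')
  have hfp : IsFibGrpd (fp (BasedFunctor.comp y' g) f).p :=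
    Groth.Agent.S6401.result _ _ hfV' h𝒳.isStack.1 h𝒴.isStack.1
  let b : fp (BasedFunctor.comp y' g) f ⥤ᵇ fp g f :=
    BasedFunctor.comp (pasteL y' g f) (fpSnd y' (fpFst g f))
  have hb : RepByAlgSpWith (AlgSp.LocP @Smooth) b :=
    (repByAlgSpWith_equiv_comp _ (isEquivOver_pasteL y' g f) _).2 (repByAlgSpWith_fpSnd y' (fpFst g f) hy')
  have hbs : RepByAlgSpWith AlgSp.IsSurjectiveMor b :=
    (repByAlgSpWith_equiv_comp _ (isEquivOver_pasteL y' g f) _).2 (repByAlgSpWith_fpSnd y' (fpFst g f) hy's)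
  refine locQ_of_pres_square hP (fpFst g f) pA hpA (BasedFunctor.comp a b) ?_ ?_ y' hy'
    (BasedFunctor.comp a (fpFst (BasedFunctor.comp y' g) f))
    (whiskerLeftIso (BasedFunctor.comp a (pasteL y' g f)) (fpIso y' (fpFst g f)).symm) hPa
  · exact repByAlgSpWith_comp stableAlg_smooth compAlg_smooth descAtlas_smooth hfA hfp a b ha hb
  · exact repByAlgSpWith_comp stableAlg_isSurjectiveMor compAlg_isSurjectiveMor descAtlas_isSurjectiveMor
      hfA hfp a b has hbs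

/-- S12993 (⇒). -/
theorem repByAlgSpWith_of_locQ (hP : AlgSp.IsSmoothLocalST P) (hPb : StableAlg P) (f : 𝒳 ⥤ᵇ 𝒴)
    (hf : RepByAlgSp1 f) (h : LocQ P f) : RepByAlgSpWith P f := by
  intro T t
  obtain ⟨F, e, he⟩ := hf T t
  refine ⟨F, e, he, ?_⟩
  obtain ⟨𝒜, pA, hpA, a, ha, has, hPa⟩ := exists_atlas_baseChange hP hPb f h t
  have hT : AlgSp.IsAlgSpace ((AlgSp.yon S).obj T) := AlgSp.IsAlgSpace.yon_obj T
  rw [← map_ofEquiv_ov F.obj e he]
  rw [Pres.map_comp pA (Pres.ofEquiv F.obj e he) (Pres.ov T)] at hPa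
  exact of_precomp_smooth_surjective hP hpA F.property hT _ _
    ((smooth_map_iff pA (Pres.ofEquiv F.obj e he) hpA F.property a).1 ha)
    ((surjective_map_iff pA (Pres.ofEquiv F.obj e he) hpA F.property a).1 has) hPa

/-- S12993 (⇐). -/
theorem locQ_of_repByAlgSpWith (hP : AlgSp.IsSmoothLocalST P)
    (h𝒴 : IsAlgStack Scheme.fppfPrecoverage 𝒴) (f : 𝒳 ⥤ᵇ 𝒴) (h : RepByAlgSpWith P f) : LocQ P f := by
  obtain ⟨V₀, y₀, hy₀, hy₀s⟩ := h𝒴.atlas
  obtain ⟨F, e, he, hPF⟩ := h V₀ y₀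
  rw [← map_ofEquiv_ov F.obj e he] at hPF
  exact locQ_of_pres_square hP f (Pres.ofEquiv F.obj e he) F.property (fpSnd y₀ f)
    (repByAlgSpWith_fpSnd y₀ f hy₀) (repByAlgSpWith_fpSnd y₀ f hy₀s) y₀ hy₀ (fpFst y₀ f)
    (fpIso y₀ f).symm hPF

end Groth.Agent.Helper19.LocQCore
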