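import Mathlib
import Groth.Agent.Lib.Helper19.LocQCalc

/-!
# Properties read on smooth charts: charts by algebraic spaces (helper19)
-/

set_option autoImplicit false
set_option backward.isDefEq.respectTransparency false

universe w₃ v₃ w' v' w v u

open CategoryTheory CategoryTheory.Limits Functor AlgebraicGeometry Opposite

namespace Groth.Agent.Helper19.LocQCore

open FibCat AlgSt Stk Groth.Agent.Helper19.FibLib Groth.Agent.Helper19.StLib
  Groth.Agent.Helper19.AlgP Groth.Agent.Helper19.SpProps Groth.Agent.Helper19.ChartOver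
  Groth.Agent.Helper19.ProdAlg Groth.Agent.Helper19.SpDict Groth.Agent.Helper19.PshSt
  Groth.Agent.Helper19.ImmLib Groth.Agent.Helper16.AS Groth.Agent.Helper19.DiagAlgSp

variable {S : Scheme.{u}} {𝒳 𝒴 : AlgSt.Cat S} {P : MorphismProperty (AlgSp.Sp S)}

/-- S12991 (⇐). -/
theorem locQ_of_space_square (hP : AlgSp.IsSmoothLocalST P)
    (f : 𝒳 ⥤ᵇ 𝒴) (U V : AlgSp.Space S) (x : ofSp U.obj ⥤ᵇ 𝒳) (y : ofSp V.obj ⥤ᵇ 𝒴) (h : U ⟶ V)
    (α : BasedFunctor.comp x f ≅ BasedFunctor.comp (ofSpMap h.hom) y)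
    (hx : RepByAlgSpWith (AlgSp.LocP @Smooth) x) (hxs : RepByAlgSpWith AlgSp.IsSurjectiveMor x)
    (hy : RepByAlgSpWith (AlgSp.LocP @Smooth) y) (hPh : P h.hom) : LocQ P f := by
  obtain ⟨V', q, hqe, hqs⟩ := V.property.atlas
  have hV' : AlgSp.IsAlgSpace ((AlgSp.yon S).obj V') := AlgSp.IsAlgSpace.yon_obj V'
  let c : overCat V' ⥤ᵇ ofSp V.obj := chartOf (Pres.can V.obj) q
  have hcq : Pres.map (Pres.ov V') (Pres.can V.obj) c = q := map_chartOf (Pres.can V.obj) q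
  have hqsm : AlgSp.LocP @Smooth q := locP_smooth_of_repWith_etale q hqe
  have hqsu : AlgSp.IsSurjectiveMor q := Groth.Agent.Helper15.isSurjectiveMor_of_repWith_surjective q hqs
  have hc : RepByAlgSpWith (AlgSp.LocP @Smooth) c :=
    (smooth_map_iff (Pres.ov V') (Pres.can V.obj) hV' V.property c).2 (by rw [hcq]; exact hqsm)
  have hcs : RepByAlgSpWith AlgSp.IsSurjectiveMor c :=
    (surjective_map_iff (Pres.ov V') (Pres.can V.obj) hV' V.property c).2 (by rw [hcq]; exact hqsu)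
  have hfV' := isFibGrpd_of_pres (Pres.ov V')
  have hfV := isFibGrpd_of_pres (Pres.can V.obj)
  have hfU := isFibGrpd_of_pres (Pres.can U.obj)
  have hA : RepByAlgSp (fp c (ofSpMap h.hom)) :=
    repByAlgSp_fp _ _ (repByAlgSp_overCat V') (repByAlgSp_ofSp U) (repByAlgSp_ofSp V)
  obtain ⟨pA, hpA⟩ := exists_pres hA
  have hfA := isFibGrpd_of_pres pA
  have hsnd : RepByAlgSpWith (AlgSp.LocP @Smooth) (fpSnd c (ofSpMap h.hom)) :=
    repByAlgSpWith_fpSnd c (ofSpMap h.hom) hc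
  have hsnds : RepByAlgSpWith AlgSp.IsSurjectiveMor (fpSnd c (ofSpMap h.hom)) :=
    repByAlgSpWith_fpSnd c (ofSpMap h.hom) hcs
  refine locQ_of_pres_square hP f pA hpA (BasedFunctor.comp (fpSnd c (ofSpMap h.hom)) x) ?_ ?_
    (BasedFunctor.comp c y) ?_ (fpFst c (ofSpMap h.hom))
    (whiskerLeftIso (fpSnd c (ofSpMap h.hom)) α ≪≫ whiskerRightIso (fpIso c (ofSpMap h.hom)).symm y) ?_
  · exact repByAlgSpWith_comp stableAlg_smooth compAlg_smooth descAtlas_smooth hfA hfU _ x hsnd hx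
  · exact repByAlgSpWith_comp stableAlg_isSurjectiveMor compAlg_isSurjectiveMor descAtlas_isSurjectiveMor
      hfA hfU _ x hsnds hxs
  · exact repByAlgSpWith_comp stableAlg_smooth compAlg_smooth descAtlas_smooth hfV' hfV c y hc hy
  · have sq := Pres.isPullback_map (Pres.ov V') (Pres.can U.obj) (Pres.can V.obj) c (ofSpMap h.hom) pA
    refine hP.baseChange U.property V.property hpA hV' _ _ _ _ sq.flip ?_ ?_
    · rw [hcq]; exact hqsm
    · rw [Pres.map_ofSpMap]; exact hPh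

/-- S12991 (⇒). -/
theorem exists_space_square_of_locQ (f : 𝒳 ⥤ᵇ 𝒴) (hf : LocQ P f) :
    ∃ (U V : AlgSp.Space S) (x : ofSp U.obj ⥤ᵇ 𝒳) (y : ofSp V.obj ⥤ᵇ 𝒴) (h : U ⟶ V)
      (_ : BasedFunctor.comp x f ≅ BasedFunctor.comp (ofSpMap h.hom) y),
      RepByAlgSpWith (AlgSp.LocP @Smooth) x ∧ RepByAlgSpWith AlgSp.IsSurjectiveMor x ∧
      RepByAlgSpWith (AlgSp.LocP @Smooth) y ∧ P h.hom := by
  obtain ⟨U₀, V₀, x₀, y₀, h₀, α₀, hx₀, hx₀s, hy₀, hP₀⟩ := hf
  refine ⟨⟨(AlgSp.yon S).obj U₀, AlgSp.IsAlgSpace.yon_obj U₀⟩, ⟨(AlgSp.yon S).obj V₀, AlgSp.IsAlgSpace.yon_obj V₀⟩,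
    BasedFunctor.comp (toOverCat U₀) x₀, BasedFunctor.comp (toOverCat V₀) y₀,
    ObjectProperty.homMk ((AlgSp.yon S).map h₀), ?_, ?_, ?_, ?_, hP₀⟩
  · have θ : BasedFunctor.comp (toOverCat U₀) (overMap h₀) ≅
        BasedFunctor.comp (ofSpMap ((AlgSp.yon S).map h₀)) (toOverCat V₀) :=
      Pres.mapIso (Pres.ov U₀) (Pres.ov V₀) (overMap h₀) ≪≫ eqToIso (by rw [Pres.map_overMap]; rfl)
    have e := whiskerLeftIso (toOverCat U₀) α₀ ≪≫ whiskerRightIso θ y₀
    exact e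
  · exact (repByAlgSpWith_equiv_comp _ (isEquivOver_toOverCat U₀) x₀).2 hx₀
  · exact (repByAlgSpWith_equiv_comp _ (isEquivOver_toOverCat U₀) x₀).2 hx₀s
  · exact (repByAlgSpWith_equiv_comp _ (isEquivOver_toOverCat V₀) y₀).2 hy₀

theorem smooth_id (𝒜 : BasedCategory.{v, w} (Over S)) :
    RepByAlgSpWith (AlgSp.LocP @Smooth) (BasedFunctor.id 𝒜) :=
  repByAlgSpWith_of_equiv _ (fun U => locP_smooth_id (AlgSp.IsAlgSpace.yon_obj U)) _ (isEquivOver_id 𝒜)

theorem surjective_id (𝒜 : BasedCategory.{v, w} (Over S)) :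
    RepByAlgSpWith AlgSp.IsSurjectiveMor (BasedFunctor.id 𝒜) :=
  repByAlgSpWith_of_equiv _ (fun U x => ⟨x, by rw [AlgSp.Points.map_id]⟩) _ (isEquivOver_id 𝒜)

/-- S12992. -/
theorem locQ_ofSpMap_iff (hP : AlgSp.IsSmoothLocalST P) (F G : AlgSp.Space S) (a : F ⟶ G) :
    LocQ P (ofSpMap a.hom) ↔ P a.hom := by
  constructor
  · intro h
    obtain ⟨U, V, x, y, k, α, hx, hxs, hy, hPk⟩ := exists_space_square_of_locQ (ofSpMap a.hom) h
    refine ((Groth.Agent.S10566.result hP a).1).2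
      ⟨U, V, ObjectProperty.homMk (Pres.map (Pres.can U.obj) (Pres.can F.obj) x),
        ObjectProperty.homMk (Pres.map (Pres.can V.obj) (Pres.can G.obj) y), k, ?_, ?_, ?_, ?_, hPk⟩
    · exact (smooth_map_iff (Pres.can U.obj) (Pres.can F.obj) U.property F.property x).1 hx
    · exact (smooth_map_iff (Pres.can V.obj) (Pres.can G.obj) V.property G.property y).1 hy
    · exact (surjective_map_iff (Pres.can U.obj) (Pres.can F.obj) U.property F.property x).1 hxs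
    · apply ObjectProperty.hom_ext
      change Pres.map (Pres.can U.obj) (Pres.can F.obj) x ≫ a.hom =
        k.hom ≫ Pres.map (Pres.can V.obj) (Pres.can G.obj) y
      rw [← Pres.map_ofSpMap a.hom, ← Pres.map_comp, Pres.map_congr _ _ α,
        Pres.map_comp (Pres.can U.obj) (Pres.can V.obj) (Pres.can G.obj), Pres.map_ofSpMap]
  · intro h
    exact locQ_of_space_square hP (ofSpMap a.hom) F G (BasedFunctor.id _) (BasedFunctor.id _) a
      (Iso.refl _) (smooth_id _) (surjective_id _) (smooth_id _) h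

end Groth.Agent.Helper19.LocQCore
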