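import Mathlib
import Groth.Agent.Lib.Helper19.LocQCalc2
import Groth.Agent.Lib.Helper16.AlgSp.FppfFpqc
import Groth.Agent.S10530
import Groth.Agent.S10548

/-!
# Flatness is smooth local on source-and-target (helper19)
-/

set_option autoImplicit false
set_option backward.isDefEq.respectTransparency false

universe u

open CategoryTheory CategoryTheory.Limits AlgebraicGeometry MorphismProperty Opposite

namespace Groth.Agent.Helper19.FlatST

open AlgSp Groth.Agent.Helper15 Groth.Agent.Helper16.AS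

variable {S : Scheme.{u}}

theorem isFppfCover_of_isSmCover {ι : Type u} {X : Sp S} {Xi : ι → Sp S} {g : ∀ i, Xi i ⟶ X}
    (h : IsSmCover Xi g) : IsFppfCover Xi g :=
  ⟨fun i => ⟨locP_mono smooth_le_flat (h.1 i), locP_mono smooth_le_lfp (h.1 i)⟩, h.2⟩

theorem isFpqcCover_of_isSmCover {ι : Type u} {X : Sp S} (hX : IsAlgSpace X)
    {Xi : ι → Sp S} (hXi : ∀ i, IsAlgSpace (Xi i)) {g : ∀ i, Xi i ⟶ X}
    (h : IsSmCover Xi g) : IsFpqcCover Xi g :=
  isFpqcCover_of_isFppfCover hX hXi (isFppfCover_of_isSmCover h)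

theorem isLocalOnSource_sm_of_fpqc {P : MorphismProperty (Sp S)}
    (h : IsLocalOnSource (IsFpqcCover (S := S)) P) : IsLocalOnSource (IsSmCover (S := S)) P := by
  intro ι X Xi g hX hXi hcov Y f hY
  exact h Xi g hX hXi (isFpqcCover_of_isSmCover hX hXi hcov) f hY

theorem isLocalOnBase_sm_of_fpqc {P : MorphismProperty (Sp S)}
    (h : IsLocalOnBase (IsFpqcCover (S := S)) P) : IsLocalOnBase (IsSmCover (S := S)) P := by
  intro ι Y Yi g hY hYi hcov X f hX Xi p q hXi sq
  exact h Yi g hY hYi (isFpqcCover_of_isSmCover hY hYi hcov) f hX Xi p q hXi sq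

theorem isLocalOnSource_fppf_of_fpqc {P : MorphismProperty (Sp S)}
    (h : IsLocalOnSource (IsFpqcCover (S := S)) P) : IsLocalOnSource (IsFppfCover (S := S)) P := by
  intro ι X Xi g hX hXi hcov Y f hY
  exact h Xi g hX hXi (isFpqcCover_of_isFppfCover hX hXi hcov) f hY

theorem isLocalOnBase_fppf_of_fpqc {P : MorphismProperty (Sp S)}
    (h : IsLocalOnBase (IsFpqcCover (S := S)) P) : IsLocalOnBase (IsFppfCover (S := S)) P := by
  intro ι Y Yi g hY hYi hcov X f hX Xi p q hXi sq
  exact h Yi g hY hYi (isFpqcCover_of_isFppfCover hY hYi hcov) f hX Xi p q hXi sq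

/-- Flatness of morphisms of algebraic spaces is smooth local on source-and-target. -/
theorem isSmoothLocalST_flat : IsSmoothLocalST (S := S) (LocP @Flat) :=
  isSmoothLocalST_of (isLocalOnSource_sm_of_fpqc (Groth.Agent.S10548.result S))
    (isLocalOnBase_sm_of_fpqc (Groth.Agent.S10530.result S))
    (fun _ _ _ hX hY hZ f g hf hg =>
      locP_flat_comp hX hY hZ f g hf (locP_mono smooth_le_flat hg))

end Groth.Agent.Helper19.FlatST
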