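import Mathlib
import Groth.Agent.Lib.Helper19.LocQCalc2
import Groth.Agent.Lib.Helper19.FlatST

/-!
# Properties read on one smooth chart square, without descent on the source (helper19)

`SmStable P` : `P` is stable under base change, under precomposition and under postcomposition with smooth
morphisms.  For such `P`, a chart square for `f` with `P` can be moved to any chart of the target.
-/

set_option autoImplicit false
set_option backward.isDefEq.respectTransparency false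

universe w₃ v₃ w' v' w v u

open CategoryTheory CategoryTheory.Limits Functor AlgebraicGeometry Opposite

namespace Groth.Agent.Helper19.LocQGen

open FibCat AlgSt Stk Groth.Agent.Helper19.FibLib Groth.Agent.Helper19.StLib
  Groth.Agent.Helper19.AlgP Groth.Agent.Helper19.SpProps Groth.Agent.Helper19.ChartOver
  Groth.Agent.Helper19.ProdAlg Groth.Agent.Helper19.SpDict Groth.Agent.Helper19.PshSt
  Groth.Agent.Helper19.ImmLib Groth.Agent.Helper16.AS Groth.Agent.Helper19.DiagAlgSp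
  Groth.Agent.Helper19.LocQCore

variable {S : Scheme.{u}}

/-- stability of a property of morphisms of algebraic spaces under base change and under composition with smooth
morphisms on either side. -/
structure SmStable (P : MorphismProperty (AlgSp.Sp S)) : Prop where
  precomp : ∀ ⦃X Y Z : AlgSp.Sp S⦄, AlgSp.IsAlgSpace X → AlgSp.IsAlgSpace Y → AlgSp.IsAlgSpace Z →
    ∀ (f : X ⟶ Y) (g : Y ⟶ Z), AlgSp.LocP @Smooth f → P g → P (f ≫ g)
  postcomp : ∀ ⦃X Y Z : AlgSp.Sp S⦄, AlgSp.IsAlgSpace X → AlgSp.IsAlgSpace Y → AlgSp.IsAlgSpace Z →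
    ∀ (f : X ⟶ Y) (g : Y ⟶ Z), P f → AlgSp.LocP @Smooth g → P (f ≫ g)
  baseChange : StableAlg P

theorem smStable_of_isSmoothLocalST {P : MorphismProperty (AlgSp.Sp S)} (hP : AlgSp.IsSmoothLocalST P)
    (hPb : StableAlg P) : SmStable P where
  precomp := hP.precomp
  postcomp := fun _ _ _ hX hY hZ f g hf hg => postcomp_smooth_of_isSmoothLocalST hP hX hY hZ f g hf hg
  baseChange := hPb

theorem smStable_locP {P : MorphismProperty Scheme.{u}} (hP : Groth.Agent.Helper15.GoodP P)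
    (hsrc : SrcEtLoc P) (hsm : (@Smooth : MorphismProperty Scheme.{u}) ≤ P) :
    SmStable (S := S) (AlgSp.LocP P) where
  precomp := fun _ _ _ hX hY hZ f g hf hg =>
    compAlg_locP hP hsrc hX hY hZ f g (Groth.Agent.Helper15.locP_mono hsm hf) hg
  postcomp := fun _ _ _ hX hY hZ f g hf hg =>
    compAlg_locP hP hsrc hX hY hZ f g hf (Groth.Agent.Helper15.locP_mono hsm hg)
  baseChange := stableAlg_locP hP hsrc

theorem smStable_flat : SmStable (S := S) (AlgSp.LocP @Flat) :=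
  smStable_locP Groth.Agent.Helper15.goodP_flat srcEtLoc_flat smooth_le_flat

theorem smStable_lfp : SmStable (S := S) (AlgSp.LocP @LocallyOfFinitePresentation) :=
  smStable_locP Groth.Agent.Helper15.goodP_lfp srcEtLoc_lfp smooth_le_lfp

theorem smooth_le_lft :
    (@Smooth : MorphismProperty Scheme.{u}) ≤ @LocallyOfFiniteType := by
  intro X Y f hf
  have : Smooth f := hf
  have : LocallyOfFinitePresentation f := inferInstance
  exact (inferInstance : LocallyOfFiniteType f)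

theorem smStable_lft : SmStable (S := S) (AlgSp.LocP @LocallyOfFiniteType) :=
  smStable_locP Groth.Agent.Helper15.goodP_lft srcEtLoc_lft smooth_le_lft

theorem smStable_smooth : SmStable (S := S) (AlgSp.LocP @Smooth) :=
  smStable_locP Groth.Agent.Helper15.goodP_smooth srcEtLoc_smooth le_rfl

variable {𝒳 𝒴 : AlgSt.Cat S} {P : MorphismProperty (AlgSp.Sp S)}

/-- **Base change to a scheme.**  -/
theorem exists_atlas_baseChange' (hP : SmStable P) (f : 𝒳 ⥤ᵇ 𝒴)
    (hf : LocQ P f) {T : Over S} (t : overCat T ⥤ᵇ 𝒴) :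
    ∃ (𝒜 : AlgSt.Cat S) (pA : Pres 𝒜) (_ : AlgSp.IsAlgSpace pA.sp) (a : 𝒜 ⥤ᵇ fp t f),
      RepByAlgSpWith (AlgSp.LocP @Smooth) a ∧ RepByAlgSpWith AlgSp.IsSurjectiveMor a ∧
        P (Pres.map pA (Pres.ov T) (BasedFunctor.comp a (fpFst t f))) := by
  obtain ⟨U₀, V₀, x₀, y₀, h₀, α₀, hx₀, hx₀s, hy₀, hP₀⟩ := hf
  have hU₀ : AlgSp.IsAlgSpace ((AlgSp.yon S).obj U₀) := AlgSp.IsAlgSpace.yon_obj U₀
  have hV₀ : AlgSp.IsAlgSpace ((AlgSp.yon S).obj V₀) := AlgSp.IsAlgSpace.yon_obj V₀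
  have hT : AlgSp.IsAlgSpace ((AlgSp.yon S).obj T) := AlgSp.IsAlgSpace.yon_obj T
  have hB : RepByAlgSp (fp t y₀) := Groth.Agent.Helper19.PshSt.RepByAlgSpWith.repByAlgSp1 hy₀ T t
  have hA : RepByAlgSp (fp (fpSnd t y₀) (overMap h₀)) :=
    repByAlgSp_fp _ _ hB (repByAlgSp_overCat U₀) (repByAlgSp_overCat V₀)
  obtain ⟨pB, hpB⟩ := exists_pres hB
  obtain ⟨pA, hpA⟩ := exists_pres hA
  let E : fp (fpSnd t y₀) (overMap h₀) ⥤ᵇ fp (fpSnd t f) x₀ :=
    BasedFunctor.comp (pasteRInv t y₀ (overMap h₀))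
      (BasedFunctor.comp (fpCongrRight t α₀.symm) (pasteR t f x₀))
  have hE : IsEquivOver E := IsEquivOver.comp (isEquivOver_pasteRInv t y₀ (overMap h₀))
    (IsEquivOver.comp (isEquivOver_fpCongrRight t α₀.symm) (isEquivOver_pasteR t f x₀))
  refine ⟨fp (fpSnd t y₀) (overMap h₀), pA, hpA, BasedFunctor.comp E (fpFst (fpSnd t f) x₀), ?_, ?_, ?_⟩
  · exact (repByAlgSpWith_equiv_comp E hE _).2 (repByAlgSpWith_fpFst x₀ (fpSnd t f) hx₀)
  · exact (repByAlgSpWith_equiv_comp E hE _).2 (repByAlgSpWith_fpFst x₀ (fpSnd t f) hx₀s)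
  · have e : BasedFunctor.comp (BasedFunctor.comp E (fpFst (fpSnd t f) x₀)) (fpFst t f) =
        BasedFunctor.comp (fpFst (fpSnd t y₀) (overMap h₀)) (fpFst t y₀) := rfl
    rw [e, Pres.map_comp pA pB (Pres.ov T)]
    have sq := Pres.isPullback_map pB (Pres.ov U₀) (Pres.ov V₀) (fpSnd t y₀) (overMap h₀) pA
    have h1 : P (Pres.map pA pB (fpFst (fpSnd t y₀) (overMap h₀))) :=
      hP.baseChange hU₀ hV₀ hpA hpB _ _ _ _ sq.flip (by rw [Pres.map_overMap]; exact hP₀)
    have h2 : AlgSp.LocP @Smooth (Pres.map pB (Pres.ov T) (fpFst t y₀)) :=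
      (smooth_map_iff pB (Pres.ov T) hpB hT _).1 (repByAlgSpWith_fpFst y₀ t hy₀)
    exact hP.postcomp hpA hpB hT _ _ h1 h2

/-- a square with a chart by an algebraic space on the source gives a square of scheme charts. -/
theorem locQ_of_pres_square' (hP : SmStable P) (f : 𝒳 ⥤ᵇ 𝒴)
    {𝒰 : AlgSt.Cat S} (pU : Pres 𝒰) (hU : AlgSp.IsAlgSpace pU.sp) (x : 𝒰 ⥤ᵇ 𝒳)
    (hx : RepByAlgSpWith (AlgSp.LocP @Smooth) x) (hxs : RepByAlgSpWith AlgSp.IsSurjectiveMor x)
    {V : Over S} (y : overCat V ⥤ᵇ 𝒴) (hy : RepByAlgSpWith (AlgSp.LocP @Smooth) y)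
    (H : 𝒰 ⥤ᵇ overCat V) (α : BasedFunctor.comp x f ≅ BasedFunctor.comp H y)
    (hH : P (Pres.map pU (Pres.ov V) H)) : LocQ P f := by
  obtain ⟨W, u, hu, hus⟩ := exists_scheme_atlas pU hU
  have hW : AlgSp.IsAlgSpace ((AlgSp.yon S).obj W) := AlgSp.IsAlgSpace.yon_obj W
  have hV : AlgSp.IsAlgSpace ((AlgSp.yon S).obj V) := AlgSp.IsAlgSpace.yon_obj V
  have hu' : RepByAlgSpWith (AlgSp.LocP @Smooth) u := (smooth_map_iff (Pres.ov W) pU hW hU u).2 hu
  have hus' : RepByAlgSpWith AlgSp.IsSurjectiveMor u := (surjective_map_iff (Pres.ov W) pU hW hU u).2 hus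
  obtain ⟨h, ⟨η⟩⟩ := exists_overMap_iso (BasedFunctor.comp u H)
  have hfW := isFibGrpd_of_pres (Pres.ov W)
  have hfU := isFibGrpd_of_pres pU
  refine ⟨W, V, BasedFunctor.comp u x, y, h, whiskerLeftIso u α ≪≫ whiskerRightIso η y, ?_, ?_, hy, ?_⟩
  · exact repByAlgSpWith_comp stableAlg_smooth compAlg_smooth descAtlas_smooth hfW hfU u x hu' hx
  · exact repByAlgSpWith_comp stableAlg_isSurjectiveMor compAlg_isSurjectiveMor descAtlas_isSurjectiveMor
      hfW hfU u x hus' hxs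
  · rw [← Pres.map_overMap, ← Pres.map_congr (Pres.ov W) (Pres.ov V) η, Pres.map_comp (Pres.ov W) pU (Pres.ov V)]
    exact hP.precomp hW hU hV _ _ hu hH

/-- **Moving the chart of the target.**  For `P` smooth-stable and `f` with `P` on one chart square, over ANY
chart `t` of the target there is a chart square with `P` whose map to the fibre product is smooth and surjective. -/
theorem exists_good_square (hP : SmStable P) (h𝒳 : IsAlgStack Scheme.fppfPrecoverage 𝒳)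
    (h𝒴 : IsAlgStack Scheme.fppfPrecoverage 𝒴) (f : 𝒳 ⥤ᵇ 𝒴) (hf : LocQ P f)
    {T : Over S} (t : overCat T ⥤ᵇ 𝒴) :
    ∃ (U : Over S) (x : overCat U ⥤ᵇ 𝒳) (h : U ⟶ T)
      (α : BasedFunctor.comp x f ≅ BasedFunctor.comp (overMap h) t),
      RepByAlgSpWith (AlgSp.LocP @Smooth) (fpLift x (overMap h) α) ∧
      RepByAlgSpWith AlgSp.IsSurjectiveMor (fpLift x (overMap h) α) ∧
      (RepByAlgSpWith (AlgSp.LocP @Smooth) t → RepByAlgSpWith (AlgSp.LocP @Smooth) x) ∧
      (RepByAlgSpWith AlgSp.IsSurjectiveMor t → RepByAlgSpWith AlgSp.IsSurjectiveMor x) ∧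
      P ((AlgSp.yon S).map h) := by
  obtain ⟨𝒜, pA, hpA, a, ha, has, hPa⟩ := exists_atlas_baseChange' hP f hf t
  obtain ⟨W, u₀, hu₀, hu₀s⟩ := exists_scheme_atlas pA hpA
  have hW : AlgSp.IsAlgSpace ((AlgSp.yon S).obj W) := AlgSp.IsAlgSpace.yon_obj W
  have hT : AlgSp.IsAlgSpace ((AlgSp.yon S).obj T) := AlgSp.IsAlgSpace.yon_obj T
  have hu₀' : RepByAlgSpWith (AlgSp.LocP @Smooth) u₀ := (smooth_map_iff (Pres.ov W) pA hW hpA u₀).2 hu₀
  have hu₀s' : RepByAlgSpWith AlgSp.IsSurjectiveMor u₀ :=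
    (surjective_map_iff (Pres.ov W) pA hW hpA u₀).2 hu₀s
  have hfW := isFibGrpd_of_pres (Pres.ov W)
  have hfA := isFibGrpd_of_pres pA
  have h𝒫 : IsAlgStack Scheme.fppfPrecoverage (fp t f) :=
    isAlgStack_fp h𝒴.isStack h𝒴.diag (isAlgStack_overCat T) h𝒳 t f
  let u : overCat W ⥤ᵇ fp t f := BasedFunctor.comp u₀ a
  have hu : RepByAlgSpWith (AlgSp.LocP @Smooth) u :=
    repByAlgSpWith_comp stableAlg_smooth compAlg_smooth descAtlas_smooth hfW hfA u₀ a hu₀' ha
  have hus : RepByAlgSpWith AlgSp.IsSurjectiveMor u :=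
    repByAlgSpWith_comp stableAlg_isSurjectiveMor compAlg_isSurjectiveMor descAtlas_isSurjectiveMor
      hfW hfA u₀ a hu₀s' has
  obtain ⟨h, ⟨θ⟩⟩ := exists_overMap_iso (BasedFunctor.comp u (fpFst t f))
  refine ⟨W, BasedFunctor.comp u (fpSnd t f), h, liftIso f t u (overMap h) θ, ?_, ?_, ?_, ?_, ?_⟩
  · exact repByAlgSpWith_of_iso (liftSwapIso f t u (overMap h) θ)
      ((repByAlgSpWith_comp_equiv u (fpSwap t f) (isEquivOver_fpSwap t f)).2 hu)
  · exact repByAlgSpWith_of_iso (liftSwapIso f t u (overMap h) θ)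
      ((repByAlgSpWith_comp_equiv u (fpSwap t f) (isEquivOver_fpSwap t f)).2 hus)
  · intro ht
    exact repByAlgSpWith_comp stableAlg_smooth compAlg_smooth descAtlas_smooth hfW h𝒫.isStack.1 u
      (fpSnd t f) hu (repByAlgSpWith_fpSnd t f ht)
  · intro ht
    exact repByAlgSpWith_comp stableAlg_isSurjectiveMor compAlg_isSurjectiveMor descAtlas_isSurjectiveMor
      hfW h𝒫.isStack.1 u (fpSnd t f) hus (repByAlgSpWith_fpSnd t f ht)
  · rw [← Pres.map_overMap, ← Pres.map_congr (Pres.ov W) (Pres.ov T) θ]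
    have e : BasedFunctor.comp u (fpFst t f) =
        BasedFunctor.comp u₀ (BasedFunctor.comp a (fpFst t f)) := rfl
    rw [e, Pres.map_comp (Pres.ov W) pA (Pres.ov T)]
    exact hP.precomp hW hpA hT _ _ hu₀ hPa

end Groth.Agent.Helper19.LocQGen
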