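import Mathlib
import Groth.Agent.Lib.Helper19.SmLocLib

/-!
# Quasi-compact algebraic stacks: charts (helper19)
-/

set_option autoImplicit false
set_option backward.isDefEq.respectTransparency false

universe u

open CategoryTheory CategoryTheory.Limits Functor AlgebraicGeometry Opposite

namespace Groth.Agent.Helper19.QcLib

open FibCat AlgSt Stk Groth.Agent.Helper19.FibLib Groth.Agent.Helper19.StLib Groth.Agent.Helper19.PshLib
  Groth.Agent.Helper19.PshSt Groth.Agent.Helper19.DiagLib Groth.Agent.Helper19.DiagAlgSp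
  Groth.Agent.Helper19.DMLib Groth.Agent.Helper19.CompLib Groth.Agent.Helper19.AlgStRep
  Groth.Agent.Helper19.SmLocLib

variable {S : Scheme.{u}}

/-- A quasi-compact scheme over `S` receives an etale surjective morphism over `S` from an affine scheme. -/
theorem exists_affine_etale_surjective (U : Over S) [CompactSpace U.left] :
    ∃ (U' : Over S) (g : U' ⟶ U), IsAffine U'.left ∧ Etale g.left ∧ Surjective g.left := by
  have hcover : (Set.univ : Set U.left) ⊆ ⋃ O : U.left.affineOpens, (O.1 : Set U.left) := by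
    intro v _
    obtain ⟨_, ⟨O, hO, rfl⟩, hvO, -⟩ :=
      (U.left.isBasis_affineOpens).exists_subset_of_mem_open (Set.mem_univ v) isOpen_univ
    exact Set.mem_iUnion.2 ⟨⟨O, hO⟩, hvO⟩
  obtain ⟨t, ht⟩ := isCompact_univ.elim_finite_subcover
    (fun O : U.left.affineOpens => (O.1 : Set U.left)) (fun O => O.1.isOpen) hcover
  let V : t → Scheme.{u} := fun O => (O.1.1 : Scheme.{u})
  have hV : ∀ O, IsAffine (V O) := fun O => O.1.2
  let d : (∐ V) ⟶ U.left := Sigma.desc (fun O => O.1.1.ι)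
  let T : Over S := Over.mk (d ≫ U.hom)
  let δ : T ⟶ U := Over.homMk d rfl
  have hde : Etale δ.left :=
    IsZariskiLocalAtSource.sigmaDesc (P := @Etale) (fun O => (inferInstance : Etale O.1.1.ι))
  have hds : Surjective δ.left := by
    refine ⟨fun v => ?_⟩
    have hv := ht (Set.mem_univ v)
    simp only [Set.mem_iUnion] at hv
    obtain ⟨O, hOt, hvO⟩ := hv
    refine ⟨(Sigma.ι V ⟨O, hOt⟩) ⟨v, hvO⟩, ?_⟩
    change (Sigma.ι V ⟨O, hOt⟩ ≫ d) _ = v
    rw [Sigma.ι_desc]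
    rfl
  exact ⟨T, δ, (inferInstance : IsAffine (∐ V)), hde, hds⟩

/-- a chart from a scheme, precomposed with a morphism of schemes. -/
theorem chart_comp_overMap {𝒳 : AlgSt.Cat S} {Q : MorphismProperty (AlgSp.Sp S)}
    (hQ : ∀ ⦃A B C : AlgSp.Sp S⦄ (f : A ⟶ B) (g : B ⟶ C), AlgSp.RepWith @Etale f → Q g → Q (f ≫ g))
    {U U' : Over S} (x : overCat U ⥤ᵇ 𝒳) (hx : RepByAlgSpWith Q x) (g : U' ⟶ U) (hg : Etale g.left) :
    RepByAlgSpWith Q (BasedFunctor.comp (ofOverCat U')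
      (BasedFunctor.comp (ofSpMap ((AlgSp.yon S).map g)) (BasedFunctor.comp (toOverCat U) x))) :=
  chart_of_space_chart hQ ⟨(AlgSp.yon S).obj U, AlgSp.IsAlgSpace.yon_obj U⟩ (BasedFunctor.comp (toOverCat U) x)
    ((repByAlgSpWith_equiv_comp _ (isEquivOver_toOverCat U) x).2 hx) ((AlgSp.yon S).map g)
    ((AlgSp.repWith_yon_map_iff _ g).2 hg)

theorem chart_comp_overMap_surj {𝒳 : AlgSt.Cat S}
    {U U' : Over S} (x : overCat U ⥤ᵇ 𝒳) (hx : RepByAlgSpWith AlgSp.IsSurjectiveMor x) (g : U' ⟶ U)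
    (hg : Surjective g.left) :
    RepByAlgSpWith AlgSp.IsSurjectiveMor (BasedFunctor.comp (ofOverCat U')
      (BasedFunctor.comp (ofSpMap ((AlgSp.yon S).map g)) (BasedFunctor.comp (toOverCat U) x))) :=
  chart_of_space_chart_surj ⟨(AlgSp.yon S).obj U, AlgSp.IsAlgSpace.yon_obj U⟩
    (BasedFunctor.comp (toOverCat U) x)
    ((repByAlgSpWith_equiv_comp _ (isEquivOver_toOverCat U) x).2 hx) ((AlgSp.yon S).map g)
    ((AlgSp.repWith_yon_map_iff _ g).2 hg)

theorem isQuasiCompact_iff_exists_compact_chart {𝒳 : AlgSt.Cat S} :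
    IsQuasiCompact 𝒳 ↔
      ∃ (U : Over S) (x : overCat U ⥤ᵇ 𝒳), CompactSpace ↥U.left ∧
        RepByAlgSpWith (AlgSp.LocP @Smooth) x ∧ RepByAlgSpWith AlgSp.IsSurjectiveMor x := by
  constructor
  · rintro ⟨U, x, hU, hx₁, hx₂⟩
    exact ⟨U, x, inferInstance, hx₁, hx₂⟩
  · rintro ⟨U, x, hU, hx₁, hx₂⟩
    obtain ⟨U', g, hU', hge, hgs⟩ := exists_affine_etale_surjective U
    exact ⟨U', _, hU', chart_comp_overMap (locP_comp_repWith_etale @Smooth) x hx₁ g hge,
      chart_comp_overMap_surj x hx₂ g hgs⟩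

theorem isQuasiCompact_iff_exists_qc_space_chart {𝒳 : AlgSt.Cat S} :
    IsQuasiCompact 𝒳 ↔
      ∃ (U : AlgSp.Space S) (x : ofSp U.obj ⥤ᵇ 𝒳), AlgSp.IsQuasiCompactSp U.obj ∧
        RepByAlgSpWith (AlgSp.LocP @Smooth) x ∧ RepByAlgSpWith AlgSp.IsSurjectiveMor x := by
  constructor
  · rintro ⟨U, x, hU, hx₁, hx₂⟩
    refine ⟨⟨(AlgSp.yon S).obj U, AlgSp.IsAlgSpace.yon_obj U⟩, BasedFunctor.comp (toOverCat U) x, ?_,
      (repByAlgSpWith_equiv_comp _ (isEquivOver_toOverCat U) x).2 hx₁,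
      (repByAlgSpWith_equiv_comp _ (isEquivOver_toOverCat U) x).2 hx₂⟩
    exact ⟨U, 𝟙 _, AlgSp.repWith_id _ U, AlgSp.repWith_id _ U, inferInstance⟩
  · rintro ⟨U, x, ⟨W, p, hpe, hps, hW⟩, hx₁, hx₂⟩
    rw [isQuasiCompact_iff_exists_compact_chart]
    exact ⟨W, _, hW, chart_of_space_chart (locP_comp_repWith_etale @Smooth) U x hx₁ p hpe,
      chart_of_space_chart_surj U x hx₂ p hps⟩

end Groth.Agent.Helper19.QcLib
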