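import Mathlib
import Groth.Prelude.Def_AlgSt4
import Groth.Agent.Lib.Helper19.FibLib2

/-!
# Points of categories fibred in groupoids over `(Sch/S)` (helper19)
-/

set_option autoImplicit false
set_option backward.isDefEq.respectTransparency false

universe w₃ v₃ w' v' w v u

open CategoryTheory CategoryTheory.Limits Functor AlgebraicGeometry Opposite

namespace Groth.Agent.Helper19.StPts

open FibCat AlgSt Groth.Agent.Helper19.FibLib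

variable {S : Scheme.{u}} {𝒳 : BasedCategory.{v, w} (Over S)} {𝒴 : BasedCategory.{v', w'} (Over S)}
  {𝒵 : BasedCategory.{v₃, w₃} (Over S)}

/-- the spectrum over `S` underlying a field-valued point. -/
noncomputable abbrev pt (p : FPt 𝒳) : Over S := Over.mk p.str

theorem rel_of_hom {p q : FPt 𝒳} (φ : p.obj ⟶ q.obj) : FPt.Rel p q := ⟨p, 𝟙 _, φ, trivial⟩

theorem rel_refl (p : FPt 𝒳) : FPt.Rel p p := rel_of_hom (𝟙 _)

theorem rel_symm {p q : FPt 𝒳} (h : FPt.Rel p q) : FPt.Rel q p := by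
  obtain ⟨r, a, b, -⟩ := h
  exact ⟨r, b, a, trivial⟩

/-- the morphism of spectra over `S` under a morphism between the objects of two field-valued points. -/
noncomputable def baseHom {p q : FPt 𝒳} (φ : p.obj ⟶ q.obj) : pt p ⟶ pt q :=
  eqToHom p.lies.symm ≫ 𝒳.p.map φ ≫ eqToHom q.lies

instance baseHom_isHomLift {p q : FPt 𝒳} (φ : p.obj ⟶ q.obj) : 𝒳.p.IsHomLift (baseHom φ) φ :=
  IsHomLift.of_fac 𝒳.p _ φ p.lies q.lies (by simp [baseHom])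

/-- pulling back the object of a field-valued point along a morphism over `S`. -/
theorem exists_lift_fpt (h𝒳 : IsFibGrpd 𝒳.p) (p : FPt 𝒳) {T : Over S} (a : T ⟶ pt p) :
    ∃ (y : 𝒳.obj) (φ : y ⟶ p.obj), 𝒳.p.IsHomLift a φ := by
  obtain ⟨y, φ, hφ⟩ := h𝒳.exists_lift (a ≫ eqToHom p.lies.symm)
  exact ⟨y, φ, (IsHomLift.lift_comp_eqToHom_iff 𝒳.p a φ p.lies.symm).1 hφ⟩

/-- two morphisms with the same target lying over the same morphism have isomorphic sources. -/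
theorem exists_iso_of_lifts (h𝒳 : IsFibGrpd 𝒳.p) {R T : Over S} {a a' b : 𝒳.obj} (f : R ⟶ T)
    (φ : a ⟶ b) (φ' : a' ⟶ b) [𝒳.p.IsHomLift f φ] [𝒳.p.IsHomLift f φ'] :
    ∃ χ : a' ⟶ a, 𝒳.p.IsHomLift (𝟙 R) χ ∧ χ ≫ φ = φ' ∧ IsIso χ := by
  obtain ⟨χ, ⟨hχ, hc⟩, -⟩ := existsUnique_fac h𝒳 f φ (𝟙 R) f (Category.id_comp f).symm φ'
  refine ⟨χ, hχ, hc, ?_⟩
  exact isIso_of_isHomLift h𝒳 (𝟙 R) χ

theorem rel_trans (h𝒳 : IsFibGrpd 𝒳.p) {p q s : FPt 𝒳} (h₁ : FPt.Rel p q) (h₂ : FPt.Rel q s) :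
    FPt.Rel p s := by
  obtain ⟨r, α, β, -⟩ := h₁
  obtain ⟨r', β', γ, -⟩ := h₂
  let b₁ : pt r ⟶ pt q := baseHom β
  let b₂ : pt r' ⟶ pt q := baseHom β'
  obtain ⟨Ω, _, i₁, i₂, hi⟩ :=
    AlgSp.FieldPt.exists_amalgamation (Spec.preimage b₁.left).hom (Spec.preimage b₂.left).hom
  have hL : Spec.map (CommRingCat.ofHom i₁) ≫ b₁.left = Spec.map (CommRingCat.ofHom i₂) ≫ b₂.left := by
    conv_lhs => rw [← Spec.map_preimage b₁.left]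
    conv_rhs => rw [← Spec.map_preimage b₂.left]
    rw [← Spec.map_comp, ← Spec.map_comp]
    congr 1
    exact CommRingCat.hom_ext hi
  let w : Spec (CommRingCat.of Ω) ⟶ S := Spec.map (CommRingCat.ofHom i₁) ≫ r.str
  let d₁ : Over.mk w ⟶ pt r := Over.homMk (Spec.map (CommRingCat.ofHom i₁)) rfl
  have e₁ : b₁.left ≫ q.str = r.str := Over.w b₁
  have e₂ : b₂.left ≫ q.str = r'.str := Over.w b₂
  have hw : Spec.map (CommRingCat.ofHom i₂) ≫ r'.str = w := by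
    change _ = Spec.map (CommRingCat.ofHom i₁) ≫ r.str
    rw [← e₁, ← e₂, ← Category.assoc, ← Category.assoc, hL]
  let d₂ : Over.mk w ⟶ pt r' := Over.homMk (Spec.map (CommRingCat.ofHom i₂)) hw
  have hd : d₁ ≫ b₁ = d₂ ≫ b₂ := Over.OverMorphism.ext (by simpa [d₁, d₂] using hL)
  obtain ⟨y₁, φ₁, hφ₁⟩ := exists_lift_fpt h𝒳 r d₁
  obtain ⟨y₂, φ₂, hφ₂⟩ := exists_lift_fpt h𝒳 r' d₂
  have h1 : 𝒳.p.IsHomLift (d₁ ≫ b₁) (φ₁ ≫ β) := inferInstance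
  have h2 : 𝒳.p.IsHomLift (d₁ ≫ b₁) (φ₂ ≫ β') := by rw [hd]; infer_instance
  obtain ⟨χ, -, -, -⟩ := exists_iso_of_lifts h𝒳 (d₁ ≫ b₁) (φ₂ ≫ β') (φ₁ ≫ β)
  let t : FPt 𝒳 := { K := Ω, str := w, obj := y₁, lies := IsHomLift.domain_eq 𝒳.p d₁ φ₁ }
  exact ⟨t, φ₁ ≫ α, χ ≫ φ₂ ≫ γ, trivial⟩

/-- S12817. -/
theorem rel_equivalence (h𝒳 : IsFibGrpd 𝒳.p) : _root_.Equivalence (@FPt.Rel S 𝒳) :=
  ⟨rel_refl, rel_symm, rel_trans h𝒳⟩

theorem mk_eq_mk_iff (h𝒳 : IsFibGrpd 𝒳.p) {p q : FPt 𝒳} : Points.mk p = Points.mk q ↔ FPt.Rel p q := by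
  constructor
  · intro h
    exact (rel_equivalence h𝒳).eqvGen_iff.1 (Quot.eqvGen_exact h)
  · exact Points.sound

/-- two field-valued points of `𝒵` and `𝒳` whose images in `𝒴` are related come from a field-valued point of the
2-fibre product. -/
theorem exists_fpt_fp (h𝒳 : IsFibGrpd 𝒳.p) (h𝒴 : IsFibGrpd 𝒴.p) (h𝒵 : IsFibGrpd 𝒵.p)
    (f : 𝒳 ⥤ᵇ 𝒴) (g : 𝒵 ⥤ᵇ 𝒴) (p : FPt 𝒵) (q : FPt 𝒳) (h : FPt.Rel (p.map g) (q.map f)) :
    ∃ w : FPt (fp g f), FPt.Rel (w.map (fpFst g f)) p ∧ FPt.Rel (w.map (fpSnd g f)) q := by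
  obtain ⟨r, α, β, -⟩ := h
  let a : pt r ⟶ pt p := baseHom (p := r) (q := p.map g) α
  let b : pt r ⟶ pt q := baseHom (p := r) (q := q.map f) β
  have hα : 𝒴.p.IsHomLift a α := baseHom_isHomLift (p := r) (q := p.map g) α
  have hβ : 𝒴.p.IsHomLift b β := baseHom_isHomLift (p := r) (q := q.map f) β
  obtain ⟨z', φz, hφz⟩ := exists_lift_fpt h𝒵 p a
  obtain ⟨x', φx, hφx⟩ := exists_lift_fpt h𝒳 q b
  have hz' : 𝒵.p.obj z' = pt r := IsHomLift.domain_eq 𝒵.p a φz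
  have hx' : 𝒳.p.obj x' = pt r := IsHomLift.domain_eq 𝒳.p b φx
  have h1 : 𝒴.p.IsHomLift a (g.map φz) := inferInstance
  have h2 : 𝒴.p.IsHomLift b (f.map φx) := inferInstance
  obtain ⟨χ₁, hχ₁, -, hχ₁i⟩ := exists_iso_of_lifts h𝒴 a α (g.map φz)
  obtain ⟨χ₂, hχ₂, -, hχ₂i⟩ := exists_iso_of_lifts h𝒴 b β (f.map φx)
  -- χ₁ : g z' ⟶ r.obj, χ₂ : f x' ⟶ r.obj, both isomorphisms over the identity
  let ι : g.obj z' ≅ f.obj x' := asIso χ₁ ≪≫ (asIso χ₂).symm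
  have hι : 𝒴.p.IsHomLift (𝟙 (𝒵.p.obj z')) ι.hom := by
    rw [hz']
    change 𝒴.p.IsHomLift (𝟙 (pt r)) (χ₁ ≫ inv χ₂)
    infer_instance
  let o : (fp g f).obj := ⟨{ fst := z', snd := x', iso := ι }, hι⟩
  let w : FPt (fp g f) := { K := r.K, str := r.str, obj := o, lies := hz' }
  refine ⟨w, ?_, ?_⟩
  · exact rel_of_hom (p := w.map (fpFst g f)) (q := p) φz
  · exact rel_of_hom (p := w.map (fpSnd g f)) (q := q) φx

/-- S12818. -/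
theorem exists_points_fp_of_map_eq (h𝒳 : IsFibGrpd 𝒳.p) (h𝒴 : IsFibGrpd 𝒴.p) (h𝒵 : IsFibGrpd 𝒵.p)
    (f : 𝒳 ⥤ᵇ 𝒴) (g : 𝒵 ⥤ᵇ 𝒴) (z : Points 𝒵) (x : Points 𝒳)
    (h : Points.map g z = Points.map f x) :
    ∃ w : Points (fp g f), Points.map (fpFst g f) w = z ∧ Points.map (fpSnd g f) w = x := by
  obtain ⟨p, rfl⟩ := Points.mk_surjective z
  obtain ⟨q, rfl⟩ := Points.mk_surjective x
  rw [Points.map_mk, Points.map_mk, mk_eq_mk_iff h𝒴] at h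
  obtain ⟨w, h1, h2⟩ := exists_fpt_fp h𝒳 h𝒴 h𝒵 f g p q h
  exact ⟨Points.mk w, Points.sound h1, Points.sound h2⟩

end Groth.Agent.Helper19.StPts
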