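import Mathlib
import Groth.Agent.Lib.Helper19.StPts

/-!
# Points of categories over `(Sch/S)`: functoriality and charts (helper19)
-/

set_option autoImplicit false
set_option backward.isDefEq.respectTransparency false

universe w₃ v₃ w' v' w v u

open CategoryTheory CategoryTheory.Limits Functor AlgebraicGeometry Opposite

namespace Groth.Agent.Helper19.StPts

open FibCat AlgSt Groth.Agent.Helper19.FibLib

variable {S : Scheme.{u}} {𝒳 : BasedCategory.{v, w} (Over S)} {𝒴 : BasedCategory.{v', w'} (Over S)}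
  {𝒵 : BasedCategory.{v₃, w₃} (Over S)}

theorem map_comp (f : 𝒳 ⥤ᵇ 𝒴) (g : 𝒴 ⥤ᵇ 𝒵) (z : Points 𝒳) :
    Points.map (BasedFunctor.comp f g) z = Points.map g (Points.map f z) := by
  obtain ⟨p, rfl⟩ := Points.mk_surjective z
  rfl

theorem map_id (z : Points 𝒳) : Points.map (BasedFunctor.id 𝒳) z = z := by
  obtain ⟨p, rfl⟩ := Points.mk_surjective z
  rfl

theorem map_congr {f f' : 𝒳 ⥤ᵇ 𝒴} (θ : f ≅ f') : Points.map f = Points.map f' := by
  funext z
  obtain ⟨p, rfl⟩ := Points.mk_surjective z
  exact Points.sound (rel_of_hom (p := p.map f) (q := p.map f') (θ.hom.toNatTrans.app p.obj))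

theorem map_ofChart {U : Over S} (x : overCat U ⥤ᵇ 𝒳) (f : 𝒳 ⥤ᵇ 𝒴) (t : ↥U.left) :
    Points.map f (Points.ofChart x t) = Points.ofChart (BasedFunctor.comp x f) t := rfl

theorem ofChart_congr {U : Over S} {x x' : overCat U ⥤ᵇ 𝒳} (θ : x ≅ x') :
    Points.ofChart x = Points.ofChart x' := by
  funext t
  exact Points.sound (rel_of_hom (θ.hom.toNatTrans.app _))

/-- the object of `(Sch/U)` given by a point of `U`. -/
noncomputable abbrev ptObj (U : Over S) (t : ↥U.left) : (overCat U).obj :=
  Over.mk (Over.homMk (U.left.fromSpecResidueField t) rfl :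
    Over.mk (U.left.fromSpecResidueField t ≫ U.hom) ⟶ U)

theorem ofChart_overMap {U' U : Over S} (h : U' ⟶ U) (x : overCat U ⥤ᵇ 𝒳) (t : ↥U'.left) :
    Points.ofChart (BasedFunctor.comp (overMap h) x) t = Points.ofChart x (h.left t) := by
  have hw : Spec.map (h.left.residueFieldMap t) ≫ U.left.fromSpecResidueField (h.left t) ≫ U.hom =
      U'.left.fromSpecResidueField t ≫ U'.hom := by
    rw [Scheme.Hom.SpecMap_residueFieldMap_fromSpecResidueField_assoc, Over.w h]
  let m₀ : Over.mk (U'.left.fromSpecResidueField t ≫ U'.hom) ⟶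
      Over.mk (U.left.fromSpecResidueField (h.left t) ≫ U.hom) :=
    Over.homMk (Spec.map (h.left.residueFieldMap t)) hw
  let m : (overMap h).obj (ptObj U' t) ⟶ ptObj U (h.left t) :=
    Over.homMk m₀ (by
      apply Over.OverMorphism.ext
      simp [m₀, overMap])
  exact Points.sound (rel_of_hom (x.map m))

end Groth.Agent.Helper19.StPts
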