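import Mathlib
import Groth.Agent.Lib.Helper19.StPts2
import Groth.Agent.Lib.Helper19.ChartOver

/-!
# Points of algebraic stacks: continuity of charts (helper19)
-/

set_option autoImplicit false
set_option backward.isDefEq.respectTransparency false

universe w₃ v₃ w' v' w v u

open CategoryTheory CategoryTheory.Limits Functor AlgebraicGeometry Opposite

namespace Groth.Agent.Helper19.StPts

open FibCat AlgSt Stk Groth.Agent.Helper19.FibLib Groth.Agent.Helper19.StLib Groth.Agent.Helper19.DiagAlgSp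
  Groth.Agent.Helper19.PshSt Groth.Agent.Helper19.AlgP Groth.Agent.Helper19.ProdAlg
  Groth.Agent.Helper19.ImmLib Groth.Agent.Helper19.SpProps Groth.Agent.Helper19.ChartOver
  Groth.Agent.Helper16.AS

variable {S : Scheme.{u}}

theorem of_repByAlgSpWith_overMap {Q : MorphismProperty (AlgSp.Sp S)} (hQ : StableAlg Q) {U' U : Over S}
    (a : U' ⟶ U) (h : RepByAlgSpWith Q (overMap a)) : Q ((AlgSp.yon S).map a) := by
  have := algP_respectsIso hQ
  have h1 : RepByAlgSpWith (algP Q) (overMap a) := (repByAlgSpWith_algP_iff Q _).2 h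
  have h2 := repByAlgSpWith_of_iso (overMapIso a) h1
  have h3 := (repByAlgSpWith_equiv_comp _ (isEquivOver_ofOverCat U') _).1 h2
  have h4 := (repByAlgSpWith_comp_equiv _ _ (isEquivOver_toOverCat U)).1 h3
  exact of_repByAlgSpWith_pyon_map (algP Q) a h4 (AlgSp.IsAlgSpace.yon_obj _) (AlgSp.IsAlgSpace.yon_obj _)

theorem surjective_of_isSurjectiveMor_yon_map {U' U : Over S} (a : U' ⟶ U)
    (h : AlgSp.IsSurjectiveMor ((AlgSp.yon S).map a)) : Function.Surjective a.left := by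
  intro t
  obtain ⟨x, hx⟩ := h (AlgSp.Points.schemeHomeo U t)
  obtain ⟨t', rfl⟩ := (AlgSp.Points.schemeHomeo U').surjective x
  rw [AlgSp.Points.map_yon_map_apply] at hx
  exact ⟨t', (AlgSp.Points.schemeHomeo U).injective hx⟩

/-- a smooth surjective functor `(Sch/U') ⟶ (Sch/U)` is the functor of a smooth surjective morphism. -/
theorem exists_smooth_surjective_hom {U' U : Over S} (x' : overCat U' ⥤ᵇ overCat U)
    (h₁ : RepByAlgSpWith (AlgSp.LocP @Smooth) x') (h₂ : RepByAlgSpWith AlgSp.IsSurjectiveMor x') :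
    ∃ a : U' ⟶ U, Nonempty (x' ≅ overMap a) ∧ Smooth a.left ∧ Function.Surjective a.left := by
  obtain ⟨a, ⟨η⟩⟩ := exists_overMap_iso x'
  refine ⟨a, ⟨η⟩, ?_, ?_⟩
  · exact AlgSp.locP_yon_map (of_repByAlgSpWith_overMap
      (stableAlg_locP Groth.Agent.Helper15.goodP_smooth srcEtLoc_smooth) a (repByAlgSpWith_of_iso η.symm h₁))
  · exact surjective_of_isSurjectiveMor_yon_map a (of_repByAlgSpWith_overMap stableAlg_isSurjectiveMor a
      (repByAlgSpWith_of_iso η.symm h₂))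

/-- **Every chart of an algebraic stack is continuous on points.** -/
theorem continuous_ofChart {𝒴 : AlgSt.Cat S} (h𝒴 : IsAlgStack Scheme.fppfPrecoverage 𝒴) {U : Over S}
    (y : overCat U ⥤ᵇ 𝒴) : Continuous (Points.ofChart y) := by
  obtain ⟨V, v, hv, hv'⟩ := h𝒴.atlas
  obtain ⟨U', a', x', hx₁, hx₂, ⟨θ⟩⟩ :=
    exists_smooth_surjective_chart_over (isAlgStack_overCat U) h𝒴 y V v hv hv'
  obtain ⟨a, ⟨η⟩, hsm, hsurj⟩ := exists_smooth_surjective_hom x' hx₁ hx₂
  refine continuous_def.2 fun W hW => ?_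
  have hopen : IsOpenMap a.left := a.left.isOpenMap
  have e1 : a.left ⁻¹' (Points.ofChart y ⁻¹' W) = a'.left ⁻¹' (Points.ofChart v ⁻¹' W) := by
    ext t
    simp only [Set.mem_preimage]
    rw [← ofChart_overMap a y t, ← ofChart_overMap a' v t,
      ofChart_congr (whiskerRightIso η.symm y), ofChart_congr θ]
  have h2 : IsOpen (a.left ⁻¹' (Points.ofChart y ⁻¹' W)) := by
    rw [e1]
    exact (hW V v hv).preimage a'.left.continuous
  have e2 : Points.ofChart y ⁻¹' W = a.left '' (a.left ⁻¹' (Points.ofChart y ⁻¹' W)) :=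
    (Set.image_preimage_eq _ hsurj).symm
  rw [e2]
  exact hopen _ h2

/-- S12820. -/
theorem continuous_points_map {𝒳 𝒴 : AlgSt.Cat S} (h𝒴 : IsAlgStack Scheme.fppfPrecoverage 𝒴)
    (f : 𝒳 ⥤ᵇ 𝒴) : Continuous (Points.map f) := by
  refine continuous_def.2 fun W hW => ?_
  intro U x _
  have : Points.ofChart x ⁻¹' (Points.map f ⁻¹' W) = Points.ofChart (BasedFunctor.comp x f) ⁻¹' W := rfl
  rw [this]
  exact hW.preimage (continuous_ofChart h𝒴 _)

/-- S12825: surjectivity on points is stable under base change. -/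
theorem isSurjective_fpFst {𝒳 : BasedCategory.{v, w} (Over S)} {𝒴 : BasedCategory.{v', w'} (Over S)}
    {𝒵 : BasedCategory.{v₃, w₃} (Over S)} (h𝒳 : IsFibGrpd 𝒳.p) (h𝒴 : IsFibGrpd 𝒴.p) (h𝒵 : IsFibGrpd 𝒵.p)
    (f : 𝒳 ⥤ᵇ 𝒴) (g : 𝒵 ⥤ᵇ 𝒴) (hf : IsSurjective f) : IsSurjective (fpFst g f) := by
  intro z
  obtain ⟨x, hx⟩ := hf (Points.map g z)
  obtain ⟨w, hw, -⟩ := exists_points_fp_of_map_eq h𝒳 h𝒴 h𝒵 f g z x hx.symm
  exact ⟨w, hw⟩

end Groth.Agent.Helper19.StPts
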