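import Mathlib
import Groth.Agent.Lib.Helper19.StPts3

/-!
# Points of the category of a sheaf versus points of the sheaf (helper19)
-/

set_option autoImplicit false
set_option backward.isDefEq.respectTransparency false

universe w₃ v₃ w' v' w v u

open CategoryTheory CategoryTheory.Limits Functor AlgebraicGeometry Opposite

namespace Groth.Agent.Helper19.StPts

open FibCat AlgSt Stk Groth.Agent.Helper19.FibLib Groth.Agent.Helper19.StLib Groth.Agent.Helper19.DiagAlgSp
  Groth.Agent.Helper19.PshSt Groth.Agent.Helper19.AlgP Groth.Agent.Helper19.ProdAlg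
  Groth.Agent.Helper19.ImmLib Groth.Agent.Helper19.SpProps Groth.Agent.Helper19.ChartOver
  Groth.Agent.Helper16.AS

variable {S : Scheme.{u}} {F G : AlgSp.Sp S}

/-- the field-valued point of the category of `F` attached to a field-valued point of `F`. -/
noncomputable def fptOf (p : AlgSp.FieldPt F) : FPt (ofSp F) :=
  { K := p.K, str := p.str, obj := ⟨Over.mk p.str, p.val⟩, lies := rfl }

/-- the field-valued point of `F` attached to a field-valued point of its category. -/
noncomputable def fieldPtOf (p : FPt (ofSp F)) : AlgSp.FieldPt F :=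
  ⟨p.K, p.str, F.obj.map (eqToHom p.lies.symm).op p.obj.sec⟩

theorem rel_fptOf_fieldPtOf (p : FPt (ofSp F)) : FPt.Rel (fptOf (fieldPtOf p)) p :=
  rel_of_hom (p := fptOf (fieldPtOf p)) (q := p) ⟨eqToHom p.lies.symm, rfl⟩

theorem rel_fptOf_iff (p q : AlgSp.FieldPt F) :
    FPt.Rel (fptOf p) (fptOf q) ↔ AlgSp.FieldPt.Rel p q := by
  constructor
  · rintro ⟨r, α, β, -⟩
    refine ⟨r.K, r.field, r.str, eqToHom r.lies.symm ≫ α.hom, eqToHom r.lies.symm ≫ β.hom, ?_⟩
    have hα : F.obj.map α.hom.op p.val = r.obj.sec := α.map_sec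
    have hβ : F.obj.map β.hom.op q.val = r.obj.sec := β.map_sec
    rw [op_comp, op_comp, Functor.map_comp_apply, Functor.map_comp_apply]
    exact congrArg _ (hα.trans hβ.symm)
  · rintro ⟨Ω, _, w, a, b, h⟩
    let r : FPt (ofSp F) := fptOf ⟨Ω, w, F.obj.map a.op p.val⟩
    exact ⟨r, ⟨a, rfl⟩, ⟨b, h.symm⟩, trivial⟩

/-- the points of a sheaf and of its category. -/
noncomputable def ptsMap (F : AlgSp.Sp S) : AlgSp.Points F → Points (ofSp F) :=
  Quotient.lift (fun p => Points.mk (fptOf p)) (fun _ _ h => Points.sound ((rel_fptOf_iff _ _).2 h))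

@[simp] theorem ptsMap_mk (p : AlgSp.FieldPt F) : ptsMap F (AlgSp.Points.mk p) = Points.mk (fptOf p) := rfl

theorem ptsMap_bijective (F : AlgSp.Sp S) : Function.Bijective (ptsMap F) := by
  have hfib : IsFibGrpd (ofSp F).p := Stk.isFibGrpd_ofPsh _
  constructor
  · intro x y h
    induction x using AlgSp.Points.ind with | _ p => ?_
    induction y using AlgSp.Points.ind with | _ q => ?_
    rw [ptsMap_mk, ptsMap_mk, mk_eq_mk_iff hfib, rel_fptOf_iff] at h
    exact Quotient.sound h
  · intro z
    obtain ⟨p, rfl⟩ := Points.mk_surjective z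
    exact ⟨AlgSp.Points.mk (fieldPtOf p), Points.sound (rel_fptOf_fieldPtOf p)⟩

/-- the equivalence between the points of a sheaf and of its category. -/
noncomputable def ptsEquiv (F : AlgSp.Sp S) : AlgSp.Points F ≃ Points (ofSp F) :=
  Equiv.ofBijective (ptsMap F) (ptsMap_bijective F)

theorem ptsMap_map (a : F ⟶ G) (x : AlgSp.Points F) :
    ptsMap G (AlgSp.Points.map a x) = Points.map (ofSpMap a) (ptsMap F x) := by
  induction x using AlgSp.Points.ind with | _ p => ?_
  rfl

theorem ptsMap_ofPt {T : Over S} (g : (AlgSp.yon S).obj T ⟶ F) (t : ↥T.left) :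
    ptsMap F (AlgSp.Points.ofPt g t) =
      Points.ofChart (BasedFunctor.comp (ofOverCat T) (ofSpMap g)) t := rfl

theorem isAlgStack_ofSp (X : AlgSp.Space S) : IsAlgStack Scheme.fppfPrecoverage (ofSp X.obj) :=
  (Groth.Agent.Helper19.DMLib.isDM_of_repByAlgSp (repByAlgSp_ofSp X)).1

theorem continuous_ptsMap (X : AlgSp.Space S) : Continuous (ptsMap X.obj) := by
  refine continuous_def.2 fun W hW => AlgSp.Points.isOpen_iff.2 fun T g => ?_
  have : AlgSp.Points.ofPt g ⁻¹' (ptsMap X.obj ⁻¹' W) =
      Points.ofChart (BasedFunctor.comp (ofOverCat T) (ofSpMap g)) ⁻¹' W := rfl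
  rw [this]
  exact hW.preimage (continuous_ofChart (isAlgStack_ofSp X) _)

theorem isOpenMap_ptsMap (F : AlgSp.Sp S) : IsOpenMap (ptsMap F) := by
  intro W' hW'
  intro U x _
  let g : (AlgSp.yon S).obj U ⟶ F := ObjectProperty.homMk (sectionMap x)
  have θ : x ≅ BasedFunctor.comp (ofOverCat U) (ofSpMap g) := sectionMapIso x
  rw [ofChart_congr θ]
  have : Points.ofChart (BasedFunctor.comp (ofOverCat U) (ofSpMap g)) ⁻¹' (ptsMap F '' W') =
      AlgSp.Points.ofPt g ⁻¹' W' := by
    ext t
    simp only [Set.mem_preimage, Set.mem_image]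
    rw [← ptsMap_ofPt]
    constructor
    · rintro ⟨y, hy, e⟩
      rwa [← (ptsMap_bijective F).1 e]
    · intro h
      exact ⟨_, h, rfl⟩
  rw [this]
  exact AlgSp.Points.isOpen_iff.1 hW' U g

/-- for an algebraic space, the points of the space and of its category are homeomorphic. -/
noncomputable def ptsHomeo (X : AlgSp.Space S) : AlgSp.Points X.obj ≃ₜ Points (ofSp X.obj) :=
  (ptsEquiv X.obj).toHomeomorphOfIsInducing
    ((Topology.IsOpenEmbedding.of_continuous_injective_isOpenMap (continuous_ptsMap X)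
      (ptsMap_bijective X.obj).1 (isOpenMap_ptsMap X.obj)).isInducing)

@[simp] theorem ptsHomeo_apply (X : AlgSp.Space S) (x : AlgSp.Points X.obj) :
    ptsHomeo X x = ptsMap X.obj x := rfl

end Groth.Agent.Helper19.StPts
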