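import Mathlib
import Groth.Agent.Lib.Helper19.StPtsSp
import Groth.Agent.Lib.Helper19.YonLib

/-!
# Points of algebraic stacks: equivalences, slices, fibre products (helper19)
-/

set_option autoImplicit false
set_option backward.isDefEq.respectTransparency false

universe w₃ v₃ w' v' w v u

open CategoryTheory CategoryTheory.Limits Functor AlgebraicGeometry Opposite

namespace Groth.Agent.Helper19.StPts

open FibCat AlgSt Stk Groth.Agent.Helper19.FibLib Groth.Agent.Helper19.StLib Groth.Agent.Helper19.DiagAlgSp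
  Groth.Agent.Helper19.PshSt Groth.Agent.Helper19.AlgP Groth.Agent.Helper19.ProdAlg
  Groth.Agent.Helper19.ImmLib Groth.Agent.Helper19.SpProps Groth.Agent.Helper19.ChartOver
  Groth.Agent.Helper16.AS

variable {S : Scheme.{u}}

section equiv

variable {𝒳 : BasedCategory.{v, w} (Over S)} {𝒴 : BasedCategory.{v', w'} (Over S)}

theorem continuous_map_of_equiv (e : 𝒳 ⥤ᵇ 𝒴) (he : IsEquivOver e) : Continuous (Points.map e) := by
  refine continuous_def.2 fun W hW => ?_
  intro U x hx
  have : Points.ofChart x ⁻¹' (Points.map e ⁻¹' W) = Points.ofChart (BasedFunctor.comp x e) ⁻¹' W := rfl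
  rw [this]
  exact hW U _ ((repByAlgSpWith_comp_equiv x e he).2 hx)

/-- an equivalence over the base induces a homeomorphism on points. -/
noncomputable def mapHomeo (e : 𝒳 ⥤ᵇ 𝒴) (he : IsEquivOver e) : Points 𝒳 ≃ₜ Points 𝒴 where
  toFun := Points.map e
  invFun := Points.map (IsEquivOver.exists_inv he).choose
  left_inv z := by
    obtain ⟨-, ⟨η⟩, -⟩ := (IsEquivOver.exists_inv he).choose_spec
    rw [← map_comp, map_congr η, map_id]
  right_inv z := by
    obtain ⟨-, -, ⟨ε⟩⟩ := (IsEquivOver.exists_inv he).choose_spec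
    rw [← map_comp, map_congr ε, map_id]
  continuous_toFun := continuous_map_of_equiv e he
  continuous_invFun := continuous_map_of_equiv _ (IsEquivOver.exists_inv he).choose_spec.1

@[simp] theorem mapHomeo_apply (e : 𝒳 ⥤ᵇ 𝒴) (he : IsEquivOver e) (z : Points 𝒳) :
    mapHomeo e he z = Points.map e z := rfl

end equiv

/-- the points of `h_T` and of the slice `(Sch/T)`. -/
noncomputable def spPt (T : Over S) : AlgSp.Points ((AlgSp.yon S).obj T) ≃ₜ Points (overCat T) :=
  (ptsHomeo ⟨(AlgSp.yon S).obj T, AlgSp.IsAlgSpace.yon_obj T⟩).trans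
    (mapHomeo (toOverCat T) (isEquivOver_toOverCat T))

theorem spPt_apply (T : Over S) (x : AlgSp.Points ((AlgSp.yon S).obj T)) :
    spPt T x = Points.map (toOverCat T) (ptsMap _ x) := rfl

/-- the points of a scheme and of its slice. -/
noncomputable def chartPt (T : Over S) : ↥T.left ≃ₜ Points (overCat T) :=
  (AlgSp.Points.schemeHomeo T).trans (spPt T)

theorem chartPt_apply (T : Over S) (t : ↥T.left) :
    chartPt T t = Points.ofChart (BasedFunctor.id (overCat T)) t := by
  change Points.map (toOverCat T) (ptsMap _ (AlgSp.Points.ofPt (𝟙 _) t)) = _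
  rw [ptsMap_ofPt, map_ofChart]
  refine congrFun (ofChart_congr ?_) t
  exact whiskerRightIso (eqToIso (BasedFunctor.comp_id _)) (toOverCat T) ≪≫ ofToOverCat T

theorem ofChart_eq {𝒳 : BasedCategory.{v, w} (Over S)} {T : Over S} (x : overCat T ⥤ᵇ 𝒳) (t : ↥T.left) :
    Points.ofChart x t = Points.map x (chartPt T t) := by
  rw [chartPt_apply, map_ofChart]
  rfl

/-- the basic computation: the map on points of a functor from the category of a sheaf to a slice. -/
theorem map_spMapOfOver {A : AlgSp.Sp S} {T : Over S} (Φ : ofSp A ⥤ᵇ overCat T) (α : AlgSp.Points A) :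
    Points.map Φ (ptsMap A α) = spPt T (AlgSp.Points.map (spMapOfOver Φ) α) := by
  rw [spPt_apply, ptsMap_map, ← map_comp]
  exact congrFun (map_congr (isoOfSpMapOfOver Φ)) _

section fp

variable {𝒳 : BasedCategory.{v, w} (Over S)} {𝒴 : BasedCategory.{v', w'} (Over S)}
  {𝒵 : BasedCategory.{v₃, w₃} (Over S)}

theorem preimage_image_map (h𝒳 : IsFibGrpd 𝒳.p) (h𝒴 : IsFibGrpd 𝒴.p) (h𝒵 : IsFibGrpd 𝒵.p)
    (f : 𝒳 ⥤ᵇ 𝒴) (g : 𝒵 ⥤ᵇ 𝒴) (W : Set (Points 𝒳)) :
    Points.map g ⁻¹' (Points.map f '' W) =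
      Points.map (fpFst g f) '' (Points.map (fpSnd g f) ⁻¹' W) := by
  ext z
  simp only [Set.mem_preimage, Set.mem_image]
  constructor
  · rintro ⟨x, hx, e⟩
    obtain ⟨w, hw₁, hw₂⟩ := exists_points_fp_of_map_eq h𝒳 h𝒴 h𝒵 f g z x e.symm
    exact ⟨w, by rwa [hw₂], hw₁⟩
  · rintro ⟨w, hw, rfl⟩
    refine ⟨_, hw, ?_⟩
    rw [← map_comp, ← map_comp]
    exact (congrFun (map_congr (fpIso g f)) w).symm

end fp

/-- every point is the value of a chart from the spectrum of a field. -/
theorem exists_chart_of_point {𝒴 : AlgSt.Cat S} (h𝒴 : IsFibGrpd 𝒴.p) (y : Points 𝒴) :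
    ∃ (T : Over S) (G : overCat T ⥤ᵇ 𝒴) (t₀ : ↥T.left), Points.ofChart G t₀ = y := by
  obtain ⟨q, rfl⟩ := Points.mk_surjective y
  obtain ⟨G, θ, hθ⟩ := Groth.Agent.Helper19.YonLib.exists_chart_of_obj h𝒴 q.obj q.lies
  let t₀ : ↥(pt q).left := IsLocalRing.closedPoint q.K
  refine ⟨pt q, G, t₀, ?_⟩
  let m : ptObj (pt q) t₀ ⟶ Over.mk (𝟙 (pt q)) := Over.homMk (ptObj (pt q) t₀).hom
  exact Points.sound (rel_of_hom (q := q) (G.map m ≫ θ.hom))

end Groth.Agent.Helper19.StPts
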