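import Mathlib
import Groth.Agent.Lib.Helper19.StPtsTop
import Groth.Agent.Lib.Helper15.AlgSpLocP3
import Groth.Agent.Lib.Helper15.AlgSpQc

/-!
# Points of algebraic stacks: morphisms representable by algebraic spaces (helper19)
-/

set_option autoImplicit false
set_option backward.isDefEq.respectTransparency false

universe w₃ v₃ w' v' w v u

open CategoryTheory CategoryTheory.Limits Functor AlgebraicGeometry Opposite

namespace Groth.Agent.Helper19.StPts

open FibCat AlgSt Stk Groth.Agent.Helper19.FibLib Groth.Agent.Helper19.StLib Groth.Agent.Helper19.DiagAlgSp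
  Groth.Agent.Helper19.PshSt Groth.Agent.Helper19.AlgP Groth.Agent.Helper19.ProdAlg
  Groth.Agent.Helper19.ImmLib Groth.Agent.Helper19.SpProps Groth.Agent.Helper19.ChartOver
  Groth.Agent.Helper16.AS

variable {S : Scheme.{u}}

section conj

variable {X Y X' Y' : Type*} [TopologicalSpace X] [TopologicalSpace Y] [TopologicalSpace X']
  [TopologicalSpace Y'] (h₁ : X' ≃ₜ X) (h₂ : Y' ≃ₜ Y) (f : X → Y) (f' : X' → Y')
  (hc : ∀ a, f (h₁ a) = h₂ (f' a))

include hc

theorem conj_eq : f = h₂ ∘ f' ∘ h₁.symm := by
  funext x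
  obtain ⟨a, rfl⟩ := h₁.surjective x
  simp [hc]

theorem conj_eq' : f' = h₂.symm ∘ f ∘ h₁ := by
  funext a
  simp [hc]

theorem isOpenMap_conj_iff : IsOpenMap f ↔ IsOpenMap f' := by
  constructor
  · intro h
    rw [conj_eq' h₁ h₂ f f' hc]
    exact h₂.symm.isOpenMap.comp (h.comp h₁.isOpenMap)
  · intro h
    rw [conj_eq h₁ h₂ f f' hc]
    exact h₂.isOpenMap.comp (h.comp h₁.symm.isOpenMap)

theorem isClosedMap_conj_iff : IsClosedMap f ↔ IsClosedMap f' := by
  constructor
  · intro h
    rw [conj_eq' h₁ h₂ f f' hc]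
    exact h₂.symm.isClosedMap.comp (h.comp h₁.isClosedMap)
  · intro h
    rw [conj_eq h₁ h₂ f f' hc]
    exact h₂.isClosedMap.comp (h.comp h₁.symm.isClosedMap)

theorem surjective_conj_iff : Function.Surjective f ↔ Function.Surjective f' := by
  constructor
  · intro h
    rw [conj_eq' h₁ h₂ f f' hc]
    exact h₂.symm.surjective.comp (h.comp h₁.surjective)
  · intro h
    rw [conj_eq h₁ h₂ f f' hc]
    exact h₂.surjective.comp (h.comp h₁.symm.surjective)

theorem injective_conj_iff : Function.Injective f ↔ Function.Injective f' := by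
  constructor
  · intro h
    rw [conj_eq' h₁ h₂ f f' hc]
    exact h₂.symm.injective.comp (h.comp h₁.injective)
  · intro h
    rw [conj_eq h₁ h₂ f f' hc]
    exact h₂.injective.comp (h.comp h₁.symm.injective)

theorem continuous_conj_iff : Continuous f ↔ Continuous f' := by
  constructor
  · intro h
    rw [conj_eq' h₁ h₂ f f' hc]
    exact h₂.symm.continuous.comp (h.comp h₁.continuous)
  · intro h
    rw [conj_eq h₁ h₂ f f' hc]
    exact h₂.continuous.comp (h.comp h₁.symm.continuous)

theorem isQuotientMap_conj_iff : Topology.IsQuotientMap f ↔ Topology.IsQuotientMap f' := by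
  constructor
  · intro h
    rw [conj_eq' h₁ h₂ f f' hc]
    exact h₂.symm.isQuotientMap.comp (h.comp h₁.isQuotientMap)
  · intro h
    rw [conj_eq h₁ h₂ f f' hc]
    exact h₂.isQuotientMap.comp (h.comp h₁.symm.isQuotientMap)

theorem isHomeomorph_conj_iff : IsHomeomorph f ↔ IsHomeomorph f' := by
  constructor
  · intro h
    rw [conj_eq' h₁ h₂ f f' hc]
    exact h₂.symm.isHomeomorph.comp (h.comp h₁.isHomeomorph)
  · intro h
    rw [conj_eq h₁ h₂ f f' hc]
    exact h₂.isHomeomorph.comp (h.comp h₁.symm.isHomeomorph)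

end conj

section kappa

variable {𝒲 : BasedCategory.{v, w} (Over S)} {T : Over S} (A : AlgSp.Space S) (eA : ofSp A.obj ⥤ᵇ 𝒲)
  (heA : IsEquivOver eA) (π : 𝒲 ⥤ᵇ overCat T)

/-- the points of an algebraic space representing a category, and the points of that category. -/
noncomputable def kappa : AlgSp.Points A.obj ≃ₜ Points 𝒲 := (ptsHomeo A).trans (mapHomeo eA heA)

theorem kappa_apply (α : AlgSp.Points A.obj) : kappa A eA heA α = Points.map eA (ptsMap A.obj α) := rfl

theorem map_kappa (α : AlgSp.Points A.obj) :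
    Points.map π (kappa A eA heA α) =
      spPt T (AlgSp.Points.map (spMapOfOver (BasedFunctor.comp eA π)) α) := by
  rw [kappa_apply, ← map_comp, map_spMapOfOver]

end kappa

end Groth.Agent.Helper19.StPts
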