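import Mathlib
import Groth.Agent.Lib.Helper19.StPtsRep

/-!
# Points of algebraic stacks: surjective and open morphisms (helper19)
-/

set_option autoImplicit false
set_option backward.isDefEq.respectTransparency false

universe w₃ v₃ w' v' w v u

open CategoryTheory CategoryTheory.Limits Functor AlgebraicGeometry Opposite

namespace Groth.Agent.Helper19.StPts

open FibCat AlgSt Stk Groth.Agent.Helper19.FibLib Groth.Agent.Helper19.StLib Groth.Agent.Helper19.DiagAlgSp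
  Groth.Agent.Helper19.PshSt Groth.Agent.Helper19.AlgP Groth.Agent.Helper19.ProdAlg
  Groth.Agent.Helper19.ImmLib Groth.Agent.Helper19.SpProps Groth.Agent.Helper19.ChartOver
  Groth.Agent.Helper16.AS

variable {S : Scheme.{u}}

/-- S12819 (⇐). -/
theorem isSurjective_of_repByAlgSpWith {𝒳 𝒴 : AlgSt.Cat S} (h𝒴 : IsFibGrpd 𝒴.p) (f : 𝒳 ⥤ᵇ 𝒴)
    (hf : RepByAlgSpWith AlgSp.IsSurjectiveMor f) : IsSurjective f := by
  intro y
  obtain ⟨T, G, t₀, rfl⟩ := exists_chart_of_point h𝒴 y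
  obtain ⟨A, eA, heA, ha⟩ := hf T G
  have hs : Function.Surjective (Points.map (fpFst G f)) :=
    (surjective_conj_iff (kappa A eA heA) (spPt T) (Points.map (fpFst G f)) _
      (map_kappa A eA heA (fpFst G f))).2 ha
  obtain ⟨w, hw⟩ := hs (chartPt T t₀)
  refine ⟨Points.map (fpSnd G f) w, ?_⟩
  rw [ofChart_eq, ← hw, ← map_comp, ← map_comp]
  exact (congrFun (map_congr (fpIso G f)) w).symm

/-- S12819 (⇒). -/
theorem repByAlgSpWith_of_isSurjective {𝒳 𝒴 : AlgSt.Cat S} (h𝒳 : IsFibGrpd 𝒳.p) (h𝒴 : IsFibGrpd 𝒴.p)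
    (f : 𝒳 ⥤ᵇ 𝒴) (hf : RepByAlgSp1 f) (hs : IsSurjective f) :
    RepByAlgSpWith AlgSp.IsSurjectiveMor f := by
  intro T t
  obtain ⟨A, eA, heA⟩ := hf T t
  refine ⟨A, eA, heA, ?_⟩
  have h1 : Function.Surjective (Points.map (fpFst t f)) :=
    isSurjective_fpFst h𝒳 h𝒴 (isFibGrpd_overCat T) f t hs
  exact (surjective_conj_iff (kappa A eA heA) (spPt T) (Points.map (fpFst t f)) _
    (map_kappa A eA heA (fpFst t f))).1 h1

/-- **Open map criterion.** -/
theorem isOpenMap_map_of_charts {𝒳 𝒴 : AlgSt.Cat S} (h𝒳 : IsAlgStack Scheme.fppfPrecoverage 𝒳)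
    (h𝒴 : IsFibGrpd 𝒴.p) (f : 𝒳 ⥤ᵇ 𝒴)
    (h : ∀ (T : Over S) (z : overCat T ⥤ᵇ 𝒴), RepByAlgSpWith (AlgSp.LocP @Smooth) z →
      IsOpenMap (Points.map (fpFst z f))) : IsOpenMap (Points.map f) := by
  intro O hO
  intro T z hz
  have e : Points.ofChart z ⁻¹' (Points.map f '' O) =
      chartPt T ⁻¹' (Points.map (fpFst z f) '' (Points.map (fpSnd z f) ⁻¹' O)) := by
    rw [← preimage_image_map h𝒳.isStack.1 h𝒴 (isFibGrpd_overCat T) f z O]
    ext t
    simp only [Set.mem_preimage]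
    rw [ofChart_eq]
  rw [e]
  exact ((h T z hz) _ (hO.preimage (continuous_points_map h𝒳 (fpSnd z f)))).preimage
    (chartPt T).continuous

/-- a flat, locally finitely presented functor is open on points. -/
theorem isOpenMap_map_of_flat_lfp {𝒳 𝒴 : AlgSt.Cat S} (h𝒳 : IsAlgStack Scheme.fppfPrecoverage 𝒳)
    (h𝒴 : IsFibGrpd 𝒴.p) (f : 𝒳 ⥤ᵇ 𝒴) (hf₁ : RepByAlgSpWith (AlgSp.LocP @Flat) f)
    (hf₂ : RepByAlgSpWith (AlgSp.LocP @LocallyOfFinitePresentation) f) : IsOpenMap (Points.map f) := by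
  refine isOpenMap_map_of_charts h𝒳 h𝒴 f (fun T z _ => ?_)
  obtain ⟨A, eA, heA, ha₁, ha₂⟩ := Groth.Agent.Helper19.InfLib.repByAlgSpWith_inf
    (stableAlg_locP Groth.Agent.Helper15.goodP_lfp srcEtLoc_lfp) hf₁ hf₂ T z
  refine (isOpenMap_conj_iff (kappa A eA heA) (spPt T) (Points.map (fpFst z f)) _
    (map_kappa A eA heA (fpFst z f))).2 ?_
  exact Groth.Agent.Helper15.isOpenMor_of_isUnivOpenMor (AlgSp.IsAlgSpace.yon_obj T) _
    (Groth.Agent.Helper15.isUnivOpenMor_of_flat_lfp A.property (AlgSp.IsAlgSpace.yon_obj T) _ ha₁ ha₂)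

/-- S12822. -/
theorem continuous_and_isOpenMap_ofChart_of_flat_lfp {𝒳 : AlgSt.Cat S}
    (h𝒳 : IsAlgStack Scheme.fppfPrecoverage 𝒳) (U : Over S) (x : overCat U ⥤ᵇ 𝒳)
    (hx₁ : RepByAlgSpWith (AlgSp.LocP @Flat) x)
    (hx₂ : RepByAlgSpWith (AlgSp.LocP @LocallyOfFinitePresentation) x) :
    Continuous (Points.ofChart x) ∧ IsOpenMap (Points.ofChart x) := by
  refine ⟨continuous_ofChart h𝒳 x, ?_⟩
  have e : Points.ofChart x = Points.map x ∘ chartPt U := by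
    funext t
    exact ofChart_eq x t
  rw [e]
  exact (isOpenMap_map_of_flat_lfp (isAlgStack_overCat U) h𝒳.isStack.1 x hx₁ hx₂).comp
    (chartPt U).isOpenMap

/-- S12823. -/
theorem isOpen_points_iff_preimage_fppf_space_chart {𝒳 : AlgSt.Cat S}
    (h𝒳 : IsAlgStack Scheme.fppfPrecoverage 𝒳) (U : AlgSp.Space S) (p : ofSp U.obj ⥤ᵇ 𝒳)
    (hp₁ : RepByAlgSpWith (AlgSp.LocP @Flat) p)
    (hp₂ : RepByAlgSpWith (AlgSp.LocP @LocallyOfFinitePresentation) p)
    (hp₃ : RepByAlgSpWith AlgSp.IsSurjectiveMor p) (W : Set (Points 𝒳)) :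
    IsOpen W ↔ IsOpen (Points.map p ⁻¹' W) := by
  constructor
  · intro hW
    exact hW.preimage (continuous_points_map h𝒳 p)
  · intro hW
    have hs : Function.Surjective (Points.map p) := isSurjective_of_repByAlgSpWith h𝒳.isStack.1 p hp₃
    rw [← Set.image_preimage_eq W hs]
    exact isOpenMap_map_of_flat_lfp (isAlgStack_ofSp U) h𝒳.isStack.1 p hp₁ hp₂ _ hW

end Groth.Agent.Helper19.StPts
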