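import Mathlib
import Groth.Agent.Lib.Helper19.StPtsOpen
import Groth.Agent.Lib.Helper19.QcLib

/-!
# Points of algebraic stacks: quasi-compactness (helper19)
-/

set_option autoImplicit false
set_option backward.isDefEq.respectTransparency false

universe w₃ v₃ w' v' w v u

open CategoryTheory CategoryTheory.Limits Functor AlgebraicGeometry Opposite

namespace Groth.Agent.Helper19.StPts

open FibCat AlgSt Stk Groth.Agent.Helper19.FibLib Groth.Agent.Helper19.StLib Groth.Agent.Helper19.DiagAlgSp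
  Groth.Agent.Helper19.PshSt Groth.Agent.Helper19.AlgP Groth.Agent.Helper19.ProdAlg
  Groth.Agent.Helper19.ImmLib Groth.Agent.Helper19.SpProps Groth.Agent.Helper19.ChartOver
  Groth.Agent.Helper16.AS Groth.Agent.Helper19.CancelLib Groth.Agent.Helper19.QcLib
  Groth.Agent.Helper19.SmLocLib Groth.Agent.Helper19.AlgStRep

variable {S : Scheme.{u}}

theorem repByAlgSpWith_flat_of_smooth {𝒳 : BasedCategory.{v, w} (Over S)}
    {𝒴 : BasedCategory.{v', w'} (Over S)} (f : 𝒳 ⥤ᵇ 𝒴)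
    (hf : RepByAlgSpWith (AlgSp.LocP @Smooth) f) : RepByAlgSpWith (AlgSp.LocP @Flat) f := by
  refine repByAlgSpWith_mono (fun A T a h => ?_) hf
  refine Groth.Agent.Helper15.locP_mono ?_ h
  intro A B g hg
  have : Smooth g := hg
  exact (inferInstance : Flat g)

theorem repByAlgSpWith_lfp_of_smooth {𝒳 : BasedCategory.{v, w} (Over S)}
    {𝒴 : BasedCategory.{v', w'} (Over S)} (f : 𝒳 ⥤ᵇ 𝒴)
    (hf : RepByAlgSpWith (AlgSp.LocP @Smooth) f) :
    RepByAlgSpWith (AlgSp.LocP @LocallyOfFinitePresentation) f := by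
  refine repByAlgSpWith_mono (fun A T a h => ?_) hf
  refine Groth.Agent.Helper15.locP_mono ?_ h
  intro A B g hg
  have : Smooth g := hg
  exact (inferInstance : LocallyOfFinitePresentation g)

theorem repByAlgSp1_of_repByAlgSpWith {P : MorphismProperty (AlgSp.Sp S)}
    {𝒳 : BasedCategory.{v, w} (Over S)}
    {𝒴 : BasedCategory.{v', w'} (Over S)} (f : 𝒳 ⥤ᵇ 𝒴)
    (hf : RepByAlgSpWith P f) : RepByAlgSp1 f := by
  intro T t
  obtain ⟨A, eA, heA, -⟩ := hf T t
  exact ⟨A, eA, heA⟩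

/-- a smooth chart is continuous and open on points. -/
theorem isOpenMap_ofChart_of_smooth {𝒳 : AlgSt.Cat S}
    (h𝒳 : IsAlgStack Scheme.fppfPrecoverage 𝒳) (U : Over S) (x : overCat U ⥤ᵇ 𝒳)
    (hx : RepByAlgSpWith (AlgSp.LocP @Smooth) x) : IsOpenMap (Points.ofChart x) :=
  (continuous_and_isOpenMap_ofChart_of_flat_lfp h𝒳 U x (repByAlgSpWith_flat_of_smooth x hx)
    (repByAlgSpWith_lfp_of_smooth x hx)).2

theorem surjective_ofChart_of_surjective {𝒳 : AlgSt.Cat S}
    (h𝒳 : IsFibGrpd 𝒳.p) (U : Over S) (x : overCat U ⥤ᵇ 𝒳)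
    (hx : RepByAlgSpWith AlgSp.IsSurjectiveMor x) : Function.Surjective (Points.ofChart x) := by
  intro y
  obtain ⟨w, hw⟩ := isSurjective_of_repByAlgSpWith h𝒳 x hx y
  refine ⟨(chartPt U).symm w, ?_⟩
  rw [ofChart_eq, Homeomorph.apply_symm_apply, hw]

/-- the restriction of a chart to an etale `U' ⟶ U` is smooth. -/
theorem smooth_overMap_comp {𝒳 : AlgSt.Cat S} {U U' : Over S} (x : overCat U ⥤ᵇ 𝒳)
    (hx : RepByAlgSpWith (AlgSp.LocP @Smooth) x) (g : U' ⟶ U) (hg : Etale g.left) :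
    RepByAlgSpWith (AlgSp.LocP @Smooth) (BasedFunctor.comp (overMap g) x) := by
  have h1 := chart_comp_overMap (locP_comp_repWith_etale @Smooth) x hx g hg
  exact repByAlgSpWith_of_iso (whiskerRightIso (overMapIso g).symm x) h1

/-- a chart which is surjective on points is a surjective functor. -/
theorem repByAlgSpWith_surjective_of_ofChart {𝒳 : AlgSt.Cat S} (h𝒳 : IsFibGrpd 𝒳.p)
    {U : Over S} (x : overCat U ⥤ᵇ 𝒳) (hx : RepByAlgSp1 x)
    (hs : Function.Surjective (Points.ofChart x)) :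
    RepByAlgSpWith AlgSp.IsSurjectiveMor x := by
  refine repByAlgSpWith_of_isSurjective (isFibGrpd_overCat U) h𝒳 x hx ?_
  intro y
  obtain ⟨t, ht⟩ := hs y
  exact ⟨chartPt U t, by rw [← ofChart_eq, ht]⟩

/-- S12847 (⇒). -/
theorem compactSpace_points_of_isQuasiCompact {𝒳 : AlgSt.Cat S}
    (h𝒳 : IsAlgStack Scheme.fppfPrecoverage 𝒳) (h : IsQuasiCompact 𝒳) :
    CompactSpace (Points 𝒳) := by
  obtain ⟨U, x, hU, hx₁, hx₂⟩ := h
  have hs := surjective_ofChart_of_surjective h𝒳.isStack.1 U x hx₂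
  have hc := continuous_ofChart h𝒳 x
  constructor
  rw [← Set.range_eq_univ.2 hs]
  exact isCompact_range hc

/-- S12847 (⇐). -/
theorem isQuasiCompact_of_compactSpace_points {𝒳 : AlgSt.Cat S}
    (h𝒳 : IsAlgStack Scheme.fppfPrecoverage 𝒳) [CompactSpace (Points 𝒳)] :
    IsQuasiCompact 𝒳 := by
  obtain ⟨U, x, hx₁, hx₂⟩ := h𝒳.atlas
  have hs := surjective_ofChart_of_surjective h𝒳.isStack.1 U x hx₂
  have ho := isOpenMap_ofChart_of_smooth h𝒳 U x hx₁
  have hcover : (Set.univ : Set (Points 𝒳)) ⊆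
      ⋃ O : U.left.affineOpens, Points.ofChart x '' (O.1 : Set U.left) := by
    intro y _
    obtain ⟨v, rfl⟩ := hs y
    obtain ⟨_, ⟨O, hO, rfl⟩, hvO, -⟩ :=
      (U.left.isBasis_affineOpens).exists_subset_of_mem_open (Set.mem_univ v) isOpen_univ
    exact Set.mem_iUnion.2 ⟨⟨O, hO⟩, v, hvO, rfl⟩
  obtain ⟨t, ht⟩ := isCompact_univ.elim_finite_subcover
    (fun O : U.left.affineOpens => Points.ofChart x '' (O.1 : Set U.left))
    (fun O => ho _ O.1.isOpen) hcover
  let V : U.left.Opens := ⨆ O ∈ t, O.1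
  have hVc : IsCompact (V : Set U.left) := by
    have : (V : Set U.left) = ⋃ O ∈ t, (O.1 : Set U.left) := by
      simp [V]
    rw [this]
    exact t.isCompact_biUnion (fun O _ => O.2.isCompact)
  let U' : Over S := Over.mk (V.ι ≫ U.hom)
  let g : U' ⟶ U := Over.homMk V.ι rfl
  have hge : Etale g.left := (inferInstance : Etale V.ι)
  have hU' : CompactSpace ↥U'.left := isCompact_iff_compactSpace.1 hVc
  rw [isQuasiCompact_iff_exists_compact_chart]
  refine ⟨U', BasedFunctor.comp (overMap g) x, hU', smooth_overMap_comp x hx₁ g hge, ?_⟩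
  refine repByAlgSpWith_surjective_of_ofChart h𝒳.isStack.1 _
    (repByAlgSp1_of_repByAlgSpWith _ (smooth_overMap_comp x hx₁ g hge)) ?_
  intro y
  have hy := ht (Set.mem_univ y)
  simp only [Set.mem_iUnion] at hy
  obtain ⟨O, hOt, v, hvO, rfl⟩ := hy
  have hvV : v ∈ V := by
    simp only [V]
    exact (TopologicalSpace.Opens.mem_iSup).2 ⟨O, (TopologicalSpace.Opens.mem_iSup).2 ⟨hOt, hvO⟩⟩
  refine ⟨⟨v, hvV⟩, ?_⟩
  rw [ofChart_overMap]
  rfl

end Groth.Agent.Helper19.StPts
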