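import Mathlib
import Groth.Agent.Lib.Helper19.LocQGen
import Groth.Agent.Lib.Helper19.StPtsQc

/-!
# Flat morphisms of algebraic stacks (helper19)
-/

set_option autoImplicit false
set_option backward.isDefEq.respectTransparency false

universe w₃ v₃ w' v' w v u

open CategoryTheory CategoryTheory.Limits Functor AlgebraicGeometry Opposite

namespace Groth.Agent.Helper19.LocQGen

open FibCat AlgSt Stk Groth.Agent.Helper19.FibLib Groth.Agent.Helper19.StLib
  Groth.Agent.Helper19.AlgP Groth.Agent.Helper19.SpProps Groth.Agent.Helper19.ChartOver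
  Groth.Agent.Helper19.ProdAlg Groth.Agent.Helper19.SpDict Groth.Agent.Helper19.PshSt
  Groth.Agent.Helper19.ImmLib Groth.Agent.Helper16.AS Groth.Agent.Helper19.DiagAlgSp
  Groth.Agent.Helper19.LocQCore Groth.Agent.Helper19.FlatST Groth.Agent.Helper19.StPts

variable {S : Scheme.{u}} {𝒳 𝒴 : AlgSt.Cat S}

/-- the image of a point of a chart square. -/
theorem map_ofChart_square (f : 𝒳 ⥤ᵇ 𝒴) {U V : Over S} (x : overCat U ⥤ᵇ 𝒳) (y : overCat V ⥤ᵇ 𝒴)
    (h : U ⟶ V) (α : BasedFunctor.comp x f ≅ BasedFunctor.comp (overMap h) y) (u : ↥U.left) :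
    Points.map f (Points.ofChart x u) = Points.ofChart y (h.left u) := by
  rw [map_ofChart, ofChart_congr α, ofChart_overMap]

/-- S13008. -/
theorem isOpenMor_of_flat_lfp (h𝒳 : IsAlgStack Scheme.fppfPrecoverage 𝒳)
    (h𝒴 : IsAlgStack Scheme.fppfPrecoverage 𝒴) (f : 𝒳 ⥤ᵇ 𝒴)
    (hf₁ : LocQ (AlgSp.LocP @Flat) f) (hf₂ : LocQ (AlgSp.LocP @LocallyOfFinitePresentation) f) :
    IsOpenMor f := by
  obtain ⟨V, y, hy, hys⟩ := h𝒴.atlas
  obtain ⟨U, x, h, α, hℓ, hℓs, hx, hxs, hlfp⟩ := exists_good_square smStable_lfp h𝒳 h𝒴 f hf₂ y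
  have hflat : AlgSp.LocP @Flat ((AlgSp.yon S).map h) :=
    (locQ_iff_forall isSmoothLocalST_flat h𝒳 h𝒴 f).1 hf₁ U V x y h α (hx hy) hy hℓ
  have h1 : Flat h.left := AlgSp.locP_yon_map hflat
  have h2 : LocallyOfFinitePresentation h.left := AlgSp.locP_yon_map hlfp
  have hopen : IsOpenMap h.left := h.left.isOpenMap
  have hyo : IsOpenMap (Points.ofChart y) := isOpenMap_ofChart_of_smooth h𝒴 V y hy
  have hxc : Continuous (Points.ofChart x) := continuous_ofChart h𝒳 x
  have hxsurj := surjective_ofChart_of_surjective h𝒳.isStack.1 U x (hxs hys)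
  intro W hW
  have e : Points.map f '' W = Points.ofChart y '' (h.left '' (Points.ofChart x ⁻¹' W)) := by
    ext q
    constructor
    · rintro ⟨p, hp, rfl⟩
      obtain ⟨u, rfl⟩ := hxsurj p
      exact ⟨h.left u, ⟨u, hp, rfl⟩, (map_ofChart_square f x y h α u).symm⟩
    · rintro ⟨_, ⟨u, hu, rfl⟩, rfl⟩
      exact ⟨Points.ofChart x u, hu, map_ofChart_square f x y h α u⟩
  rw [e]
  exact hyo _ (hopen _ (hW.preimage hxc))

end Groth.Agent.Helper19.LocQGen
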