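import Mathlib
import Groth.Agent.Lib.Helper19.LocQGen

/-!
# Chart squares in terms of charts of the fibre product (helper19)
-/

set_option autoImplicit false
set_option backward.isDefEq.respectTransparency false

universe w₃ v₃ w' v' w v u

open CategoryTheory CategoryTheory.Limits Functor AlgebraicGeometry Opposite

namespace Groth.Agent.Helper19.LocQGen

open FibCat AlgSt Stk Groth.Agent.Helper19.FibLib Groth.Agent.Helper19.StLib
  Groth.Agent.Helper19.AlgP Groth.Agent.Helper19.SpProps Groth.Agent.Helper19.ChartOver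
  Groth.Agent.Helper19.ProdAlg Groth.Agent.Helper19.SpDict Groth.Agent.Helper19.PshSt
  Groth.Agent.Helper19.ImmLib Groth.Agent.Helper16.AS Groth.Agent.Helper19.DiagAlgSp
  Groth.Agent.Helper19.LocQCore

variable {S : Scheme.{u}} {𝒳 𝒴 : AlgSt.Cat S} {P : MorphismProperty (AlgSp.Sp S)}

/-- **(A)** For `P` smooth-stable and `f` with `P` on one chart square, over ANY chart `t` of the target there is
a smooth surjective scheme chart `u` of the fibre product whose map to the chart has `P`. -/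
theorem exists_good_chart (hP : SmStable P) (f : 𝒳 ⥤ᵇ 𝒴) (hf : LocQ P f)
    {T : Over S} (t : overCat T ⥤ᵇ 𝒴) :
    ∃ (U : Over S) (u : overCat U ⥤ᵇ fp t f) (h : U ⟶ T)
      (_ : BasedFunctor.comp u (fpFst t f) ≅ overMap h),
      RepByAlgSpWith (AlgSp.LocP @Smooth) u ∧ RepByAlgSpWith AlgSp.IsSurjectiveMor u ∧
      P ((AlgSp.yon S).map h) := by
  obtain ⟨𝒜, pA, hpA, a, ha, has, hPa⟩ := exists_atlas_baseChange' hP f hf t
  obtain ⟨W, u₀, hu₀, hu₀s⟩ := exists_scheme_atlas pA hpA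
  have hW : AlgSp.IsAlgSpace ((AlgSp.yon S).obj W) := AlgSp.IsAlgSpace.yon_obj W
  have hT : AlgSp.IsAlgSpace ((AlgSp.yon S).obj T) := AlgSp.IsAlgSpace.yon_obj T
  have hu₀' : RepByAlgSpWith (AlgSp.LocP @Smooth) u₀ := (smooth_map_iff (Pres.ov W) pA hW hpA u₀).2 hu₀
  have hu₀s' : RepByAlgSpWith AlgSp.IsSurjectiveMor u₀ :=
    (surjective_map_iff (Pres.ov W) pA hW hpA u₀).2 hu₀s
  have hfW := isFibGrpd_of_pres (Pres.ov W)
  have hfA := isFibGrpd_of_pres pA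
  obtain ⟨h, ⟨θ⟩⟩ := exists_overMap_iso (BasedFunctor.comp (BasedFunctor.comp u₀ a) (fpFst t f))
  refine ⟨W, BasedFunctor.comp u₀ a, h, θ, ?_, ?_, ?_⟩
  · exact repByAlgSpWith_comp stableAlg_smooth compAlg_smooth descAtlas_smooth hfW hfA u₀ a hu₀' ha
  · exact repByAlgSpWith_comp stableAlg_isSurjectiveMor compAlg_isSurjectiveMor descAtlas_isSurjectiveMor
      hfW hfA u₀ a hu₀s' has
  · rw [← Pres.map_overMap, ← Pres.map_congr (Pres.ov W) (Pres.ov T) θ]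
    have e : BasedFunctor.comp (BasedFunctor.comp u₀ a) (fpFst t f) =
        BasedFunctor.comp u₀ (BasedFunctor.comp a (fpFst t f)) := rfl
    rw [e, Pres.map_comp (Pres.ov W) pA (Pres.ov T)]
    exact hP.precomp hW hpA hT _ _ hu₀ hPa

/-- **(B)** For `P` smooth local on source-and-target and `f` with `P` on one chart square, `P` holds for every
smooth scheme chart of the fibre product with a smooth chart of the target. -/
theorem of_good_chart (hP : AlgSp.IsSmoothLocalST P) (h𝒳 : IsFibGrpd 𝒳.p) (h𝒴 : IsFibGrpd 𝒴.p)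
    (f : 𝒳 ⥤ᵇ 𝒴) (hf : LocQ P f) {T : Over S} (t : overCat T ⥤ᵇ 𝒴)
    (ht : RepByAlgSpWith (AlgSp.LocP @Smooth) t) {U : Over S} (u : overCat U ⥤ᵇ fp t f)
    (hu : RepByAlgSpWith (AlgSp.LocP @Smooth) u) (h : U ⟶ T)
    (θ : BasedFunctor.comp u (fpFst t f) ≅ overMap h) : P ((AlgSp.yon S).map h) := by
  obtain ⟨U₀, V₀, x₀, y₀, h₀, α₀, hx₀, hx₀s, hy₀, hP₀⟩ := hf
  refine of_square hP h𝒳 h𝒴 f x₀ y₀ h₀ α₀ hx₀ hx₀s hy₀ hP₀ (BasedFunctor.comp u (fpSnd t f)) t h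
    (liftIso f t u (overMap h) θ) ht ?_
  exact repByAlgSpWith_of_iso (liftSwapIso f t u (overMap h) θ)
    ((repByAlgSpWith_comp_equiv u (fpSwap t f) (isEquivOver_fpSwap t f)).2 hu)

/-- **(C)** A smooth surjective chart of the fibre product with a smooth surjective chart of the target whose map
to the chart has `P` is a chart square with `P`. -/
theorem locQ_of_chart (h𝒳 : IsFibGrpd 𝒳.p) (h𝒴 : IsFibGrpd 𝒴.p)
    (f : 𝒳 ⥤ᵇ 𝒴) {T : Over S} (t : overCat T ⥤ᵇ 𝒴)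
    (ht : RepByAlgSpWith (AlgSp.LocP @Smooth) t) (hts : RepByAlgSpWith AlgSp.IsSurjectiveMor t)
    {U : Over S} (u : overCat U ⥤ᵇ fp t f)
    (hu : RepByAlgSpWith (AlgSp.LocP @Smooth) u) (hus : RepByAlgSpWith AlgSp.IsSurjectiveMor u)
    (h : U ⟶ T) (θ : BasedFunctor.comp u (fpFst t f) ≅ overMap h) (hPh : P ((AlgSp.yon S).map h)) :
    LocQ P f := by
  have hfU := isFibGrpd_overCat U
  have hfp : IsFibGrpd (fp t f).p :=
    Groth.Agent.S6401.result _ _ (isFibGrpd_overCat T) h𝒳 h𝒴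
  refine ⟨U, T, BasedFunctor.comp u (fpSnd t f), t, h, liftIso f t u (overMap h) θ, ?_, ?_, ht, hPh⟩
  · exact repByAlgSpWith_comp stableAlg_smooth compAlg_smooth descAtlas_smooth hfU hfp u
      (fpSnd t f) hu (repByAlgSpWith_fpSnd t f ht)
  · exact repByAlgSpWith_comp stableAlg_isSurjectiveMor compAlg_isSurjectiveMor descAtlas_isSurjectiveMor
      hfU hfp u (fpSnd t f) hus (repByAlgSpWith_fpSnd t f hts)

/-- `LocQ` is invariant under 2-isomorphism. -/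
theorem locQ_of_iso {f f' : 𝒳 ⥤ᵇ 𝒴} (e : f ≅ f') (hf : LocQ P f) : LocQ P f' := by
  obtain ⟨U₀, V₀, x₀, y₀, h₀, α₀, hx₀, hx₀s, hy₀, hP₀⟩ := hf
  exact ⟨U₀, V₀, x₀, y₀, h₀, (whiskerLeftIso x₀ e).symm ≪≫ α₀, hx₀, hx₀s, hy₀, hP₀⟩

/-- `LocQ` is invariant under precomposition with an equivalence. -/
theorem locQ_equiv_comp {𝒳' : AlgSt.Cat S} (E : 𝒳' ⥤ᵇ 𝒳) (hE : IsEquivOver E) (f : 𝒳 ⥤ᵇ 𝒴)
    (hf : LocQ P f) : LocQ P (BasedFunctor.comp E f) := by
  obtain ⟨U₀, V₀, x₀, y₀, h₀, α₀, hx₀, hx₀s, hy₀, hP₀⟩ := hf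
  obtain ⟨E', hE', -, ⟨ε⟩⟩ := IsEquivOver.exists_inv hE
  refine ⟨U₀, V₀, BasedFunctor.comp x₀ E', y₀, h₀, ?_, ?_, ?_, hy₀, hP₀⟩
  · have e1 : BasedFunctor.comp (BasedFunctor.comp x₀ E') (BasedFunctor.comp E f) ≅
        BasedFunctor.comp x₀ f :=
      whiskerLeftIso x₀ (whiskerRightIso ε f)
    exact e1 ≪≫ α₀
  · exact (repByAlgSpWith_comp_equiv x₀ E' hE').2 hx₀
  · exact (repByAlgSpWith_comp_equiv x₀ E' hE').2 hx₀s

end Groth.Agent.Helper19.LocQGen
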