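import Mathlib
import Groth.Agent.Lib.Helper19.ProdAlg
import Groth.Agent.Lib.Helper19.QcLib

/-!
# Quasi-compact morphisms of algebraic stacks (helper19)
-/

set_option autoImplicit false
set_option backward.isDefEq.respectTransparency false

universe w₆ v₆ w₅ v₅ w₄ v₄ w₃ v₃ w' v' w v u

open CategoryTheory CategoryTheory.Limits Functor AlgebraicGeometry Opposite

namespace Groth.Agent.Helper19.QcMor

open FibCat AlgSt Stk Groth.Agent.Helper19.FibLib Groth.Agent.Helper19.StLib Groth.Agent.Helper19.DiagAlgSp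
  Groth.Agent.Helper19.PshSt Groth.Agent.Helper19.AlgP Groth.Agent.Helper19.ProdAlg

variable {S : Scheme.{u}}

theorem isQuasiCompact_of_equiv {𝒳 : BasedCategory.{v, w} (Over S)} {𝒴 : BasedCategory.{v', w'} (Over S)}
    (e : 𝒳 ⥤ᵇ 𝒴) (he : IsEquivOver e) (h : IsQuasiCompact 𝒳) : IsQuasiCompact 𝒴 := by
  obtain ⟨U, x, hU, hx₁, hx₂⟩ := h
  exact ⟨U, BasedFunctor.comp x e, hU, (repByAlgSpWith_comp_equiv x e he).2 hx₁,
    (repByAlgSpWith_comp_equiv x e he).2 hx₂⟩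

/-- S12983: quasi-compact morphisms compose. -/
theorem isQuasiCompactMor_comp {𝒳 𝒴 𝒵 : AlgSt.Cat S} (h𝒴 : IsAlgStack Scheme.fppfPrecoverage 𝒴)
    (h𝒵 : IsAlgStack Scheme.fppfPrecoverage 𝒵) (f : 𝒳 ⥤ᵇ 𝒴) (g : 𝒴 ⥤ᵇ 𝒵)
    (hf : IsQuasiCompactMor Scheme.fppfPrecoverage f) (hg : IsQuasiCompactMor Scheme.fppfPrecoverage g) :
    IsQuasiCompactMor Scheme.fppfPrecoverage (BasedFunctor.comp f g) := by
  intro 𝒲 h𝒲 hqc h
  have h1 : IsQuasiCompact (fp h g) := hg 𝒲 h𝒲 hqc h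
  have h2 : IsAlgStack Scheme.fppfPrecoverage (fp h g) :=
    isAlgStack_fp h𝒵.isStack h𝒵.diag h𝒲 h𝒴 h g
  have h3 : IsQuasiCompact (fp (fpSnd h g) f) := hf (fp h g) h2 h1 (fpSnd h g)
  exact isQuasiCompact_of_equiv (pasteRInv h g f) (isEquivOver_pasteRInv h g f) h3

end Groth.Agent.Helper19.QcMor
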