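import Mathlib
import Groth.Agent.Lib.Helper19.StPtsQc
import Groth.Agent.Lib.Helper19.PbRec

/-!
# Points of algebraic stacks: base change of a representable morphism to an algebraic space (helper19)
-/

set_option autoImplicit false
set_option backward.isDefEq.respectTransparency false

universe w₃ v₃ w' v' w v u

open CategoryTheory CategoryTheory.Limits Functor AlgebraicGeometry Opposite

namespace Groth.Agent.Helper19.StPts

open FibCat AlgSt Stk Groth.Agent.Helper19.FibLib Groth.Agent.Helper19.StLib Groth.Agent.Helper19.DiagAlgSp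
  Groth.Agent.Helper19.PshSt Groth.Agent.Helper19.AlgP Groth.Agent.Helper19.ProdAlg
  Groth.Agent.Helper19.ImmLib Groth.Agent.Helper19.SpProps Groth.Agent.Helper19.ChartOver
  Groth.Agent.Helper16.AS Groth.Agent.Helper19.CancelLib Groth.Agent.Helper19.QcLib
  Groth.Agent.Helper19.SmLocLib Groth.Agent.Helper19.AlgStRep Groth.Agent.Helper19.PshLib
  Groth.Agent.Helper19.CompLib

variable {S : Scheme.{u}}

section kappaSp

variable {𝒲 : BasedCategory.{v, w} (Over S)} (A : AlgSp.Space S) (eA : ofSp A.obj ⥤ᵇ 𝒲)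
  (heA : IsEquivOver eA) (Z : AlgSp.Space S) (π : 𝒲 ⥤ᵇ ofSp Z.obj) (m : A.obj ⟶ Z.obj)
  (θ : BasedFunctor.comp eA π ≅ ofSpMap m)

include θ in
theorem map_kappa_sp (α : AlgSp.Points A.obj) :
    Points.map π (kappa A eA heA α) = ptsHomeo Z (AlgSp.Points.map m α) := by
  rw [kappa_apply, ← map_comp, map_congr θ, ptsHomeo_apply, ptsMap_map]

end kappaSp

section sq

variable {𝒳 𝒴 : AlgSt.Cat S} (f : 𝒳 ⥤ᵇ 𝒴) {T : Over S} (t : overCat T ⥤ᵇ 𝒴) {A : AlgSp.Sp S}
  (eA : ofSp A ⥤ᵇ fp t f) (heA : IsEquivOver eA) {Z : AlgSp.Sp S}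
  (g : Z ⟶ (AlgSp.yon S).obj T)

/-- the functor of a map from a sheaf to a representable one. -/
noncomputable def sqβ : ofSp Z ⥤ᵇ overCat T := BasedFunctor.comp (ofSpMap g) (toOverCat T)

theorem spMapOfOver_sqβ : spMapOfOver (sqβ g) = g := by
  rw [sqβ, spMapOfOver_ofSpMap_comp, spMapOfOver_toOverCat, Category.comp_id]

/-- the comparison equivalence. -/
noncomputable def sqE :
    ofSp (pullback (spMapOfOver (sqβ g)) (spMapOfOver (BasedFunctor.comp eA (fpFst t f)))) ⥤ᵇ
      fp (BasedFunctor.comp (sqβ g) t) f :=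
  BasedFunctor.comp (Groth.Agent.Helper19.PbRec.Φ (BasedFunctor.comp eA (fpFst t f)) (sqβ g))
    (BasedFunctor.comp
      (fpMap (F := sqβ g) (G := BasedFunctor.comp eA (fpFst t f)) (F' := sqβ g) (G' := fpFst t f)
        (BasedFunctor.id _) eA (BasedFunctor.id _) (Iso.refl _) (Iso.refl _))
      (pasteLInv (sqβ g) t f))

theorem sqE_comp_fpFst : BasedFunctor.comp (sqE f t eA g) (fpFst (BasedFunctor.comp (sqβ g) t) f) =
    ofSpMap (pullback.fst (spMapOfOver (sqβ g)) (spMapOfOver (BasedFunctor.comp eA (fpFst t f)))) := rfl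

include heA in
theorem isEquivOver_sqE : IsEquivOver (sqE f t eA g) := by
  refine IsEquivOver.comp (Groth.Agent.Helper19.PbRec.isEquivOver_Φ _ _) (IsEquivOver.comp ?_
    (isEquivOver_pasteLInv (sqβ g) t f))
  have : (BasedFunctor.id (overCat T)).toFunctor.Full := (inferInstance : (𝟭 _).Full)
  have : (BasedFunctor.id (overCat T)).toFunctor.Faithful := (inferInstance : (𝟭 _).Faithful)
  exact isEquivOver_fpMap _ _ _ _ _ (isEquivOver_id _) heA

include heA in
/-- **(Sq)** the base change of `fpFst t f` to a sheaf `Z` over `h_T` is the second projection of any cartesian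
square of sheaves. -/
theorem exists_equiv_of_isPullback {Z' : AlgSp.Sp S} (fst : Z' ⟶ A) (snd : Z' ⟶ Z)
    (sq : IsPullback fst snd (spMapOfOver (BasedFunctor.comp eA (fpFst t f))) g) :
    ∃ (E : ofSp Z' ⥤ᵇ fp (BasedFunctor.comp (sqβ g) t) f), IsEquivOver E ∧
      Nonempty (BasedFunctor.comp E (fpFst (BasedFunctor.comp (sqβ g) t) f) ≅ ofSpMap snd) := by
  have sq' : IsPullback snd fst (spMapOfOver (sqβ g))
      (spMapOfOver (BasedFunctor.comp eA (fpFst t f))) := by
    rw [spMapOfOver_sqβ]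
    exact sq.flip
  let j := sq'.isoPullback
  have hj : j.hom ≫ pullback.fst _ _ = snd := sq'.isoPullback_hom_fst
  have hje : IsEquivOver (ofSpMap j.hom) :=
    isEquivOver_ofPshMap_iso ((sheafToPresheaf (AlgSp.J S) (Type (u + 1))).mapIso j)
  refine ⟨BasedFunctor.comp (ofSpMap j.hom) (sqE f t eA g), IsEquivOver.comp hje (isEquivOver_sqE f t eA heA g), ⟨?_⟩⟩
  change BasedFunctor.comp (ofSpMap j.hom)
    (BasedFunctor.comp (sqE f t eA g) (fpFst (BasedFunctor.comp (sqβ g) t) f)) ≅ _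
  rw [sqE_comp_fpFst]
  exact ofPshMapComp _ _ ≪≫ eqToIso (by rw [← hj]; rfl)

end sq

end Groth.Agent.Helper19.StPts
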