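import Mathlib
import Groth.Agent.Lib.Helper19.StPtsSq

/-!
# Points of algebraic stacks: universally open, closed, injective, submersive morphisms and universal
homeomorphisms, for representable morphisms (helper19)
-/

set_option autoImplicit false
set_option backward.isDefEq.respectTransparency false

universe w₃ v₃ w' v' w v u

open CategoryTheory CategoryTheory.Limits Functor AlgebraicGeometry Opposite

namespace Groth.Agent.Helper19.StPts

open FibCat AlgSt Stk Groth.Agent.Helper19.FibLib Groth.Agent.Helper19.StLib Groth.Agent.Helper19.DiagAlgSp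
  Groth.Agent.Helper19.PshSt Groth.Agent.Helper19.AlgP Groth.Agent.Helper19.ProdAlg
  Groth.Agent.Helper19.ImmLib Groth.Agent.Helper19.SpProps Groth.Agent.Helper19.ChartOver
  Groth.Agent.Helper16.AS Groth.Agent.Helper19.CancelLib Groth.Agent.Helper19.QcLib
  Groth.Agent.Helper19.SmLocLib Groth.Agent.Helper19.AlgStRep Groth.Agent.Helper19.PshLib
  Groth.Agent.Helper19.CompLib

variable {S : Scheme.{u}}

/-- a property of maps of topological spaces which is invariant under homeomorphisms. -/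
def TopInv (Qt : ∀ {X Y : Type (u + 1)} [TopologicalSpace X] [TopologicalSpace Y], (X → Y) → Prop) : Prop :=
  ∀ {X Y X' Y' : Type (u + 1)} [TopologicalSpace X] [TopologicalSpace Y] [TopologicalSpace X']
    [TopologicalSpace Y'] (h₁ : X' ≃ₜ X) (h₂ : Y' ≃ₜ Y) (f : X → Y) (f' : X' → Y'),
    (∀ a, f (h₁ a) = h₂ (f' a)) → (Qt f ↔ Qt f')

/-- a property of maps of topological spaces which, for maps on points of morphisms of algebraic stacks, can be tested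
after base change to the smooth charts of the target. -/
def ChartLocal (S : Scheme.{u})
    (Qt : ∀ {X Y : Type (u + 1)} [TopologicalSpace X] [TopologicalSpace Y], (X → Y) → Prop) : Prop :=
  ∀ {𝒲 𝒵 : AlgSt.Cat S}, IsAlgStack Scheme.fppfPrecoverage 𝒲 → IsAlgStack Scheme.fppfPrecoverage 𝒵 →
    ∀ π : 𝒲 ⥤ᵇ 𝒵, (∀ (V : Over S) (z : overCat V ⥤ᵇ 𝒵), RepByAlgSpWith (AlgSp.LocP @Smooth) z →
      Qt (Points.map (fpFst z π))) → Qt (Points.map π)

section generic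

variable {Qt : ∀ {X Y : Type (u + 1)} [TopologicalSpace X] [TopologicalSpace Y], (X → Y) → Prop}

/-- (⇐) of S12826--S12830. -/
theorem repByAlgSpWith_univSp_of_forall (hQt : TopInv Qt) {𝒳 𝒴 : AlgSt.Cat S} (f : 𝒳 ⥤ᵇ 𝒴)
    (hf : RepByAlgSp1 f)
    (h : ∀ (𝒵 : AlgSt.Cat S), IsAlgStack Scheme.fppfPrecoverage 𝒵 → ∀ g : 𝒵 ⥤ᵇ 𝒴,
      Qt (Points.map (fpFst g f))) :
    RepByAlgSpWith (AlgSp.UnivSp (fun _ _ m => Qt (AlgSp.Points.map m))) f := by
  intro T t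
  obtain ⟨A, eA, heA⟩ := hf T t
  refine ⟨A, eA, heA, ?_⟩
  intro Z Z' hZ g fst snd sq
  obtain ⟨E, hE, ⟨θ⟩⟩ := exists_equiv_of_isPullback f t eA heA g fst snd sq
  have hZ' : AlgSp.IsAlgSpace Z' :=
    Groth.Agent.Helper15.isAlgSpace_of_isPullback (AlgSp.IsAlgSpace.yon_obj T).diag A.property hZ sq
  have h1 := h (ofSp Z) (isAlgStack_ofSp ⟨Z, hZ⟩) (BasedFunctor.comp (sqβ g) t)
  exact (hQt (kappa ⟨Z', hZ'⟩ E hE) (ptsHomeo ⟨Z, hZ⟩) _ _
    (map_kappa_sp ⟨Z', hZ'⟩ E hE ⟨Z, hZ⟩ _ snd θ)).1 h1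

/-- (⇒) of S12826--S12830. -/
theorem forall_of_repByAlgSpWith_univSp (hQt : TopInv Qt) (hloc : ChartLocal S Qt) {𝒳 𝒴 : AlgSt.Cat S}
    (h𝒳 : IsAlgStack Scheme.fppfPrecoverage 𝒳) (h𝒴 : IsAlgStack Scheme.fppfPrecoverage 𝒴) (f : 𝒳 ⥤ᵇ 𝒴)
    (hf : RepByAlgSpWith (AlgSp.UnivSp (fun _ _ m => Qt (AlgSp.Points.map m))) f)
    (𝒵 : AlgSt.Cat S) (h𝒵 : IsAlgStack Scheme.fppfPrecoverage 𝒵) (g : 𝒵 ⥤ᵇ 𝒴) :
    Qt (Points.map (fpFst g f)) := by
  have hfp : IsAlgStack Scheme.fppfPrecoverage (fp g f) := isAlgStack_fp h𝒴.isStack h𝒴.diag h𝒵 h𝒳 g f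
  refine hloc hfp h𝒵 _ (fun V z _ => ?_)
  obtain ⟨A, eA, heA, ha⟩ := hf V (BasedFunctor.comp z g)
  have ha' : Qt (AlgSp.Points.map (spMapOfOver (BasedFunctor.comp eA (fpFst (BasedFunctor.comp z g) f)))) :=
    ha (AlgSp.IsAlgSpace.yon_obj V) (𝟙 _) (𝟙 _) _ (IsPullback.id_horiz _)
  have h1 : Qt (Points.map (fpFst (BasedFunctor.comp z g) f)) :=
    (hQt (kappa A eA heA) (spPt V) _ _ (map_kappa A eA heA _)).2 ha'
  refine (hQt (mapHomeo (pasteLInv z g f) (isEquivOver_pasteLInv z g f)) (Homeomorph.refl _)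
    (Points.map (fpFst (BasedFunctor.comp z g) f)) (Points.map (fpFst z (fpFst g f))) (fun a => ?_)).1 h1
  rw [mapHomeo_apply, ← map_comp]
  rfl

end generic

theorem topInv_isOpenMap : TopInv.{u} (fun {X Y} [TopologicalSpace X] [TopologicalSpace Y] (f : X → Y) => IsOpenMap f) :=
  fun h₁ h₂ f f' hc => isOpenMap_conj_iff h₁ h₂ f f' hc

theorem topInv_isClosedMap : TopInv.{u} (fun {X Y} [TopologicalSpace X] [TopologicalSpace Y] (f : X → Y) => IsClosedMap f) :=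
  fun h₁ h₂ f f' hc => isClosedMap_conj_iff h₁ h₂ f f' hc

theorem topInv_injective : TopInv.{u} (fun {X Y} [TopologicalSpace X] [TopologicalSpace Y] (f : X → Y) => Function.Injective f) :=
  fun h₁ h₂ f f' hc => injective_conj_iff h₁ h₂ f f' hc

theorem topInv_isQuotientMap : TopInv.{u} (fun {X Y} [TopologicalSpace X] [TopologicalSpace Y] (f : X → Y) => Topology.IsQuotientMap f) :=
  fun h₁ h₂ f f' hc => isQuotientMap_conj_iff h₁ h₂ f f' hc

theorem topInv_isHomeomorph : TopInv.{u} (fun {X Y} [TopologicalSpace X] [TopologicalSpace Y] (f : X → Y) => IsHomeomorph f) :=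
  fun h₁ h₂ f f' hc => isHomeomorph_conj_iff h₁ h₂ f f' hc

/-- an atlas is a quotient map on points. -/
theorem isQuotientMap_map_atlas {𝒵 : AlgSt.Cat S} (h𝒵 : IsAlgStack Scheme.fppfPrecoverage 𝒵) (V : Over S)
    (z : overCat V ⥤ᵇ 𝒵) (hz₁ : RepByAlgSpWith (AlgSp.LocP @Smooth) z)
    (hz₂ : RepByAlgSpWith AlgSp.IsSurjectiveMor z) : Topology.IsQuotientMap (Points.map z) :=
  IsOpenMap.isQuotientMap (isOpenMap_map_of_flat_lfp (isAlgStack_overCat V) h𝒵.isStack.1 z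
    (repByAlgSpWith_flat_of_smooth z hz₁) (repByAlgSpWith_lfp_of_smooth z hz₁))
    (continuous_points_map h𝒵 z) (isSurjective_of_repByAlgSpWith h𝒵.isStack.1 z hz₂)

theorem map_fpSnd_eq {𝒲 𝒵 𝒱 : AlgSt.Cat S} (π : 𝒲 ⥤ᵇ 𝒵) (z : 𝒱 ⥤ᵇ 𝒵) (w : Points (fp z π)) :
    Points.map π (Points.map (fpSnd z π) w) = Points.map z (Points.map (fpFst z π) w) := by
  rw [← map_comp, ← map_comp]
  exact (congrFun (map_congr (fpIso z π)) w).symm

theorem chartLocal_isOpenMap :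
    ChartLocal S (fun {X Y} [TopologicalSpace X] [TopologicalSpace Y] (f : X → Y) => IsOpenMap f) :=
  fun h𝒲 h𝒵 π h => isOpenMap_map_of_charts h𝒲 h𝒵.isStack.1 π h

theorem chartLocal_isClosedMap :
    ChartLocal S (fun {X Y} [TopologicalSpace X] [TopologicalSpace Y] (f : X → Y) => IsClosedMap f) := by
  intro 𝒲 𝒵 h𝒲 h𝒵 π h
  obtain ⟨V, z, hz₁, hz₂⟩ := h𝒵.atlas
  have hq := isQuotientMap_map_atlas h𝒵 V z hz₁ hz₂
  intro C hC
  rw [← hq.isClosed_preimage, preimage_image_map h𝒲.isStack.1 h𝒵.isStack.1 (isFibGrpd_overCat V) π z C]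
  exact h V z hz₁ _ (hC.preimage (continuous_points_map h𝒲 (fpSnd z π)))

theorem chartLocal_injective :
    ChartLocal S (fun {X Y} [TopologicalSpace X] [TopologicalSpace Y] (f : X → Y) => Function.Injective f) := by
  intro 𝒲 𝒵 h𝒲 h𝒵 π h
  obtain ⟨V, z, hz₁, hz₂⟩ := h𝒵.atlas
  intro w₁ w₂ e
  obtain ⟨v, hv⟩ := isSurjective_of_repByAlgSpWith h𝒵.isStack.1 z hz₂ (Points.map π w₁)
  obtain ⟨a₁, ha₁, hb₁⟩ := exists_points_fp_of_map_eq h𝒲.isStack.1 h𝒵.isStack.1 (isFibGrpd_overCat V)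
    π z v w₁ hv
  obtain ⟨a₂, ha₂, hb₂⟩ := exists_points_fp_of_map_eq h𝒲.isStack.1 h𝒵.isStack.1 (isFibGrpd_overCat V)
    π z v w₂ (hv.trans e)
  have := h V z hz₁ (ha₁.trans ha₂.symm)
  rw [← hb₁, ← hb₂, this]

theorem chartLocal_isQuotientMap :
    ChartLocal S (fun {X Y} [TopologicalSpace X] [TopologicalSpace Y] (f : X → Y) =>
      Topology.IsQuotientMap f) := by
  intro 𝒲 𝒵 h𝒲 h𝒵 π h
  obtain ⟨V, z, hz₁, hz₂⟩ := h𝒵.atlas
  have hq := isQuotientMap_map_atlas h𝒵 V z hz₁ hz₂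
  have hπc := continuous_points_map h𝒵 π
  have hQ := h V z hz₁
  have hs : Function.Surjective (Points.map π) := by
    intro y
    obtain ⟨v, rfl⟩ := hq.surjective y
    obtain ⟨w, rfl⟩ := hQ.surjective v
    exact ⟨_, map_fpSnd_eq π z w⟩
  refine ⟨.of_isOpen_preimage_iff_isOpen fun D => ⟨fun hD => ?_, fun hD => hD.preimage hπc⟩, hs⟩
  rw [← hq.isOpen_preimage, ← hQ.isOpen_preimage]
  have e : Points.map (fpFst z π) ⁻¹' (Points.map z ⁻¹' D) =
      Points.map (fpSnd z π) ⁻¹' (Points.map π ⁻¹' D) := by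
    ext w
    simp only [Set.mem_preimage]
    rw [map_fpSnd_eq]
  rw [e]
  exact hD.preimage (continuous_points_map h𝒲 (fpSnd z π))

theorem chartLocal_isHomeomorph :
    ChartLocal S (fun {X Y} [TopologicalSpace X] [TopologicalSpace Y] (f : X → Y) => IsHomeomorph f) := by
  intro 𝒲 𝒵 h𝒲 h𝒵 π h
  exact ⟨continuous_points_map h𝒵 π,
    chartLocal_isOpenMap h𝒲 h𝒵 π (fun V z hz => (h V z hz).isOpenMap),
    chartLocal_injective h𝒲 h𝒵 π (fun V z hz => (h V z hz).injective),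
    (chartLocal_isQuotientMap h𝒲 h𝒵 π (fun V z hz => (h V z hz).isQuotientMap)).surjective⟩

end Groth.Agent.Helper19.StPts
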