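import Mathlib
import Groth.Agent.Lib.Helper19.StLib2
import Groth.Agent.Lib.Helper19.YonLib

/-!
# Monomorphisms of categories over `(Sch/S)` (helper19)
-/

set_option autoImplicit false
set_option backward.isDefEq.respectTransparency false

universe w₄ v₄ w₃ v₃ w' v' w v u

open CategoryTheory CategoryTheory.Limits Functor AlgebraicGeometry Opposite

namespace Groth.Agent.Helper19.PshSt

open FibCat AlgSt Stk Groth.Agent.Helper19.FibLib Groth.Agent.Helper19.StLib Groth.Agent.Helper19.PshLib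

variable {S : Scheme.{u}}

theorem injective_app_of_mono {F G : AlgSp.Sp S} (f : F ⟶ G) [Mono f] (T : (Over S)ᵒᵖ) :
    Function.Injective (f.hom.app T) := by
  have h1 : Mono f.hom := (Sheaf.Hom.mono_iff_presheaf_mono _ _ f).1 inferInstance
  have h2 : Mono (f.hom.app T) := inferInstance
  exact (mono_iff_injective _).1 h2

/-- A functor from the category of a sheaf `F` to `(Sch/U)` whose map of sheaves `F ⟶ h_U` is a monomorphism is
full. -/
theorem full_of_mono_spMapOfOver {F : AlgSp.Sp S} {U : Over S} (Φ : ofSp F ⥤ᵇ overCat U)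
    (hΦ : Mono (spMapOfOver Φ)) : Φ.toFunctor.Full := by
  constructor
  intro s s' h
  let g : s.base ⟶ s'.base := eqToHom (Φ.w_obj s).symm ≫ h.left ≫ eqToHom (Φ.w_obj s')
  have hsec : F.obj.map g.op s'.sec = s.sec := by
    apply injective_app_of_mono (spMapOfOver Φ) (op s.base)
    rw [spMapOfOver_app, spMapOfOver_app]
    apply ULift.ext
    show secHom Φ ⟨s.base, F.obj.map g.op s'.sec⟩ = secHom Φ ⟨s.base, s.sec⟩
    have h1 := secHom_comp Φ (eltHomMk F.obj g s'.sec)
    have h2 : secHom Φ ⟨s'.base, s'.sec⟩ = eqToHom (Φ.w_obj s').symm ≫ (Φ.obj s').hom := rfl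
    have h3 : secHom Φ ⟨s.base, s.sec⟩ = eqToHom (Φ.w_obj s).symm ≫ (Φ.obj s).hom := rfl
    rw [← h1, h3]
    show g ≫ secHom Φ ⟨s'.base, s'.sec⟩ = _
    rw [h2]
    simp only [g, Category.assoc, eqToHom_trans_assoc, eqToHom_refl, Category.id_comp]
    congr 1
    exact Over.w h
  refine ⟨⟨g, hsec⟩, ?_⟩
  apply Over.OverMorphism.ext
  have i1 : (overCat U).p.IsHomLift ((ofSp F).p.map (⟨g, hsec⟩ : s ⟶ s')) (Φ.map (⟨g, hsec⟩ : s ⟶ s')) :=
    BasedFunctor.preserves_isHomLift Φ _ _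
  have h4 : (Φ.map (⟨g, hsec⟩ : s ⟶ s')).left = eqToHom (Φ.w_obj s) ≫ g ≫ eqToHom (Φ.w_obj s').symm :=
    IsHomLift.fac' (overCat U).p ((ofSp F).p.map (⟨g, hsec⟩ : s ⟶ s')) (Φ.map (⟨g, hsec⟩ : s ⟶ s'))
  rw [h4]
  simp [g]

/-- If `π : 𝒲 ⟶ (Sch/U)` is represented by an algebraic space which is a monomorphism to `h_U`, then `π` is full. -/
theorem full_of_repOver_mono {𝒲 : BasedCategory.{v, w} (Over S)} {U : Over S} (π : 𝒲 ⥤ᵇ overCat U)
    (h : RepOver (MorphismProperty.monomorphisms (AlgSp.Sp S)) π) : π.toFunctor.Full := by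
  obtain ⟨F, e, he, hm⟩ := h
  have hm' : Mono (spMapOfOver (BasedFunctor.comp e π)) := hm
  have h1 : (BasedFunctor.comp e π).toFunctor.Full := full_of_mono_spMapOfOver _ hm'
  obtain ⟨G, hG, -, ⟨ε⟩⟩ := IsEquivOver.exists_inv he
  have hGe : G.toFunctor.IsEquivalence := IsEquivOver.isEquivalence hG
  have h2 : (G.toFunctor ⋙ (BasedFunctor.comp e π).toFunctor).Full := inferInstance
  have i : G.toFunctor ⋙ (BasedFunctor.comp e π).toFunctor ≅ π.toFunctor :=
    toNatIso (eqToIso (BasedFunctor.comp_assoc G e π).symm ≪≫ whiskerRightIso ε π ≪≫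
      eqToIso (BasedFunctor.id_comp π))
  exact Functor.Full.of_iso i

end Groth.Agent.Helper19.PshSt
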