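import Mathlib
import Groth.Agent.Lib.Helper19.StPtsUniv
import Groth.Agent.S12774

/-!
# Points of algebraic stacks: injectivity and the diagonal (helper19)
-/

set_option autoImplicit false
set_option backward.isDefEq.respectTransparency false

universe w₃ v₃ w' v' w v u

open CategoryTheory CategoryTheory.Limits Functor AlgebraicGeometry Opposite

namespace Groth.Agent.Helper19.StPts

open FibCat AlgSt Stk Groth.Agent.Helper19.FibLib Groth.Agent.Helper19.StLib Groth.Agent.Helper19.DiagAlgSp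
  Groth.Agent.Helper19.PshSt Groth.Agent.Helper19.AlgP Groth.Agent.Helper19.ProdAlg
  Groth.Agent.Helper19.ImmLib Groth.Agent.Helper19.SpProps Groth.Agent.Helper19.ChartOver
  Groth.Agent.Helper16.AS Groth.Agent.Helper19.CancelLib Groth.Agent.Helper19.QcLib
  Groth.Agent.Helper19.SmLocLib Groth.Agent.Helper19.AlgStRep Groth.Agent.Helper19.PshLib
  Groth.Agent.Helper19.CompLib

variable {S : Scheme.{u}}

section general

variable {𝒳 : BasedCategory.{v, w} (Over S)} {𝒴 : BasedCategory.{v', w'} (Over S)}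
  {𝒵 : BasedCategory.{v₃, w₃} (Over S)}

/-- a full functor between categories fibred in groupoids is injective on points. -/
theorem injective_map_of_full (h𝒳 : IsFibGrpd 𝒳.p) (h𝒴 : IsFibGrpd 𝒴.p) (j : 𝒳 ⥤ᵇ 𝒴)
    [j.toFunctor.Full] : Function.Injective (Points.map j) := by
  intro x₁ x₂ h
  obtain ⟨p, rfl⟩ := Points.mk_surjective x₁
  obtain ⟨q, rfl⟩ := Points.mk_surjective x₂
  rw [Points.map_mk, Points.map_mk, mk_eq_mk_iff h𝒴] at h
  obtain ⟨r, α, β, -⟩ := h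
  let a : pt r ⟶ pt p := baseHom (p := r) (q := p.map j) α
  let b : pt r ⟶ pt q := baseHom (p := r) (q := q.map j) β
  have hα : 𝒴.p.IsHomLift a α := baseHom_isHomLift (p := r) (q := p.map j) α
  have hβ : 𝒴.p.IsHomLift b β := baseHom_isHomLift (p := r) (q := q.map j) β
  obtain ⟨x₁', φ₁, hφ₁⟩ := exists_lift_fpt h𝒳 p a
  obtain ⟨x₂', φ₂, hφ₂⟩ := exists_lift_fpt h𝒳 q b
  have hx₁' : 𝒳.p.obj x₁' = pt r := IsHomLift.domain_eq 𝒳.p a φ₁
  have h1 : 𝒴.p.IsHomLift a (j.map φ₁) := inferInstance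
  have h2 : 𝒴.p.IsHomLift b (j.map φ₂) := inferInstance
  obtain ⟨χ₁, -, -, hχ₁i⟩ := exists_iso_of_lifts h𝒴 a α (j.map φ₁)
  obtain ⟨χ₂, -, -, hχ₂i⟩ := exists_iso_of_lifts h𝒴 b β (j.map φ₂)
  obtain ⟨γ, -⟩ := j.toFunctor.map_surjective (χ₁ ≫ inv χ₂)
  let r' : FPt 𝒳 := { K := r.K, str := r.str, obj := x₁', lies := hx₁' }
  exact Points.sound ⟨r', φ₁, γ ≫ φ₂, trivial⟩

/-- a functor whose diagonal is surjective on points is injective on points. -/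
theorem injective_of_isSurjective_diag (h𝒳 : IsFibGrpd 𝒳.p) (h𝒴 : IsFibGrpd 𝒴.p) (f : 𝒳 ⥤ᵇ 𝒴)
    (h : IsSurjective (diag f)) : Function.Injective (Points.map f) := by
  intro w₁ w₂ e
  obtain ⟨u, hu₁, hu₂⟩ := exists_points_fp_of_map_eq h𝒳 h𝒴 h𝒳 f f w₁ w₂ e
  obtain ⟨w, rfl⟩ := h u
  rw [← hu₁, ← hu₂, ← map_comp, ← map_comp]
  rfl

end general

/-- surjectivity of the diagonal is stable under base change. -/
theorem isSurjective_diag_fpFst {𝒳 𝒴 𝒵 : AlgSt.Cat S} (h𝒳 : IsFibGrpd 𝒳.p) (h𝒴 : IsFibGrpd 𝒴.p) (h𝒵 : IsFibGrpd 𝒵.p)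
    (f : 𝒳 ⥤ᵇ 𝒴) (g : 𝒵 ⥤ᵇ 𝒴) (h : IsSurjective (diag f)) : IsSurjective (diag (fpFst g f)) := by
  have hP : IsFibGrpd (fp g f).p := Groth.Agent.S6401.result g f h𝒵 h𝒳 h𝒴
  have hPP : IsFibGrpd (fp (fpFst g f) (fpFst g f)).p := Groth.Agent.S6401.result _ _ hP hP h𝒵
  have hXX : IsFibGrpd (fp f f).p := Groth.Agent.S6401.result f f h𝒳 h𝒳 h𝒴
  have h1 : Function.Surjective (Points.map (fpFst (dbcN f g) (diag f))) :=
    isSurjective_fpFst h𝒳 hXX hPP (diag f) (dbcN f g) h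
  intro u
  obtain ⟨w, hw⟩ := h1 u
  obtain ⟨w', rfl⟩ := (mapHomeo (dbcΦ f g) (isEquivOver_dbcΦ f g)).surjective w
  refine ⟨w', ?_⟩
  rw [← hw, mapHomeo_apply, ← map_comp]
  rfl

/-- S12831. -/
theorem isUnivInjective_iff_isSurjective_diag {𝒳 𝒴 : AlgSt.Cat S}
    (h𝒳 : IsAlgStack Scheme.fppfPrecoverage 𝒳) (h𝒴 : IsAlgStack Scheme.fppfPrecoverage 𝒴) (f : 𝒳 ⥤ᵇ 𝒴) :
    IsUnivInjective Scheme.fppfPrecoverage f ↔ IsSurjective (diag f) := by
  constructor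
  · intro h w
    have hinj := h 𝒳 h𝒳 f
    refine ⟨Points.map (fpFst f f) w, hinj ?_⟩
    rw [← map_comp]
    exact map_id _
  · intro h 𝒵 h𝒵 g
    have hP : IsFibGrpd (fp g f).p := Groth.Agent.S6401.result g f h𝒵.isStack.1 h𝒳.isStack.1 h𝒴.isStack.1
    exact injective_of_isSurjective_diag hP h𝒵.isStack.1 (fpFst g f)
      (isSurjective_diag_fpFst h𝒳.isStack.1 h𝒴.isStack.1 h𝒵.isStack.1 f g h)

/-- S12848. -/
theorem injective_map_of_isMono {𝒳 𝒴 : AlgSt.Cat S} (h𝒳 : IsFibGrpd 𝒳.p) (h𝒴 : IsFibGrpd 𝒴.p)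
    (f : 𝒳 ⥤ᵇ 𝒴) (hf : IsMono f) : Function.Injective (Points.map f) := by
  have := (Groth.Agent.S12774.result h𝒳 h𝒴 f hf).1
  exact injective_map_of_full h𝒳 h𝒴 f

end Groth.Agent.Helper19.StPts
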