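import Mathlib
import Groth.Agent.Lib.Helper19.StPtsInj
import Groth.Agent.Lib.Helper19.QcMor

/-!
# Quasi-compact morphisms of algebraic stacks through points (helper19)
-/

set_option autoImplicit false
set_option backward.isDefEq.respectTransparency false

universe w₃ v₃ w' v' w v u

open CategoryTheory CategoryTheory.Limits Functor AlgebraicGeometry Opposite

namespace Groth.Agent.Helper19.QcPts

open FibCat AlgSt Stk Groth.Agent.Helper19.FibLib Groth.Agent.Helper19.StLib Groth.Agent.Helper19.DiagAlgSp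
  Groth.Agent.Helper19.PshSt Groth.Agent.Helper19.AlgP Groth.Agent.Helper19.ProdAlg
  Groth.Agent.Helper19.ImmLib Groth.Agent.Helper19.SpProps Groth.Agent.Helper19.ChartOver
  Groth.Agent.Helper16.AS Groth.Agent.Helper19.CancelLib Groth.Agent.Helper19.QcLib
  Groth.Agent.Helper19.SmLocLib Groth.Agent.Helper19.AlgStRep Groth.Agent.Helper19.PshLib
  Groth.Agent.Helper19.CompLib Groth.Agent.Helper19.StPts Groth.Agent.Helper19.QcMor

variable {S : Scheme.{u}}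

/-- S12858. -/
theorem isQuasiCompact_of_isSurjective {𝒰 𝒳 : AlgSt.Cat S} (h𝒰 : IsAlgStack Scheme.fppfPrecoverage 𝒰)
    (h𝒳 : IsAlgStack Scheme.fppfPrecoverage 𝒳) (f : 𝒰 ⥤ᵇ 𝒳) (hf : IsSurjective f)
    (h : IsQuasiCompact 𝒰) : IsQuasiCompact 𝒳 := by
  have h1 : CompactSpace (Points 𝒰) := compactSpace_points_of_isQuasiCompact h𝒰 h
  have hc : Continuous (Points.map f) := continuous_points_map h𝒳 f
  have h2 : CompactSpace (Points 𝒳) := by
    constructor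
    rw [← Set.range_eq_univ.2 hf]
    exact isCompact_range hc
  exact isQuasiCompact_of_compactSpace_points h𝒳

/-- S12985. -/
theorem isQuasiCompactMor_of_isSurjective_of_triangle {𝒳 𝒴 𝒵 : AlgSt.Cat S}
    (h𝒳 : IsAlgStack Scheme.fppfPrecoverage 𝒳) (h𝒴 : IsAlgStack Scheme.fppfPrecoverage 𝒴)
    (h𝒵 : IsAlgStack Scheme.fppfPrecoverage 𝒵) (f : 𝒳 ⥤ᵇ 𝒴) (p : 𝒳 ⥤ᵇ 𝒵) (q : 𝒴 ⥤ᵇ 𝒵)
    (e : BasedFunctor.comp f q ≅ p) (hf : IsSurjective f)
    (hp : IsQuasiCompactMor Scheme.fppfPrecoverage p) :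
    IsQuasiCompactMor Scheme.fppfPrecoverage q := by
  intro 𝒲 h𝒲 hqc g
  have h1 := hp 𝒲 h𝒲 hqc g
  have : (BasedFunctor.id 𝒵).toFunctor.Full := (inferInstance : (𝟭 _).Full)
  have : (BasedFunctor.id 𝒵).toFunctor.Faithful := (inferInstance : (𝟭 _).Faithful)
  have h2 : IsQuasiCompact (fp g (BasedFunctor.comp f q)) :=
    QcMor.isQuasiCompact_of_equiv
      (fpMap (F := g) (G := p) (F' := g) (G' := BasedFunctor.comp f q) (BasedFunctor.id _)
        (BasedFunctor.id _) (BasedFunctor.id _) (Iso.refl _) e.symm)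
      (isEquivOver_fpMap _ _ _ _ _ (isEquivOver_id _) (isEquivOver_id _)) h1
  have h3 : IsQuasiCompact (fp (fpSnd g q) f) :=
    QcMor.isQuasiCompact_of_equiv (pasteR g q f) (isEquivOver_pasteR g q f) h2
  have hA : IsAlgStack Scheme.fppfPrecoverage (fp g q) := isAlgStack_fp h𝒵.isStack h𝒵.diag h𝒲 h𝒴 g q
  have hB : IsAlgStack Scheme.fppfPrecoverage (fp (fpSnd g q) f) :=
    isAlgStack_fp h𝒴.isStack h𝒴.diag hA h𝒳 (fpSnd g q) f
  exact isQuasiCompact_of_isSurjective hB hA (fpFst (fpSnd g q) f)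
    (isSurjective_fpFst h𝒳.isStack.1 h𝒴.isStack.1 hA.isStack.1 f (fpSnd g q) hf) h3

/-- the second projection of a base change of a surjective functor is surjective. -/
theorem isSurjective_fpSnd {𝒳 𝒴 𝒵 : AlgSt.Cat S} (h𝒳 : IsFibGrpd 𝒳.p) (h𝒴 : IsFibGrpd 𝒴.p)
    (h𝒵 : IsFibGrpd 𝒵.p) (f : 𝒳 ⥤ᵇ 𝒴) (z : 𝒵 ⥤ᵇ 𝒴) (hz : IsSurjective z) : IsSurjective (fpSnd z f) := by
  intro x
  obtain ⟨v, hv⟩ := hz (Points.map f x)
  obtain ⟨w, -, hw⟩ := exists_points_fp_of_map_eq h𝒳 h𝒴 h𝒵 f z v x hv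
  exact ⟨w, hw⟩

/-- an algebraic space which is quasi-compact has a quasi-compact category. -/
theorem isQuasiCompact_ofSp (Z : AlgSp.Space S) (hZ : AlgSp.IsQuasiCompactSp Z.obj) :
    IsQuasiCompact (ofSp Z.obj) := by
  have h1 : CompactSpace (AlgSp.Points Z.obj) := Groth.Agent.Helper15.compactSpace_points_of_isQuasiCompactSp hZ
  have h2 : CompactSpace (Points (ofSp Z.obj)) := (ptsHomeo Z).compactSpace
  exact isQuasiCompact_of_compactSpace_points (isAlgStack_ofSp Z)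

/-- S12981 (⇒). -/
theorem isQuasiCompactMor_of_repByAlgSpWith {𝒳 𝒴 : AlgSt.Cat S}
    (h𝒳 : IsAlgStack Scheme.fppfPrecoverage 𝒳) (h𝒴 : IsAlgStack Scheme.fppfPrecoverage 𝒴) (f : 𝒳 ⥤ᵇ 𝒴)
    (hf : RepByAlgSpWith AlgSp.IsQuasiCompactMor f) : IsQuasiCompactMor Scheme.fppfPrecoverage f := by
  intro 𝒵 h𝒵 hqc g
  obtain ⟨V, z, hV, hz₁, hz₂⟩ := hqc
  have hP : IsAlgStack Scheme.fppfPrecoverage (fp g f) := isAlgStack_fp h𝒴.isStack h𝒴.diag h𝒵 h𝒳 g f
  obtain ⟨A, eA, heA, ha⟩ := hf V (BasedFunctor.comp z g)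
  have hA : AlgSp.IsQuasiCompactSp A.obj :=
    ha (AlgSp.IsAlgSpace.yon_obj V) ((Groth.Agent.Helper15.isQuasiCompactSp_yon_iff V).2 inferInstance)
      (𝟙 _) (𝟙 _) _ (IsPullback.id_horiz _)
  have h1 : CompactSpace (AlgSp.Points A.obj) := Groth.Agent.Helper15.compactSpace_points_of_isQuasiCompactSp hA
  have h2 : CompactSpace (Points (fp (BasedFunctor.comp z g) f)) := (kappa A eA heA).compactSpace
  have h3 : CompactSpace (Points (fp z (fpFst g f))) :=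
    (mapHomeo (pasteL z g f) (isEquivOver_pasteL z g f)).compactSpace
  have hs : Function.Surjective (Points.map (fpSnd z (fpFst g f))) :=
    isSurjective_fpSnd hP.isStack.1 h𝒵.isStack.1 (isFibGrpd_overCat V) (fpFst g f) z
      (isSurjective_of_repByAlgSpWith h𝒵.isStack.1 z hz₂)
  have h4 : CompactSpace (Points (fp g f)) := hs.compactSpace (continuous_points_map hP _)
  exact isQuasiCompact_of_compactSpace_points hP

/-- S12981 (⇐). -/
theorem repByAlgSpWith_of_isQuasiCompactMor {𝒳 𝒴 : AlgSt.Cat S}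
    (h𝒳 : IsAlgStack Scheme.fppfPrecoverage 𝒳) (h𝒴 : IsAlgStack Scheme.fppfPrecoverage 𝒴) (f : 𝒳 ⥤ᵇ 𝒴)
    (hf : RepByAlgSp1 f) (hq : IsQuasiCompactMor Scheme.fppfPrecoverage f) :
    RepByAlgSpWith AlgSp.IsQuasiCompactMor f := by
  intro T t
  obtain ⟨A, eA, heA⟩ := hf T t
  refine ⟨A, eA, heA, ?_⟩
  refine Groth.Agent.Helper15.isQuasiCompactMor_of_forall_affine _ (fun Z hZ g => ?_)
  have sq := IsPullback.of_hasPullback (spMapOfOver (BasedFunctor.comp eA (fpFst t f))) g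
  obtain ⟨E, hE, -⟩ := exists_equiv_of_isPullback f t eA heA g _ _ sq
  have hZ' : AlgSp.IsAlgSpace (pullback (spMapOfOver (BasedFunctor.comp eA (fpFst t f))) g) :=
    Groth.Agent.Helper15.isAlgSpace_of_isPullback (AlgSp.IsAlgSpace.yon_obj T).diag A.property
      (AlgSp.IsAlgSpace.yon_obj Z) sq
  have hZqc : IsQuasiCompact (ofSp ((AlgSp.yon S).obj Z)) :=
    isQuasiCompact_ofSp ⟨(AlgSp.yon S).obj Z, AlgSp.IsAlgSpace.yon_obj Z⟩
      ((Groth.Agent.Helper15.isQuasiCompactSp_yon_iff Z).2 inferInstance)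
  have h1 : IsQuasiCompact (fp (BasedFunctor.comp (sqβ g) t) f) :=
    hq (ofSp ((AlgSp.yon S).obj Z)) (isAlgStack_ofSp ⟨(AlgSp.yon S).obj Z, AlgSp.IsAlgSpace.yon_obj Z⟩)
      hZqc (BasedFunctor.comp (sqβ g) t)
  have hP : IsAlgStack Scheme.fppfPrecoverage (fp (BasedFunctor.comp (sqβ g) t) f) :=
    isAlgStack_fp h𝒴.isStack h𝒴.diag
      (isAlgStack_ofSp ⟨(AlgSp.yon S).obj Z, AlgSp.IsAlgSpace.yon_obj Z⟩) h𝒳 _ f
  have h2 : CompactSpace (Points (fp (BasedFunctor.comp (sqβ g) t) f)) :=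
    compactSpace_points_of_isQuasiCompact hP h1
  have h3 : CompactSpace (AlgSp.Points (pullback (spMapOfOver (BasedFunctor.comp eA (fpFst t f))) g)) :=
    (kappa ⟨_, hZ'⟩ E hE).symm.compactSpace
  exact Groth.Agent.Helper15.isQuasiCompactSp_of_compactSpace_points hZ'

/-- an open surjective map from a scheme onto a compact space is already surjective on a quasi-compact open. -/
theorem exists_compact_open_of_isOpenMap_surjective {X : Type*} [TopologicalSpace X] [CompactSpace X]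
    (U : Scheme.{u}) (c : U → X) (ho : IsOpenMap c) (hs : Function.Surjective c) :
    ∃ V : U.Opens, IsCompact (V : Set U) ∧ ∀ y, ∃ v ∈ V, c v = y := by
  have hcover : (Set.univ : Set X) ⊆ ⋃ O : U.affineOpens, c '' (O.1 : Set U) := by
    intro y _
    obtain ⟨v, rfl⟩ := hs y
    obtain ⟨_, ⟨O, hO, rfl⟩, hvO, -⟩ :=
      (U.isBasis_affineOpens).exists_subset_of_mem_open (Set.mem_univ v) isOpen_univ
    exact Set.mem_iUnion.2 ⟨⟨O, hO⟩, v, hvO, rfl⟩
  obtain ⟨t, ht⟩ := isCompact_univ.elim_finite_subcover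
    (fun O : U.affineOpens => c '' (O.1 : Set U)) (fun O => ho _ O.1.isOpen) hcover
  let V : U.Opens := ⨆ O ∈ t, O.1
  have hVc : IsCompact (V : Set U) := by
    have : (V : Set U) = ⋃ O ∈ t, (O.1 : Set U) := by
      simp [V]
    rw [this]
    exact t.isCompact_biUnion (fun O _ => O.2.isCompact)
  refine ⟨V, hVc, fun y => ?_⟩
  have hy := ht (Set.mem_univ y)
  simp only [Set.mem_iUnion] at hy
  obtain ⟨O, hOt, v, hvO, rfl⟩ := hy
  refine ⟨v, ?_, rfl⟩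
  simp only [V]
  exact (TopologicalSpace.Opens.mem_iSup).2 ⟨O, (TopologicalSpace.Opens.mem_iSup).2 ⟨hOt, hvO⟩⟩

/-- a quasi-compact scheme has a quasi-compact slice. -/
theorem isQuasiCompact_overCat (U : Over S) [CompactSpace ↥U.left] : IsQuasiCompact (overCat U) := by
  have : CompactSpace (Points (overCat U)) := (chartPt U).compactSpace
  exact isQuasiCompact_of_compactSpace_points (isAlgStack_overCat U)

/-- an open surjective morphism onto a quasi-compact stack is surjective on a quasi-compact smooth chart. -/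
theorem exists_compact_chart_surjective {𝒵' 𝒵 : AlgSt.Cat S}
    (h𝒵' : IsAlgStack Scheme.fppfPrecoverage 𝒵') (h𝒵 : IsAlgStack Scheme.fppfPrecoverage 𝒵)
    (hqc : IsQuasiCompact 𝒵) (π : 𝒵' ⥤ᵇ 𝒵) (ho : IsOpenMap (Points.map π))
    (hs : Function.Surjective (Points.map π)) :
    ∃ (U' : Over S) (x' : overCat U' ⥤ᵇ 𝒵'), CompactSpace ↥U'.left ∧
      RepByAlgSpWith (AlgSp.LocP @Smooth) x' ∧ IsSurjective (BasedFunctor.comp x' π) := by
  have : CompactSpace (Points 𝒵) := compactSpace_points_of_isQuasiCompact h𝒵 hqc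
  obtain ⟨U, u, hu₁, hu₂⟩ := h𝒵'.atlas
  have hus := surjective_ofChart_of_surjective h𝒵'.isStack.1 U u hu₂
  have huo := isOpenMap_ofChart_of_smooth h𝒵' U u hu₁
  obtain ⟨V, hVc, hV⟩ := exists_compact_open_of_isOpenMap_surjective U.left
    (Points.map π ∘ Points.ofChart u) (ho.comp huo) (hs.comp hus)
  let U' : Over S := Over.mk (V.ι ≫ U.hom)
  let g : U' ⟶ U := Over.homMk V.ι rfl
  have hge : Etale g.left := (inferInstance : Etale V.ι)
  have hU' : CompactSpace ↥U'.left := isCompact_iff_compactSpace.1 hVc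
  refine ⟨U', BasedFunctor.comp (overMap g) u, hU', smooth_overMap_comp u hu₁ g hge, ?_⟩
  intro y
  obtain ⟨v, hv, rfl⟩ := hV y
  refine ⟨chartPt U' ⟨v, hv⟩, ?_⟩
  rw [map_comp, ← ofChart_eq, ofChart_overMap]
  rfl

/-- a morphism is quasi-compact if its base change along a universally open and surjective morphism is. -/
theorem isQuasiCompactMor_of_fpFst_cover {𝒳 𝒴 𝒲 : AlgSt.Cat S}
    (h𝒳 : IsAlgStack Scheme.fppfPrecoverage 𝒳) (h𝒴 : IsAlgStack Scheme.fppfPrecoverage 𝒴)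
    (h𝒲 : IsAlgStack Scheme.fppfPrecoverage 𝒲) (f : 𝒳 ⥤ᵇ 𝒴) (w : 𝒲 ⥤ᵇ 𝒴)
    (hw : ∀ (𝒵 : AlgSt.Cat S), IsAlgStack Scheme.fppfPrecoverage 𝒵 → ∀ g : 𝒵 ⥤ᵇ 𝒴,
      IsOpenMap (Points.map (fpFst g w)) ∧ Function.Surjective (Points.map (fpFst g w)))
    (hq : IsQuasiCompactMor Scheme.fppfPrecoverage (fpFst w f)) :
    IsQuasiCompactMor Scheme.fppfPrecoverage f := by
  intro 𝒵 h𝒵 hqc g
  have h𝒵' : IsAlgStack Scheme.fppfPrecoverage (fp g w) := isAlgStack_fp h𝒴.isStack h𝒴.diag h𝒵 h𝒲 g w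
  obtain ⟨U', x', hU', hx', hsurj⟩ := exists_compact_chart_surjective h𝒵' h𝒵 hqc (fpFst g w)
    (hw 𝒵 h𝒵 g).1 (hw 𝒵 h𝒵 g).2
  let v : overCat U' ⥤ᵇ 𝒲 := BasedFunctor.comp x' (fpSnd g w)
  have h1 : IsQuasiCompact (fp v (fpFst w f)) :=
    hq (overCat U') (isAlgStack_overCat U') (isQuasiCompact_overCat U') v
  have h2 : IsQuasiCompact (fp (BasedFunctor.comp v w) f) :=
    QcMor.isQuasiCompact_of_equiv (pasteLInv v w f) (isEquivOver_pasteLInv v w f) h1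
  let θ : BasedFunctor.comp v w ≅ BasedFunctor.comp (BasedFunctor.comp x' (fpFst g w)) g :=
    whiskerLeftIso x' (fpIso g w).symm
  have h3 : IsQuasiCompact (fp (BasedFunctor.comp (BasedFunctor.comp x' (fpFst g w)) g) f) :=
    QcMor.isQuasiCompact_of_equiv (fpCongrLeft f θ) (isEquivOver_fpCongrLeft f θ) h2
  have h4 : IsQuasiCompact (fp (BasedFunctor.comp x' (fpFst g w)) (fpFst g f)) :=
    QcMor.isQuasiCompact_of_equiv (pasteL _ g f) (isEquivOver_pasteL _ g f) h3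
  have hP : IsAlgStack Scheme.fppfPrecoverage (fp g f) := isAlgStack_fp h𝒴.isStack h𝒴.diag h𝒵 h𝒳 g f
  have hPP : IsAlgStack Scheme.fppfPrecoverage (fp (BasedFunctor.comp x' (fpFst g w)) (fpFst g f)) :=
    isAlgStack_fp h𝒵.isStack h𝒵.diag (isAlgStack_overCat U') hP _ _
  exact isQuasiCompact_of_isSurjective hPP hP (fpSnd _ (fpFst g f))
    (isSurjective_fpSnd hP.isStack.1 h𝒵.isStack.1 (isFibGrpd_overCat U') (fpFst g f) _ hsurj) h4

/-- S12989. -/
theorem isQuasiCompactMor_of_fpFst_fppf_cover {𝒳 𝒴 : AlgSt.Cat S}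
    (h𝒳 : IsAlgStack Scheme.fppfPrecoverage 𝒳) (h𝒴 : IsAlgStack Scheme.fppfPrecoverage 𝒴) (f : 𝒳 ⥤ᵇ 𝒴)
    (W : AlgSp.Space S) (w : ofSp W.obj ⥤ᵇ 𝒴)
    (hw₁ : RepByAlgSpWith (AlgSp.LocP @Flat) w)
    (hw₂ : RepByAlgSpWith (AlgSp.LocP @LocallyOfFinitePresentation) w)
    (hw₃ : RepByAlgSpWith AlgSp.IsSurjectiveMor w)
    (hq : IsQuasiCompactMor Scheme.fppfPrecoverage (fpFst w f)) :
    IsQuasiCompactMor Scheme.fppfPrecoverage f := by
  refine isQuasiCompactMor_of_fpFst_cover h𝒳 h𝒴 (isAlgStack_ofSp W) f w (fun 𝒵 h𝒵 g => ?_) hq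
  have h𝒵' : IsAlgStack Scheme.fppfPrecoverage (fp g w) :=
    isAlgStack_fp h𝒴.isStack h𝒴.diag h𝒵 (isAlgStack_ofSp W) g w
  exact ⟨isOpenMap_map_of_flat_lfp h𝒵' h𝒵.isStack.1 _ (repByAlgSpWith_fpFst w g hw₁)
    (repByAlgSpWith_fpFst w g hw₂),
    isSurjective_of_repByAlgSpWith h𝒵.isStack.1 _ (repByAlgSpWith_fpFst w g hw₃)⟩

end Groth.Agent.Helper19.QcPts
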