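import Mathlib
import Groth.Agent.Lib.Helper19.QcPts

/-!
# Quasi-compact morphisms of algebraic stacks: cancellation (helper19)
-/

set_option autoImplicit false
set_option backward.isDefEq.respectTransparency false

universe w₃ v₃ w' v' w v u

open CategoryTheory CategoryTheory.Limits Functor AlgebraicGeometry Opposite

namespace Groth.Agent.Helper19.QcPts

open FibCat AlgSt Stk Groth.Agent.Helper19.FibLib Groth.Agent.Helper19.StLib Groth.Agent.Helper19.DiagAlgSp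
  Groth.Agent.Helper19.PshSt Groth.Agent.Helper19.AlgP Groth.Agent.Helper19.ProdAlg
  Groth.Agent.Helper19.ImmLib Groth.Agent.Helper19.SpProps Groth.Agent.Helper19.ChartOver
  Groth.Agent.Helper16.AS Groth.Agent.Helper19.CancelLib Groth.Agent.Helper19.QcLib
  Groth.Agent.Helper19.SmLocLib Groth.Agent.Helper19.AlgStRep Groth.Agent.Helper19.PshLib
  Groth.Agent.Helper19.CompLib Groth.Agent.Helper19.StPts Groth.Agent.Helper19.QcMor

variable {S : Scheme.{u}}

/-- the second projection of a base change of a quasi-compact morphism is quasi-compact. -/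
theorem isQuasiCompactMor_fpSnd {𝒳 𝒴 𝒮 : AlgSt.Cat S} (F : 𝒳 ⥤ᵇ 𝒮) (G : 𝒴 ⥤ᵇ 𝒮)
    (hF : IsQuasiCompactMor Scheme.fppfPrecoverage F) :
    IsQuasiCompactMor Scheme.fppfPrecoverage (fpSnd F G) := by
  intro 𝒵 h𝒵 hqc h
  have h1 : IsQuasiCompact (fp (BasedFunctor.comp h G) F) := hF 𝒵 h𝒵 hqc (BasedFunctor.comp h G)
  have h2 : IsQuasiCompact (fp F (BasedFunctor.comp h G)) :=
    QcMor.isQuasiCompact_of_equiv (fpSwap _ _) (isEquivOver_fpSwap _ _) h1
  have h3 : IsQuasiCompact (fp (fpSnd F G) h) :=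
    QcMor.isQuasiCompact_of_equiv (pasteR F G h) (isEquivOver_pasteR F G h) h2
  exact QcMor.isQuasiCompact_of_equiv (fpSwap _ _) (isEquivOver_fpSwap _ _) h3

/-- S12986. -/
theorem isQuasiCompactMor_of_comp_of_isQuasiSeparatedMor {𝒳 𝒴 𝒵 : AlgSt.Cat S}
    (h𝒳 : IsAlgStack Scheme.fppfPrecoverage 𝒳) (h𝒴 : IsAlgStack Scheme.fppfPrecoverage 𝒴)
    (h𝒵 : IsAlgStack Scheme.fppfPrecoverage 𝒵) (f : 𝒳 ⥤ᵇ 𝒴) (g : 𝒴 ⥤ᵇ 𝒵)
    (hfg : IsQuasiCompactMor Scheme.fppfPrecoverage (BasedFunctor.comp f g))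
    (hg : IsQuasiSeparatedMor g) : IsQuasiCompactMor Scheme.fppfPrecoverage f := by
  have hΔ : RepByAlgSpWith AlgSp.IsQuasiCompactMor (diag g) :=
    repByAlgSpWith_mono (fun _ _ a ha => ha.1) hg
  have hΓ := repByAlgSpWith_graph (BasedFunctor.comp f g) g f (Iso.refl _) hΔ
  have hfp : IsAlgStack Scheme.fppfPrecoverage (fp (BasedFunctor.comp f g) g) :=
    isAlgStack_fp h𝒵.isStack h𝒵.diag h𝒳 h𝒴 _ _
  have h1 := isQuasiCompactMor_of_repByAlgSpWith h𝒳 hfp _ hΓ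
  have h2 := isQuasiCompactMor_fpSnd (BasedFunctor.comp f g) g hfg
  exact isQuasiCompactMor_comp hfp h𝒴 _ _ h1 h2

theorem isQuasiCompactMor_of_iso {𝒳 𝒴 : AlgSt.Cat S} {f f' : 𝒳 ⥤ᵇ 𝒴} (θ : f ≅ f')
    (h : IsQuasiCompactMor Scheme.fppfPrecoverage f) : IsQuasiCompactMor Scheme.fppfPrecoverage f' := by
  intro 𝒵 h𝒵 hqc g
  exact QcMor.isQuasiCompact_of_equiv (fpCongrRight g θ) (isEquivOver_fpCongrRight g θ) (h 𝒵 h𝒵 hqc g)

theorem isAlgStack_selfOver (S : Scheme.{u}) : IsAlgStack Scheme.fppfPrecoverage (selfOver (Over S)) :=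
  (Groth.Agent.Helper19.DMLib.isDM_of_repByAlgSp (Groth.Agent.Helper19.ProdCover.repByAlgSp_selfOver S)).1

/-- the product over `S` of two slices is the slice of the fibre product. -/
theorem exists_equiv_fp_selfOver_pullback (V U : Over S) (F : overCat V ⥤ᵇ selfOver (Over S))
    (G : overCat U ⥤ᵇ selfOver (Over S)) :
    ∃ (W : Over S) (E : overCat W ⥤ᵇ fp F G), W.left = pullback V.hom U.hom ∧ IsEquivOver E := by
  let W : Over S := Over.mk (pullback.fst V.hom U.hom ≫ V.hom)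
  let p₁ : W ⟶ V := Over.homMk (pullback.fst V.hom U.hom) rfl
  let p₂ : W ⟶ U := Over.homMk (pullback.snd V.hom U.hom) pullback.condition.symm
  obtain ⟨E, hE⟩ := Groth.Agent.Helper19.DiagLib.exists_equiv_fp_selfOver p₁ p₂
    (fun T a b => ⟨Over.homMk (pullback.lift a.left b.left (by rw [Over.w a, Over.w b]))
      (by simp [W]), by ext; simp [p₁], by ext; simp [p₂]⟩)
    (fun T c c' h1 h2 => by
      ext
      apply pullback.hom_ext
      · exact congrArg CommaMorphism.left h1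
      · exact congrArg CommaMorphism.left h2) F G
  exact ⟨W, E, rfl, hE⟩

/-- over a quasi-separated base, the structure functor of a quasi-compact algebraic stack is quasi-compact. -/
theorem isQuasiCompactMor_toSelf [QuasiSeparatedSpace S] {𝒳 : AlgSt.Cat S}
    (h𝒳 : IsAlgStack Scheme.fppfPrecoverage 𝒳) (hqc : IsQuasiCompact 𝒳) :
    IsQuasiCompactMor Scheme.fppfPrecoverage (toSelf 𝒳) := by
  intro 𝒵 h𝒵 hqc𝒵 g
  obtain ⟨V, z, hV, hz₁, hz₂⟩ := hqc𝒵
  obtain ⟨U, x, hU, hx₁, hx₂⟩ := hqc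
  obtain ⟨W, E, hW, hE⟩ := exists_equiv_fp_selfOver_pullback V U (BasedFunctor.comp z g)
    (BasedFunctor.comp x (toSelf 𝒳))
  have hWc : CompactSpace ↥W.left := by
    rw [hW]
    infer_instance
  have hself : IsFibGrpd (selfOver (Over S)).p := isFibGrpd_selfOver (Over S)
  have h1 : IsQuasiCompact (fp (BasedFunctor.comp z g) (BasedFunctor.comp x (toSelf 𝒳))) :=
    QcMor.isQuasiCompact_of_equiv E hE (isQuasiCompact_overCat W)
  have hsu : RepByAlgSpWith AlgSp.IsSurjectiveMor (prodMapGen z x g (toSelf 𝒳)) :=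
    repByAlgSpWith_prodMapGen stableAlg_isSurjectiveMor compAlg_isSurjectiveMor descAtlas_isSurjectiveMor
      (isFibGrpd_overCat V) (isFibGrpd_overCat U) h𝒵.isStack.1 hself z x _ _ hz₂ hx₂
  have hA : IsAlgStack Scheme.fppfPrecoverage (fp g (toSelf 𝒳)) :=
    isAlgStack_fp (isAlgStack_selfOver S).isStack (isAlgStack_selfOver S).diag h𝒵 h𝒳 _ _
  have hB : IsAlgStack Scheme.fppfPrecoverage
      (fp (BasedFunctor.comp z g) (BasedFunctor.comp x (toSelf 𝒳))) :=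
    isAlgStack_fp (isAlgStack_selfOver S).isStack (isAlgStack_selfOver S).diag (isAlgStack_overCat V)
      (isAlgStack_overCat U) _ _
  exact isQuasiCompact_of_isSurjective hB hA _ (isSurjective_of_repByAlgSpWith hA.isStack.1 _ hsu) h1

/-- S12987. -/
theorem isQuasiCompactMor_of_isQuasiCompact_of_isQuasiSeparatedOver [QuasiSeparatedSpace S]
    {𝒳 𝒴 : AlgSt.Cat S} (h𝒳 : IsAlgStack Scheme.fppfPrecoverage 𝒳)
    (h𝒴 : IsAlgStack Scheme.fppfPrecoverage 𝒴) (f : 𝒳 ⥤ᵇ 𝒴) (hqc : IsQuasiCompact 𝒳)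
    (hqs : IsQuasiSeparatedOver 𝒴) : IsQuasiCompactMor Scheme.fppfPrecoverage f := by
  have h1 := isQuasiCompactMor_toSelf h𝒳 hqc
  have h2 : IsQuasiCompactMor Scheme.fppfPrecoverage (BasedFunctor.comp f (toSelf 𝒴)) :=
    isQuasiCompactMor_of_iso (Groth.Agent.Helper19.DiagLib.selfOverIso _ _) h1
  exact isQuasiCompactMor_of_comp_of_isQuasiSeparatedMor h𝒳 h𝒴 (isAlgStack_selfOver S) f (toSelf 𝒴) h2 hqs

end Groth.Agent.Helper19.QcPts
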