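import Mathlib
import Groth.Agent.Lib.Helper19.QcPts2

/-!
# Open substacks and points (helper19)
-/

set_option autoImplicit false
set_option backward.isDefEq.respectTransparency false

universe w₃ v₃ w' v' w v u

open CategoryTheory CategoryTheory.Limits Functor AlgebraicGeometry Opposite TopologicalSpace

namespace Groth.Agent.Helper19.SubSt

open FibCat AlgSt Stk Groth.Agent.Helper19.StPts Groth.Agent.Helper19.CancelLib

variable {S : Scheme.{u}}

theorem locP_etale_of_repWith_isOpenImmersion {X Y : AlgSp.Sp S} (a : X ⟶ Y)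
    (ha : AlgSp.RepWith @IsOpenImmersion a) : AlgSp.LocP @Etale a := by
  refine Groth.Agent.Helper15.locP_of_repWith (P := @Etale) le_rfl a
    (Groth.Agent.Helper15.repWith_mono ?_ ha)
  intro A B g hg
  have : IsOpenImmersion g := hg
  exact (inferInstance : Etale g)

/-- an open immersion is flat. -/
theorem repByAlgSpWith_flat_of_isOpenImm {𝒳 : BasedCategory.{v, w} (Over S)}
    {𝒴 : BasedCategory.{v', w'} (Over S)} (f : 𝒳 ⥤ᵇ 𝒴) (hf : IsOpenImm f) :
    RepByAlgSpWith (AlgSp.LocP @Flat) f := by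
  refine repByAlgSpWith_mono (fun A T a h => ?_) hf
  refine Groth.Agent.Helper15.locP_mono ?_ (locP_etale_of_repWith_isOpenImmersion a h)
  intro A B g hg
  have : Etale g := hg
  exact (inferInstance : Flat g)

/-- an open immersion is locally of finite presentation. -/
theorem repByAlgSpWith_lfp_of_isOpenImm {𝒳 : BasedCategory.{v, w} (Over S)}
    {𝒴 : BasedCategory.{v', w'} (Over S)} (f : 𝒳 ⥤ᵇ 𝒴) (hf : IsOpenImm f) :
    RepByAlgSpWith (AlgSp.LocP @LocallyOfFinitePresentation) f := by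
  refine repByAlgSpWith_mono (fun A T a h => ?_) hf
  refine Groth.Agent.Helper15.locP_mono ?_ (locP_etale_of_repWith_isOpenImmersion a h)
  intro A B g hg
  have : Etale g := hg
  exact (inferInstance : LocallyOfFinitePresentation g)

/-- an open immersion of algebraic stacks is open on points. -/
theorem isOpenMap_map_of_isOpenImm {𝒳 𝒴 : AlgSt.Cat S} (h𝒳 : IsAlgStack Scheme.fppfPrecoverage 𝒳)
    (h𝒴 : IsFibGrpd 𝒴.p) (f : 𝒳 ⥤ᵇ 𝒴) (hf : IsOpenImm f) : IsOpenMap (Points.map f) :=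
  isOpenMap_map_of_flat_lfp h𝒳 h𝒴 f (repByAlgSpWith_flat_of_isOpenImm f hf)
    (repByAlgSpWith_lfp_of_isOpenImm f hf)

/-- the points of an open substack form an open subset. -/
theorem isOpen_range_of_isOpenSubstack {𝒳 : AlgSt.Cat S} (h𝒳 : IsAlgStack Scheme.fppfPrecoverage 𝒳)
    (Q : 𝒳.obj → Prop) (hQ : IsOpenSubstack 𝒳 Q Scheme.fppfPrecoverage) :
    IsOpen (Set.range (Points.map (subIncl 𝒳 Q))) :=
  (isOpenMap_map_of_isOpenImm hQ.2.1 h𝒳.isStack.1 _ hQ.2.2).isOpen_range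

/-- S12862. -/
theorem exists_finset_subcover {𝒳 : AlgSt.Cat S} (h𝒳 : IsAlgStack Scheme.fppfPrecoverage 𝒳)
    (Q' : 𝒳.obj → Prop) (hQ' : IsOpenSubstack 𝒳 Q' Scheme.fppfPrecoverage)
    (hqc : IsQuasiCompact (fullSub 𝒳 Q')) {ι : Type w} (Q : ι → 𝒳.obj → Prop)
    (hQ : ∀ i, IsOpenSubstack 𝒳 (Q i) Scheme.fppfPrecoverage)
    (hcov : Set.range (Points.map (subIncl 𝒳 Q')) ⊆ ⋃ i, Set.range (Points.map (subIncl 𝒳 (Q i)))) :
    ∃ I' : Finset ι, Set.range (Points.map (subIncl 𝒳 Q')) ⊆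
      ⋃ i ∈ I', Set.range (Points.map (subIncl 𝒳 (Q i))) := by
  have h1 : CompactSpace (Points (fullSub 𝒳 Q')) := compactSpace_points_of_isQuasiCompact hQ'.2.1 hqc
  have hc : IsCompact (Set.range (Points.map (subIncl 𝒳 Q'))) :=
    isCompact_range (continuous_points_map h𝒳 _)
  exact hc.elim_finite_subcover _ (fun i => isOpen_range_of_isOpenSubstack h𝒳 (Q i) (hQ i)) hcov

end Groth.Agent.Helper19.SubSt
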