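import Mathlib
import Groth.Agent.Lib.Helper19.SubSt
import Groth.Agent.Lib.Helper19.AlgStInv
import Groth.Agent.S12774
import Groth.Agent.S12868

/-!
# The essential image of a monomorphism as a substack (helper19)
-/

set_option autoImplicit false
set_option backward.isDefEq.respectTransparency false

universe w₃ v₃ w' v' w v u

open CategoryTheory CategoryTheory.Limits Functor AlgebraicGeometry Opposite TopologicalSpace

namespace Groth.Agent.Helper19.EssImg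

open FibCat AlgSt Stk Groth.Agent.Helper19.FibLib Groth.Agent.Helper19.StLib

variable {S : Scheme.{u}}

section general

variable {𝒵 : BasedCategory.{v, w} (Over S)} {𝒳 : BasedCategory.{v', w'} (Over S)} (i : 𝒵 ⥤ᵇ 𝒳)

theorem isHomLift_fullSub_iff (Q : 𝒳.obj → Prop) {a b : (fullSub 𝒳 Q).obj} {R R' : Over S} (f : R ⟶ R')
    (φ : a ⟶ b) : (fullSub 𝒳 Q).p.IsHomLift f φ ↔ 𝒳.p.IsHomLift f φ.hom := by
  constructor
  · intro h
    exact IsHomLift.of_fac 𝒳.p f φ.hom (IsHomLift.domain_eq (fullSub 𝒳 Q).p f φ)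
      (IsHomLift.codomain_eq (fullSub 𝒳 Q).p f φ) (IsHomLift.fac (fullSub 𝒳 Q).p f φ)
  · intro h
    exact IsHomLift.of_fac (fullSub 𝒳 Q).p f φ (IsHomLift.domain_eq 𝒳.p f φ.hom)
      (IsHomLift.codomain_eq 𝒳.p f φ.hom) (IsHomLift.fac 𝒳.p f φ.hom)

/-- the essential image (over identities) of a functor over the base. -/
def essImg : 𝒳.obj → Prop := fun y =>
  ∃ (z : 𝒵.obj) (e : i.obj z ≅ y), 𝒳.p.IsHomLift (𝟙 (𝒳.p.obj y)) e.hom

/-- a functor over the base whose values satisfy `Q` lifts to the full subcategory. -/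
def liftSub (Q : 𝒳.obj → Prop) (hQ : ∀ z, Q (i.obj z)) : 𝒵 ⥤ᵇ fullSub 𝒳 Q where
  toFunctor := ObjectProperty.lift Q i.toFunctor hQ
  w := i.w

theorem liftSub_comp_subIncl (Q : 𝒳.obj → Prop) (hQ : ∀ z, Q (i.obj z)) :
    BasedFunctor.comp (liftSub i Q hQ) (subIncl 𝒳 Q) = i := rfl

theorem essImg_obj (z : 𝒵.obj) : essImg i (i.obj z) :=
  ⟨z, Iso.refl _, by
    have : 𝒳.p.IsHomLift (𝟙 (𝒳.p.obj (i.obj z))) (𝟙 (i.obj z)) := IsHomLift.id rfl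
    exact this⟩

/-- the corestriction of a functor to its essential image. -/
def toEssImg : 𝒵 ⥤ᵇ fullSub 𝒳 (essImg i) := liftSub i (essImg i) (essImg_obj i)

theorem isEquivOver_toEssImg [i.toFunctor.Full] [i.toFunctor.Faithful] : IsEquivOver (toEssImg i) := by
  have h1 : (toEssImg i).toFunctor.Full := by
    refine ⟨fun {a b} f => ?_⟩
    obtain ⟨g, hg⟩ := i.toFunctor.map_surjective f.hom
    exact ⟨g, ObjectProperty.hom_ext _ hg⟩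
  have h2 : (toEssImg i).toFunctor.Faithful := by
    refine ⟨fun {a b} f g h => ?_⟩
    apply i.toFunctor.map_injective
    exact congrArg (fun k => k.hom) h
  refine isEquivOver_of_fullyFaithful (toEssImg i) (fun y => ?_)
  obtain ⟨z, e, he⟩ := y.property
  refine ⟨z, ObjectProperty.isoMk _ e, ?_⟩
  exact (isHomLift_fullSub_iff (essImg i) _ _).2 he

theorem exists_lift_of_eq {𝒲 : BasedCategory.{v₃, w₃} (Over S)} (h : IsFibGrpd 𝒲.p) {R T : Over S}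
    (z : 𝒲.obj) (hz : 𝒲.p.obj z = R) (a : T ⟶ R) : ∃ (z' : 𝒲.obj) (ψ : z' ⟶ z), 𝒲.p.IsHomLift a ψ := by
  subst hz
  exact h.exists_lift a

/-- the essential image of a functor between categories fibred in groupoids is closed under isomorphisms. -/
theorem isClosedUnderIsomorphisms_essImg (h𝒵 : IsFibGrpd 𝒵.p) (h𝒳 : IsFibGrpd 𝒳.p) :
    ObjectProperty.IsClosedUnderIsomorphisms (essImg i) := by
  constructor
  intro y y' ε hy
  obtain ⟨z, e, he⟩ := hy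
  have hz : 𝒵.p.obj z = 𝒳.p.obj y :=
    (i.w_obj z).symm.trans (IsHomLift.domain_eq 𝒳.p (𝟙 (𝒳.p.obj y)) e.hom)
  obtain ⟨z', ψ, hψ⟩ := exists_lift_of_eq h𝒵 z hz (𝒳.p.map ε.inv)
  have h1 : 𝒳.p.IsHomLift (𝒳.p.map ε.inv) (i.map ψ) := inferInstance
  have h2 : 𝒳.p.IsHomLift (𝒳.p.map ε.hom) ε.hom := inferInstance
  have h3 : 𝒳.p.IsHomLift (𝒳.p.map ε.inv ≫ 𝟙 (𝒳.p.obj y) ≫ 𝒳.p.map ε.hom)
      (i.map ψ ≫ e.hom ≫ ε.hom) := inferInstance
  have h4 : 𝒳.p.map ε.inv ≫ 𝟙 (𝒳.p.obj y) ≫ 𝒳.p.map ε.hom = 𝟙 (𝒳.p.obj y') := by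
    rw [Category.id_comp, ← Functor.map_comp, Iso.inv_hom_id, CategoryTheory.Functor.map_id]
  rw [h4] at h3
  have h5 : IsIso (i.map ψ ≫ e.hom ≫ ε.hom) := isIso_of_isHomLift h𝒳 (𝟙 (𝒳.p.obj y')) _
  exact ⟨z', asIso (i.map ψ ≫ e.hom ≫ ε.hom), h3⟩

end general

section algst

variable {𝒵 𝒳 : AlgSt.Cat S}

theorem repByAlgSpWith_subIncl_essImg {P : MorphismProperty (AlgSp.Sp S)} (i : 𝒵 ⥤ᵇ 𝒳)
    [i.toFunctor.Full] [i.toFunctor.Faithful] (h : RepByAlgSpWith P i) :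
    RepByAlgSpWith P (subIncl 𝒳 (essImg i)) :=
  (repByAlgSpWith_equiv_comp (toEssImg i) (isEquivOver_toEssImg i) (subIncl 𝒳 (essImg i))).1 h

/-- S12878. -/
theorem exists_unique_locClosedSubstack (h𝒵 : IsAlgStack Scheme.fppfPrecoverage 𝒵)
    (h𝒳 : IsAlgStack Scheme.fppfPrecoverage 𝒳) (i : 𝒵 ⥤ᵇ 𝒳) (hi : IsImm i) :
    ∃ Q : 𝒳.obj → Prop,
      (IsLocClosedSubstack 𝒳 Q Scheme.fppfPrecoverage ∧
        (∃ i' : 𝒵 ⥤ᵇ fullSub 𝒳 Q, IsEquivOver i' ∧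
          Nonempty (BasedFunctor.comp i' (subIncl 𝒳 Q) ≅ i)) ∧
        (IsClosedImm i → IsClosedSubstack 𝒳 Q Scheme.fppfPrecoverage) ∧
        (IsOpenImm i → IsOpenSubstack 𝒳 Q Scheme.fppfPrecoverage)) ∧
      ∀ Q' : 𝒳.obj → Prop, IsLocClosedSubstack 𝒳 Q' Scheme.fppfPrecoverage →
        (∃ i' : 𝒵 ⥤ᵇ fullSub 𝒳 Q', IsEquivOver i' ∧
          Nonempty (BasedFunctor.comp i' (subIncl 𝒳 Q') ≅ i)) → Q' = Q := by
  have hmono : IsMono i := Groth.Agent.S12868.result i hi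
  obtain ⟨hfull, hfaith⟩ := Groth.Agent.S12774.result h𝒵.isStack.1 h𝒳.isStack.1 i hmono
  have hcl := isClosedUnderIsomorphisms_essImg i h𝒵.isStack.1 h𝒳.isStack.1
  have he := isEquivOver_toEssImg i
  have halg : IsAlgStack Scheme.fppfPrecoverage (fullSub 𝒳 (essImg i)) :=
    (isAlgStack_iff_of_equiv _ (toEssImg i) he).1 h𝒵
  refine ⟨essImg i, ⟨⟨hcl, halg, repByAlgSpWith_subIncl_essImg i hi⟩, ⟨toEssImg i, he, ⟨Iso.refl _⟩⟩,
    fun hc => ⟨hcl, halg, repByAlgSpWith_subIncl_essImg i hc⟩,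
    fun ho => ⟨hcl, halg, repByAlgSpWith_subIncl_essImg i ho⟩⟩, ?_⟩
  rintro Q' ⟨hcl', -, -⟩ ⟨i', hi', ⟨θ⟩⟩
  funext y
  apply propext
  constructor
  · intro hy
    obtain ⟨z, a, ha⟩ := IsEquivOver.exists_iso hi' (⟨y, hy⟩ : (fullSub 𝒳 Q').obj)
    have ha' : 𝒳.p.IsHomLift (𝟙 (𝒳.p.obj y)) a.hom.hom := (isHomLift_fullSub_iff Q' _ _).1 ha
    have hθ : 𝒳.p.IsHomLift (𝟙 (𝒵.p.obj z)) (θ.inv.toNatTrans.app z) := θ.inv.isHomLift' z
    have hz : 𝒵.p.obj z = 𝒳.p.obj y :=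
      (i'.w_obj z).symm.trans (IsHomLift.domain_eq 𝒳.p (𝟙 (𝒳.p.obj y)) a.hom.hom)
    rw [hz] at hθ
    have h3 : 𝒳.p.IsHomLift (𝟙 (𝒳.p.obj y) ≫ 𝟙 (𝒳.p.obj y)) (θ.inv.toNatTrans.app z ≫ a.hom.hom) :=
      inferInstance
    rw [Category.comp_id] at h3
    have h5 : IsIso (θ.inv.toNatTrans.app z ≫ a.hom.hom) :=
      isIso_of_isHomLift h𝒳.isStack.1 (𝟙 (𝒳.p.obj y)) _
    exact ⟨z, asIso (θ.inv.toNatTrans.app z ≫ a.hom.hom), h3⟩
  · rintro ⟨z, e, -⟩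
    have h1 : Q' ((i'.obj z).obj) := (i'.obj z).property
    exact hcl'.of_iso (appIso θ z ≪≫ e) h1

end algst

end Groth.Agent.Helper19.EssImg
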