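import Mathlib
import Groth.Agent.Lib.Helper19.EssImg
import Groth.Agent.Lib.Helper19.StPtsUniv
import Groth.Agent.S12768

/-!
# Open substacks and open subsets of the space of points (helper19)
-/

set_option autoImplicit false
set_option backward.isDefEq.respectTransparency false

universe w₃ v₃ w' v' w v u

open CategoryTheory CategoryTheory.Limits Functor AlgebraicGeometry Opposite TopologicalSpace

namespace Groth.Agent.Helper19.OpenSub

open FibCat AlgSt Stk Groth.Agent.Helper19.FibLib Groth.Agent.Helper19.StLib Groth.Agent.Helper19.StPts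
  Groth.Agent.Helper19.EssImg Groth.Agent.Helper19.ImmLib Groth.Agent.Helper19.PshSt

variable {S : Scheme.{u}}

section general

variable {𝒳 : BasedCategory.{v, w} (Over S)}

/-- the objects all of whose field-valued points lie in the set `T` of points. -/
def ofSet (T : Set (Points 𝒳)) : 𝒳.obj → Prop := fun y =>
  ∀ q : FPt 𝒳, Nonempty (q.obj ⟶ y) → Points.mk q ∈ T

theorem ofSet_of_hom {T : Set (Points 𝒳)} {y' y : 𝒳.obj} (φ : y' ⟶ y) (h : ofSet T y) : ofSet T y' :=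
  fun q ⟨ψ⟩ => h q ⟨ψ ≫ φ⟩

theorem isClosedUnderIsomorphisms_ofSet (T : Set (Points 𝒳)) :
    ObjectProperty.IsClosedUnderIsomorphisms (ofSet T) :=
  ⟨fun e h => ofSet_of_hom e.inv h⟩

theorem ofSet_mono {T T' : Set (Points 𝒳)} (h : T ⊆ T') (y : 𝒳.obj) (hy : ofSet T y) : ofSet T' y :=
  fun q hq => h (hy q hq)

/-- the full subcategory on a property stable under pullback is fibred in groupoids. -/
theorem isFibGrpd_fullSub (h𝒳 : IsFibGrpd 𝒳.p) (Q : 𝒳.obj → Prop)
    (hQ : ∀ {y' y : 𝒳.obj} (_ : y' ⟶ y), Q y → Q y') : IsFibGrpd (fullSub 𝒳 Q).p := by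
  refine ⟨fun {x V} f => ?_, fun {y x} φ => ?_⟩
  · obtain ⟨y, φ, hφ⟩ := h𝒳.exists_lift (x := x.obj) f
    exact ⟨⟨y, hQ φ x.property⟩, ObjectProperty.homMk φ, (isHomLift_fullSub_iff Q f _).2 hφ⟩
  · have h := h𝒳.isStronglyCartesian φ.hom
    refine { toIsHomLift := ?_, universal_property' := fun {a'} g φ' hφ' => ?_ }
    · exact (isHomLift_fullSub_iff Q _ _).2 (inferInstance : 𝒳.p.IsHomLift (𝒳.p.map φ.hom) φ.hom)
    · have hφ'' : 𝒳.p.IsHomLift (g ≫ 𝒳.p.map φ.hom) φ'.hom := (isHomLift_fullSub_iff Q _ _).1 hφ'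
      obtain ⟨χ, ⟨hχ, hc⟩, huniq⟩ := h.universal_property' g φ'.hom
      refine ⟨ObjectProperty.homMk χ, ⟨(isHomLift_fullSub_iff Q _ _).2 hχ, ?_⟩, ?_⟩
      · exact ObjectProperty.hom_ext _ hc
      · rintro χ' ⟨hχ', hc'⟩
        apply ObjectProperty.hom_ext
        exact huniq χ'.hom ⟨(isHomLift_fullSub_iff Q _ _).1 hχ', congrArg (fun k => k.hom) hc'⟩

end general

section chart

variable {𝒳 : BasedCategory.{v, w} (Over S)}

/-- the objects of a chart lying in the substack cut out by `T`: those whose points all land in `T`. -/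
theorem ofSet_chart_iff (h𝒳 : IsFibGrpd 𝒳.p) {U : Over S} (x : overCat U ⥤ᵇ 𝒳) (T : Set (Points 𝒳))
    (a : (overCat U).obj) :
    ofSet T (x.obj a) ↔ ∀ v : ↥a.left.left, Points.ofChart x (a.hom.left v) ∈ T := by
  constructor
  · intro h v
    rw [← ofChart_overMap a.hom x v]
    let m : (overMap a.hom).obj (ptObj a.left v) ⟶ a := Over.homMk (ptObj a.left v).hom rfl
    exact h _ ⟨x.map m⟩
  · intro h q ⟨φ⟩
    -- the base morphism of `φ`
    let b : pt q ⟶ a.left := eqToHom q.lies.symm ≫ 𝒳.p.map φ ≫ eqToHom (x.w_obj a)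
    have hφ : 𝒳.p.IsHomLift b φ := IsHomLift.of_fac 𝒳.p _ φ q.lies (x.w_obj a) (by simp [b])
    let t₀ : ↥(pt q).left := IsLocalRing.closedPoint q.K
    have h1 := h (b.left t₀)
    have e1 : a.hom.left (b.left t₀) = (b ≫ a.hom).left t₀ := by simp
    rw [e1, ← ofChart_overMap (b ≫ a.hom) x t₀] at h1
    -- the morphism of `(Sch/U)` from the point to `a`
    let m : (overMap (b ≫ a.hom)).obj (ptObj (pt q) t₀) ⟶ a :=
      Over.homMk ((ptObj (pt q) t₀).hom ≫ b) (by simp [overMap])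
    have hm : 𝒳.p.IsHomLift ((ptObj (pt q) t₀).hom ≫ b) (x.map m) := by
      have h0 : (overCat U).p.IsHomLift ((ptObj (pt q) t₀).hom ≫ b) m :=
        IsHomLift.of_fac _ _ _ rfl rfl (by simp; rfl)
      infer_instance
    obtain ⟨χ, ⟨hχ, hc⟩, -⟩ := existsUnique_fac h𝒳 b φ (ptObj (pt q) t₀).hom
      ((ptObj (pt q) t₀).hom ≫ b) rfl (x.map m)
    have e2 : Points.ofChart (BasedFunctor.comp (overMap (b ≫ a.hom)) x) t₀ = Points.mk q :=
      Points.sound (rel_of_hom (q := q) χ)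
    rw [← e2]
    exact h1

end chart

section equiv

variable {𝒳 : BasedCategory.{v, w} (Over S)}

/-- an open subscheme of a scheme over `S`, as a scheme over `S`. -/
noncomputable abbrev opSub {U : Over S} (W : U.left.Opens) : Over S := Over.mk (W.ι ≫ U.hom)

/-- the inclusion of an open subscheme, over `S`. -/
noncomputable abbrev opIncl {U : Over S} (W : U.left.Opens) : opSub W ⟶ U := Over.homMk W.ι rfl

variable {U : Over S} (x : overCat U ⥤ᵇ 𝒳) (T : Set (Points 𝒳)) (W : U.left.Opens)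

theorem ofSet_opIncl (h𝒳 : IsFibGrpd 𝒳.p) (hW : ∀ t, t ∈ W ↔ Points.ofChart x t ∈ T)
    (a : (overCat (opSub W)).obj) : ofSet T (x.obj ((overMap (opIncl W)).obj a)) := by
  rw [ofSet_chart_iff h𝒳]
  intro v
  have : ((overMap (opIncl W)).obj a).hom.left v = W.ι (a.hom.left v) := rfl
  rw [this, ← hW]
  exact (a.hom.left v).2

/-- the comparison functor from the slice of the open subscheme to the base change of the substack. -/
noncomputable def chartE (hmem : ∀ a : (overCat (opSub W)).obj, ofSet T (x.obj ((overMap (opIncl W)).obj a))) :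
    overCat (opSub W) ⥤ᵇ fp x (subIncl 𝒳 (ofSet T)) :=
  fpLift (F := x) (G := subIncl 𝒳 (ofSet T)) (overMap (opIncl W))
    (liftSub (BasedFunctor.comp (overMap (opIncl W)) x) (ofSet T) hmem) (Iso.refl _)

theorem chartE_comp_fpFst
    (hmem : ∀ a : (overCat (opSub W)).obj, ofSet T (x.obj ((overMap (opIncl W)).obj a))) :
    BasedFunctor.comp (chartE x T W hmem) (fpFst x (subIncl 𝒳 (ofSet T))) = overMap (opIncl W) := rfl

theorem faithful_chartE
    (hmem : ∀ a : (overCat (opSub W)).obj, ofSet T (x.obj ((overMap (opIncl W)).obj a))) :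
    (chartE x T W hmem).toFunctor.Faithful := by
  refine ⟨fun {a b} m m' h => ?_⟩
  have h1 : (overMap (opIncl W)).map m = (overMap (opIncl W)).map m' := congrArg (fun k => k.hom.fst) h
  have h2 : m.left = m'.left := congrArg (fun k => k.left) h1
  exact Over.OverMorphism.ext h2

theorem full_chartE
    (hmem : ∀ a : (overCat (opSub W)).obj, ofSet T (x.obj ((overMap (opIncl W)).obj a))) :
    (chartE x T W hmem).toFunctor.Full := by
  refine ⟨fun {a b} k => ?_⟩
  have hw : k.hom.fst.left ≫ (b.hom ≫ opIncl W) = a.hom ≫ opIncl W := Over.w k.hom.fst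
  have hmono : Mono (opIncl W) := by
    have : Mono (opIncl W).left := inferInstanceAs (Mono W.ι)
    exact Over.mono_of_mono_left _
  have hw' : k.hom.fst.left ≫ b.hom = a.hom := by
    rw [← cancel_mono (opIncl W), Category.assoc]
    exact hw
  refine ⟨Over.homMk k.hom.fst.left hw', ?_⟩
  apply fp_hom_ext
  · apply Over.OverMorphism.ext
    rfl
  · have := fp_w k
    apply ObjectProperty.hom_ext
    have h3 : x.map k.hom.fst ≫ 𝟙 _ = 𝟙 _ ≫ k.hom.snd.hom := this
    rw [Category.comp_id, Category.id_comp] at h3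
    rw [← h3]
    show x.map ((overMap (opIncl W)).map (Over.homMk k.hom.fst.left hw')) = x.map k.hom.fst
    congr 1

theorem isEquivOver_chartE (h𝒳 : IsFibGrpd 𝒳.p) (hW : ∀ t, t ∈ W ↔ Points.ofChart x t ∈ T)
    (hmem : ∀ a : (overCat (opSub W)).obj, ofSet T (x.obj ((overMap (opIncl W)).obj a))) :
    IsEquivOver (chartE x T W hmem) := by
  have := faithful_chartE x T W hmem
  have := full_chartE x T W hmem
  refine isEquivOver_of_fullyFaithful (chartE x T W hmem) (fun w => ?_)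
  let a : Over U := w.obj.fst
  have h1 : ofSet T (x.obj a) := ofSet_of_hom w.obj.iso.hom w.obj.snd.property
  rw [ofSet_chart_iff h𝒳] at h1
  have hrange : Set.range a.hom.left ⊆ Set.range W.ι := by
    rintro _ ⟨v, rfl⟩
    rw [Scheme.Opens.range_ι]
    exact (hW _).2 (h1 v)
  let l : a.left.left ⟶ W.toScheme := IsOpenImmersion.lift W.ι a.hom.left hrange
  have hl : l ≫ W.ι = a.hom.left := IsOpenImmersion.lift_fac _ _ _
  have hl' : l ≫ (opSub W).hom = a.left.hom := by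
    show l ≫ W.ι ≫ U.hom = a.left.hom
    rw [← Category.assoc, hl]
    exact Over.w a.hom
  let a₀ : Over (opSub W) := Over.mk (Over.homMk l hl' : a.left ⟶ opSub W)
  let e₁ : (overMap (opIncl W)).obj a₀ ≅ a := Over.isoMk (Iso.refl a.left) (by
    apply Over.OverMorphism.ext
    simp [overMap, a₀, hl])
  let e₂ : ((chartE x T W hmem).obj a₀).obj.snd ≅ w.obj.snd :=
    ObjectProperty.isoMk _ (x.toFunctor.mapIso e₁ ≪≫ w.obj.iso)
  let e : (chartE x T W hmem).obj a₀ ≅ w :=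
    fpIsoMk (F := x) (G := subIncl 𝒳 (ofSet T)) (x := (chartE x T W hmem).obj a₀) (y := w) e₁ e₂ (by
      show x.map e₁.hom ≫ w.obj.iso.hom = 𝟙 _ ≫ (x.map e₁.hom ≫ w.obj.iso.hom)
      rw [Category.id_comp])
  refine ⟨a₀, e, ?_⟩
  apply IsHomLift.of_fac _ _ _ rfl rfl
  have : (fp x (subIncl 𝒳 (ofSet T))).p.map e.hom = 𝟙 a.left := rfl
  rw [this]
  simp
  rfl

end equiv

section range

variable {𝒳 : BasedCategory.{v, w} (Over S)}

/-- the points of the substack cut out by a set of points are that set. -/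
theorem range_ofSet (T : Set (Points 𝒳)) :
    Set.range (Points.map (subIncl 𝒳 (ofSet T))) = T := by
  ext z
  constructor
  · rintro ⟨w, rfl⟩
    obtain ⟨p, rfl⟩ := Points.mk_surjective w
    exact p.obj.property (p.map (subIncl 𝒳 (ofSet T))) ⟨𝟙 _⟩
  · intro hz
    obtain ⟨q, rfl⟩ := Points.mk_surjective z
    have hq : ofSet T q.obj := by
      intro q' ⟨φ⟩
      rw [Points.sound (rel_of_hom φ)]
      exact hz
    let p : FPt (fullSub 𝒳 (ofSet T)) :=
      { K := q.K, str := q.str, obj := ⟨q.obj, hq⟩, lies := q.lies }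
    exact ⟨Points.mk p, rfl⟩

/-- a property `Q` whose full subcategory is fibred in groupoids and which is closed under isomorphisms is
stable under pullback. -/
theorem of_hom_of_isFibGrpd (h𝒳 : IsFibGrpd 𝒳.p) (Q : 𝒳.obj → Prop)
    (hcl : ObjectProperty.IsClosedUnderIsomorphisms Q) (hQ : IsFibGrpd (fullSub 𝒳 Q).p)
    {y' y : 𝒳.obj} (φ : y' ⟶ y) (hy : Q y) : Q y' := by
  obtain ⟨y'', ψ, hψ⟩ := hQ.exists_lift (x := (⟨y, hy⟩ : (fullSub 𝒳 Q).obj)) (𝒳.p.map φ)
  have hψ' : 𝒳.p.IsHomLift (𝒳.p.map φ) ψ.hom := (isHomLift_fullSub_iff Q _ _).1 hψ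
  obtain ⟨χ, -, -, hiso⟩ := exists_iso_of_lifts h𝒳 (𝒳.p.map φ) φ ψ.hom
  exact hcl.of_iso (asIso χ) y''.property

theorem le_ofSet_range (h𝒳 : IsFibGrpd 𝒳.p) (Q : 𝒳.obj → Prop)
    (hcl : ObjectProperty.IsClosedUnderIsomorphisms Q) (hQ : IsFibGrpd (fullSub 𝒳 Q).p)
    (y : 𝒳.obj) (hy : Q y) : ofSet (Set.range (Points.map (subIncl 𝒳 Q))) y := by
  intro q ⟨φ⟩
  have hq : Q q.obj := of_hom_of_isFibGrpd h𝒳 Q hcl hQ φ hy
  let p : FPt (fullSub 𝒳 Q) := { K := q.K, str := q.str, obj := ⟨q.obj, hq⟩, lies := q.lies }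
  exact ⟨Points.mk p, rfl⟩

end range

section algst

variable {𝒳 : AlgSt.Cat S}

/-- a morphism of schemes over `S` with `P`, as a functor between slices, is represented with `P`. -/
theorem repOver_overMap (P : MorphismProperty Scheme.{u}) [P.IsStableUnderBaseChange] {U' U : Over S} (τ : U' ⟶ U) (h : P τ.left) :
    RepOver (AlgSp.RepWith P) (overMap τ) := by
  refine ⟨⟨(AlgSp.yon S).obj U', AlgSp.IsAlgSpace.yon_obj U'⟩, toOverCat U', isEquivOver_toOverCat U', ?_⟩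
  rw [spMapOfOver_comp_overMap, spMapOfOver_toOverCat, Category.id_comp]
  exact (AlgSp.repWith_yon_map_iff P τ).2 h

/-- the open subscheme of a chart cut out by an open set of points. -/
noncomputable def chartOpen (h𝒳 : IsAlgStack Scheme.fppfPrecoverage 𝒳) {U : Over S} (x : overCat U ⥤ᵇ 𝒳)
    (T : Set (Points 𝒳)) (hT : IsOpen T) : U.left.Opens :=
  ⟨Points.ofChart x ⁻¹' T, hT.preimage (continuous_ofChart h𝒳 x)⟩

theorem mem_chartOpen (h𝒳 : IsAlgStack Scheme.fppfPrecoverage 𝒳) {U : Over S} (x : overCat U ⥤ᵇ 𝒳)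
    (T : Set (Points 𝒳)) (hT : IsOpen T) (t : ↥U.left) :
    t ∈ chartOpen h𝒳 x T hT ↔ Points.ofChart x t ∈ T := Iff.rfl

/-- the substack cut out by an open set of points is an open immersion. -/
theorem isOpenImm_subIncl_ofSet (h𝒳 : IsAlgStack Scheme.fppfPrecoverage 𝒳) (T : Set (Points 𝒳))
    (hT : IsOpen T) : IsOpenImm (subIncl 𝒳 (ofSet T)) := by
  intro U x
  have hW := mem_chartOpen h𝒳 x T hT
  have hmem := ofSet_opIncl x T (chartOpen h𝒳 x T hT) h𝒳.isStack.1 hW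
  exact RepOver.of_equiv (chartE x T (chartOpen h𝒳 x T hT) hmem)
    (isEquivOver_chartE x T (chartOpen h𝒳 x T hT) h𝒳.isStack.1 hW hmem)
    (eqToIso (chartE_comp_fpFst x T (chartOpen h𝒳 x T hT) hmem))
    (repOver_overMap @IsOpenImmersion (opIncl (chartOpen h𝒳 x T hT))
      (inferInstanceAs (IsOpenImmersion (chartOpen h𝒳 x T hT).ι)))

theorem isAlgStack_fullSub_ofSet (h𝒳 : IsAlgStack Scheme.fppfPrecoverage 𝒳) (T : Set (Points 𝒳))
    (hT : IsOpen T) : IsAlgStack Scheme.fppfPrecoverage (fullSub 𝒳 (ofSet T)) :=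
  Groth.Agent.S12768.result (isFibGrpd_fullSub h𝒳.isStack.1 _ (fun φ h => ofSet_of_hom φ h)) h𝒳
    (subIncl 𝒳 (ofSet T)) (Groth.Agent.Helper19.PshSt.RepByAlgSpWith.repByAlgSp1 (isOpenImm_subIncl_ofSet h𝒳 T hT))

/-- **An open set of points cuts out an open substack.** -/
theorem isOpenSubstack_ofSet (h𝒳 : IsAlgStack Scheme.fppfPrecoverage 𝒳) (T : Set (Points 𝒳))
    (hT : IsOpen T) : IsOpenSubstack 𝒳 (ofSet T) Scheme.fppfPrecoverage :=
  ⟨isClosedUnderIsomorphisms_ofSet T, isAlgStack_fullSub_ofSet h𝒳 T hT, isOpenImm_subIncl_ofSet h𝒳 T hT⟩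

theorem map_overMap_chartPt {U' U : Over S} (τ : U' ⟶ U) (t' : ↥U'.left) :
    Points.map (overMap τ) (chartPt U' t') = chartPt U (τ.left t') := by
  rw [chartPt_apply, chartPt_apply, map_ofChart, ← ofChart_overMap τ]
  rfl

/-- an object all of whose points lie in an open substack lies in it. -/
theorem of_ofSet_range (h𝒳 : IsAlgStack Scheme.fppfPrecoverage 𝒳) (Q : 𝒳.obj → Prop)
    (hQ : IsOpenSubstack 𝒳 Q Scheme.fppfPrecoverage) (y : 𝒳.obj)
    (hy : ofSet (Set.range (Points.map (subIncl 𝒳 Q))) y) : Q y := by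
  obtain ⟨hcl, halg, himm⟩ := hQ
  obtain ⟨x, θ, hθ⟩ := Groth.Agent.Helper19.YonLib.exists_chart_of_obj h𝒳.isStack.1 y rfl
  obtain ⟨U', τ, e', he', ⟨η⟩, hτ⟩ :=
    exists_scheme_of_repOver_repWith @IsOpenImmersion (fpFst x (subIncl 𝒳 Q)) (himm _ x)
  have hsurj : Function.Surjective τ.left := by
    intro t
    have h1 : ofSet (Set.range (Points.map (subIncl 𝒳 Q))) (x.obj (Over.mk (𝟙 (𝒳.p.obj y)))) :=
      ofSet_of_hom θ.hom hy
    rw [ofSet_chart_iff h𝒳.isStack.1] at h1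
    obtain ⟨z, hz⟩ := h1 t
    have hz' : Points.map x (chartPt (𝒳.p.obj y) t) = Points.map (subIncl 𝒳 Q) z := by
      rw [hz, ← ofChart_eq]
      rfl
    obtain ⟨w, hw1, -⟩ := exists_points_fp_of_map_eq halg.isStack.1 h𝒳.isStack.1
      (Groth.Agent.Helper19.ChartOver.isFibGrpd_overCat (𝒳.p.obj y)) (subIncl 𝒳 Q) x (chartPt (𝒳.p.obj y) t) z hz'
    obtain ⟨w', rfl⟩ := (mapHomeo e' he').surjective w
    obtain ⟨t', rfl⟩ := (chartPt U').surjective w'
    refine ⟨t', ?_⟩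
    apply (chartPt (𝒳.p.obj y)).injective
    rw [← hw1, mapHomeo_apply, ← StPts.map_comp, map_congr η, map_overMap_chartPt]
  have hiso : IsIso τ.left := (isIso_iff_isOpenImmersion_and_surjective τ.left).2 ⟨hτ, ⟨hsurj⟩⟩
  let σ : 𝒳.p.obj y ⟶ U' := Over.homMk (inv τ.left) (by
    rw [IsIso.inv_comp_eq]
    exact (Over.w τ).symm)
  let a' : Over U' := Over.mk σ
  let e₀ : (overMap τ).obj a' ≅ Over.mk (𝟙 (𝒳.p.obj y)) := Over.isoMk (Iso.refl _) (by
    apply Over.OverMorphism.ext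
    simp [overMap, a', σ])
  let w := e'.obj a'
  have e₁ : w.obj.fst ≅ (overMap τ).obj a' := appIso η a'
  exact hcl.of_iso (w.obj.iso.symm ≪≫ x.toFunctor.mapIso (e₁ ≪≫ e₀) ≪≫ θ) w.obj.snd.property

/-- **An open substack is cut out by its set of points.** -/
theorem ofSet_range_eq (h𝒳 : IsAlgStack Scheme.fppfPrecoverage 𝒳) (Q : 𝒳.obj → Prop)
    (hQ : IsOpenSubstack 𝒳 Q Scheme.fppfPrecoverage) :
    ofSet (Set.range (Points.map (subIncl 𝒳 Q))) = Q := by
  funext y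
  apply propext
  exact ⟨of_ofSet_range h𝒳 Q hQ y, le_ofSet_range h𝒳.isStack.1 Q hQ.1 hQ.2.1.isStack.1 y⟩

/-- S12859. -/
theorem bijOn_isOpen_points (h𝒳 : IsAlgStack Scheme.fppfPrecoverage 𝒳) :
    Set.BijOn (fun Q : 𝒳.obj → Prop => Set.range (Points.map (subIncl 𝒳 Q)))
        {Q | IsOpenSubstack 𝒳 Q Scheme.fppfPrecoverage} {T | IsOpen T} ∧
      ∀ (Q Q' : 𝒳.obj → Prop), IsOpenSubstack 𝒳 Q Scheme.fppfPrecoverage →
        IsOpenSubstack 𝒳 Q' Scheme.fppfPrecoverage →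
        ((∀ y, Q y → Q' y) ↔ Set.range (Points.map (subIncl 𝒳 Q)) ⊆
          Set.range (Points.map (subIncl 𝒳 Q'))) := by
  refine ⟨⟨fun Q hQ => Groth.Agent.Helper19.SubSt.isOpen_range_of_isOpenSubstack h𝒳 Q hQ, ?_, ?_⟩, ?_⟩
  · intro Q hQ Q' hQ' h
    have h' : Set.range (Points.map (subIncl 𝒳 Q)) = Set.range (Points.map (subIncl 𝒳 Q')) := h
    rw [← ofSet_range_eq h𝒳 Q hQ, ← ofSet_range_eq h𝒳 Q' hQ', h']
  · intro T hT
    exact ⟨ofSet T, isOpenSubstack_ofSet h𝒳 T hT, range_ofSet T⟩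
  · intro Q Q' hQ hQ'
    constructor
    · rintro h _ ⟨w, rfl⟩
      obtain ⟨p, rfl⟩ := Points.mk_surjective w
      let p' : FPt (fullSub 𝒳 Q') :=
        { K := p.K, str := p.str, obj := ⟨p.obj.obj, h _ p.obj.property⟩, lies := p.lies }
      exact ⟨Points.mk p', rfl⟩
    · intro h y hy
      rw [← ofSet_range_eq h𝒳 Q' hQ']
      rw [← ofSet_range_eq h𝒳 Q hQ] at hy
      exact ofSet_mono h y hy

/-- S12861. -/
theorem exists_isOpenSubstack_union (h𝒳 : IsAlgStack Scheme.fppfPrecoverage 𝒳) {ι : Type w₃}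
    (Q : ι → 𝒳.obj → Prop) (hQ : ∀ i, IsOpenSubstack 𝒳 (Q i) Scheme.fppfPrecoverage) :
    ∃ Q' : 𝒳.obj → Prop, IsOpenSubstack 𝒳 Q' Scheme.fppfPrecoverage ∧ (∀ i y, Q i y → Q' y) ∧
      Set.range (Points.map (subIncl 𝒳 Q')) = ⋃ i, Set.range (Points.map (subIncl 𝒳 (Q i))) := by
  refine ⟨ofSet (⋃ i, Set.range (Points.map (subIncl 𝒳 (Q i)))), isOpenSubstack_ofSet h𝒳 _ ?_, ?_,
    range_ofSet _⟩
  · exact isOpen_iUnion fun i => Groth.Agent.Helper19.SubSt.isOpen_range_of_isOpenSubstack h𝒳 (Q i) (hQ i)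
  · intro i y hy
    rw [← ofSet_range_eq h𝒳 (Q i) (hQ i)] at hy
    exact ofSet_mono (Set.subset_iUnion (fun i => Set.range (Points.map (subIncl 𝒳 (Q i)))) i) y hy

end algst

end Groth.Agent.Helper19.OpenSub
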