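import Mathlib
import Groth.Agent.Lib.Helper19.LocQGen2
import Groth.Agent.Lib.Helper19.FlatLocQ
import Groth.Agent.Lib.Helper19.FlatSrc2
import Groth.Agent.Lib.Helper19.OpenSub

/-!
# Flat morphisms of algebraic stacks: descent along flat surjective morphisms (helper19)
-/

set_option autoImplicit false
set_option backward.isDefEq.respectTransparency false

universe w₃ v₃ w' v' w v u

open CategoryTheory CategoryTheory.Limits Functor AlgebraicGeometry Opposite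

namespace Groth.Agent.Helper19.LocQGen

open FibCat AlgSt Stk Groth.Agent.Helper19.FibLib Groth.Agent.Helper19.StLib
  Groth.Agent.Helper19.AlgP Groth.Agent.Helper19.SpProps Groth.Agent.Helper19.ChartOver
  Groth.Agent.Helper19.ProdAlg Groth.Agent.Helper19.SpDict Groth.Agent.Helper19.PshSt
  Groth.Agent.Helper19.ImmLib Groth.Agent.Helper16.AS Groth.Agent.Helper19.DiagAlgSp
  Groth.Agent.Helper19.LocQCore Groth.Agent.Helper19.FlatST Groth.Agent.Helper19.StPts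

variable {S : Scheme.{u}}

theorem surjective_left_of_isSurjective_overMap {U V : Over S} (h : U ⟶ V)
    (hs : IsSurjective (overMap h)) : Function.Surjective h.left := by
  intro v
  obtain ⟨w, hw⟩ := hs (chartPt V v)
  obtain ⟨u, rfl⟩ := (chartPt U).surjective w
  rw [Groth.Agent.Helper19.OpenSub.map_overMap_chartPt] at hw
  exact ⟨u, (chartPt V).injective hw⟩

theorem isSurjectiveMor_yon_map_of_surjective {U V : Over S} (h : U ⟶ V)
    (hs : Function.Surjective h.left) : AlgSp.IsSurjectiveMor ((AlgSp.yon S).map h) := by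
  intro p
  obtain ⟨v, rfl⟩ := (AlgSp.Points.schemeHomeo V).surjective p
  obtain ⟨u, rfl⟩ := hs v
  exact ⟨AlgSp.Points.schemeHomeo U u, AlgSp.Points.map_yon_map_apply h u⟩

theorem isSurjective_comp {𝒳 𝒴 𝒵 : AlgSt.Cat S} (f : 𝒳 ⥤ᵇ 𝒴) (g : 𝒴 ⥤ᵇ 𝒵) (hf : IsSurjective f)
    (hg : IsSurjective g) : IsSurjective (BasedFunctor.comp f g) := by
  intro z
  obtain ⟨y, rfl⟩ := hg z
  obtain ⟨x, rfl⟩ := hf y
  exact ⟨x, StPts.map_comp f g x⟩

theorem isSurjective_of_iso {𝒳 𝒴 : AlgSt.Cat S} {f f' : 𝒳 ⥤ᵇ 𝒴} (e : f ≅ f') (hf : IsSurjective f) :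
    IsSurjective f' := by
  intro z
  obtain ⟨x, rfl⟩ := hf z
  exact ⟨x, by rw [map_congr e]⟩

variable {𝒳 𝒴 𝒵 : AlgSt.Cat S}

/-- S13004. -/
theorem locQ_flat_of_comp (h𝒳 : IsAlgStack Scheme.fppfPrecoverage 𝒳)
    (h𝒴 : IsAlgStack Scheme.fppfPrecoverage 𝒴) (h𝒵 : IsAlgStack Scheme.fppfPrecoverage 𝒵)
    (f : 𝒳 ⥤ᵇ 𝒴) (g : 𝒴 ⥤ᵇ 𝒵) (hf₁ : LocQ (AlgSp.LocP @Flat) f) (hf₂ : IsSurjective f)
    (hfg : LocQ (AlgSp.LocP @Flat) (BasedFunctor.comp f g)) : LocQ (AlgSp.LocP @Flat) g := by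
  obtain ⟨W, z, hz, hzs⟩ := h𝒵.atlas
  have h𝒫 : IsAlgStack Scheme.fppfPrecoverage (fp z g) :=
    isAlgStack_fp h𝒵.isStack h𝒵.diag (isAlgStack_overCat W) h𝒴 z g
  obtain ⟨V, ug, hug, hugs⟩ := h𝒫.atlas
  obtain ⟨k, ⟨θg⟩⟩ := exists_overMap_iso (BasedFunctor.comp ug (fpFst z g))
  obtain ⟨U, uf, h, θf, huf, hufs, hflat_h⟩ :=
    exists_good_chart smStable_flat f hf₁ (BasedFunctor.comp ug (fpSnd z g))
  have hfU := isFibGrpd_overCat U
  have hfV := isFibGrpd_overCat V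
  have hfW := isFibGrpd_overCat W
  have hfp1 : IsFibGrpd (fp (BasedFunctor.comp ug (fpSnd z g)) f).p :=
    Groth.Agent.S6401.result _ _ hfV h𝒳.isStack.1 h𝒴.isStack.1
  have hfp2 : IsFibGrpd (fp (fpSnd z g) f).p :=
    Groth.Agent.S6401.result _ _ h𝒫.isStack.1 h𝒳.isStack.1 h𝒴.isStack.1
  have hfp3 : IsFibGrpd (fp ug (fpFst (fpSnd z g) f)).p :=
    Groth.Agent.S6401.result _ _ hfV hfp2 h𝒫.isStack.1
  -- the chart of `W ×_𝒵 𝒳`
  let m : fp (BasedFunctor.comp ug (fpSnd z g)) f ⥤ᵇ fp z (BasedFunctor.comp f g) :=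
    BasedFunctor.comp (pasteL ug (fpSnd z g) f)
      (BasedFunctor.comp (fpSnd ug (fpFst (fpSnd z g) f)) (pasteRInv z g f))
  have hm : RepByAlgSpWith (AlgSp.LocP @Smooth) m :=
    (repByAlgSpWith_equiv_comp _ (isEquivOver_pasteL ug (fpSnd z g) f) _).2
      ((repByAlgSpWith_comp_equiv _ _ (isEquivOver_pasteRInv z g f)).2
        (repByAlgSpWith_fpSnd ug (fpFst (fpSnd z g) f) hug))
  have hu' : RepByAlgSpWith (AlgSp.LocP @Smooth) (BasedFunctor.comp uf m) :=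
    repByAlgSpWith_comp stableAlg_smooth compAlg_smooth descAtlas_smooth hfU hfp1 uf m huf hm
  have θ' : BasedFunctor.comp (BasedFunctor.comp uf m) (fpFst z (BasedFunctor.comp f g)) ≅
      overMap (h ≫ k) := by
    have e1 : BasedFunctor.comp (fpSnd ug (fpFst (fpSnd z g) f)) (fpFst (fpSnd z g) f) ≅
        BasedFunctor.comp (fpFst ug (fpFst (fpSnd z g) f)) ug := (fpIso ug (fpFst (fpSnd z g) f)).symm
    have e2 : BasedFunctor.comp (BasedFunctor.comp uf m) (fpFst z (BasedFunctor.comp f g)) ≅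
        BasedFunctor.comp (BasedFunctor.comp uf (fpFst (BasedFunctor.comp ug (fpSnd z g)) f))
          (BasedFunctor.comp ug (fpFst z g)) :=
      whiskerLeftIso (BasedFunctor.comp uf (pasteL ug (fpSnd z g) f)) (whiskerRightIso e1 (fpFst z g))
    have e3 : BasedFunctor.comp (BasedFunctor.comp uf (fpFst (BasedFunctor.comp ug (fpSnd z g)) f))
          (BasedFunctor.comp ug (fpFst z g)) ≅ BasedFunctor.comp (overMap h) (overMap k) :=
      whiskerRightIso θf _ ≪≫ whiskerLeftIso (overMap h) θg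
    exact e2 ≪≫ e3 ≪≫ overMapComp h k
  have hflat_hk : AlgSp.LocP @Flat ((AlgSp.yon S).map (h ≫ k)) :=
    of_good_chart isSmoothLocalST_flat h𝒳.isStack.1 h𝒵.isStack.1 (BasedFunctor.comp f g) hfg z hz
      (BasedFunctor.comp uf m) hu' (h ≫ k) θ'
  -- `h` is surjective
  have hsurj : AlgSp.IsSurjectiveMor ((AlgSp.yon S).map h) := by
    apply isSurjectiveMor_yon_map_of_surjective
    apply surjective_left_of_isSurjective_overMap
    refine isSurjective_of_iso θf (isSurjective_comp _ _ ?_ ?_)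
    · exact isSurjective_of_repByAlgSpWith hfp1 uf hufs
    · exact isSurjective_fpFst h𝒳.isStack.1 h𝒴.isStack.1 hfV f _ hf₂
  have hflat_k : AlgSp.LocP @Flat ((AlgSp.yon S).map k) := by
    refine Groth.Agent.Helper19.FlatSrc2.locP_flat_of_precomp (AlgSp.IsAlgSpace.yon_obj U)
      (AlgSp.IsAlgSpace.yon_obj V) (AlgSp.IsAlgSpace.yon_obj W) ((AlgSp.yon S).map h)
      ((AlgSp.yon S).map k) hflat_h hsurj ?_
    rw [← Functor.map_comp]
    exact hflat_hk
  exact locQ_of_chart h𝒴.isStack.1 h𝒵.isStack.1 g z hz hzs ug hug hugs k θg hflat_k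

end Groth.Agent.Helper19.LocQGen
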