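import Mathlib
import Groth.Agent.Lib.Helper19.FlatLocQ2

/-!
# Flat morphisms of algebraic stacks: descent along flat surjective base change (helper19)
-/

set_option autoImplicit false
set_option backward.isDefEq.respectTransparency false

universe w₃ v₃ w' v' w v u

open CategoryTheory CategoryTheory.Limits Functor AlgebraicGeometry Opposite

namespace Groth.Agent.Helper19.LocQGen

open FibCat AlgSt Stk Groth.Agent.Helper19.FibLib Groth.Agent.Helper19.StLib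
  Groth.Agent.Helper19.AlgP Groth.Agent.Helper19.SpProps Groth.Agent.Helper19.ChartOver
  Groth.Agent.Helper19.ProdAlg Groth.Agent.Helper19.SpDict Groth.Agent.Helper19.PshSt
  Groth.Agent.Helper19.ImmLib Groth.Agent.Helper16.AS Groth.Agent.Helper19.DiagAlgSp
  Groth.Agent.Helper19.LocQCore Groth.Agent.Helper19.FlatST Groth.Agent.Helper19.StPts

variable {S : Scheme.{u}} {𝒳 𝒴 𝒵 : AlgSt.Cat S}

theorem isSurjective_of_isEquivOver {𝒳 𝒴 : AlgSt.Cat S} (e : 𝒳 ⥤ᵇ 𝒴) (he : IsEquivOver e) :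
    IsSurjective e := (mapHomeo e he).surjective

/-- the second projection of a fibre product is surjective when the first functor is. -/
theorem isSurjective_fpSnd (h𝒳 : IsFibGrpd 𝒳.p) (h𝒴 : IsFibGrpd 𝒴.p) (h𝒵 : IsFibGrpd 𝒵.p)
    (f : 𝒳 ⥤ᵇ 𝒴) (z : 𝒵 ⥤ᵇ 𝒴) (hz : IsSurjective z) : IsSurjective (fpSnd z f) := by
  have h1 : IsSurjective (fpFst f z) := isSurjective_fpFst h𝒵 h𝒴 h𝒳 z f hz
  exact isSurjective_comp (fpSwap z f) (fpFst f z)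
    (isSurjective_of_isEquivOver _ (isEquivOver_fpSwap z f)) h1

/-- base change of `LocQ P`, second projection. -/
theorem locQ_fpSnd {P : MorphismProperty (AlgSp.Sp S)} (hP : AlgSp.IsSmoothLocalST P) (hPb : StableAlg P)
    (h𝒳 : IsAlgStack Scheme.fppfPrecoverage 𝒳) (h𝒴 : IsAlgStack Scheme.fppfPrecoverage 𝒴)
    (h𝒵 : IsAlgStack Scheme.fppfPrecoverage 𝒵) (f : 𝒳 ⥤ᵇ 𝒴) (z : 𝒵 ⥤ᵇ 𝒴) (hz : LocQ P z) :
    LocQ P (fpSnd z f) :=
  locQ_equiv_comp (fpSwap z f) (isEquivOver_fpSwap z f) (fpFst f z)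
    (locQ_fpFst hP hPb h𝒵 h𝒴 h𝒳 z f hz)

/-- S13003. -/
theorem locQ_flat_of_fpFst (h𝒳 : IsAlgStack Scheme.fppfPrecoverage 𝒳)
    (h𝒴 : IsAlgStack Scheme.fppfPrecoverage 𝒴) (h𝒵 : IsAlgStack Scheme.fppfPrecoverage 𝒵)
    (f : 𝒳 ⥤ᵇ 𝒴) (z : 𝒵 ⥤ᵇ 𝒴) (hz₁ : LocQ (AlgSp.LocP @Flat) z) (hz₂ : IsSurjective z)
    (h : LocQ (AlgSp.LocP @Flat) (fpFst z f)) : LocQ (AlgSp.LocP @Flat) f := by
  have h𝒫 : IsAlgStack Scheme.fppfPrecoverage (fp z f) :=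
    isAlgStack_fp h𝒴.isStack h𝒴.diag h𝒵 h𝒳 z f
  have hst : StableAlg (S := S) (AlgSp.LocP @Flat) :=
    stableAlg_locP Groth.Agent.Helper15.goodP_flat srcEtLoc_flat
  have hcp : CompAlg (S := S) (AlgSp.LocP @Flat) :=
    compAlg_locP Groth.Agent.Helper15.goodP_flat srcEtLoc_flat
  refine locQ_flat_of_comp h𝒫 h𝒳 h𝒴 (fpSnd z f) f ?_ ?_ ?_
  · exact locQ_fpSnd isSmoothLocalST_flat hst h𝒳 h𝒴 h𝒵 f z hz₁
  · exact isSurjective_fpSnd h𝒳.isStack.1 h𝒴.isStack.1 h𝒵.isStack.1 f z hz₂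
  · exact locQ_of_iso (fpIso z f)
      (locQ_comp isSmoothLocalST_flat hcp h𝒫 h𝒵 (fpFst z f) z h hz₁)

end Groth.Agent.Helper19.LocQGen
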