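import Mathlib
import Groth.Agent.Lib.Helper19.FlatLocQ3

/-!
# Lifting through a flat, locally finitely presented, surjective morphism fppf locally (helper19)
-/

set_option autoImplicit false
set_option backward.isDefEq.respectTransparency false

universe w₃ v₃ w' v' w v u

open CategoryTheory CategoryTheory.Limits Functor AlgebraicGeometry Opposite

namespace Groth.Agent.Helper19.LocQGen

open FibCat AlgSt Stk Groth.Agent.Helper19.FibLib Groth.Agent.Helper19.StLib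
  Groth.Agent.Helper19.AlgP Groth.Agent.Helper19.SpProps Groth.Agent.Helper19.ChartOver
  Groth.Agent.Helper19.ProdAlg Groth.Agent.Helper19.SpDict Groth.Agent.Helper19.PshSt
  Groth.Agent.Helper19.ImmLib Groth.Agent.Helper16.AS Groth.Agent.Helper19.DiagAlgSp
  Groth.Agent.Helper19.LocQCore Groth.Agent.Helper19.FlatST Groth.Agent.Helper19.StPts

variable {S : Scheme.{u}} {𝒳 𝒴 : AlgSt.Cat S}

theorem smStable_inf {P Q : MorphismProperty (AlgSp.Sp S)} (hP : SmStable P) (hQ : SmStable Q) :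
    SmStable (P ⊓ Q) where
  precomp := fun _ _ _ hX hY hZ f g hf hg =>
    ⟨hP.precomp hX hY hZ f g hf hg.1, hQ.precomp hX hY hZ f g hf hg.2⟩
  postcomp := fun _ _ _ hX hY hZ f g hf hg =>
    ⟨hP.postcomp hX hY hZ f g hf.1 hg, hQ.postcomp hX hY hZ f g hf.2 hg⟩
  baseChange := stableAlg_inf hP.baseChange hQ.baseChange

/-- a flat and locally finitely presented morphism has ONE chart square that is flat and locally finitely
presented. -/
theorem locQ_inf_flat_lfp (h𝒳 : IsAlgStack Scheme.fppfPrecoverage 𝒳)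
    (h𝒴 : IsAlgStack Scheme.fppfPrecoverage 𝒴) (f : 𝒳 ⥤ᵇ 𝒴)
    (hf₁ : LocQ (AlgSp.LocP @Flat) f) (hf₂ : LocQ (AlgSp.LocP @LocallyOfFinitePresentation) f) :
    LocQ (AlgSp.LocP @Flat ⊓ AlgSp.LocP @LocallyOfFinitePresentation) f := by
  obtain ⟨V, y, hy, hys⟩ := h𝒴.atlas
  obtain ⟨U, u, h, θ, hu, hus, hlfp⟩ := exists_good_chart smStable_lfp f hf₂ y
  have hflat : AlgSp.LocP @Flat ((AlgSp.yon S).map h) :=
    of_good_chart isSmoothLocalST_flat h𝒳.isStack.1 h𝒴.isStack.1 f hf₁ y hy u hu h θ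
  exact locQ_of_chart h𝒳.isStack.1 h𝒴.isStack.1 f y hy hys u hu hus h θ ⟨hflat, hlfp⟩

/-- **fppf local lifting.**  Over any chart `t` of the target of a flat, locally finitely presented `f` there is
a smooth surjective scheme chart of the fibre product that is flat and locally of finite presentation over the
chart. -/
theorem exists_fppf_chart (h𝒳 : IsAlgStack Scheme.fppfPrecoverage 𝒳)
    (h𝒴 : IsAlgStack Scheme.fppfPrecoverage 𝒴) (f : 𝒳 ⥤ᵇ 𝒴)
    (hf₁ : LocQ (AlgSp.LocP @Flat) f) (hf₂ : LocQ (AlgSp.LocP @LocallyOfFinitePresentation) f)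
    {T : Over S} (t : overCat T ⥤ᵇ 𝒴) :
    ∃ (U : Over S) (u : overCat U ⥤ᵇ fp t f) (h : U ⟶ T)
      (_ : BasedFunctor.comp u (fpFst t f) ≅ overMap h),
      RepByAlgSpWith (AlgSp.LocP @Smooth) u ∧ RepByAlgSpWith AlgSp.IsSurjectiveMor u ∧
      Flat h.left ∧ LocallyOfFinitePresentation h.left := by
  obtain ⟨U, u, h, θ, hu, hus, hP⟩ := exists_good_chart (smStable_inf smStable_flat smStable_lfp) f
    (locQ_inf_flat_lfp h𝒳 h𝒴 f hf₁ hf₂) t
  exact ⟨U, u, h, θ, hu, hus, AlgSp.locP_yon_map hP.1, AlgSp.locP_yon_map hP.2⟩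

/-- the image of the chart: the points of `T` whose image in `𝒴` lies in the image of `f`. -/
theorem range_of_chart (h𝒳 : IsFibGrpd 𝒳.p) (h𝒴 : IsFibGrpd 𝒴.p) (f : 𝒳 ⥤ᵇ 𝒴)
    {T : Over S} (t : overCat T ⥤ᵇ 𝒴) {U : Over S} (u : overCat U ⥤ᵇ fp t f) (h : U ⟶ T)
    (θ : BasedFunctor.comp u (fpFst t f) ≅ overMap h)
    (hus : RepByAlgSpWith AlgSp.IsSurjectiveMor u) (p : ↥T.left)
    (hp : Points.ofChart t p ∈ Set.range (Points.map f)) : p ∈ Set.range h.left := by
  obtain ⟨q, hq⟩ := hp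
  have hfp : IsFibGrpd (fp t f).p := Groth.Agent.S6401.result _ _ (isFibGrpd_overCat T) h𝒳 h𝒴
  obtain ⟨w, hw1, -⟩ := exists_points_fp_of_map_eq h𝒳 h𝒴 (isFibGrpd_overCat T) f t (chartPt T p) q
    (by rw [← ofChart_eq, hq])
  obtain ⟨v, rfl⟩ := isSurjective_of_repByAlgSpWith hfp u hus w
  obtain ⟨v', rfl⟩ := (chartPt U).surjective v
  refine ⟨v', ?_⟩
  apply (chartPt T).injective
  rw [← hw1, ← StPts.map_comp, map_congr θ, Groth.Agent.Helper19.OpenSub.map_overMap_chartPt]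

end Groth.Agent.Helper19.LocQGen
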