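import Mathlib
import Groth.Agent.Lib.Helper19.FppfLift
import Groth.Agent.Lib.Helper19.SieveCover
import Groth.Agent.Lib.Helper19.QcPts

/-!
# Base change and composition for smooth-stable properties; descent along fppf covers of stacks (helper19)
-/

set_option autoImplicit false
set_option backward.isDefEq.respectTransparency false

universe w₃ v₃ w' v' w v u

open CategoryTheory CategoryTheory.Limits Functor AlgebraicGeometry Opposite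

namespace Groth.Agent.Helper19.LocQGen

open FibCat AlgSt Stk Groth.Agent.Helper19.FibLib Groth.Agent.Helper19.StLib
  Groth.Agent.Helper19.AlgP Groth.Agent.Helper19.SpProps Groth.Agent.Helper19.ChartOver
  Groth.Agent.Helper19.ProdAlg Groth.Agent.Helper19.SpDict Groth.Agent.Helper19.PshSt
  Groth.Agent.Helper19.ImmLib Groth.Agent.Helper16.AS Groth.Agent.Helper19.DiagAlgSp
  Groth.Agent.Helper19.LocQCore Groth.Agent.Helper19.FlatST Groth.Agent.Helper19.StPts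

variable {S : Scheme.{u}} {𝒳 𝒴 𝒵 : AlgSt.Cat S} {P : MorphismProperty (AlgSp.Sp S)}

/-- base change of `LocQ P` for smooth-stable `P`. -/
theorem locQ_fpFst' (hP : SmStable P) {𝒴' : AlgSt.Cat S}
    (h𝒳 : IsAlgStack Scheme.fppfPrecoverage 𝒳) (h𝒴 : IsAlgStack Scheme.fppfPrecoverage 𝒴)
    (h𝒴' : IsAlgStack Scheme.fppfPrecoverage 𝒴') (f : 𝒳 ⥤ᵇ 𝒴) (g : 𝒴' ⥤ᵇ 𝒴) (hf : LocQ P f) :
    LocQ P (fpFst g f) := by
  obtain ⟨V', y', hy', hy's⟩ := h𝒴'.atlas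
  obtain ⟨𝒜, pA, hpA, a, ha, has, hPa⟩ := exists_atlas_baseChange' hP f hf (BasedFunctor.comp y' g)
  have hfA := isFibGrpd_of_pres pA
  have hfV' := isFibGrpd_of_pres (Pres.ov V')
  have hfp : IsFibGrpd (fp (BasedFunctor.comp y' g) f).p :=
    Groth.Agent.S6401.result _ _ hfV' h𝒳.isStack.1 h𝒴.isStack.1
  let b : fp (BasedFunctor.comp y' g) f ⥤ᵇ fp g f :=
    BasedFunctor.comp (pasteL y' g f) (fpSnd y' (fpFst g f))
  have hb : RepByAlgSpWith (AlgSp.LocP @Smooth) b :=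
    (repByAlgSpWith_equiv_comp _ (isEquivOver_pasteL y' g f) _).2 (repByAlgSpWith_fpSnd y' (fpFst g f) hy')
  have hbs : RepByAlgSpWith AlgSp.IsSurjectiveMor b :=
    (repByAlgSpWith_equiv_comp _ (isEquivOver_pasteL y' g f) _).2 (repByAlgSpWith_fpSnd y' (fpFst g f) hy's)
  refine locQ_of_pres_square' hP (fpFst g f) pA hpA (BasedFunctor.comp a b) ?_ ?_ y' hy'
    (BasedFunctor.comp a (fpFst (BasedFunctor.comp y' g) f))
    (whiskerLeftIso (BasedFunctor.comp a (pasteL y' g f)) (fpIso y' (fpFst g f)).symm) hPa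
  · exact repByAlgSpWith_comp stableAlg_smooth compAlg_smooth descAtlas_smooth hfA hfp a b ha hb
  · exact repByAlgSpWith_comp stableAlg_isSurjectiveMor compAlg_isSurjectiveMor descAtlas_isSurjectiveMor
      hfA hfp a b has hbs

/-- composition of `LocQ P` for smooth-stable `P` stable under composition. -/
theorem locQ_comp' (hP : SmStable P) (hPc : CompAlg P)
    (h𝒳 : IsFibGrpd 𝒳.p) (h𝒴 : IsFibGrpd 𝒴.p)
    (f : 𝒳 ⥤ᵇ 𝒴) (g : 𝒴 ⥤ᵇ 𝒵) (hf : LocQ P f) (hg : LocQ P g) : LocQ P (BasedFunctor.comp f g) := by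
  obtain ⟨U₁, W₁, y₁, z₁, k₁, β₁, hy₁, hy₁s, hz₁, hQ₁⟩ := hg
  obtain ⟨U, u, h, θ, hu, hus, hPh⟩ := exists_good_chart hP f hf y₁
  have hfU := isFibGrpd_overCat U
  have hfp : IsFibGrpd (fp y₁ f).p := Groth.Agent.S6401.result _ _ (isFibGrpd_overCat U₁) h𝒳 h𝒴
  refine ⟨U, W₁, BasedFunctor.comp u (fpSnd y₁ f), z₁, h ≫ k₁,
    whiskerRightIso (liftIso f y₁ u (overMap h) θ) g ≪≫ whiskerLeftIso (overMap h) β₁ ≪≫
      whiskerRightIso (overMapComp h k₁) z₁, ?_, ?_, hz₁, ?_⟩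
  · exact repByAlgSpWith_comp stableAlg_smooth compAlg_smooth descAtlas_smooth hfU hfp u
      (fpSnd y₁ f) hu (repByAlgSpWith_fpSnd y₁ f hy₁)
  · exact repByAlgSpWith_comp stableAlg_isSurjectiveMor compAlg_isSurjectiveMor descAtlas_isSurjectiveMor
      hfU hfp u (fpSnd y₁ f) hus (repByAlgSpWith_fpSnd y₁ f hy₁s)
  · rw [Functor.map_comp]
    exact hPc (AlgSp.IsAlgSpace.yon_obj U) (AlgSp.IsAlgSpace.yon_obj U₁) (AlgSp.IsAlgSpace.yon_obj W₁) _ _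
      hPh hQ₁

/-- the sieve of local lifts through a flat, locally finitely presented, surjective morphism. -/
theorem exists_sieve_lift (h𝒵 : IsAlgStack Scheme.fppfPrecoverage 𝒵)
    (h𝒴 : IsAlgStack Scheme.fppfPrecoverage 𝒴) (z : 𝒵 ⥤ᵇ 𝒴)
    (hz₁ : LocQ (AlgSp.LocP @Flat) z) (hz₂ : LocQ (AlgSp.LocP @LocallyOfFinitePresentation) z)
    (hz₃ : IsSurjective z) (U : Over S) (y : overCat U ⥤ᵇ 𝒴) :
    ∃ R ∈ (QuotSh.J Scheme.fppfPrecoverage S) U,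
      ∀ ⦃V : Over S⦄ (h : V ⟶ U), R.arrows h →
        ∃ z' : overCat V ⥤ᵇ 𝒵, Nonempty (BasedFunctor.comp z' z ≅ BasedFunctor.comp (overMap h) y) := by
  obtain ⟨U', u, h, θ, hu, hus, hflat, hlfp⟩ := exists_fppf_chart h𝒵 h𝒴 z hz₁ hz₂ y
  have hsurj : Surjective h.left := ⟨fun p =>
    range_of_chart h𝒵.isStack.1 h𝒴.isStack.1 z y u h θ hus p (hz₃ _)⟩
  refine ⟨_, Groth.Agent.Helper15.singleton_mem_J h hflat hlfp hsurj, ?_⟩
  rintro V h' ⟨Y, w, g, ⟨_⟩, rfl⟩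
  refine ⟨BasedFunctor.comp (overMap w) (BasedFunctor.comp u (fpSnd y z)), ⟨?_⟩⟩
  exact whiskerLeftIso (overMap w) (liftIso z y u (overMap h) θ) ≪≫
    whiskerRightIso (overMapComp w h) y

/-- S12995 (⇐). -/
theorem repByAlgSpWith_of_fpFst_fppf (hP₁ : StableAlg P) (hP₂ : AlgSp.IsLocalOnBase AlgSp.IsFppfCover P)
    (h𝒳 : IsAlgStack Scheme.fppfPrecoverage 𝒳) (h𝒴 : IsAlgStack Scheme.fppfPrecoverage 𝒴)
    (h𝒵 : IsAlgStack Scheme.fppfPrecoverage 𝒵) (f : 𝒳 ⥤ᵇ 𝒴) (hf : RepByAlgSp1 f) (z : 𝒵 ⥤ᵇ 𝒴)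
    (hz₁ : LocQ (AlgSp.LocP @Flat) z) (hz₂ : LocQ (AlgSp.LocP @LocallyOfFinitePresentation) z)
    (hz₃ : IsSurjective z) (h : RepByAlgSpWith P (fpFst z f)) : RepByAlgSpWith P f :=
  Groth.Agent.Helper19.SieveCover.repByAlgSpWith_of_sieve hP₁ hP₂ h𝒳.isStack.1 h𝒴.isStack.1
    h𝒵.isStack.1 f hf z (exists_sieve_lift h𝒵 h𝒴 z hz₁ hz₂ hz₃) h

/-- S13009. -/
theorem isQuasiCompactMor_of_fpFst_fppf (h𝒳 : IsAlgStack Scheme.fppfPrecoverage 𝒳)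
    (h𝒴 : IsAlgStack Scheme.fppfPrecoverage 𝒴) (h𝒵 : IsAlgStack Scheme.fppfPrecoverage 𝒵)
    (f : 𝒳 ⥤ᵇ 𝒴) (z : 𝒵 ⥤ᵇ 𝒴)
    (hz₁ : LocQ (AlgSp.LocP @Flat) z) (hz₂ : LocQ (AlgSp.LocP @LocallyOfFinitePresentation) z)
    (hz₃ : IsSurjective z) (hq : IsQuasiCompactMor Scheme.fppfPrecoverage (fpFst z f)) :
    IsQuasiCompactMor Scheme.fppfPrecoverage f := by
  refine Groth.Agent.Helper19.QcPts.isQuasiCompactMor_of_fpFst_cover h𝒳 h𝒴 h𝒵 f z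
    (fun 𝒵' h𝒵' g => ?_) hq
  have h𝒫 : IsAlgStack Scheme.fppfPrecoverage (fp g z) :=
    isAlgStack_fp h𝒴.isStack h𝒴.diag h𝒵' h𝒵 g z
  refine ⟨isOpenMor_of_flat_lfp h𝒫 h𝒵' (fpFst g z) (locQ_fpFst' smStable_flat h𝒵 h𝒴 h𝒵' z g hz₁)
    (locQ_fpFst' smStable_lfp h𝒵 h𝒴 h𝒵' z g hz₂), ?_⟩
  exact isSurjective_fpFst h𝒵.isStack.1 h𝒴.isStack.1 h𝒵'.isStack.1 z g hz₃

end Groth.Agent.Helper19.LocQGen
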