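import Mathlib

/-!
# Descent of local Noetherianity along flat, surjective, open morphisms of schemes (helper19)
-/

set_option autoImplicit false

universe u

open CategoryTheory AlgebraicGeometry

namespace Groth.Agent.Helper19.NoethDesc

theorem isNoetherianRing_of_faithfullyFlat {A B : Type*} [CommRing A] [CommRing B] [Algebra A B]
    [Module.FaithfullyFlat A B] [IsNoetherianRing B] : IsNoetherianRing A := by
  rw [isNoetherianRing_iff, isNoetherian_iff']
  have hB : WellFoundedGT (Ideal B) := (isNoetherian_iff'.1 (isNoetherianRing_iff.1 ‹_›))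
  have hmono : StrictMono (fun I : Ideal A => I.map (algebraMap A B)) := by
    intro I J hIJ
    refine lt_of_le_of_ne (Ideal.map_mono hIJ.le) ?_
    intro h
    have := congrArg (Ideal.comap (algebraMap A B)) h
    simp only [Ideal.comap_map_eq_self_of_faithfullyFlat] at this
    exact hIJ.ne this
  exact hmono.wellFoundedGT

theorem isNoetherianRing_of_ringHom_faithfullyFlat {A B : Type*} [CommRing A] [CommRing B] (φ : A →+* B)
    (hφ : φ.FaithfullyFlat) [IsNoetherianRing B] : IsNoetherianRing A := by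
  algebraize [φ]
  exact isNoetherianRing_of_faithfullyFlat (A := A) (B := B)

/-- affine case -/
theorem isNoetherianRing_of_affine_flat_surjective {Y' Y : Scheme.{u}} [IsAffine Y'] [IsAffine Y]
    (φ : Y' ⟶ Y) [Flat φ] [Surjective φ] [IsLocallyNoetherian Y'] : IsNoetherianRing Γ(Y, ⊤) := by
  have hff : φ.appTop.hom.FaithfullyFlat :=
    (Flat.flat_and_surjective_iff_faithfullyFlat_of_isAffine (f := φ)).1 ⟨inferInstance, inferInstance⟩
  have : IsNoetherianRing Γ(Y', ⊤) :=
    IsLocallyNoetherian.component_noetherian (X := Y') ⟨⊤, isAffineOpen_top Y'⟩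
  exact isNoetherianRing_of_ringHom_faithfullyFlat _ hff

theorem isLocallyNoetherian_of_flat_surjective_open {X' X : Scheme.{u}} (g : X' ⟶ X) [Flat g]
    (hs : Function.Surjective g) (ho : IsOpenMap g) [IsLocallyNoetherian X'] :
    IsLocallyNoetherian X := by
  have key : ∀ x : X, ∃ W : X.affineOpens, x ∈ W.1 ∧ IsNoetherianRing Γ(X, W.1) := by
    intro x
    obtain ⟨x', rfl⟩ := hs x
    obtain ⟨_, ⟨U, hU : IsAffineOpen U, rfl⟩, hxU, -⟩ :=
      X.isBasis_affineOpens.exists_subset_of_mem_open (Set.mem_univ (g x')) isOpen_univ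
    obtain ⟨_, ⟨V, hV : IsAffineOpen V, rfl⟩, hx'V, hVU⟩ :=
      X'.isBasis_affineOpens.exists_subset_of_mem_open (show x' ∈ (g ⁻¹ᵁ U : Set X') from hxU)
        (g ⁻¹ᵁ U).isOpen
    let W₀ : X.Opens := ⟨g '' V, ho _ V.isOpen⟩
    obtain ⟨a, ha₁, ha₂⟩ := hU.exists_basicOpen_le (V := W₀) ⟨g x', x', hx'V, rfl⟩ hxU
    refine ⟨⟨X.basicOpen a, hU.basicOpen a⟩, ha₂, ?_⟩
    have hVU' : V ≤ g ⁻¹ᵁ U := hVU
    let V' : X'.Opens := X'.basicOpen (g.appLE U V hVU' a)
    have hV' : IsAffineOpen V' := hV.basicOpen _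
    have hV'eq : V' = V ⊓ g ⁻¹ᵁ (X.basicOpen a) := Scheme.basicOpen_appLE g V U hVU' a
    have e' : V' ≤ g ⁻¹ᵁ (X.basicOpen a) := by rw [hV'eq]; exact inf_le_right
    have i1 : IsAffine V'.toScheme := hV'
    have i2 : IsAffine (X.basicOpen a).toScheme := hU.basicOpen a
    have i3 : Surjective (g.resLE (X.basicOpen a) V' e') := by
      constructor
      rintro ⟨p, hp⟩
      obtain ⟨v, hv, rfl⟩ := ha₁ hp
      have hvV' : v ∈ V' := by rw [hV'eq]; exact ⟨hv, hp⟩
      refine ⟨⟨v, hvV'⟩, ?_⟩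
      apply Subtype.ext
      exact Scheme.Hom.coe_resLE_apply g e' ⟨v, hvV'⟩
    have := isNoetherianRing_of_affine_flat_surjective (g.resLE (X.basicOpen a) V' e')
    exact isNoetherianRing_of_ringEquiv _ (Scheme.Opens.topIso (X.basicOpen a)).commRingCatIsoToRingEquiv
  choose W hxW hW using key
  refine isLocallyNoetherian_of_affine_cover (S := W) ?_ hW
  ext x
  simp only [TopologicalSpace.Opens.coe_iSup, Set.mem_iUnion, SetLike.mem_coe,
    TopologicalSpace.Opens.coe_top, Set.mem_univ, iff_true]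
  exact ⟨x, hxW x⟩

/-- descent along a smooth surjective morphism. -/
theorem isLocallyNoetherian_of_smooth_surjective {X' X : Scheme.{u}} (g : X' ⟶ X) [Smooth g]
    (hs : Function.Surjective g) [IsLocallyNoetherian X'] : IsLocallyNoetherian X :=
  isLocallyNoetherian_of_flat_surjective_open g hs g.isOpenMap

end Groth.Agent.Helper19.NoethDesc
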