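import Mathlib
import Groth.Agent.Lib.Helper19.LocQGen3
import Groth.Agent.Lib.Helper19.NoethDesc

/-!
# Locally Noetherian algebraic stacks and morphisms locally of finite type (helper19)
-/

set_option autoImplicit false
set_option backward.isDefEq.respectTransparency false

universe w₃ v₃ w' v' w v u

open CategoryTheory CategoryTheory.Limits Functor AlgebraicGeometry Opposite

namespace Groth.Agent.Helper19.LocQGen

open FibCat AlgSt Stk Groth.Agent.Helper19.FibLib Groth.Agent.Helper19.StLib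
  Groth.Agent.Helper19.AlgP Groth.Agent.Helper19.SpProps Groth.Agent.Helper19.ChartOver
  Groth.Agent.Helper19.ProdAlg Groth.Agent.Helper19.SpDict Groth.Agent.Helper19.PshSt
  Groth.Agent.Helper19.ImmLib Groth.Agent.Helper16.AS Groth.Agent.Helper19.DiagAlgSp
  Groth.Agent.Helper19.LocQCore Groth.Agent.Helper19.FlatST Groth.Agent.Helper19.StPts

variable {S : Scheme.{u}} {𝒳 𝒴 : AlgSt.Cat S}

theorem locP_yon_map_of {P : MorphismProperty Scheme.{u}} (hP : Groth.Agent.Helper15.GoodP P)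
    (hsrc : SrcEtLoc P) {U V : Over S} (h : U ⟶ V) (hh : P h.left) :
    AlgSp.LocP P ((AlgSp.yon S).map h) :=
  locP_of_chart_over_scheme hP hsrc ((AlgSp.yon S).map h) (𝟙 _) (AlgSp.repWith_id _ U)
    (AlgSp.repWith_id _ U) h (Category.id_comp _) hh

/-- a functor representable by algebraic spaces with `P` has `P` on a chart square. -/
theorem locQ_of_repByAlgSpWith' {P : MorphismProperty (AlgSp.Sp S)} (hP : SmStable P)
    (h𝒴 : IsAlgStack Scheme.fppfPrecoverage 𝒴) (f : 𝒳 ⥤ᵇ 𝒴) (h : RepByAlgSpWith P f) : LocQ P f := by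
  obtain ⟨V₀, y₀, hy₀, hy₀s⟩ := h𝒴.atlas
  obtain ⟨F, e, he, hPF⟩ := h V₀ y₀
  rw [← map_ofEquiv_ov F.obj e he] at hPF
  exact locQ_of_pres_square' hP f (Pres.ofEquiv F.obj e he) F.property (fpSnd y₀ f)
    (repByAlgSpWith_fpSnd y₀ f hy₀) (repByAlgSpWith_fpSnd y₀ f hy₀s) y₀ hy₀ (fpFst y₀ f)
    (fpIso y₀ f).symm hPF

/-- any chart is refined, smooth locally, by a given smooth surjective chart. -/
theorem exists_smooth_refinement (h𝒳 : IsAlgStack Scheme.fppfPrecoverage 𝒳) {U U' : Over S}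
    (x : overCat U ⥤ᵇ 𝒳) (x' : overCat U' ⥤ᵇ 𝒳)
    (hx' : RepByAlgSpWith (AlgSp.LocP @Smooth) x') (hx's : RepByAlgSpWith AlgSp.IsSurjectiveMor x') :
    ∃ (U'' : Over S) (a : U'' ⟶ U) (b : U'' ⟶ U'), Smooth a.left ∧ Function.Surjective a.left ∧
      (RepByAlgSpWith (AlgSp.LocP @Smooth) x → Smooth b.left) ∧
      Nonempty (BasedFunctor.comp (overMap a) x ≅ BasedFunctor.comp (overMap b) x') := by
  have hfU := isFibGrpd_overCat U
  have hfU' := isFibGrpd_overCat U'
  have hLQ : LocQ (AlgSp.LocP @Smooth) x' := locQ_of_repByAlgSpWith' smStable_smooth h𝒳 x' hx'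
  obtain ⟨U'', u, a, θ, hu, hus, ha⟩ := exists_good_chart smStable_smooth x' hLQ x
  obtain ⟨b, ⟨η⟩⟩ := exists_overMap_iso (BasedFunctor.comp u (fpSnd x x'))
  have hfp : IsFibGrpd (fp x x').p := Groth.Agent.S6401.result _ _ hfU hfU' h𝒳.isStack.1
  refine ⟨U'', a, b, AlgSp.locP_yon_map ha, ?_, ?_, ⟨?_⟩⟩
  · intro p
    exact range_of_chart hfU' h𝒳.isStack.1 x' x u a θ hus p
      (isSurjective_of_repByAlgSpWith h𝒳.isStack.1 x' hx's _)
  · intro hx
    have h1 : RepByAlgSpWith (AlgSp.LocP @Smooth) (BasedFunctor.comp u (fpSnd x x')) :=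
      repByAlgSpWith_comp stableAlg_smooth compAlg_smooth descAtlas_smooth (isFibGrpd_overCat U'') hfp u
        (fpSnd x x') hu (repByAlgSpWith_fpSnd x x' hx)
    have h2 : RepByAlgSpWith (AlgSp.LocP @Smooth) (overMap b) := repByAlgSpWith_of_iso η.symm h1
    have h3 := (smooth_map_iff (Pres.ov U'') (Pres.ov U') (AlgSp.IsAlgSpace.yon_obj U'')
      (AlgSp.IsAlgSpace.yon_obj U') (overMap b)).1 h2
    rw [Pres.map_overMap] at h3
    exact AlgSp.locP_yon_map h3
  · exact (whiskerRightIso θ x).symm ≪≫ whiskerLeftIso u (fpIso x x') ≪≫ whiskerRightIso η x'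

/-- S12998. -/
theorem smoothLocally_noetherian_of_lft (h𝒳 : IsAlgStack Scheme.fppfPrecoverage 𝒳)
    (h𝒴 : IsAlgStack Scheme.fppfPrecoverage 𝒴) (f : 𝒳 ⥤ᵇ 𝒴)
    (hf : LocQ (AlgSp.LocP @LocallyOfFiniteType) f)
    (hY : SmoothLocally (fun T => IsLocallyNoetherian T) 𝒴) :
    SmoothLocally (fun T => IsLocallyNoetherian T) 𝒳 := by
  intro U x hx
  obtain ⟨V, y, hy, hys⟩ := h𝒴.atlas
  have hV : IsLocallyNoetherian V.left := hY V y hy
  obtain ⟨U', u, h, θ, hu, hus, hlft⟩ := exists_good_chart smStable_lft f hf y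
  have hh : LocallyOfFiniteType h.left := AlgSp.locP_yon_map hlft
  have hU' : IsLocallyNoetherian U'.left := LocallyOfFiniteType.isLocallyNoetherian h.left
  have hfp : IsFibGrpd (fp y f).p :=
    Groth.Agent.S6401.result _ _ (isFibGrpd_overCat V) h𝒳.isStack.1 h𝒴.isStack.1
  have hx' : RepByAlgSpWith (AlgSp.LocP @Smooth) (BasedFunctor.comp u (fpSnd y f)) :=
    repByAlgSpWith_comp stableAlg_smooth compAlg_smooth descAtlas_smooth (isFibGrpd_overCat U') hfp u
      (fpSnd y f) hu (repByAlgSpWith_fpSnd y f hy)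
  have hx's : RepByAlgSpWith AlgSp.IsSurjectiveMor (BasedFunctor.comp u (fpSnd y f)) :=
    repByAlgSpWith_comp stableAlg_isSurjectiveMor compAlg_isSurjectiveMor descAtlas_isSurjectiveMor
      (isFibGrpd_overCat U') hfp u (fpSnd y f) hus (repByAlgSpWith_fpSnd y f hys)
  obtain ⟨U'', a, b, ha, has, hb, -⟩ := exists_smooth_refinement h𝒳 x _ hx' hx's
  have hb' : Smooth b.left := hb hx
  have hU'' : IsLocallyNoetherian U''.left := LocallyOfFiniteType.isLocallyNoetherian b.left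
  exact Groth.Agent.Helper19.NoethDesc.isLocallyNoetherian_of_smooth_surjective a.left has

/-- S12999. -/
theorem locQ_lfp_of_lft_of_noetherian (h𝒳 : IsAlgStack Scheme.fppfPrecoverage 𝒳)
    (h𝒴 : IsAlgStack Scheme.fppfPrecoverage 𝒴) (f : 𝒳 ⥤ᵇ 𝒴)
    (hY : SmoothLocally (fun T => IsLocallyNoetherian T) 𝒴)
    (hf : LocQ (AlgSp.LocP @LocallyOfFiniteType) f) :
    LocQ (AlgSp.LocP @LocallyOfFinitePresentation) f := by
  obtain ⟨V, y, hy, hys⟩ := h𝒴.atlas
  have hV : IsLocallyNoetherian V.left := hY V y hy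
  obtain ⟨U', u, h, θ, hu, hus, hlft⟩ := exists_good_chart smStable_lft f hf y
  have hh : LocallyOfFiniteType h.left := AlgSp.locP_yon_map hlft
  have hh' : LocallyOfFinitePresentation h.left := inferInstance
  exact locQ_of_chart h𝒳.isStack.1 h𝒴.isStack.1 f y hy hys u hu hus h θ
    (locP_yon_map_of Groth.Agent.Helper15.goodP_lfp srcEtLoc_lfp h hh')

end Groth.Agent.Helper19.LocQGen
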