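import Mathlib
import Groth.Agent.Lib.Helper19.ImmLib
import Groth.Agent.Lib.Helper15.AlgSpGlue
import Groth.Agent.Lib.Helper15.AlgSpAff

/-!
# Affine, integral, finite morphisms of algebraic stacks compose (helper19)
-/

set_option autoImplicit false

universe w₄ v₄ w₃ v₃ w' v' w v u

open CategoryTheory CategoryTheory.Limits AlgebraicGeometry Opposite

namespace Groth.Agent.Helper19.AffComp

open AlgSp AlgSt FibCat Groth.Agent.Helper15

variable {S : Scheme.{u}}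

theorem repByAlgSpWith_congr {Q Q' : MorphismProperty (AlgSp.Sp S)} (h : ∀ ⦃X Y : AlgSp.Sp S⦄ (f : X ⟶ Y), Q f ↔ Q' f)
    {𝒳 : BasedCategory.{v, w} (Over S)} {𝒴 : BasedCategory.{v', w'} (Over S)} (f : 𝒳 ⥤ᵇ 𝒴) :
    RepByAlgSpWith Q f ↔ RepByAlgSpWith Q' f := by
  constructor
  · intro hf U y
    obtain ⟨F, e, he, hQ⟩ := hf U y
    exact ⟨F, e, he, (h _).1 hQ⟩
  · intro hf U y
    obtain ⟨F, e, he, hQ⟩ := hf U y
    exact ⟨F, e, he, (h _).2 hQ⟩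

theorem isAffineMor_iff_repWith {F G : Sp S} (f : F ⟶ G) : IsAffineMor f ↔ RepWith @IsAffineHom f :=
  ⟨fun h => repWith_of_affRep f ((isAffineMor_iff_affRep f).1 h),
    fun h => (isAffineMor_iff_affRep f).2 (affRep_of_repWith h)⟩

theorem isIntegralMor_iff_repWith {F G : Sp S} (f : F ⟶ G) : IsIntegralMor f ↔ RepWith @IsIntegralHom f :=
  ⟨fun h => repWith_of_affRep f ((isIntegralMor_iff_affRep f).1 h),
    fun h => (isIntegralMor_iff_affRep f).2 (affRep_of_repWith h)⟩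

theorem isFiniteMor_iff_repWith {F G : Sp S} (f : F ⟶ G) : IsFiniteMor f ↔ RepWith @IsFinite f :=
  ⟨fun h => repWith_of_affRep f ((isFiniteMor_iff_affRep f).1 h),
    fun h => (isFiniteMor_iff_affRep f).2 (affRep_of_repWith h)⟩

theorem isAffineMor_comp {𝒳 : BasedCategory.{v, w} (Over S)} {𝒴 : BasedCategory.{v', w'} (Over S)}
    {𝒵 : BasedCategory.{v₃, w₃} (Over S)} (f : 𝒳 ⥤ᵇ 𝒴) (g : 𝒴 ⥤ᵇ 𝒵)
    (hf : RepByAlgSpWith AlgSp.IsAffineMor f) (hg : RepByAlgSpWith AlgSp.IsAffineMor g) :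
    RepByAlgSpWith AlgSp.IsAffineMor (BasedFunctor.comp f g) := by
  rw [repByAlgSpWith_congr (Q' := RepWith @IsAffineHom) (fun _ _ f => isAffineMor_iff_repWith f)] at hf hg ⊢
  exact Groth.Agent.Helper19.ImmLib.repByAlgSpWith_repWith_comp _ f g hf hg

theorem isIntegralMor_comp {𝒳 : BasedCategory.{v, w} (Over S)} {𝒴 : BasedCategory.{v', w'} (Over S)}
    {𝒵 : BasedCategory.{v₃, w₃} (Over S)} (f : 𝒳 ⥤ᵇ 𝒴) (g : 𝒴 ⥤ᵇ 𝒵)
    (hf : RepByAlgSpWith AlgSp.IsIntegralMor f) (hg : RepByAlgSpWith AlgSp.IsIntegralMor g) :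
    RepByAlgSpWith AlgSp.IsIntegralMor (BasedFunctor.comp f g) := by
  rw [repByAlgSpWith_congr (Q' := RepWith @IsIntegralHom) (fun _ _ f => isIntegralMor_iff_repWith f)] at hf hg ⊢
  exact Groth.Agent.Helper19.ImmLib.repByAlgSpWith_repWith_comp _ f g hf hg

theorem isFiniteMor_comp {𝒳 : BasedCategory.{v, w} (Over S)} {𝒴 : BasedCategory.{v', w'} (Over S)}
    {𝒵 : BasedCategory.{v₃, w₃} (Over S)} (f : 𝒳 ⥤ᵇ 𝒴) (g : 𝒴 ⥤ᵇ 𝒵)
    (hf : RepByAlgSpWith AlgSp.IsFiniteMor f) (hg : RepByAlgSpWith AlgSp.IsFiniteMor g) :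
    RepByAlgSpWith AlgSp.IsFiniteMor (BasedFunctor.comp f g) := by
  rw [repByAlgSpWith_congr (Q' := RepWith @IsFinite) (fun _ _ f => isFiniteMor_iff_repWith f)] at hf hg ⊢
  exact Groth.Agent.Helper19.ImmLib.repByAlgSpWith_repWith_comp _ f g hf hg

end Groth.Agent.Helper19.AffComp
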