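import Mathlib

set_option autoImplicit false
universe u
open AlgebraicGeometry CategoryTheory Limits

namespace Groth.Agent.Lib.Helper19.AffUnits

open AffineSpace

/-- affine case: every unit is pulled back from the base -/
lemma exists_of_isUnit_Spec (n : Type u) (R : CommRingCat.{u}) [IsReduced R]
    (w : Γ(𝔸(n; Spec R), ⊤)) (hw : IsUnit w) :
    ∃ t : Γ(Spec R, ⊤), (𝔸(n; Spec R) ↘ Spec R).appTop t = w := by
  let e := SpecIso n R
  have hu : IsUnit ((Scheme.ΓSpecIso (.of (MvPolynomial n R))).hom (e.inv.appTop w)) :=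
    (hw.map _).map _
  obtain ⟨r, hr, hfr⟩ := MvPolynomial.isUnit_iff_eq_C_of_isReduced.mp hu
  refine ⟨(Scheme.ΓSpecIso R).inv r, ?_⟩
  have h1 : (𝔸(n; Spec R) ↘ Spec R) = e.hom ≫ Spec.map (CommRingCat.ofHom MvPolynomial.C) := by
    rw [← SpecIso_inv_over, Iso.hom_inv_id_assoc]
  have h2 : (Spec.map (CommRingCat.ofHom (MvPolynomial.C (σ := n) (R := R)))).appTop
      ((Scheme.ΓSpecIso R).inv r) = e.inv.appTop w := by
    have := Scheme.ΓSpecIso_inv_naturality (CommRingCat.ofHom (MvPolynomial.C (σ := n) (R := R)))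
    have h3 := congrArg (fun φ => φ.hom r) this
    simp only [CommRingCat.hom_comp, RingHom.coe_comp, Function.comp_apply] at h3
    refine h3.symm.trans ?_
    change (Scheme.ΓSpecIso (.of (MvPolynomial n R))).inv (MvPolynomial.C r) = _
    rw [← hfr]
    simp
  rw [h1, Scheme.Hom.comp_appTop, CommRingCat.comp_apply, h2, ← CommRingCat.comp_apply,
    ← Scheme.Hom.comp_appTop, Iso.hom_inv_id]
  simp

/-- the zero section -/
noncomputable def zeroSec (n : Type u) (X : Scheme.{u}) : X ⟶ 𝔸(n; X) :=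
  homOfVector (𝟙 X) 0

lemma zeroSec_over (n : Type u) (X : Scheme.{u}) : zeroSec n X ≫ (𝔸(n; X) ↘ X) = 𝟙 X := by
  simp [zeroSec]

lemma zeroSec_map (n : Type u) {U X : Scheme.{u}} (j : U ⟶ X) :
    zeroSec n U ≫ map n j = j ≫ zeroSec n X := by
  apply AffineSpace.hom_ext
  · simp [zeroSec]
  · intro i
    simp [zeroSec, Scheme.Hom.comp_appTop]

lemma key (n : Type u) {U X : Scheme.{u}} (j : U ⟶ X) (w : Γ(𝔸(n; X), ⊤)) :
    (map n j).appTop ((𝔸(n; X) ↘ X).appTop ((zeroSec n X).appTop w)) =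
      (𝔸(n; U) ↘ U).appTop ((zeroSec n U).appTop ((map n j).appTop w)) := by
  have h : map n j ≫ (𝔸(n; X) ↘ X) ≫ zeroSec n X = (𝔸(n; U) ↘ U) ≫ zeroSec n U ≫ map n j := by
    rw [map_over_assoc, zeroSec_map]
  have h2 := congrArg (fun f => f.appTop w) h
  simpa only [Scheme.Hom.comp_appTop, CommRingCat.comp_apply] using h2

lemma key2 (n : Type u) (U : Scheme.{u}) (t : Γ(U, ⊤)) :
    (𝔸(n; U) ↘ U).appTop ((zeroSec n U).appTop ((𝔸(n; U) ↘ U).appTop t)) =
      (𝔸(n; U) ↘ U).appTop t := by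
  congr 1
  rw [← CommRingCat.comp_apply, ← Scheme.Hom.comp_appTop, zeroSec_over]
  simp

theorem main (n : Type u) (X : Scheme.{u}) [IsReduced X]
    (w : Γ(𝔸(n; X), ⊤)) (hw : IsUnit w) :
    ∃ v : Γ(X, ⊤), IsUnit v ∧ (𝔸(n; X) ↘ X).appTop v = w := by
  refine ⟨(zeroSec n X).appTop w, hw.map _, ?_⟩
  refine Scheme.OpenCover.ext_elem _ _ (X.affineOpenCover.openCover.pullback₁ (𝔸(n; X) ↘ X)) fun i => ?_
  let j := X.affineOpenCover.openCover.f i
  have hfst : pullback.fst (𝔸(n; X) ↘ X) j = (isPullback_map (n := n) j).isoPullback.inv ≫ map n j := by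
    rw [Iso.eq_inv_comp]; exact (isPullback_map (n := n) j).isoPullback_hom_fst
  change (pullback.fst (𝔸(n; X) ↘ X) j).appTop _ = (pullback.fst (𝔸(n; X) ↘ X) j).appTop _
  rw [hfst, Scheme.Hom.comp_appTop, CommRingCat.comp_apply, CommRingCat.comp_apply]
  congr 1
  haveI : IsReduced (X.affineOpenCover.openCover.X i) := isReduced_of_isOpenImmersion j
  haveI : _root_.IsReduced (X.affineOpenCover.X i) := (affine_isReduced_iff _).mp ‹_›
  obtain ⟨t, ht⟩ := exists_of_isUnit_Spec n (X.affineOpenCover.X i) ((map n j).appTop w) (hw.map _)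
  rw [key n j w, ← ht]
  exact key2 n _ t

end Groth.Agent.Lib.Helper19.AffUnits
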