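import Mathlib
import Groth.Agent.Lib.Helper19.CancelLib
import Groth.Agent.Lib.Helper19.DiagComp
import Groth.Agent.Lib.Helper15.AlgSpEtCl

/-!
# Diagonals of composites (helper19)
-/

set_option autoImplicit false
set_option backward.isDefEq.respectTransparency false

universe u

open CategoryTheory CategoryTheory.Limits Functor AlgebraicGeometry Opposite

namespace Groth.Agent.Helper19.EtDiag

open FibCat AlgSt Stk Groth.Agent.Helper19.FibLib Groth.Agent.Helper19.StLib
  Groth.Agent.Helper19.AlgP Groth.Agent.Helper19.CancelLib Groth.Agent.Helper19.DiagComp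

variable {S : Scheme.{u}}

/-- descent along an étale atlas from locality on the base for étale coverings. -/
theorem descAtlas_of_isLocalOnBase_et {P : MorphismProperty (AlgSp.Sp S)}
    (hP : AlgSp.IsLocalOnBase AlgSp.IsEtCover P) : DescAtlas P := by
  intro X Y f hX hY U q hqe hqs hpb hPq
  have hcov := Groth.Agent.Helper15.isEtCover_single q hqe hqs
  exact (hP (fun _ : PUnit.{u + 1} => (AlgSp.yon S).obj U) (fun _ => q) hY
    (fun _ => AlgSp.IsAlgSpace.yon_obj U) hcov f hX (fun _ => pullback f q)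
    (fun _ => pullback.snd f q) (fun _ => pullback.fst f q) (fun _ => hpb)
    (fun _ => IsPullback.of_hasPullback f q)).2 (fun _ => hPq)

/-- the diagonal of a composite has `P` when the diagonals of the factors do. -/
theorem repByAlgSpWith_diag_comp {P : MorphismProperty (AlgSp.Sp S)} (hPb : StableAlg P) (hPc : CompAlg P)
    (hPd : DescAtlas P) {𝒳 𝒴 𝒵 : AlgSt.Cat S} (h𝒳 : IsFibGrpd 𝒳.p) (h𝒴 : IsFibGrpd 𝒴.p)
    (f : 𝒳 ⥤ᵇ 𝒴) (g : 𝒴 ⥤ᵇ 𝒵) (hf : RepByAlgSpWith P (diag f)) (hg : RepByAlgSpWith P (diag g)) :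
    RepByAlgSpWith P (diag (BasedFunctor.comp f g)) := by
  have h1 : RepByAlgSpWith P (cmpI f f g (cmpE f g)) :=
    repByAlgSpWith_cmpI f f g (cmpE f g) (cmpE_app f g) hg
  have hfp1 : IsFibGrpd (fp f f).p := Groth.Agent.S6401.result f f h𝒳 h𝒳 h𝒴
  have h2 := repByAlgSpWith_comp hPb hPc hPd h𝒳 hfp1 (diag f) (cmpI f f g (cmpE f g)) hf h1
  exact repByAlgSpWith_of_iso (diagCompIso f g) h2

end Groth.Agent.Helper19.EtDiag
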