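import Mathlib
import Groth.Agent.Lib.Helper19.EtDiag
import Groth.Agent.Lib.Helper19.FibLib3
import Groth.Agent.Lib.Helper19.ChartOver
import Groth.Agent.Lib.Helper19.LocQCore2

/-!
# Algebraicity of a stack over an algebraic stack can be checked on scheme charts of the target (helper19)
-/

set_option autoImplicit false
set_option backward.isDefEq.respectTransparency false

universe u

open CategoryTheory CategoryTheory.Limits Functor AlgebraicGeometry Opposite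

namespace Groth.Agent.Helper19.AlgOfCharts

open FibCat AlgSt Stk Groth.Agent.Helper19.FibLib Groth.Agent.Helper19.StLib
  Groth.Agent.Helper19.AlgP Groth.Agent.Helper19.CancelLib Groth.Agent.Helper19.DiagComp
  Groth.Agent.Helper19.PshSt Groth.Agent.Helper19.ChartOver Groth.Agent.Helper19.EtDiag

variable {S : Scheme.{u}}

/-- the relative diagonal of `f` is representable by algebraic spaces as soon as every base change of `f` to a
scheme has (absolute) diagonal representable by algebraic spaces. -/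
theorem repByAlgSp1_diag_of_charts {𝒳 𝒴 : AlgSt.Cat S} (h𝒳 : IsFibGrpd 𝒳.p) (h𝒴 : IsFibGrpd 𝒴.p)
    (f : 𝒳 ⥤ᵇ 𝒴)
    (hf : ∀ (U : Over S) (g : overCat U ⥤ᵇ 𝒴), RepByAlgSp1 (diag (toSelf (fp g f)))) :
    RepByAlgSp1 (diag f) := by
  rw [repByAlgSp1_iff_top]
  intro T t
  let x₁ : overCat T ⥤ᵇ 𝒳 := BasedFunctor.comp t (fpFst f f)
  let x₂ : overCat T ⥤ᵇ 𝒳 := BasedFunctor.comp t (fpSnd f f)
  let φ : BasedFunctor.comp x₁ f ≅ BasedFunctor.comp x₂ f := whiskerLeftIso t (fpIso f f)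
  let g : overCat T ⥤ᵇ 𝒴 := BasedFunctor.comp x₁ f
  have hT := isFibGrpd_overCat T
  have h𝒫 : IsFibGrpd (fp g f).p := Groth.Agent.S6401.result g f hT h𝒳 h𝒴
  let p₁ : overCat T ⥤ᵇ fp g f := fpLift (BasedFunctor.id _) x₁ (Iso.refl _)
  let p₂ : overCat T ⥤ᵇ fp g f := fpLift (BasedFunctor.id _) x₂ φ
  let t' : overCat T ⥤ᵇ fp (fpFst g f) (fpFst g f) := fpLift p₁ p₂ (Iso.refl _)
  have θ : t ≅ BasedFunctor.comp t' (dbcN f g) :=
    fpFunctorIso _ _ (Iso.refl _) (Iso.refl _) (fun a => by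
      simp [t', dbcN, p₁, p₂, φ]
      exact Category.id_comp _)
  have h1 : RepByAlgSpWith ⊤ (diag (fpFst g f)) :=
    (repByAlgSp1_iff_top _).1 (repByAlgSp1_diag h𝒫 hT (hf T g) (isAlgStack_overCat T).diag (fpFst g f))
  have h2 : RepByAlgSpWith ⊤ (fpFst (dbcN f g) (diag f)) :=
    (repByAlgSpWith_equiv_comp (dbcΦ f g) (isEquivOver_dbcΦ f g) _).1 h1
  have h3 := h2 T t'
  have h4 : RepOver ⊤ (fpFst (BasedFunctor.comp t' (dbcN f g)) (diag f)) :=
    RepOver.of_equiv_symm (pasteL t' (dbcN f g) (diag f)) (isEquivOver_pasteL _ _ _) (Iso.refl _) h3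
  exact RepOver.of_equiv_symm (fpCongrLeft (diag f) θ) (isEquivOver_fpCongrLeft _ θ) (Iso.refl _) h4

/-- a stack over an algebraic stack all of whose base changes to schemes are algebraic is algebraic. -/
theorem isAlgStack_of_charts (K : Precoverage Scheme.{u}) {𝒳 𝒴 : AlgSt.Cat S}
    (h𝒳 : IsStack (QuotSh.J K S) 𝒳) (h𝒴 : IsAlgStack K 𝒴) (f : 𝒳 ⥤ᵇ 𝒴)
    (hf : ∀ (U : Over S) (g : overCat U ⥤ᵇ 𝒴), IsAlgStack K (fp g f)) : IsAlgStack K 𝒳 := by
  have hΔf : RepByAlgSp1 (diag f) :=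
    repByAlgSp1_diag_of_charts h𝒳.1 h𝒴.isStack.1 f (fun U g => (hf U g).diag)
  refine ⟨h𝒳, ?_, ?_⟩
  · have h1 : RepByAlgSpWith ⊤ (diag (BasedFunctor.comp f (toSelf 𝒴))) :=
      DiagComp.repByAlgSpWith_diag_comp stableAlg_top compAlg_top descAtlas_top h𝒳.1 h𝒴.isStack.1 f (toSelf 𝒴)
        ((repByAlgSp1_iff_top _).1 hΔf) ((repByAlgSp1_iff_top _).1 h𝒴.diag)
    exact (repByAlgSp1_iff_top _).2
      (repByAlgSpWith_diag_congr (Groth.Agent.Helper19.DiagLib.selfOverIso (BasedFunctor.comp f (toSelf 𝒴)) (toSelf 𝒳)) h1)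
  · obtain ⟨V, v, hv, hvs⟩ := h𝒴.atlas
    have h𝒫 := hf V v
    obtain ⟨W, w, hw, hws⟩ := h𝒫.atlas
    have hW := isFibGrpd_overCat W
    refine ⟨W, BasedFunctor.comp w (fpSnd v f), ?_, ?_⟩
    · exact repByAlgSpWith_comp Groth.Agent.Helper19.LocQCore.stableAlg_smooth
        Groth.Agent.Helper19.LocQCore.compAlg_smooth Groth.Agent.Helper19.LocQCore.descAtlas_smooth
        hW h𝒫.isStack.1 w (fpSnd v f) hw (repByAlgSpWith_fpSnd v f hv)
    · exact repByAlgSpWith_comp Groth.Agent.Helper19.SpProps.stableAlg_isSurjectiveMor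
        Groth.Agent.Helper19.SpProps.compAlg_isSurjectiveMor
        Groth.Agent.Helper19.SpProps.descAtlas_isSurjectiveMor
        hW h𝒫.isStack.1 w (fpSnd v f) hws (repByAlgSpWith_fpSnd v f hvs)

theorem repByAlgSpWith_locP_etale_iff {𝒜 ℬ : AlgSt.Cat S} (F : 𝒜 ⥤ᵇ ℬ) :
    RepByAlgSpWith (AlgSp.LocP @Etale) F ↔ RepByAlgSpWith AlgSp.IsEtaleMor F :=
  ⟨repByAlgSpWith_mono (fun _ T a h =>
      Groth.Agent.Helper15.isEtaleMor_of_locP_etale (AlgSp.IsAlgSpace.yon_obj T) a h),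
    repByAlgSpWith_mono (fun _ T a h =>
      Groth.Agent.Helper15.locP_etale_of_isEtaleMor (AlgSp.IsAlgSpace.yon_obj T) a h)⟩

/-- a stack over a DM stack all of whose base changes to schemes are DM is DM. -/
theorem isDM_of_charts (K : Precoverage Scheme.{u}) {𝒳 𝒴 : AlgSt.Cat S}
    (h𝒳 : IsStack (QuotSh.J K S) 𝒳) (h𝒴 : IsDM K 𝒴) (f : 𝒳 ⥤ᵇ 𝒴)
    (hf : ∀ (U : Over S) (g : overCat U ⥤ᵇ 𝒴), IsDM K (fp g f)) : IsDM K 𝒳 := by
  refine ⟨isAlgStack_of_charts K h𝒳 h𝒴.1 f (fun U g => (hf U g).1), ?_⟩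
  obtain ⟨V, v, hv, hvs⟩ := h𝒴.2
  have h𝒫 := hf V v
  obtain ⟨W, w, hw, hws⟩ := h𝒫.2
  have hW := isFibGrpd_overCat W
  refine ⟨W, BasedFunctor.comp w (fpSnd v f), ?_, ?_⟩
  · rw [← repByAlgSpWith_locP_etale_iff] at hw hv ⊢
    exact repByAlgSpWith_comp
      (Groth.Agent.Helper19.SpProps.stableAlg_locP Groth.Agent.Helper15.goodP_etale
        Groth.Agent.Helper16.AS.srcEtLoc_etale)
      (Groth.Agent.Helper19.SpProps.compAlg_locP Groth.Agent.Helper15.goodP_etale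
        Groth.Agent.Helper16.AS.srcEtLoc_etale)
      (Groth.Agent.Helper19.SpProps.descAtlas_of_fpqc Groth.Agent.Helper16.AS.isLocalOnBase_fpqc_locP_etale)
      hW h𝒫.1.isStack.1 w (fpSnd v f) hw (repByAlgSpWith_fpSnd v f hv)
  · exact repByAlgSpWith_comp Groth.Agent.Helper19.SpProps.stableAlg_isSurjectiveMor
      Groth.Agent.Helper19.SpProps.compAlg_isSurjectiveMor
      Groth.Agent.Helper19.SpProps.descAtlas_isSurjectiveMor
      hW h𝒫.1.isStack.1 w (fpSnd v f) hws (repByAlgSpWith_fpSnd v f hvs)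

end Groth.Agent.Helper19.AlgOfCharts
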