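import Mathlib

set_option autoImplicit false
universe u
open CategoryTheory AlgebraicGeometry

namespace Groth.Agent.Helper19.ArtLift

/-- transport of vanishing under equality of points -/
theorem stalkMap_congr_zero {Z S : Scheme.{u}} (i : Z ⟶ S) (z z' : Z) (hz : z' = z)
    (h₁ : i z' = i z)
    (r' : S.presheaf.stalk (i z'))
    (hr : i.stalkMap z ((S.presheaf.stalkCongr (.of_eq h₁)).hom r') = 0) :
    i.stalkMap z' r' = 0 := by
  subst hz
  simpa using hr

theorem minimalPrimes_pow {R : Type*} [CommRing R] [IsLocalRing R] (n : ℕ) :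
    IsLocalRing.maximalIdeal R ∈ (IsLocalRing.maximalIdeal R ^ (n + 1)).minimalPrimes := by
  rw [Ideal.minimalPrimes, Set.mem_ofPred]
  refine ⟨⟨inferInstance, Ideal.pow_le_self (Nat.succ_ne_zero n)⟩, fun q hq _ => ?_⟩
  haveI := hq.1
  exact (Ideal.IsPrime.pow_le_iff (Nat.succ_ne_zero n)).mp hq.2

theorem stalkMap_injective (S : Scheme.{u}) [IsLocallyNoetherian S]
    {Z : Scheme.{u}} (i : Z ⟶ S) [IsClosedImmersion i]
    (h : ∀ (A : Type u) [CommRing A] [IsArtinianRing A] [IsLocalRing A]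
      (g : Spec (CommRingCat.of A) ⟶ S),
      (∃ t : Spec (CommRingCat.of (IsLocalRing.ResidueField A)) ⟶ Z,
          t ≫ i = Spec.map (CommRingCat.ofHom (IsLocalRing.residue A)) ≫ g) →
        ∃ g' : Spec (CommRingCat.of A) ⟶ Z, g' ≫ i = g) (z : Z) :
    Function.Injective (i.stalkMap z).hom := by
  have hsurj : Function.Surjective (i.stalkMap z).hom := i.stalkMap_surjective z
  rw [injective_iff_map_eq_zero]
  intro r hr
  obtain ⟨R, hR⟩ : ∃ R : CommRingCat.{u}, R = S.presheaf.stalk (i z) := ⟨_, rfl⟩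
  let m : Ideal (S.presheaf.stalk (i z)) := IsLocalRing.maximalIdeal (S.presheaf.stalk (i z))
  have hne : m ≠ ⊤ := Ideal.IsPrime.ne_top inferInstance
  have hkrull := Ideal.iInf_pow_eq_bot_of_isLocalRing m hne
  suffices hall : ∀ n : ℕ, r ∈ m ^ (n + 1) by
    have : r ∈ ⨅ n : ℕ, m ^ n := by
      rw [Ideal.mem_iInf]
      intro n
      exact Ideal.pow_le_pow_right (Nat.le_succ n) (hall n)
    rw [hkrull] at this
    exact (Submodule.mem_bot _).mp this
  intro n
  let I : Ideal (S.presheaf.stalk (i z)) := m ^ (n + 1)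
  have hItop : I ≠ ⊤ := fun h => hne (top_le_iff.mp (h ▸ Ideal.pow_le_self (Nat.succ_ne_zero n)))
  haveI : Nontrivial (S.presheaf.stalk (i z) ⧸ I) := Ideal.Quotient.nontrivial_iff.mpr hItop
  haveI : IsLocalRing (S.presheaf.stalk (i z) ⧸ I) :=
    IsLocalRing.of_surjective' (Ideal.Quotient.mk I) Ideal.Quotient.mk_surjective
  haveI : IsLocalHom (Ideal.Quotient.mk I) :=
    IsLocalHom.of_surjective (Ideal.Quotient.mk I) Ideal.Quotient.mk_surjective
  haveI : IsArtinianRing (S.presheaf.stalk (i z) ⧸ I) :=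
    IsLocalRing.quotient_artinian_of_mem_minimalPrimes_of_isLocalRing I (minimalPrimes_pow n)
  -- the morphism g
  let mkc : S.presheaf.stalk (i z) ⟶ CommRingCat.of (S.presheaf.stalk (i z) ⧸ I) :=
    CommRingCat.ofHom (Ideal.Quotient.mk I)
  haveI : IsLocalHom mkc.hom := ‹IsLocalHom (Ideal.Quotient.mk I)›
  let g : Spec (CommRingCat.of (S.presheaf.stalk (i z) ⧸ I)) ⟶ S := Spec.map mkc ≫ S.fromSpecStalk (i z)
  -- the residue lift
  have hker : RingHom.ker (i.stalkMap z).hom ≤
      RingHom.ker ((IsLocalRing.residue (S.presheaf.stalk (i z) ⧸ I)).comp (Ideal.Quotient.mk I)) := by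
    intro x hx
    rw [RingHom.mem_ker] at hx ⊢
    rw [RingHom.comp_apply, IsLocalRing.residue_eq_zero_iff]
    have hxm : x ∈ m := by
      by_contra hxm
      have hu : IsUnit x := by
        by_contra hu
        exact hxm ((IsLocalRing.mem_maximalIdeal x).mpr hu)
      have := hu.map (i.stalkMap z).hom
      rw [hx] at this
      exact not_isUnit_zero this
    rw [IsLocalRing.mem_maximalIdeal, mem_nonunits_iff]
    intro hu
    exact ((IsLocalRing.mem_maximalIdeal x).mp hxm) (isUnit_of_map_unit (Ideal.Quotient.mk I) x hu)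
  let θ : Z.presheaf.stalk z →+* IsLocalRing.ResidueField (S.presheaf.stalk (i z) ⧸ I) :=
    RingHom.liftOfSurjective (i.stalkMap z).hom hsurj
      ⟨(IsLocalRing.residue (S.presheaf.stalk (i z) ⧸ I)).comp (Ideal.Quotient.mk I), hker⟩
  have hθ : θ.comp (i.stalkMap z).hom = (IsLocalRing.residue (S.presheaf.stalk (i z) ⧸ I)).comp (Ideal.Quotient.mk I) :=
    RingHom.liftOfSurjective_comp _ hsurj _
  let t : Spec (CommRingCat.of (IsLocalRing.ResidueField (S.presheaf.stalk (i z) ⧸ I))) ⟶ Z :=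
    Spec.map (CommRingCat.ofHom θ) ≫ Z.fromSpecStalk z
  have ht : t ≫ i = Spec.map (CommRingCat.ofHom (IsLocalRing.residue (S.presheaf.stalk (i z) ⧸ I))) ≫ g := by
    simp only [t, g, Category.assoc]
    rw [← Scheme.SpecMap_stalkMap_fromSpecStalk, ← Spec.map_comp_assoc, ← Spec.map_comp_assoc]
    congr 2
    ext x
    exact DFunLike.congr_fun hθ x
  obtain ⟨g', hg'⟩ := h (S.presheaf.stalk (i z) ⧸ I) g ⟨t, ht⟩
  -- analyse g'
  let c : ↥(Spec (CommRingCat.of (S.presheaf.stalk (i z) ⧸ I))) := IsLocalRing.closedPoint (S.presheaf.stalk (i z) ⧸ I)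
  have hgc : g c = i z := by
    simp only [g, Scheme.Hom.comp_apply]
    rw [Spec_closedPoint, Scheme.fromSpecStalk_closedPoint]
  have hz' : g' c = z := by
    apply i.isEmbedding.injective
    rw [← Scheme.Hom.comp_apply, hg', hgc]
  -- Sigma equality
  have hsig := (SpecToEquivOfLocalRing S (CommRingCat.of (S.presheaf.stalk (i z) ⧸ I))).right_inv
    ⟨i z, mkc, inferInstance⟩
  have hsig' : (SpecToEquivOfLocalRing S (CommRingCat.of (S.presheaf.stalk (i z) ⧸ I))) (g' ≫ i) =
      ⟨i z, mkc, inferInstance⟩ := by rw [hg']; exact hsig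
  obtain ⟨h₁, h₂⟩ := SpecToEquivOfLocalRing_eq_iff.mp hsig'
  simp only [SpecToEquivOfLocalRing_apply_fst, SpecToEquivOfLocalRing_apply_snd_coe]
    at h₁ h₂
  rw [Scheme.stalkClosedPointTo_comp] at h₂
  have h₁' : i (g' c) = i z := h₁
  have key := stalkMap_congr_zero i z (g' c) hz' h₁'
    ((S.presheaf.stalkCongr (.of_eq h₁')).inv r) (by
      simpa using hr)
  have h₄ : mkc.hom r = 0 := by
    have e1 : (S.presheaf.stalkCongr (.of_eq h₁')).hom.hom
        ((S.presheaf.stalkCongr (.of_eq h₁')).inv.hom r) = r := by simp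
    have := congrArg (fun f => f.hom ((S.presheaf.stalkCongr (.of_eq h₁')).inv.hom r)) h₂
    have h5 : (Scheme.stalkClosedPointTo g').hom ((i.stalkMap (g' c)).hom
        ((S.presheaf.stalkCongr (.of_eq h₁')).inv.hom r)) =
        mkc.hom ((S.presheaf.stalkCongr (.of_eq h₁')).hom.hom
          ((S.presheaf.stalkCongr (.of_eq h₁')).inv.hom r)) := this
    rw [e1] at h5
    rw [← h5]
    have key' : (i.stalkMap (g' c)).hom ((S.presheaf.stalkCongr (.of_eq h₁')).inv.hom r) = 0 := key
    rw [key', map_zero]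
  exact Ideal.Quotient.eq_zero_iff_mem.mp h₄

theorem isOpenImmersion (S : Scheme.{u}) [IsLocallyNoetherian S]
    {Z : Scheme.{u}} (i : Z ⟶ S) [IsClosedImmersion i]
    (h : ∀ (A : Type u) [CommRing A] [IsArtinianRing A] [IsLocalRing A]
      (g : Spec (CommRingCat.of A) ⟶ S),
      (∃ t : Spec (CommRingCat.of (IsLocalRing.ResidueField A)) ⟶ Z,
          t ≫ i = Spec.map (CommRingCat.ofHom (IsLocalRing.residue A)) ≫ g) →
        ∃ g' : Spec (CommRingCat.of A) ⟶ Z, g' ≫ i = g) :
    IsOpenImmersion i := by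
  haveI : Flat i := by
    rw [Flat.iff_flat_stalkMap]
    intro z
    exact RingHom.Flat.of_bijective ⟨stalkMap_injective S i h z, i.stalkMap_surjective z⟩
  exact IsOpenImmersion.of_flat_of_mono i

end Groth.Agent.Helper19.ArtLift
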