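import Mathlib

universe u
open CategoryTheory AlgebraicGeometry Scheme.Modules

namespace Groth.Agent.Helper19.BCComp

variable {X Y Z : Scheme.{u}} (f : X ⟶ Y) (g : Y ⟶ Z)

/-- the unit of the composite in terms of the units of the factors -/
lemma unit_comp (L : Z.Modules) :
    (pullbackPushforwardAdjunction (f ≫ g)).unit.app L =
      (pullbackPushforwardAdjunction g).unit.app L ≫
        (pushforward g).map ((pullbackPushforwardAdjunction f).unit.app ((pullback g).obj L)) ≫
        (pushforwardComp f g).hom.app ((pullback f).obj ((pullback g).obj L)) ≫
        (pushforward (f ≫ g)).map ((pullbackComp f g).hom.app L) := by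
  have h := unit_conjugateEquiv
    ((pullbackPushforwardAdjunction g).comp (pullbackPushforwardAdjunction f))
    (pullbackPushforwardAdjunction (f ≫ g)) (pullbackComp f g).inv L
  rw [conjugateEquiv_pullbackComp_inv] at h
  have h2 : (pullbackPushforwardAdjunction (f ≫ g)).unit.app L =
      (((pullbackPushforwardAdjunction g).comp (pullbackPushforwardAdjunction f)).unit.app L ≫
        (pushforwardComp f g).hom.app _) ≫
        (pushforward (f ≫ g)).map ((pullbackComp f g).hom.app L) := by
    rw [h, Category.assoc, ← Functor.map_comp, Iso.inv_hom_id_app]
    simp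
  rw [h2, Adjunction.comp_unit_app]
  simp only [Category.assoc]
  rfl

/-- the adjunct for the composite in terms of the adjuncts for the factors -/
lemma homEquiv_symm_comp (M : Z.Modules) (N : X.Modules)
    (t : M ⟶ (pushforward (f ≫ g)).obj N) :
    (pullbackComp f g).hom.app M ≫
        ((pullbackPushforwardAdjunction (f ≫ g)).homEquiv M N).symm t =
      ((pullbackPushforwardAdjunction f).homEquiv _ _).symm
        (((pullbackPushforwardAdjunction g).homEquiv _ _).symm
          (t ≫ (pushforwardComp f g).inv.app N)) := by
  have h := conjugateEquiv_counit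
    ((pullbackPushforwardAdjunction g).comp (pullbackPushforwardAdjunction f))
    (pullbackPushforwardAdjunction (f ≫ g)) (pullbackComp f g).inv N
  rw [conjugateEquiv_pullbackComp_inv] at h
  -- h : (pullback (f ≫ g)).map (pfComp.hom.app N) ≫ counit = pbComp.inv.app _ ≫ comp counit
  have hc : (pullbackComp f g).hom.app ((pushforward (f ≫ g)).obj N) ≫
      (pullbackPushforwardAdjunction (f ≫ g)).counit.app N =
      (pullback f).map ((pullback g).map ((pushforwardComp f g).inv.app N)) ≫
        ((pullbackPushforwardAdjunction g).comp (pullbackPushforwardAdjunction f)).counit.app N := by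
    have nat := (pullbackComp f g).hom.naturality ((pushforwardComp f g).inv.app N)
    have h' : ((pullbackPushforwardAdjunction g).comp
        (pullbackPushforwardAdjunction f)).counit.app N =
        (pullbackComp f g).hom.app _ ≫ (pullback (f ≫ g)).map ((pushforwardComp f g).hom.app N) ≫
          (pullbackPushforwardAdjunction (f ≫ g)).counit.app N := by
      rw [h, Iso.hom_inv_id_app_assoc]
    rw [h']
    have nat' : (pullback f).map ((pullback g).map ((pushforwardComp f g).inv.app N)) ≫
        (pullbackComp f g).hom.app _ =
        (pullbackComp f g).hom.app _ ≫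
          (pullback (f ≫ g)).map ((pushforwardComp f g).inv.app N) := nat
    rw [← Category.assoc, nat', Category.assoc, ← Functor.map_comp_assoc, Iso.inv_hom_id_app]
    simp
  rw [Adjunction.homEquiv_counit, Adjunction.homEquiv_counit, Adjunction.homEquiv_counit]
  have nat2 := (pullbackComp f g).hom.naturality t
  have nat2' : (pullback f).map ((pullback g).map t) ≫ (pullbackComp f g).hom.app _ =
      (pullbackComp f g).hom.app M ≫ (pullback (f ≫ g)).map t := nat2
  rw [← Category.assoc, ← nat2', Category.assoc, hc, Adjunction.comp_counit_app]
  simp only [Functor.map_comp, Category.assoc]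

end Groth.Agent.Helper19.BCComp
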