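import Mathlib
import Groth.Agent.Lib.Helper19.BCComp

universe u
open CategoryTheory AlgebraicGeometry Scheme.Modules

namespace Groth.Agent.Helper19.BCComp

lemma hom_id_apply' {A : Ab} (y : A) : (AddCommGrpCat.Hom.hom (𝟙 A)) y = y := rfl

lemma app_naturality {X : Scheme.{u}} {M N : X.Modules} (θ : M ⟶ N) {U U' : X.Opens}
    (i : U ⟶ U') (y : Γ(M, U')) :
    (N.presheaf.map i.op).hom ((θ.app U').hom y) = (θ.app U).hom ((M.presheaf.map i.op).hom y) := by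
  have := θ.mapPresheaf.naturality i.op
  have h2 := congrArg (fun t => t.hom y) this
  exact h2.symm

lemma key {X Y : Scheme.{u}} (f : X ⟶ Y) {M₁ : Y.Modules} {K K' : X.Modules}
    (b : M₁ ⟶ (pushforward f).obj K) (c : K ⟶ K') {V₁ V₂ : Y.Opens} {W₂ : X.Opens}
    (e₂ : V₂ ⟶ V₁) (e₁ : W₂ ⟶ f ⁻¹ᵁ V₂) (e₀ : W₂ ⟶ f ⁻¹ᵁ V₁) (y : Γ(M₁, V₁)) :
    (K'.presheaf.map e₀.op).hom ((c.app (f ⁻¹ᵁ V₁)).hom ((b.app V₁).hom y)) =
      (c.app W₂).hom ((K.presheaf.map e₁.op).hom ((b.app V₂).hom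
        ((M₁.presheaf.map e₂.op).hom y))) := by
  have h1 := app_naturality b e₂ y
  rw [← h1]
  have h2 : (K.presheaf.map e₁.op).hom
      ((((pushforward f).obj K).presheaf.map e₂.op).hom ((b.app V₁).hom y)) =
      (K.presheaf.map e₀.op).hom ((b.app V₁).hom y) := by
    have : e₀ = e₁ ≫ (TopologicalSpace.Opens.map f.base).map e₂ := Subsingleton.elim _ _
    rw [this, op_comp, Functor.map_comp]
    rfl
  rw [h2]
  exact app_naturality c e₀ _

theorem baseChange_comp_horizontal {X Y Z U V W : Scheme.{u}} (f : X ⟶ Y) (g : Y ⟶ Z)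
    (ξ : X ⟶ U) (η : Y ⟶ V) (ζ : Z ⟶ W) (φ : U ⟶ V) (ψ : V ⟶ W)
    (h₁ : f ≫ η = ξ ≫ φ) (h₂ : g ≫ ζ = η ≫ ψ) (hw : (f ≫ g) ≫ ζ = ξ ≫ (φ ≫ ψ)) (L : Z.Modules) :
    (pullbackComp φ ψ).hom.app ((pushforward ζ).obj L) ≫
        (((pullbackPushforwardAdjunction (φ ≫ ψ)).homEquiv ((pushforward ζ).obj L)
            ((pushforward ξ).obj ((pullback (f ≫ g)).obj L))).symm
          ((pushforward ζ).map ((pullbackPushforwardAdjunction (f ≫ g)).unit.app L) ≫
            (pushforwardComp (f ≫ g) ζ).hom.app ((pullback (f ≫ g)).obj L) ≫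
            (pushforwardCongr hw).hom.app ((pullback (f ≫ g)).obj L) ≫
            (pushforwardComp ξ (φ ≫ ψ)).inv.app ((pullback (f ≫ g)).obj L))) =
      (pullback φ).map (((pullbackPushforwardAdjunction ψ).homEquiv ((pushforward ζ).obj L)
            ((pushforward η).obj ((pullback g).obj L))).symm
          ((pushforward ζ).map ((pullbackPushforwardAdjunction g).unit.app L) ≫
            (pushforwardComp g ζ).hom.app ((pullback g).obj L) ≫
            (pushforwardCongr h₂).hom.app ((pullback g).obj L) ≫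
            (pushforwardComp η ψ).inv.app ((pullback g).obj L))) ≫
        (((pullbackPushforwardAdjunction φ).homEquiv ((pushforward η).obj ((pullback g).obj L))
            ((pushforward ξ).obj ((pullback f).obj ((pullback g).obj L)))).symm
          ((pushforward η).map ((pullbackPushforwardAdjunction f).unit.app ((pullback g).obj L)) ≫
            (pushforwardComp f η).hom.app ((pullback f).obj ((pullback g).obj L)) ≫
            (pushforwardCongr h₁).hom.app ((pullback f).obj ((pullback g).obj L)) ≫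
            (pushforwardComp ξ φ).inv.app ((pullback f).obj ((pullback g).obj L)))) ≫
        (pushforward ξ).map ((pullbackComp f g).hom.app L) := by
  rw [homEquiv_symm_comp]
  rw [← Adjunction.homEquiv_naturality_right_symm, ← Adjunction.homEquiv_naturality_left_symm,
    ← Adjunction.homEquiv_naturality_right_symm]
  congr 2
  rw [unit_comp]
  ext T x
  simp only [Hom.comp_app, pushforward_map_app, pushforwardComp_hom_app_app,
    pushforwardComp_inv_app_app, pushforwardCongr_hom_app_app, Functor.map_comp, Category.assoc,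
    AddCommGrpCat.hom_comp, AddMonoidHom.coe_comp, Function.comp_apply]
  have e2 : η ⁻¹ᵁ ψ ⁻¹ᵁ T = g ⁻¹ᵁ ζ ⁻¹ᵁ T := by
    rw [← Scheme.Hom.comp_preimage, ← Scheme.Hom.comp_preimage, h₂]
  have e1 : ξ ⁻¹ᵁ φ ⁻¹ᵁ ψ ⁻¹ᵁ T = f ⁻¹ᵁ η ⁻¹ᵁ ψ ⁻¹ᵁ T := by
    rw [← Scheme.Hom.comp_preimage, ← Scheme.Hom.comp_preimage f, h₁]
  have e0 : ξ ⁻¹ᵁ φ ⁻¹ᵁ ψ ⁻¹ᵁ T = f ⁻¹ᵁ g ⁻¹ᵁ ζ ⁻¹ᵁ T := by
    rw [e1, e2]
  exact key f (V₁ := g ⁻¹ᵁ ζ ⁻¹ᵁ T) (V₂ := η ⁻¹ᵁ ψ ⁻¹ᵁ T) (W₂ := ξ ⁻¹ᵁ φ ⁻¹ᵁ ψ ⁻¹ᵁ T)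
    ((pullbackPushforwardAdjunction f).unit.app ((pullback g).obj L))
    ((pullbackComp f g).hom.app L) (eqToHom e2) (eqToHom e1) (eqToHom e0)
    ((((pullbackPushforwardAdjunction g).unit.app L).app (ζ ⁻¹ᵁ T)).hom x)

end Groth.Agent.Helper19.BCComp
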