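import Mathlib.LinearAlgebra.Basis.Defs
import Mathlib.Algebra.BigOperators.Fin
import Mathlib.Algebra.Lie.Basic
import Mathlib.Tactic.Module
import Mathlib.Tactic.FinCases
import Mathlib.Tactic.LinearCombination
import Mathlib.Tactic.Ring

set_option autoImplicit false

namespace Groth.Agent.Helper19

variable {A : Type*} [CommRing A] {L : Type*} [AddCommGroup L] [Module A L]
  (bs : Module.Basis (Fin 3) A L)

theorem basis3_repr (v : L) :
    v = bs.repr v 0 • bs 0 + bs.repr v 1 • bs 1 + bs.repr v 2 • bs 2 := by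
  conv_lhs => rw [← bs.sum_repr v, Fin.sum_univ_three]

theorem basis3_exists (v : L) : ∃ a0 a1 a2 : A, v = a0 • bs 0 + a1 • bs 1 + a2 • bs 2 :=
  ⟨_, _, _, basis3_repr bs v⟩

theorem basis3_ext {a0 a1 a2 b0 b1 b2 : A}
    (h : a0 • bs 0 + a1 • bs 1 + a2 • bs 2 = b0 • bs 0 + b1 • bs 1 + b2 • bs 2) :
    a0 = b0 ∧ a1 = b1 ∧ a2 = b2 := by
  have h' := congrArg bs.repr h
  simp only [map_add, map_smul, Module.Basis.repr_self] at h'
  refine ⟨?_, ?_, ?_⟩
  · simpa using DFunLike.congr_fun h' 0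
  · simpa using DFunLike.congr_fun h' 1
  · simpa using DFunLike.congr_fun h' 2

end Groth.Agent.Helper19

namespace Groth.Agent.Helper19

variable {A : Type*} [CommRing A] {L : Type*} [AddCommGroup L] [Module A L]
  (bs : Module.Basis (Fin 3) A L) {L' : Type*} [AddCommGroup L'] [Module A L']
  (bs' : Module.Basis (Fin 3) A L')

/-- If `ψ ∘ φ = id` and both have matrices with first row `(p, 0, 0)`, the `(0,0)` entry and the
lower-right `2 × 2` block are invertible. Version with two modules. -/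
theorem basis3_block_unit' {F G : Type*} [FunLike F L L'] [LinearMapClass F A L L']
    [FunLike G L' L] [LinearMapClass G A L' L] (φ : F) (ψ : G) (hinv : ∀ v, ψ (φ v) = v)
    {p1 p2 p3 q2 q3 r2 r3 p1' p2' p3' q2' q3' r2' r3' : A}
    (hx : φ (bs 0) = p1 • bs' 0 + p2 • bs' 1 + p3 • bs' 2)
    (hy : φ (bs 1) = (0 : A) • bs' 0 + q2 • bs' 1 + q3 • bs' 2)
    (hz : φ (bs 2) = (0 : A) • bs' 0 + r2 • bs' 1 + r3 • bs' 2)
    (hx' : ψ (bs' 0) = p1' • bs 0 + p2' • bs 1 + p3' • bs 2)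
    (hy' : ψ (bs' 1) = (0 : A) • bs 0 + q2' • bs 1 + q3' • bs 2)
    (hz' : ψ (bs' 2) = (0 : A) • bs 0 + r2' • bs 1 + r3' • bs 2) :
    p1 * p1' = 1 ∧ (q2 * r3 - q3 * r2) * (q2' * r3' - q3' * r2') = 1 := by
  have i0 : ψ (φ (bs 0)) = bs 0 := hinv _
  have i1 : ψ (φ (bs 1)) = bs 1 := hinv _
  have i2 : ψ (φ (bs 2)) = bs 2 := hinv _
  rw [hx, map_add, map_add, map_smul, map_smul, map_smul, hx', hy', hz'] at i0
  rw [hy, map_add, map_add, map_smul, map_smul, map_smul, hx', hy', hz'] at i1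
  rw [hz, map_add, map_add, map_smul, map_smul, map_smul, hx', hy', hz'] at i2
  have i0' : (p1 * p1') • bs 0 + (p1 * p2' + p2 * q2' + p3 * r2') • bs 1 +
      (p1 * p3' + p2 * q3' + p3 * r3') • bs 2 =
      (1 : A) • bs 0 + (0 : A) • bs 1 + (0 : A) • bs 2 := by
    refine Eq.trans ?_ (i0.trans ?_)
    · module
    · module
  have i1' : (0 : A) • bs 0 + (q2 * q2' + q3 * r2') • bs 1 + (q2 * q3' + q3 * r3') • bs 2 =
      (0 : A) • bs 0 + (1 : A) • bs 1 + (0 : A) • bs 2 := by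
    refine Eq.trans ?_ (i1.trans ?_)
    · module
    · module
  have i2' : (0 : A) • bs 0 + (r2 * q2' + r3 * r2') • bs 1 + (r2 * q3' + r3 * r3') • bs 2 =
      (0 : A) • bs 0 + (0 : A) • bs 1 + (1 : A) • bs 2 := by
    refine Eq.trans ?_ (i2.trans ?_)
    · module
    · module
  obtain ⟨e00, -, -⟩ := basis3_ext bs i0'
  obtain ⟨-, e11, e12⟩ := basis3_ext bs i1'
  obtain ⟨-, e21, e22⟩ := basis3_ext bs i2'
  refine ⟨e00, ?_⟩
  linear_combination (r2 * q3' + r3 * r3') * e11 + e22 - (r2 * q2' + r3 * r2') * e12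

/-- If `ψ ∘ φ = id` and both have matrices with first row `(p, 0, 0)`, the `(0,0)` entry and the
lower-right `2 × 2` block are invertible. -/
theorem basis3_block_unit {F G : Type*} [FunLike F L L] [LinearMapClass F A L L]
    [FunLike G L L] [LinearMapClass G A L L] (φ : F) (ψ : G) (hinv : ∀ v, ψ (φ v) = v)
    {p1 p2 p3 q2 q3 r2 r3 p1' p2' p3' q2' q3' r2' r3' : A}
    (hx : φ (bs 0) = p1 • bs 0 + p2 • bs 1 + p3 • bs 2)
    (hy : φ (bs 1) = (0 : A) • bs 0 + q2 • bs 1 + q3 • bs 2)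
    (hz : φ (bs 2) = (0 : A) • bs 0 + r2 • bs 1 + r3 • bs 2)
    (hx' : ψ (bs 0) = p1' • bs 0 + p2' • bs 1 + p3' • bs 2)
    (hy' : ψ (bs 1) = (0 : A) • bs 0 + q2' • bs 1 + q3' • bs 2)
    (hz' : ψ (bs 2) = (0 : A) • bs 0 + r2' • bs 1 + r3' • bs 2) :
    p1 * p1' = 1 ∧ (q2 * r3 - q3 * r2) * (q2' * r3' - q3' * r2') = 1 :=
  basis3_block_unit' bs bs φ ψ hinv hx hy hz hx' hy' hz'

/-- A linear map preserving brackets of basis vectors preserves all brackets. -/
theorem map_lie_of_basis3 {LL LL' : Type*} [LieRing LL] [LieAlgebra A LL] [LieRing LL']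
    [LieAlgebra A LL'] (b : Module.Basis (Fin 3) A LL) (f : LL →ₗ[A] LL')
    (h : ∀ i j, f ⁅b i, b j⁆ = ⁅f (b i), f (b j)⁆) (u v : LL) : f ⁅u, v⁆ = ⁅f u, f v⁆ := by
  rw [basis3_repr b u, basis3_repr b v]
  simp only [lie_add, add_lie, lie_smul, smul_lie, map_add, map_smul, h]

end Groth.Agent.Helper19
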