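import Mathlib

set_option autoImplicit false
universe u
open AlgebraicGeometry CategoryTheory

namespace Groth.Agent.Lib.Helper19.BirRat

open Scheme

lemma homOfLE_isoImage_inv_ι {X : Scheme.{u}} (U : X.Opens) (V : U.toScheme.Opens)
    (W : X.Opens) (hW : W ≤ U.ι ''ᵁ V) :
    X.homOfLE hW ≫ (U.ι.isoImage V).inv ≫ V.ι = X.homOfLE (hW.trans (U.ι_image_le V)) := by
  rw [Scheme.Opens.isoImage_ι_inv_ι, Scheme.homOfLE_homOfLE]

/-- Lemma A: a criterion for `f.comp g` to be equivalent to `h`. -/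
lemma comp_equiv_of_lift {X Y Z : Scheme.{u}} [PreirreducibleSpace X] [Nonempty Y]
    (f : X.PartialMap Y) [IsDominant f.hom] (g : Y.PartialMap Z) (h : X.PartialMap Z)
    (W : X.Opens) (hW : Dense (W : Set X)) (hW₁ : W ≤ f.domain) (hW₂ : W ≤ h.domain)
    (k : W.toScheme ⟶ g.domain.toScheme)
    (hk₁ : k ≫ g.domain.ι = X.homOfLE hW₁ ≫ f.hom)
    (hk₂ : k ≫ g.hom = X.homOfLE hW₂ ≫ h.hom) : (f.comp g).equiv h := by
  have hW₃ : W ≤ f.domain.ι ''ᵁ f.hom ⁻¹ᵁ g.domain := by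
    intro x hx
    refine ⟨X.homOfLE hW₁ ⟨x, hx⟩, ?_, ?_⟩
    · change f.hom (X.homOfLE hW₁ ⟨x, hx⟩) ∈ g.domain
      have := congr($(hk₁) ⟨x, hx⟩)
      simp only [Scheme.Hom.comp_apply] at this
      rw [← this]
      exact (k ⟨x, hx⟩).2
    · have := congr($(X.homOfLE_ι hW₁) ⟨x, hx⟩)
      simpa using this
  refine ⟨W, hW, hW₃, hW₂, ?_⟩
  change X.homOfLE hW₃ ≫ (f.domain.ι.isoImage _).inv ≫ f.hom ∣_ g.domain ≫ g.hom =
    X.homOfLE hW₂ ≫ h.hom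
  have key : X.homOfLE hW₃ ≫ (f.domain.ι.isoImage _).inv ≫ f.hom ∣_ g.domain = k := by
    rw [← cancel_mono g.domain.ι]
    simp only [Category.assoc, morphismRestrict_ι, hk₁]
    have h3 := homOfLE_isoImage_inv_ι f.domain (f.hom ⁻¹ᵁ g.domain) W hW₃
    have := congr($h3 ≫ f.hom)
    simpa only [Category.assoc] using this
  rw [← hk₂, ← key]
  simp only [Category.assoc]

/-- Lemma B: converse of Lemma A. -/
lemma exists_lift_of_comp_equiv {X Y Z : Scheme.{u}} [PreirreducibleSpace X] [Nonempty Y]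
    (f : X.PartialMap Y) [IsDominant f.hom] (g : Y.PartialMap Z) (h : X.PartialMap Z)
    (H : (f.comp g).equiv h) :
    ∃ (W : X.Opens) (_ : Dense (W : Set X)) (hW₁ : W ≤ f.domain) (hW₂ : W ≤ h.domain)
      (k : W.toScheme ⟶ g.domain.toScheme),
      k ≫ g.domain.ι = X.homOfLE hW₁ ≫ f.hom ∧ k ≫ g.hom = X.homOfLE hW₂ ≫ h.hom := by
  obtain ⟨W, hW, hWl, hWr, e⟩ := H
  have hWl' : W ≤ f.domain.ι ''ᵁ f.hom ⁻¹ᵁ g.domain := hWl
  have hW₁ : W ≤ f.domain := hWl'.trans (f.domain.ι_image_le _)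
  refine ⟨W, hW, hW₁, hWr,
    X.homOfLE hWl' ≫ (f.domain.ι.isoImage _).inv ≫ f.hom ∣_ g.domain, ?_, ?_⟩
  · simp only [Category.assoc, morphismRestrict_ι]
    have h3 := homOfLE_isoImage_inv_ι f.domain (f.hom ⁻¹ᵁ g.domain) W hWl'
    have := congr($h3 ≫ f.hom)
    simpa only [Category.assoc] using this
  · simp only [Category.assoc]
    exact e

/-- Lemma C: mutually inverse partial maps give a partial isomorphism. -/
lemma partialIso_of_inverse {X Y : Scheme.{u}} [IrreducibleSpace X] [IrreducibleSpace Y]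
    (W₁ : X.Opens) (W₂ : Y.Opens) (hW₁ : Dense (W₁ : Set X)) (hW₂ : Dense (W₂ : Set Y))
    (p : W₁.toScheme ⟶ Y) (q : W₂.toScheme ⟶ X) [IsDominant p] [IsDominant q]
    (hpq : p ∣_ W₂ ≫ q = (p ⁻¹ᵁ W₂).ι ≫ W₁.ι)
    (hqp : q ∣_ W₁ ≫ p = (q ⁻¹ᵁ W₁).ι ≫ W₂.ι) : Nonempty (X.PartialIso Y) := by
  have ha : Set.range (p ∣_ W₂) ⊆ Set.range (q ⁻¹ᵁ W₁).ι := by
    rintro _ ⟨u, rfl⟩
    rw [Scheme.Opens.range_ι]
    change q ((p ∣_ W₂) u) ∈ W₁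
    have := congr($(hpq) u)
    simp only [Scheme.Hom.comp_apply] at this
    rw [this]
    exact ((p ⁻¹ᵁ W₂).ι u).2
  have hb : Set.range (q ∣_ W₁) ⊆ Set.range (p ⁻¹ᵁ W₂).ι := by
    rintro _ ⟨u, rfl⟩
    rw [Scheme.Opens.range_ι]
    change p ((q ∣_ W₁) u) ∈ W₂
    have := congr($(hqp) u)
    simp only [Scheme.Hom.comp_apply] at this
    rw [this]
    exact ((q ⁻¹ᵁ W₁).ι u).2
  let a : (p ⁻¹ᵁ W₂).toScheme ⟶ (q ⁻¹ᵁ W₁).toScheme :=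
    IsOpenImmersion.lift (q ⁻¹ᵁ W₁).ι (p ∣_ W₂) ha
  let b : (q ⁻¹ᵁ W₁).toScheme ⟶ (p ⁻¹ᵁ W₂).toScheme :=
    IsOpenImmersion.lift (p ⁻¹ᵁ W₂).ι (q ∣_ W₁) hb
  have ha' : a ≫ (q ⁻¹ᵁ W₁).ι = p ∣_ W₂ := IsOpenImmersion.lift_fac _ _ _
  have hb' : b ≫ (p ⁻¹ᵁ W₂).ι = q ∣_ W₁ := IsOpenImmersion.lift_fac _ _ _
  have hab : a ≫ b = 𝟙 _ := by
    rw [← cancel_mono (p ⁻¹ᵁ W₂).ι, ← cancel_mono W₁.ι]
    simp only [Category.assoc, Category.id_comp]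
    rw [reassoc_of% hb', morphismRestrict_ι, reassoc_of% ha', hpq]
  have hba : b ≫ a = 𝟙 _ := by
    rw [← cancel_mono (q ⁻¹ᵁ W₁).ι, ← cancel_mono W₂.ι]
    simp only [Category.assoc, Category.id_comp]
    rw [reassoc_of% ha', morphismRestrict_ι, reassoc_of% hb', hqp]
  let e : (p ⁻¹ᵁ W₂).toScheme ≅ (q ⁻¹ᵁ W₁).toScheme := ⟨a, b, hab, hba⟩
  refine ⟨{ source := W₁.ι ''ᵁ p ⁻¹ᵁ W₂
            dense_source := ?_
            target := W₂.ι ''ᵁ q ⁻¹ᵁ W₁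
            dense_target := ?_
            iso := (W₁.ι.isoImage _).symm ≪≫ e ≪≫ (W₂.ι.isoImage _) }⟩
  · refine (W₁.ι ''ᵁ p ⁻¹ᵁ W₂).2.dense ?_
    simpa [← Set.nonempty_preimage_iff] using
      p.denseRange.inter_open_nonempty _ W₂.2 hW₂.nonempty
  · refine (W₂.ι ''ᵁ q ⁻¹ᵁ W₁).2.dense ?_
    simpa [← Set.nonempty_preimage_iff] using
      q.denseRange.inter_open_nonempty _ W₁.2 hW₁.nonempty

lemma homOfLE_id_hom {X : Scheme.{u}} (W : X.Opens) (h : W ≤ (PartialMap.id X).domain) :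
    X.homOfLE h ≫ (PartialMap.id X).hom = W.ι := by
  change X.homOfLE h ≫ (X.topIso.hom ≫ 𝟙 X) = W.ι
  rw [Category.comp_id, Scheme.topIso_hom]
  exact X.homOfLE_ι _

/-- Lemma D: from lifts to the hypotheses of Lemma C. -/
lemma restrict_comp_eq {X Y : Scheme.{u}} (f₀ : X.PartialMap Y) (g₀ : Y.PartialMap X)
    (W₁ : X.Opens) (hW₁ : W₁ ≤ f₀.domain) (hW₁' : W₁ ≤ (PartialMap.id X).domain)
    (W₂ : Y.Opens) (hW₂ : W₂ ≤ g₀.domain)
    (k₁ : W₁.toScheme ⟶ g₀.domain.toScheme)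
    (hk₁ : k₁ ≫ g₀.domain.ι = X.homOfLE hW₁ ≫ f₀.hom)
    (hk₁' : k₁ ≫ g₀.hom = X.homOfLE hW₁' ≫ (PartialMap.id X).hom) :
    (X.homOfLE hW₁ ≫ f₀.hom) ∣_ W₂ ≫ (Y.homOfLE hW₂ ≫ g₀.hom) =
      ((X.homOfLE hW₁ ≫ f₀.hom) ⁻¹ᵁ W₂).ι ≫ W₁.ι := by
  have h1 : (X.homOfLE hW₁ ≫ f₀.hom) ∣_ W₂ ≫ Y.homOfLE hW₂ =
      ((X.homOfLE hW₁ ≫ f₀.hom) ⁻¹ᵁ W₂).ι ≫ k₁ := by
    rw [← cancel_mono g₀.domain.ι]
    simp only [Category.assoc, Scheme.homOfLE_ι, morphismRestrict_ι, hk₁]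
  rw [reassoc_of% h1, hk₁', homOfLE_id_hom]

theorem main (X Y : Scheme.{u}) [IsIntegral X] [IsIntegral Y] :
    Scheme.Birational X Y ↔
      ∃ (f : X ⤏ Y) (g : Y ⤏ X) (_ : f.IsDominant) (_ : g.IsDominant),
        f.comp g = Scheme.RationalMap.id X ∧ g.comp f = Scheme.RationalMap.id Y := by
  constructor
  · rintro ⟨φ⟩
    haveI hf : IsDominant φ.toPartialMap.hom := by
      have := Opens.isDominant_ι φ.dense_target
      dsimp only [PartialIso.toPartialMap]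
      infer_instance
    haveI hg : IsDominant φ.symm.toPartialMap.hom := by
      have := Opens.isDominant_ι φ.dense_source
      dsimp only [PartialIso.toPartialMap, PartialIso.symm]
      infer_instance
    refine ⟨φ.toRationalMap, φ.symm.toRationalMap, inferInstance, inferInstance, ?_, ?_⟩
    · rw [RationalMap.toRationalMap_comp, PartialMap.toRationalMap_eq_iff]
      refine comp_equiv_of_lift _ _ _ φ.source φ.dense_source le_rfl le_top φ.iso.hom ?_ ?_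
      · change φ.iso.hom ≫ φ.target.ι = X.homOfLE (le_refl _) ≫ φ.iso.hom ≫ φ.target.ι
        rw [Scheme.homOfLE_rfl, Category.id_comp]
      · rw [homOfLE_id_hom]
        change φ.iso.hom ≫ φ.iso.inv ≫ φ.source.ι = φ.source.ι
        rw [Iso.hom_inv_id_assoc]
    · rw [RationalMap.toRationalMap_comp, PartialMap.toRationalMap_eq_iff]
      refine comp_equiv_of_lift _ _ _ φ.target φ.dense_target le_rfl le_top φ.iso.inv ?_ ?_
      · change φ.iso.inv ≫ φ.source.ι = Y.homOfLE (le_refl _) ≫ φ.iso.inv ≫ φ.source.ι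
        rw [Scheme.homOfLE_rfl, Category.id_comp]
      · rw [homOfLE_id_hom]
        change φ.iso.inv ≫ φ.iso.hom ≫ φ.target.ι = φ.target.ι
        rw [Iso.inv_hom_id_assoc]
  · rintro ⟨f, g, hf, hg, h₁, h₂⟩
    obtain ⟨f₀, rfl⟩ := f.exists_rep
    obtain ⟨g₀, rfl⟩ := g.exists_rep
    haveI : IsDominant f₀.hom := (f₀.isDominant_toRationalMap_iff).mp hf
    haveI : IsDominant g₀.hom := (g₀.isDominant_toRationalMap_iff).mp hg
    rw [RationalMap.toRationalMap_comp, PartialMap.toRationalMap_eq_iff] at h₁ h₂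
    obtain ⟨W₁, hW₁d, hW₁, hW₁', k₁, hk₁, hk₁'⟩ := exists_lift_of_comp_equiv _ _ _ h₁
    obtain ⟨W₂, hW₂d, hW₂, hW₂', k₂, hk₂, hk₂'⟩ := exists_lift_of_comp_equiv _ _ _ h₂
    haveI : IsDominant (X.homOfLE hW₁ ≫ f₀.hom) :=
      PartialMap.isDominant_restrict_hom f₀ W₁ hW₁d hW₁
    haveI : IsDominant (Y.homOfLE hW₂ ≫ g₀.hom) :=
      PartialMap.isDominant_restrict_hom g₀ W₂ hW₂d hW₂
    exact partialIso_of_inverse W₁ W₂ hW₁d hW₂d (X.homOfLE hW₁ ≫ f₀.hom) (Y.homOfLE hW₂ ≫ g₀.hom)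
      (restrict_comp_eq f₀ g₀ W₁ hW₁ hW₁' W₂ hW₂ k₁ hk₁ hk₁')
      (restrict_comp_eq g₀ f₀ W₂ hW₂ hW₂' W₁ hW₁ k₂ hk₂ hk₂')

end Groth.Agent.Lib.Helper19.BirRat
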