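import Mathlib
import Groth.Agent.Lib.Helper19.CancelLib

/-!
# Cancellation for functors representable by algebraic spaces with a property (helper19)

If `b` and `a ⋙ b` are representable by algebraic spaces with `P`, and `P` is stable under base change and has the
cancellation property among algebraic spaces, then `a` is representable by algebraic spaces with `P`.
-/

set_option autoImplicit false
set_option backward.isDefEq.respectTransparency false

universe w₄ v₄ w₃ v₃ w' v' w v u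

open CategoryTheory CategoryTheory.Limits Functor AlgebraicGeometry Opposite

namespace Groth.Agent.Helper19.CancelAlg

open FibCat AlgSt Stk Groth.Agent.Helper19.FibLib Groth.Agent.Helper19.StLib Groth.Agent.Helper19.PshLib
  Groth.Agent.Helper19.PshSt Groth.Agent.Helper19.DiagLib Groth.Agent.Helper19.DiagAlgSp
  Groth.Agent.Helper19.DiagFib Groth.Agent.Helper19.CompLib Groth.Agent.Helper19.AlgP
  Groth.Agent.Helper19.DiagRep Groth.Agent.Helper19.DiagComp Groth.Agent.Helper19.CancelLib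

variable {S : Scheme.{u}}

/-- the cancellation property among algebraic spaces. -/
def CancAlg (P : MorphismProperty (AlgSp.Sp S)) : Prop :=
  ∀ ⦃X Y Z : AlgSp.Sp S⦄, AlgSp.IsAlgSpace X → AlgSp.IsAlgSpace Y → AlgSp.IsAlgSpace Z →
      ∀ (a : X ⟶ Y) (b : Y ⟶ Z), P b → P (a ≫ b) → P a

/-- every functor `ofSp F ⟶ (Sch/U)` is, up to isomorphism, induced by a map of presheaves. -/
def isoToOverCat {F : AlgSp.Sp S} {U : Over S} (Φ : ofSp F ⥤ᵇ overCat U) :
    BasedFunctor.comp (ofPshMap (pshMapOf (BasedFunctor.comp Φ (ofOverCat U)))) (toOverCat U) ≅ Φ :=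
  (whiskerRightIso (isoOfPshMap (BasedFunctor.comp Φ (ofOverCat U))) (toOverCat U)).symm ≪≫
    eqToIso (BasedFunctor.comp_assoc _ _ _) ≪≫ whiskerLeftIso Φ (ofToOverCat U) ≪≫
    eqToIso (BasedFunctor.comp_id _)

/-- independence of the representing space: if `Φ : ofSp F ⟶ (Sch/U)` is represented by some algebraic space with
`Q` over `h_U`, then the map `F ⟶ h_U` of `Φ` has `Q`. -/
theorem of_repOver {Q : MorphismProperty (AlgSp.Sp S)} [Q.RespectsIso] {U : Over S} {F : AlgSp.Sp S}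
    (Φ : ofSp F ⥤ᵇ overCat U) (h : RepOver Q Φ) : Q (spMapOfOver Φ) := by
  let s : F.obj ⟶ (AlgSp.pyon S).obj U := pshMapOf (BasedFunctor.comp Φ (ofOverCat U))
  have h1 : RepOver Q (BasedFunctor.comp (ofPshMap s) (toOverCat U)) :=
    RepOver.of_equiv (BasedFunctor.id _) (isEquivOver_id _)
      (eqToIso (BasedFunctor.id_comp _) ≪≫ (isoToOverCat Φ)) h
  obtain ⟨hs, -, hQ⟩ := (repOver_ofPsh_iff Q F.obj s).1 h1
  have e1 : spMapOfOver Φ = spMapOfOver (BasedFunctor.comp (ofPshMap s) (toOverCat U)) :=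
    spMapOfOver_eq_of_iso (isoToOverCat Φ).symm
  rw [e1, spMapOfOver_ofPshMap_toOverCat]
  exact hQ


theorem spMapOfOver_toOverCat (U : Over S) :
    spMapOfOver (BasedFunctor.comp (toOverCat U) (BasedFunctor.id (overCat U))) = 𝟙 _ := by
  apply ObjectProperty.hom_ext
  ext T x
  apply ULift.ext
  show secHom _ _ = _
  unfold secHom
  simp
  rfl

/-- `(Sch/U)` is represented over itself by `h_U` with the identity. -/
theorem repOver_id (U : Over S) :
    RepOver (MorphismProperty.isomorphisms (AlgSp.Sp S)) (BasedFunctor.id (overCat U)) := by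
  refine ⟨⟨(AlgSp.yon S).obj U, AlgSp.IsAlgSpace.yon_obj U⟩, toOverCat U, isEquivOver_toOverCat U, ?_⟩
  rw [spMapOfOver_toOverCat]
  exact MorphismProperty.isomorphisms.infer_property _

/-- the identity functor is representable by algebraic spaces and an isomorphism. -/
theorem repByAlgSpWith_id (𝒲 : BasedCategory.{v, w} (Over S)) :
    RepByAlgSpWith (MorphismProperty.isomorphisms (AlgSp.Sp S)) (BasedFunctor.id 𝒲) := by
  intro T t
  exact RepOver.of_equiv_symm (fpFst t (BasedFunctor.id 𝒲)) (isEquivOver_fpFst_id t)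
    (eqToIso (BasedFunctor.comp_id _)) (repOver_id T)

/-- `P` holds after every base change to algebraic spaces. -/
def UnivAlg (P : MorphismProperty (AlgSp.Sp S)) : MorphismProperty (AlgSp.Sp S) :=
  fun A B f => ∀ ⦃A' B' : AlgSp.Sp S⦄ (g : B' ⟶ B) (f' : A' ⟶ B') (g' : A' ⟶ A),
    IsPullback g' f' f g → AlgSp.IsAlgSpace A' → AlgSp.IsAlgSpace B' → P f'

theorem univAlg_stable (P : MorphismProperty (AlgSp.Sp S)) ⦃A B A' B' : AlgSp.Sp S⦄ (f : A ⟶ B)
    (g : B' ⟶ B) (f' : A' ⟶ B') (g' : A' ⟶ A) (sq : IsPullback g' f' f g) (hf : UnivAlg P f) :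
    UnivAlg P f' := by
  intro A'' B'' k f'' k' sq' hA hB
  exact hf (k ≫ g) f'' (k' ≫ g') (sq'.paste_horiz sq) hA hB

theorem univAlg_of_stableAlg {P : MorphismProperty (AlgSp.Sp S)} (hPb : StableAlg P) {A B : AlgSp.Sp S}
    (hA : AlgSp.IsAlgSpace A) (hB : AlgSp.IsAlgSpace B) (f : A ⟶ B) (hf : P f) : UnivAlg P f := by
  intro A' B' g f' g' sq hA' hB'
  exact hPb hA hB hA' hB' f g f' g' sq hf

theorem univAlg_comp_iso {P : MorphismProperty (AlgSp.Sp S)} (hPb : StableAlg P) ⦃A B C : AlgSp.Sp S⦄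
    (f : A ⟶ B) (g : B ⟶ C) (hf : UnivAlg P f) (hg : MorphismProperty.isomorphisms (AlgSp.Sp S) g) :
    algP P (f ≫ g) := by
  have := algP_respectsIso hPb
  have : IsIso g := hg
  refine ((algP P).cancel_right_of_respectsIso f g).2 ?_
  intro hA hB
  exact hf (𝟙 B) f (𝟙 A) (IsPullback.of_horiz_isIso ⟨by simp⟩) hA hB

/-- Cancellation: if `b` and `a ⋙ b` are representable by algebraic spaces with `P` then so is `a`. -/
theorem repByAlgSpWith_cancel {P : MorphismProperty (AlgSp.Sp S)} (hPb : StableAlg P) (hcancel : CancAlg P)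
    {𝒳 𝒴 𝒵 : AlgSt.Cat S} (h𝒳 : IsFibGrpd 𝒳.p) (h𝒴 : IsFibGrpd 𝒴.p) (h𝒵 : IsFibGrpd 𝒵.p)
    (a : 𝒳 ⥤ᵇ 𝒴) (b : 𝒴 ⥤ᵇ 𝒵) (hab : RepByAlgSpWith P (BasedFunctor.comp a b))
    (hb : RepByAlgSpWith P b) : RepByAlgSpWith P a := by
  have := algP_respectsIso hPb
  rw [← repByAlgSpWith_algP_iff]
  have ha1 : RepByAlgSp1 a := repByAlgSp1_of_comp h𝒳 h𝒴 h𝒵 a b
    (RepByAlgSpWith.repByAlgSp1 hab) (RepByAlgSpWith.repByAlgSp1 hb)
  intro U y
  let z : overCat U ⥤ᵇ 𝒵 := BasedFunctor.comp y b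
  obtain ⟨A, eA, heA, hα⟩ := hb U z
  let y' : ofSp A.obj ⥤ᵇ 𝒴 := BasedFunctor.comp eA (fpSnd z b)
  obtain ⟨B, eB, β, heB, ⟨θ⟩, -⟩ := exists_rep_fp_of_space stableAlg_top descAtlas_top h𝒳 h𝒴 a
    ((repByAlgSp1_iff_top a).1 ha1) A y'
  let E : ofSp B.obj ⥤ᵇ fp z (BasedFunctor.comp a b) :=
    BasedFunctor.comp eB (BasedFunctor.comp (fpPre eA (fpSnd z b) a) (pasteRInv z b a))
  have hE : IsEquivOver E := IsEquivOver.comp heB (IsEquivOver.comp (isEquivOver_fpPre eA heA (fpSnd z b) a)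
      (isEquivOver_pasteRInv z b a))
  have e1 : spMapOfOver (BasedFunctor.comp E (fpFst z (BasedFunctor.comp a b))) =
      spMapOfOver (BasedFunctor.comp (ofSpMap β) (BasedFunctor.comp eA (fpFst z b))) :=
    spMapOfOver_eq_of_iso (whiskerRightIso θ (BasedFunctor.comp eA (fpFst z b)))
  rw [spMapOfOver_ofSpMap_comp] at e1
  have hβα : P (β ≫ spMapOfOver (BasedFunctor.comp eA (fpFst z b))) := by
    rw [← e1]
    exact (of_repOver (Q := algP P) _ (RepOver.of_equiv_symm E hE (Iso.refl _)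
      ((repByAlgSpWith_algP_iff P _).2 hab U z))) B.property (AlgSp.IsAlgSpace.yon_obj U)
  have hβ : P β := hcancel B.property A.property (AlgSp.IsAlgSpace.yon_obj U) β _ hα hβα
  have h2 : RepByAlgSpWith (algP P) (BasedFunctor.comp (ofSpMap β) (BasedFunctor.id _)) :=
    repByAlgSpWith_ofSpMap_comp (UnivAlg P) (MorphismProperty.isomorphisms (AlgSp.Sp S)) (algP P)
      (univAlg_stable P) (univAlg_comp_iso hPb) β (univAlg_of_stableAlg hPb B.property A.property β hβ)
      (BasedFunctor.id _) (repByAlgSpWith_id _)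
  rw [BasedFunctor.comp_id] at h2
  have h3 : RepByAlgSpWith (algP P) (BasedFunctor.comp eB (fpFst y' a)) := repByAlgSpWith_of_iso θ h2
  have h4 : RepByAlgSpWith (algP P) (fpFst y' a) := (repByAlgSpWith_equiv_comp eB heB _).1 h3
  obtain ⟨eA', ⟨η⟩, ⟨ε⟩⟩ := heA
  let s : overCat U ⥤ᵇ fp z b := fpLift (F := z) (G := b) (BasedFunctor.id _) y (eqToIso (BasedFunctor.id_comp _))
  let c : overCat U ⥤ᵇ ofSp A.obj := BasedFunctor.comp s eA'
  have φ : y ≅ BasedFunctor.comp c y' :=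
    eqToIso (by rw [BasedFunctor.id_comp]; rfl) ≪≫
      whiskerLeftIso s (whiskerRightIso ε.symm (fpSnd z b)) ≪≫
      eqToIso (by simp only [c, y', BasedFunctor.comp_assoc])
  have h5 := h4 U c
  have h6 : RepOver (algP P) (fpFst (BasedFunctor.comp c y') a) :=
    RepOver.of_equiv_symm (pasteL c y' a) (isEquivOver_pasteL c y' a) (eqToIso (pasteL_comp_fpFst c y' a)) h5
  exact RepOver.of_equiv_symm (fpCongrLeft a φ) (isEquivOver_fpCongrLeft a φ)
    (eqToIso (fpCongrLeft_comp_fpFst a φ)) h6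

end Groth.Agent.Helper19.CancelAlg
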