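import Mathlib
import Groth.Agent.Lib.Helper19.AffComp
import Groth.Agent.Lib.Helper19.StLib

/-!
# Cancellation for functors representable by schemes with a property (helper19)
-/

set_option autoImplicit false
set_option backward.isDefEq.respectTransparency false

universe w₄ v₄ w₃ v₃ w' v' w v u

open CategoryTheory CategoryTheory.Limits Functor AlgebraicGeometry Opposite

namespace Groth.Agent.Helper19.CancelRep

open FibCat AlgSt Stk Groth.Agent.Helper19.FibLib Groth.Agent.Helper19.StLib Groth.Agent.Helper19.AffComp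

variable {S : Scheme.{u}}

/-- if `a ⋙ b` and the diagonal of `b` are representable with `P`, so is `a`. -/
theorem repByAlgSpWith_repWith_of_comp (P : MorphismProperty Scheme.{u}) [P.IsStableUnderBaseChange]
    [P.IsMultiplicative] {𝒳 : BasedCategory.{v, w} (Over S)} {𝒴 : BasedCategory.{v', w'} (Over S)}
    {𝒵 : BasedCategory.{v₃, w₃} (Over S)} (a : 𝒳 ⥤ᵇ 𝒴) (b : 𝒴 ⥤ᵇ 𝒵)
    (hab : RepByAlgSpWith (AlgSp.RepWith P) (BasedFunctor.comp a b))
    (hΔ : RepByAlgSpWith (AlgSp.RepWith P) (diag b)) : RepByAlgSpWith (AlgSp.RepWith P) a := by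
  have hΓ := repByAlgSpWith_graph (BasedFunctor.comp a b) b a (Iso.refl _) hΔ
  have hsnd := repByAlgSpWith_fpSnd (BasedFunctor.comp a b) b hab
  exact Groth.Agent.Helper19.ImmLib.repByAlgSpWith_repWith_comp P _ _ hΓ hsnd

theorem isAffineMor_of_comp {𝒳 : BasedCategory.{v, w} (Over S)} {𝒴 : BasedCategory.{v', w'} (Over S)}
    {𝒵 : BasedCategory.{v₃, w₃} (Over S)} (f : 𝒳 ⥤ᵇ 𝒴) (b : 𝒴 ⥤ᵇ 𝒵)
    (hab : RepByAlgSpWith AlgSp.IsAffineMor (BasedFunctor.comp f b))
    (hΔ : RepByAlgSpWith AlgSp.IsAffineMor (diag b)) : RepByAlgSpWith AlgSp.IsAffineMor f := by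
  rw [repByAlgSpWith_congr (Q' := AlgSp.RepWith @IsAffineHom) (fun _ _ f => isAffineMor_iff_repWith f)]
    at hab hΔ ⊢
  exact repByAlgSpWith_repWith_of_comp _ f b hab hΔ

end Groth.Agent.Helper19.CancelRep
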