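import Mathlib
import Groth.Prelude.Def_FibCat2
import Groth.Agent.S6393

/-!
# The 2-fibre product of categories fibred in groupoids, universe-polymorphic (helper19; copy of helper10's
# S6400/S6401 arguments with general universes)
-/

set_option autoImplicit false
open CategoryTheory
universe v₄ u₄ v₃ u₃ v₂ u₂ v u
open FibCat

namespace Groth.Agent.Helper19.FpFibU

open Functor Limits

section
variable {C : Type u} [Category.{v} C] {𝒳 : BasedCategory.{v₂, u₂} C} {𝒴 : BasedCategory.{v₃, u₃} C} {𝒮 : BasedCategory.{v₄, u₄} C}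
  (F : 𝒳 ⥤ᵇ 𝒮) (G : 𝒴 ⥤ᵇ 𝒮)

theorem isHomLift_fst {x y : (fp F G).obj} (φ : x ⟶ y) {R S : C} (f : R ⟶ S)
    [(fp F G).p.IsHomLift f φ] : 𝒳.p.IsHomLift f φ.hom.fst := by
  show 𝒳.p.IsHomLift f ((fpFst F G).map φ)
  infer_instance

theorem isHomLift_snd {x y : (fp F G).obj} (φ : x ⟶ y) {R S : C} (f : R ⟶ S)
    [(fp F G).p.IsHomLift f φ] : 𝒴.p.IsHomLift f φ.hom.snd := by
  show 𝒴.p.IsHomLift f ((fpSnd F G).map φ)
  infer_instance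

theorem isHomLift_of_fst {x y : (fp F G).obj} (φ : x ⟶ y) {R S : C} (f : R ⟶ S)
    (h : 𝒳.p.IsHomLift f φ.hom.fst) : (fp F G).p.IsHomLift f φ := by
  have : 𝒳.p.IsHomLift f ((fpFst F G).map φ) := h
  exact BasedFunctor.isHomLift_map (fpFst F G) f φ

/-- A morphism of the 2-fibre product whose components are strongly cartesian is strongly
cartesian. -/
theorem sc_of_components {x y : (fp F G).obj} (φ : y ⟶ x) {R S : C} (f : R ⟶ S)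
    [(fp F G).p.IsHomLift f φ]
    (h₁ : 𝒳.p.IsStronglyCartesian f φ.hom.fst) (h₂ : 𝒴.p.IsStronglyCartesian f φ.hom.snd)
    (h₃ : 𝒮.p.IsStronglyCartesian f (G.map φ.hom.snd)) :
    (fp F G).p.IsStronglyCartesian f φ := by
  refine { toIsHomLift := inferInstance, universal_property' := ?_ }
  intro z g ψ hψ
  have hψ₁ : 𝒳.p.IsHomLift (g ≫ f) ψ.hom.fst := isHomLift_fst F G ψ (g ≫ f)
  have hψ₂ : 𝒴.p.IsHomLift (g ≫ f) ψ.hom.snd := isHomLift_snd F G ψ (g ≫ f)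
  let χ₁ := IsStronglyCartesian.map 𝒳.p f φ.hom.fst (rfl : g ≫ f = g ≫ f) ψ.hom.fst
  let χ₂ := IsStronglyCartesian.map 𝒴.p f φ.hom.snd (rfl : g ≫ f = g ≫ f) ψ.hom.snd
  have hχ₁ : 𝒳.p.IsHomLift g χ₁ := inferInstance
  have hχ₂ : 𝒴.p.IsHomLift g χ₂ := inferInstance
  have hfac₁ : χ₁ ≫ φ.hom.fst = ψ.hom.fst := IsStronglyCartesian.fac _ _ _ _ _
  have hfac₂ : χ₂ ≫ φ.hom.snd = ψ.hom.snd := IsStronglyCartesian.fac _ _ _ _ _
  have hz : 𝒮.p.IsHomLift (𝟙 ((fp F G).p.obj z)) z.obj.iso.hom := z.property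
  have hy : 𝒮.p.IsHomLift (𝟙 R) y.obj.iso.hom := by
    have h0 : 𝒮.p.IsHomLift (𝟙 (𝒳.p.obj y.obj.fst)) y.obj.iso.hom := y.property
    have e : 𝒳.p.obj y.obj.fst = R := IsHomLift.domain_eq 𝒳.p f φ.hom.fst
    exact e ▸ h0
  have hw : F.map χ₁ ≫ y.obj.iso.hom = z.obj.iso.hom ≫ G.map χ₂ := by
    have hl : 𝒮.p.IsHomLift g (F.map χ₁ ≫ y.obj.iso.hom) := inferInstance
    have hr : 𝒮.p.IsHomLift g (z.obj.iso.hom ≫ G.map χ₂) := inferInstance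
    apply IsStronglyCartesian.ext 𝒮.p f (G.map φ.hom.snd) g
    have w1 := φ.hom.w
    have w2 := ψ.hom.w
    rw [Category.assoc, Category.assoc, ← G.map_comp, hfac₂]
    change F.map χ₁ ≫ y.obj.iso.hom ≫ G.toFunctor.map φ.hom.snd = _
    rw [← w1, ← Category.assoc]
    rw [← F.toFunctor.map_comp, hfac₁, w2]
  let χ : z ⟶ y := ObjectProperty.homMk { fst := χ₁, snd := χ₂, w := hw }
  refine ⟨χ, ⟨isHomLift_of_fst F G χ g hχ₁, ?_⟩, ?_⟩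
  · apply ObjectProperty.hom_ext
    apply CategoricalPullback.hom_ext
    · exact hfac₁
    · exact hfac₂
  · rintro χ' ⟨hχ'1, hχ'2⟩
    apply ObjectProperty.hom_ext
    apply CategoricalPullback.hom_ext
    · have : 𝒳.p.IsHomLift g χ'.hom.fst := isHomLift_fst F G χ' g
      refine IsStronglyCartesian.map_uniq 𝒳.p f φ.hom.fst rfl ψ.hom.fst χ'.hom.fst ?_
      rw [← hχ'2]; rfl
    · have : 𝒴.p.IsHomLift g χ'.hom.snd := isHomLift_snd F G χ' g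
      refine IsStronglyCartesian.map_uniq 𝒴.p f φ.hom.snd rfl ψ.hom.snd χ'.hom.snd ?_
      rw [← hχ'2]; rfl

/-- Existence of lifts with strongly cartesian components. -/
theorem exists_lift_sc [𝒳.p.IsFibered] [𝒴.p.IsFibered]
    (hF : ∀ {R S : C} (f : R ⟶ S) {a b : 𝒳.obj} (φ : a ⟶ b),
      𝒳.p.IsStronglyCartesian f φ → 𝒮.p.IsStronglyCartesian f (F.map φ))
    (hG : ∀ {R S : C} (f : R ⟶ S) {a b : 𝒴.obj} (φ : a ⟶ b),
      𝒴.p.IsStronglyCartesian f φ → 𝒮.p.IsStronglyCartesian f (G.map φ))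
    (x : (fp F G).obj) {V : C} (f : V ⟶ (fp F G).p.obj x) :
    ∃ (y : (fp F G).obj) (φ : y ⟶ x), (fp F G).p.IsHomLift f φ ∧
      𝒳.p.IsStronglyCartesian f φ.hom.fst ∧ 𝒴.p.IsStronglyCartesian f φ.hom.snd ∧
      𝒮.p.IsStronglyCartesian f (G.map φ.hom.snd) := by
  have ha₁ : 𝒳.p.obj x.obj.fst = (fp F G).p.obj x := rfl
  have ha₂ : 𝒴.p.obj x.obj.snd = (fp F G).p.obj x := (fpSnd F G).w_obj x
  let φ₁ := IsPreFibered.pullbackMap (p := 𝒳.p) ha₁ f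
  let φ₂ := IsPreFibered.pullbackMap (p := 𝒴.p) ha₂ f
  have hφ₁ : 𝒳.p.IsStronglyCartesian f φ₁ := inferInstance
  have hφ₂ : 𝒴.p.IsStronglyCartesian f φ₂ := inferInstance
  have hFφ₁ : 𝒮.p.IsStronglyCartesian f (F.map φ₁) := hF f φ₁ hφ₁
  have hGφ₂ : 𝒮.p.IsStronglyCartesian f (G.map φ₂) := hG f φ₂ hφ₂
  have hx : 𝒮.p.IsHomLift (𝟙 ((fp F G).p.obj x)) x.obj.iso.hom := x.property
  have hcomp : 𝒮.p.IsStronglyCartesian f (F.map φ₁ ≫ x.obj.iso.hom) := by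
    have : 𝒮.p.IsStronglyCartesian (f ≫ 𝟙 _) (F.map φ₁ ≫ x.obj.iso.hom) := inferInstance
    rwa [Category.comp_id] at this
  have hff : f = (Iso.refl V).hom ≫ f := by simp
  let κ := IsStronglyCartesian.domainIsoOfBaseIso 𝒮.p hff (G.map φ₂) (F.map φ₁ ≫ x.obj.iso.hom)
  have hκ : 𝒮.p.IsHomLift (𝟙 V) κ.hom := by
    have : 𝒮.p.IsHomLift (Iso.refl V).hom κ.hom := inferInstance
    exact this
  have hκfac : κ.hom ≫ G.map φ₂ = F.map φ₁ ≫ x.obj.iso.hom :=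
    IsStronglyCartesian.fac 𝒮.p f (G.map φ₂) hff (F.map φ₁ ≫ x.obj.iso.hom)
  have e : 𝒳.p.obj (IsPreFibered.pullbackObj (p := 𝒳.p) ha₁ f) = V :=
    IsPreFibered.pullbackObj_proj ha₁ f
  have hκ' : 𝒮.p.IsHomLift (𝟙 (𝒳.p.obj (IsPreFibered.pullbackObj (p := 𝒳.p) ha₁ f))) κ.hom := by
    rw [e]; exact hκ
  let y : (fp F G).obj :=
    ⟨{ fst := IsPreFibered.pullbackObj (p := 𝒳.p) ha₁ f
       snd := IsPreFibered.pullbackObj (p := 𝒴.p) ha₂ f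
       iso := κ }, hκ'⟩
  let φ : y ⟶ x := ObjectProperty.homMk { fst := φ₁, snd := φ₂, w := hκfac.symm }
  exact ⟨y, φ, isHomLift_of_fst F G φ f (inferInstance : 𝒳.p.IsHomLift f φ₁), hφ₁, hφ₂, hGφ₂⟩

end


theorem isFibGrpd_fp {C : Type u} [Category.{v} C] {𝒳 : BasedCategory.{v₂, u₂} C} {𝒴 : BasedCategory.{v₃, u₃} C} {𝒮 : BasedCategory.{v₄, u₄} C} (F : 𝒳 ⥤ᵇ 𝒮) (G : 𝒴 ⥤ᵇ 𝒮) (h𝒳 : FibCat.IsFibGrpd 𝒳.p) (h𝒴 : FibCat.IsFibGrpd 𝒴.p) (h𝒮 : FibCat.IsFibGrpd 𝒮.p) :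
    FibCat.IsFibGrpd (FibCat.fp F G).p := by
  haveI : 𝒳.p.IsFibered := ((Groth.Agent.S6393.result 𝒳.p).mp h𝒳).1
  haveI : 𝒴.p.IsFibered := ((Groth.Agent.S6393.result 𝒴.p).mp h𝒴).1
  have hF : ∀ {R S : C} (f : R ⟶ S) {a b : 𝒳.obj} (φ : a ⟶ b),
      𝒳.p.IsStronglyCartesian f φ → 𝒮.p.IsStronglyCartesian f (F.map φ) := by
    intro R S f a b φ hφ
    exact Groth.Agent.S6393.sc_of_lift 𝒮.p f (F.map φ) inferInstance
      (h𝒮.isStronglyCartesian (F.map φ))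
  have hG : ∀ {R S : C} (f : R ⟶ S) {a b : 𝒴.obj} (φ : a ⟶ b),
      𝒴.p.IsStronglyCartesian f φ → 𝒮.p.IsStronglyCartesian f (G.map φ) := by
    intro R S f a b φ hφ
    exact Groth.Agent.S6393.sc_of_lift 𝒮.p f (G.map φ) inferInstance
      (h𝒮.isStronglyCartesian (G.map φ))
  refine ⟨?_, ?_⟩
  · intro x V f
    obtain ⟨y, φ, h0, -⟩ := exists_lift_sc F G hF hG x f
    exact ⟨y, φ, h0⟩
  · intro y x φ
    have h1 : 𝒳.p.IsHomLift ((fp F G).p.map φ) φ.hom.fst :=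
      isHomLift_fst F G φ _
    have h2 : 𝒴.p.IsHomLift ((fp F G).p.map φ) φ.hom.snd :=
      isHomLift_snd F G φ _
    have h3 : 𝒮.p.IsHomLift ((fp F G).p.map φ) (G.map φ.hom.snd) := inferInstance
    exact sc_of_components F G φ _
      (Groth.Agent.S6393.sc_of_lift 𝒳.p _ _ h1 (h𝒳.isStronglyCartesian _))
      (Groth.Agent.S6393.sc_of_lift 𝒴.p _ _ h2 (h𝒴.isStronglyCartesian _))
      (Groth.Agent.S6393.sc_of_lift 𝒮.p _ _ h3 (h𝒮.isStronglyCartesian _))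

end Groth.Agent.Helper19.FpFibU
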