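import Mathlib
import Groth.Prelude.Def_W4c2isonaturalstkIso
import Groth.Prelude.Def_AlgSt4
import Groth.Agent.Lib.Helper19.StPts
import Groth.Agent.Lib.Helper19.StPtsOpen
import Groth.Agent.S6401

/-!
# Presheaves of isomorphism classes and points (helper19)
-/

set_option autoImplicit false
set_option backward.isDefEq.respectTransparency false

universe u

open CategoryTheory CategoryTheory.Limits AlgebraicGeometry

namespace Groth.Agent.Helper19.IsoNatLib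

open FibCat AlgSt IsoNat Groth.Agent.Helper19.FibLib Groth.Agent.Helper19.StPts

variable {S : Scheme.{u}} {𝒳 𝒴 𝒳' 𝒴' : AlgSt.Cat S}

theorem cls_eq_iff {T : Over S} (x y : 𝒳.p.Fiber T) : cls x = cls y ↔ Nonempty (x ≅ y) :=
  Quotient.eq (r := isIsomorphicSetoid (𝒳.p.Fiber T))

theorem exists_cls {T : Over S} (c : IsoCl 𝒳 T) : ∃ x : 𝒳.p.Fiber T, cls x = c :=
  Quotient.exists_rep c

theorem mapCls_cls (f : 𝒳 ⥤ᵇ 𝒴) {T : Over S} (x : 𝒳.p.Fiber T) :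
    mapCls f T (cls x) = cls ((fibFun f T).obj x) := rfl

theorem fibFun_obj_coe (f : 𝒳 ⥤ᵇ 𝒴) {T : Over S} (x : 𝒳.p.Fiber T) :
    ((fibFun f T).obj x).1 = f.obj x.1 := rfl

/-- an isomorphism of fibre objects from a morphism over the identity. -/
theorem cls_eq_of_hom (h𝒳 : IsFibGrpd 𝒳.p) {T : Over S} (x y : 𝒳.p.Fiber T) (φ : x.1 ⟶ y.1)
    (hφ : 𝒳.p.IsHomLift (𝟙 T) φ) : cls x = cls y := by
  rw [cls_eq_iff]
  have hiso : IsIso φ := isIso_of_isHomLift h𝒳 (𝟙 T) φ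
  have hinv : 𝒳.p.IsHomLift (𝟙 T) (inv φ) := inferInstance
  refine ⟨⟨Functor.Fiber.homMk 𝒳.p T φ, Functor.Fiber.homMk 𝒳.p T (inv φ), ?_, ?_⟩⟩
  · apply Functor.Fiber.hom_ext
    simp
    rfl
  · apply Functor.Fiber.hom_ext
    simp
    rfl

/-- surjectivity on points is detected on presheaves of isomorphism classes. -/
theorem isSurjective_of_fIsoSq (h𝒳 : IsFibGrpd 𝒳.p) (h𝒴 : IsFibGrpd 𝒴.p)
    (f : 𝒳 ⥤ᵇ 𝒴) (f' : 𝒳' ⥤ᵇ 𝒴') (φ : FIsoSq f f') (hf : IsSurjective f) : IsSurjective f' := by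
  intro w'
  obtain ⟨q', rfl⟩ := Points.mk_surjective w'
  let T : Over S := Over.mk q'.str
  let y' : 𝒴'.p.Fiber T := ⟨q'.obj, q'.lies⟩
  obtain ⟨y, hy⟩ : ∃ y : 𝒴.p.Fiber T, φ.tgt.toEquiv T (cls y) = cls y' := by
    obtain ⟨y, hy⟩ := exists_cls ((φ.tgt.toEquiv T).symm (cls y'))
    exact ⟨y, by rw [hy]; simp⟩
  let q : FPt 𝒴 := { K := q'.K, str := q'.str, obj := y.1, lies := y.2 }
  obtain ⟨w, hw⟩ := hf (Points.mk q)
  obtain ⟨p, rfl⟩ := Points.mk_surjective w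
  obtain ⟨r, α, β, -⟩ := (mk_eq_mk_iff h𝒴).1 hw
  -- pull back `p.obj` along the base of `α`
  have hα : 𝒴.p.IsHomLift (baseHom (q := p.map f) α) α := inferInstance
  have hβ : 𝒴.p.IsHomLift (baseHom (q := q) β) β := inferInstance
  obtain ⟨xr, ψ, hψ⟩ := exists_lift_fpt h𝒳 p (baseHom (q := p.map f) α)
  have hfψ : 𝒴.p.IsHomLift (baseHom (q := p.map f) α) (f.map ψ) := inferInstance
  obtain ⟨χ, hχ, -, -⟩ := exists_iso_of_lifts h𝒴 (baseHom (q := p.map f) α) α (f.map ψ)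
  -- χ : f.obj xr ⟶ r.obj over the identity
  have hxr : 𝒳.p.obj xr = pt r := IsHomLift.domain_eq 𝒳.p (baseHom (q := p.map f) α) ψ
  let xrF : 𝒳.p.Fiber (pt r) := ⟨xr, hxr⟩
  let rF : 𝒴.p.Fiber (pt r) := ⟨r.obj, r.lies⟩
  have h1 : mapCls f (pt r) (cls xrF) = cls rF := by
    rw [mapCls_cls]
    exact cls_eq_of_hom h𝒴 _ _ χ hχ
  -- naturality of the target isomorphism along `β`
  obtain ⟨y₁', y₀', b, hb, hb1, hb0⟩ := φ.tgt.natural (baseHom (q := q) β) rF y β hβ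
  have h2 : cls y₀' = cls y' := by rw [← hb0, hy]
  obtain ⟨e₀⟩ := (cls_eq_iff _ _).1 h2
  -- the square
  have h3 := φ.comm (pt r) (cls xrF)
  obtain ⟨xr', hxr'⟩ := exists_cls (φ.src.toEquiv (pt r) (cls xrF))
  rw [← hxr', h1, hb1, mapCls_cls] at h3
  obtain ⟨e₁⟩ := (cls_eq_iff _ _).1 h3
  let p' : FPt 𝒳' := { K := r.K, str := r.str, obj := xr'.1, lies := xr'.2 }
  refine ⟨Points.mk p', ?_⟩
  refine Points.sound (rel_of_hom (p := p'.map f') (q := q') ?_)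
  exact e₁.inv.1 ≫ b ≫ e₀.hom.1

/-- isomorphism classes of a 2-fibre product along a fully faithful functor are detected on the first factor. -/
theorem cls_fp_eq_of_fullyFaithful (h𝒳 : IsFibGrpd 𝒳.p) (h𝒴 : IsFibGrpd 𝒴.p) (h𝒴' : IsFibGrpd 𝒴'.p)
    (f : 𝒳 ⥤ᵇ 𝒴) (i : 𝒴' ⥤ᵇ 𝒴) [i.toFunctor.Full] [i.toFunctor.Faithful]
    (T : Over S) (z₁ z₂ : (fp f i).p.Fiber T)
    (h₁ : mapCls (fpFst f i) T (cls z₁) = mapCls (fpFst f i) T (cls z₂)) : cls z₁ = cls z₂ := by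
  have hfp : IsFibGrpd (fp f i).p := Groth.Agent.S6401.result _ _ h𝒳 h𝒴' h𝒴
  rw [mapCls_cls, mapCls_cls] at h₁
  obtain ⟨a⟩ := (cls_eq_iff _ _).1 h₁
  let a₀ : z₁.1.obj.fst ⟶ z₂.1.obj.fst := a.hom.1
  have ha₀ : 𝒳.p.IsHomLift (𝟙 T) a₀ := a.hom.2
  obtain ⟨b, hb⟩ : ∃ b : z₁.1.obj.snd ⟶ z₂.1.obj.snd,
      i.map b = z₁.1.obj.iso.inv ≫ f.map a₀ ≫ z₂.1.obj.iso.hom := i.toFunctor.map_surjective _
  have w : f.map a₀ ≫ z₂.1.obj.iso.hom = z₁.1.obj.iso.hom ≫ i.map b := by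
    rw [hb, Iso.hom_inv_id_assoc]
  refine cls_eq_of_hom hfp z₁ z₂ (fpHomMk a₀ b w) ?_
  exact (fp_isHomLift_iff _ _).2 ha₀

end Groth.Agent.Helper19.IsoNatLib
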