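import Mathlib
import Groth.Agent.Lib.Helper19.FpFibU
import Groth.Agent.Lib.Helper19.FibLib3
import Groth.Agent.Lib.Helper19.CancelLib
import Groth.Agent.S6411

set_option autoImplicit false
set_option backward.isDefEq.respectTransparency false

universe v₄ u₄ v₃ u₃ v₂ u₂ v u

open CategoryTheory CategoryTheory.Limits Functor Opposite

namespace Groth.Agent.Helper19.FibSetoidFp

open FibCat Groth.Agent.Helper19.FibLib

variable {C : Type u} [Category.{v} C]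

theorem isFibSetoid_fpFst_of_faithful {𝒵 : BasedCategory.{v₂, u₂} C}
    {𝒳 : BasedCategory.{v₃, u₃} C} {𝒴 : BasedCategory.{v₄, u₄} C}
    (G : 𝒵 ⥤ᵇ 𝒴) (F : 𝒳 ⥤ᵇ 𝒴) [F.toFunctor.Faithful] (h𝒳 : IsFibGrpd 𝒳.p) (h𝒴 : IsFibGrpd 𝒴.p) :
    IsFibSetoid (fpFst G F).toFunctor := by
  refine ⟨Groth.Agent.S6411.fibGrpd_fst G F h𝒳 h𝒴, fun a => ?_⟩
  intro P P'
  constructor
  intro Φ Ψ
  apply Functor.Fiber.hom_ext
  have hΦ : (fpFst G F).toFunctor.IsHomLift (𝟙 a) Φ.1 := Φ.2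
  have hΨ : (fpFst G F).toFunctor.IsHomLift (𝟙 a) Ψ.1 := Ψ.2
  have e1 : Φ.1.hom.fst = Ψ.1.hom.fst := by
    have h1 := IsHomLift.fac' (fpFst G F).toFunctor (𝟙 a) Φ.1
    have h2 := IsHomLift.fac' (fpFst G F).toFunctor (𝟙 a) Ψ.1
    exact h1.trans h2.symm
  apply fp_hom_ext e1
  apply F.toFunctor.map_injective
  have w1 := fp_w Φ.1
  have w2 := fp_w Ψ.1
  rw [e1] at w1
  have : P.1.obj.iso.hom ≫ F.map Φ.1.hom.snd = P.1.obj.iso.hom ≫ F.map Ψ.1.hom.snd := w1.symm.trans w2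
  exact (cancel_epi _).1 this

instance faithful_diag {𝒳 : BasedCategory.{v₂, u₂} C} {𝒴 : BasedCategory.{v₃, u₃} C} (F : 𝒳 ⥤ᵇ 𝒴) :
    (FibCat.diag F).toFunctor.Faithful where
  map_injective {a b} φ ψ h := by
    have := congrArg (fun m => m.hom.fst) h
    exact this

/-- S12806. -/
theorem isFibSetoid_fpFst_pair_diag {𝒮 : BasedCategory.{v, max u v} C} (h𝒮 : IsFibGrpd 𝒮.p)
    (U : C) (x y : overCat U ⥤ᵇ 𝒮)
    (e : BasedFunctor.comp x (toSelf 𝒮) ≅ BasedFunctor.comp y (toSelf 𝒮)) :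
    IsFibSetoid (fpFst (fpLift x y e) (FibCat.diag (toSelf 𝒮))).toFunctor :=
  isFibSetoid_fpFst_of_faithful _ _ h𝒮
    (Groth.Agent.Helper19.FpFibU.isFibGrpd_fp _ _ h𝒮 h𝒮 (Groth.Agent.Helper19.CancelLib.isFibGrpd_selfOver C))

end Groth.Agent.Helper19.FibSetoidFp
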