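import Mathlib
import Groth.Prelude.Def_AlgSt
import Groth.Agent.Lib.Helper19.YonLib
import Groth.Agent.Lib.Helper19.FibLib2

/-!
# Morphisms of a prestack which agree locally are equal (helper19)
-/

set_option autoImplicit false
set_option backward.isDefEq.respectTransparency false

universe v u

open CategoryTheory CategoryTheory.Limits Functor Opposite

namespace Groth.Agent.Helper19.LocEq

open FibCat Stk Groth.Agent.Helper19.FibLib

variable {C : Type u} [Category.{v} C] {𝒳 : BasedCategory.{v, max u v} C}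

/-- two morphisms over an identity which agree after restriction to every arrow of a sieve along which morphisms of
`𝒳` glue uniquely are equal. -/
theorem hom_ext_of_locally (h𝒳 : IsFibGrpd 𝒳.p) {U : C} (R : Sieve U) (hR : (resSieve R 𝒳).Faithful)
    {t t' : 𝒳.obj} (a b : t ⟶ t') [ia : 𝒳.p.IsHomLift (𝟙 U) a] [ib : 𝒳.p.IsHomLift (𝟙 U) b]
    (h : ∀ ⦃V : C⦄ (f : V ⟶ U), R f → ∀ (s : 𝒳.obj) (χ : s ⟶ t), 𝒳.p.IsHomLift f χ → χ ≫ a = χ ≫ b) :
    a = b := by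
  have ht : 𝒳.p.obj t = U := IsHomLift.domain_eq 𝒳.p (𝟙 U) a
  have ht' : 𝒳.p.obj t' = U := IsHomLift.codomain_eq 𝒳.p (𝟙 U) a
  have := Groth.Agent.S6409.result h𝒳 U
  obtain ⟨X, θ, hθ⟩ := YonLib.exists_chart_of_obj h𝒳 t ht
  obtain ⟨X', θ', hθ'⟩ := YonLib.exists_chart_of_obj h𝒳 t' ht'
  have hθ'inv : 𝒳.p.IsHomLift (𝟙 U) θ'.inv := inferInstance
  have hla : 𝒳.p.IsHomLift (𝟙 U) (θ.hom ≫ a ≫ θ'.inv) := by
    have h1 : 𝒳.p.IsHomLift (𝟙 U ≫ 𝟙 U ≫ 𝟙 U) (θ.hom ≫ a ≫ θ'.inv) := inferInstance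
    simpa using h1
  have hlb : 𝒳.p.IsHomLift (𝟙 U) (θ.hom ≫ b ≫ θ'.inv) := by
    have h1 : 𝒳.p.IsHomLift (𝟙 U ≫ 𝟙 U ≫ 𝟙 U) (θ.hom ≫ b ≫ θ'.inv) := inferInstance
    simpa using h1
  let ma : (evalAtId 𝒳 U).obj X ⟶ (evalAtId 𝒳 U).obj X' := ⟨θ.hom ≫ a ≫ θ'.inv, hla⟩
  let mb : (evalAtId 𝒳 U).obj X ⟶ (evalAtId 𝒳 U).obj X' := ⟨θ.hom ≫ b ≫ θ'.inv, hlb⟩
  let A : X ⟶ X' := (evalAtId 𝒳 U).preimage ma
  let B : X ⟶ X' := (evalAtId 𝒳 U).preimage mb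
  have hA : A.toNatTrans.app (Over.mk (𝟙 U)) = θ.hom ≫ a ≫ θ'.inv :=
    congrArg Subtype.val ((evalAtId 𝒳 U).map_preimage ma)
  have hB : B.toNatTrans.app (Over.mk (𝟙 U)) = θ.hom ≫ b ≫ θ'.inv :=
    congrArg Subtype.val ((evalAtId 𝒳 U).map_preimage mb)
  have hAB : (resSieve R 𝒳).map A = (resSieve R 𝒳).map B := by
    apply BasedNatTrans.homCategory.ext
    apply NatTrans.ext
    funext c
    show A.toNatTrans.app c.obj = B.toNatTrans.app c.obj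
    let m : c.obj ⟶ Over.mk (𝟙 U) := Over.homMk c.obj.hom (by simp)
    have hm : (overCat U).p.IsHomLift c.obj.hom m := IsHomLift.of_fac _ _ _ rfl rfl (by simp; rfl)
    have hXm : 𝒳.p.IsHomLift c.obj.hom (X.map m) := inferInstance
    have hX'm : 𝒳.p.IsHomLift c.obj.hom (X'.map m) := inferInstance
    have hχ : 𝒳.p.IsHomLift c.obj.hom (X.map m ≫ θ.hom) := by
      have h1 : 𝒳.p.IsHomLift (c.obj.hom ≫ 𝟙 U) (X.map m ≫ θ.hom) := inferInstance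
      simpa using h1
    have e := h c.obj.hom c.property _ (X.map m ≫ θ.hom) hχ
    have nA := A.toNatTrans.naturality m
    have nB := B.toNatTrans.naturality m
    have iA : 𝒳.p.IsHomLift (𝟙 c.obj.left) (A.toNatTrans.app c.obj) := A.isHomLift' c.obj
    have iB : 𝒳.p.IsHomLift (𝟙 c.obj.left) (B.toNatTrans.app c.obj) := B.isHomLift' c.obj
    apply hom_ext_of_comp_eq h𝒳 c.obj.hom (X'.map m) (𝟙 c.obj.left)
    change A.toNatTrans.app c.obj ≫ X'.toFunctor.map m = B.toNatTrans.app c.obj ≫ X'.toFunctor.map m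
    rw [← nA, ← nB, hA, hB]
    change X.map m ≫ θ.hom ≫ a ≫ θ'.inv = X.map m ≫ θ.hom ≫ b ≫ θ'.inv
    rw [← Category.assoc, ← Category.assoc (X.map m ≫ θ.hom), e, Category.assoc, Category.assoc]
  have hAB' : A = B := (resSieve R 𝒳).map_injective hAB
  have h2 : θ.hom ≫ a ≫ θ'.inv = θ.hom ≫ b ≫ θ'.inv := by rw [← hA, ← hB, hAB']
  have h3 := (cancel_epi θ.hom).1 h2
  exact (cancel_mono θ'.inv).1 h3

end Groth.Agent.Helper19.LocEq
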