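import Mathlib
import Groth.Agent.S6402
import Groth.Agent.Lib.Helper19.DiagConv
import Groth.Agent.Lib.Helper19.DiagLft

/-!
# The relative inertia, its neutral section and the second diagonal (helper19)
-/

set_option autoImplicit false
set_option backward.isDefEq.respectTransparency false

universe u

open CategoryTheory CategoryTheory.Limits AlgebraicGeometry

namespace Groth.Agent.Helper19.InertiaLib

open FibCat AlgSt Stk Groth.Agent.Helper19.FibLib Groth.Agent.Helper19.StLib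
  Groth.Agent.Helper19.DiagFib Groth.Agent.Helper19.DiagRep Groth.Agent.Helper19.AlgP
  Groth.Agent.Helper19.PshLib Groth.Agent.Helper19.PshSt Groth.Agent.Helper19.DiagLib
  Groth.Agent.Helper19.DiagAlgSp Groth.Agent.Helper19.CompLib

variable {S : Scheme.{u}} {𝒳 𝒴 : AlgSt.Cat S} (f : 𝒳 ⥤ᵇ 𝒴)

theorem isEquivOver_inertiaE : IsEquivOver (Groth.Agent.S6402.E f) :=
  Groth.Agent.Helper10.isEquivOver_of_ff_ess (Groth.Agent.S6402.E f) (Groth.Agent.S6402.E_ess f)

/-- the neutral section corresponds to the second diagonal. -/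
def neutralIso : BasedFunctor.comp (inertiaNeutral f) (Groth.Agent.S6402.E f) ≅
    FibCat.diag (FibCat.diag f) :=
  fpFunctorIso _ _ (Iso.refl _) (Iso.refl _) (fun x => by
    apply fp_hom_ext
    · simp [Groth.Agent.S6402.E, Groth.Agent.S6402.ε, Groth.Agent.S6402.Θ, inertiaNeutral, FibCat.diag]
      rfl
    · simp [Groth.Agent.S6402.E, Groth.Agent.S6402.ε, Groth.Agent.S6402.Θ, inertiaNeutral, FibCat.diag]
      rfl)


variable {P : MorphismProperty (AlgSp.Sp S)}

theorem repByAlgSpWith_neutral_iff :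
    RepByAlgSpWith P (inertiaNeutral f) ↔ RepByAlgSpWith P (FibCat.diag (FibCat.diag f)) := by
  rw [← repByAlgSpWith_comp_equiv (inertiaNeutral f) (Groth.Agent.S6402.E f) (isEquivOver_inertiaE f)]
  exact ⟨fun h => repByAlgSpWith_of_iso (neutralIso f).symm h, fun h => repByAlgSpWith_of_iso (neutralIso f) h⟩

theorem repByAlgSpWith_inertiaToBase_iff :
    RepByAlgSpWith P (inertiaToBase f) ↔
      RepByAlgSpWith P (fpFst (FibCat.diag f) (FibCat.diag f)) :=
  repByAlgSpWith_equiv_comp (Groth.Agent.S6402.E f) (isEquivOver_inertiaE f) (fpFst _ _)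

/-- a variant of `repByAlgSpWith_diag_of` using only the base changes along the charts `dY f t`. -/
theorem repByAlgSpWith_diag_of' {R Q : MorphismProperty (AlgSp.Sp S)} (hQ : SectionEqOf R Q)
    {𝒳 : AlgSt.Cat S} {𝒴 : AlgSt.Cat S} (f : 𝒳 ⥤ᵇ 𝒴)
    (hf : ∀ (T : Over S) (t : overCat T ⥤ᵇ fp f f), ∃ (A : AlgSp.Space S) (eA : ofSp A.obj ⥤ᵇ fp (dY f t) f),
      IsEquivOver eA ∧ R (spMapOfOver (BasedFunctor.comp eA (fpFst (dY f t) f)))) :
    RepByAlgSpWith Q (FibCat.diag f) := by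
  intro T t
  obtain ⟨A, eA, heA, hR⟩ := hf T t
  obtain ⟨s₁, ⟨τ₁⟩⟩ := exists_pshMap_of_equiv (X := ((AlgSp.yon S).obj T).obj) (Y := A.obj.obj)
    (toOverCat T) eA heA (σ₁ f t)
  obtain ⟨s₂, ⟨τ₂⟩⟩ := exists_pshMap_of_equiv (X := ((AlgSp.yon S).obj T).obj) (Y := A.obj.obj)
    (toOverCat T) eA heA (σ₂ f t)
  let s₁' : (AlgSp.yon S).obj T ⟶ A.obj := ObjectProperty.homMk s₁
  let s₂' : (AlgSp.yon S).obj T ⟶ A.obj := ObjectProperty.homMk s₂
  have sq := IsPullback.of_hasPullback s₁' s₂'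
  have hW : AlgSp.IsAlgSpace (pullback s₁' s₂') :=
    Groth.Agent.Helper15.isAlgSpace_of_isPullback A.property.diag (AlgSp.IsAlgSpace.yon_obj T)
      (AlgSp.IsAlgSpace.yon_obj T) sq
  have sqP := IsPullback.map (sheafToPresheaf (AlgSp.J S) (Type (u + 1))) sq
  have h : IsPbSec (pullback.fst s₁' s₂').hom (pullback.snd s₁' s₂').hom s₁ s₂ := IsPbSec.of_isPullback sqP
  have := IsEquivOver.isEquivalence heA
  have hE2 := isEquivOver_pbFunctor_fpMap h (toOverCat T) (isEquivOver_toOverCat T) (toOverCat T)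
    (isEquivOver_toOverCat T) eA (σ₁ f t) (σ₂ f t) τ₁ τ₂
  let a : A.obj ⟶ (AlgSp.yon S).obj T := spMapOfOver (BasedFunctor.comp eA (fpFst (dY f t) f))
  have ha₁ : s₁' ≫ a = 𝟙 _ := by
    rw [← spMapOfOver_ofSpMap_comp, ← spMapOfOver_toOverCat]
    exact spMapOfOver_eq_of_iso (whiskerRightIso τ₁ (fpFst (dY f t) f))
  have ha₂ : s₂' ≫ a = 𝟙 _ := by
    rw [← spMapOfOver_ofSpMap_comp, ← spMapOfOver_toOverCat]
    exact spMapOfOver_eq_of_iso (whiskerRightIso τ₂ (fpFst (dY f t) f))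
  have h1 : RepOver Q (fpFst (σ₁ f t) (σ₂ f t)) := by
    refine ⟨⟨pullback s₁' s₂', hW⟩, _, hE2, ?_⟩
    have e1 : spMapOfOver (BasedFunctor.comp (BasedFunctor.comp (pbFunctor h.w)
        (fpMap (toOverCat T) (toOverCat T) eA τ₁ τ₂)) (fpFst (σ₁ f t) (σ₂ f t))) =
        spMapOfOver (BasedFunctor.comp (ofSpMap (pullback.fst s₁' s₂')) (toOverCat T)) := rfl
    rw [e1]
    have e2 : spMapOfOver (BasedFunctor.comp (ofSpMap (pullback.fst s₁' s₂')) (toOverCat T)) =
        pullback.fst s₁' s₂' :=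
      spMapOfOver_ofPshMap_toOverCat (F' := pullback s₁' s₂') (pullback.fst s₁' s₂').hom
    rw [e2]
    exact hQ A T a s₁' s₂' hR ha₁ ha₂
  exact RepOver.of_equiv_symm (Groth.Agent.Helper19.DiagFib.E f t) (Groth.Agent.Helper19.DiagFib.isEquivOver_E f t) (Iso.refl _) h1

/-- a property of the inertia gives the corresponding property of the second diagonal. -/
theorem repByAlgSpWith_second_diag_of_inertia {R Q : MorphismProperty (AlgSp.Sp S)} (hQ : SectionEqOf R Q)
    (h : RepByAlgSpWith R (inertiaToBase f)) : RepByAlgSpWith Q (FibCat.diag (FibCat.diag f)) := by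
  apply repByAlgSpWith_diag_of' hQ (FibCat.diag f)
  intro T t
  obtain ⟨A, eA, heA, hR⟩ := ((repByAlgSpWith_inertiaToBase_iff f).1 h) T
    (BasedFunctor.comp t (fpFst (FibCat.diag f) (FibCat.diag f)))
  exact ⟨A, BasedFunctor.comp eA (pasteLInv _ (FibCat.diag f) (FibCat.diag f)),
    IsEquivOver.comp heA (isEquivOver_pasteLInv _ _ _), hR⟩


theorem stableAlg_repWith (P₀ : MorphismProperty Scheme.{u}) [P₀.IsStableUnderBaseChange] :
    StableAlg (S := S) (AlgSp.RepWith P₀) := by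
  intro X₁ Y₁ X₂ Y₂ _ _ _ _ a b a' b' sq ha
  exact (AlgSp.RepWith P₀).of_isPullback sq ha

/-- equalizers of sections of an unramified morphism are open immersions. -/
theorem sectionEqOf_unramified :
    SectionEqOf (S := S) (AlgSp.LocP (@LocallyOfFiniteType ⊓ @FormallyUnramified))
      (AlgSp.RepWith @IsOpenImmersion) := by
  intro A T a s₁ s₂ hR h₁ h₂
  exact (AlgSp.RepWith @IsOpenImmersion).of_isPullback (isPullback_fst_diagonal a s₁ s₂ h₁ h₂)
    (Groth.Agent.Helper15.repWith_isOpenImmersion_diagonal_of_locP_unramified A.property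
      (AlgSp.IsAlgSpace.yon_obj T) a hR)

/-- a functor locally of finite type whose diagonal is an open immersion is unramified. -/
theorem repByAlgSpWith_unramified_of_openImm_diag {𝒳 𝒴 : AlgSt.Cat S} (g : 𝒳 ⥤ᵇ 𝒴)
    (hg : RepByAlgSpWith (AlgSp.LocP @LocallyOfFiniteType) g)
    (h4 : RepByAlgSpWith (AlgSp.RepWith @IsOpenImmersion) (FibCat.diag g)) :
    RepByAlgSpWith (AlgSp.LocP (@LocallyOfFiniteType ⊓ @FormallyUnramified)) g := by
  intro T t
  obtain ⟨A, eA, heA, hlft⟩ := hg T t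
  refine ⟨A, eA, heA, ?_⟩
  have h6 := Groth.Agent.Helper19.DiagConv.repBySpWith_diagonal_of_diag
    (stableAlg_repWith @IsOpenImmersion) g h4 t eA heA
  have h0 := (Groth.Agent.Helper15.diagonal_properties A.property
    (spMapOfOver (BasedFunctor.comp eA (fpFst t g)))).1
  have h7 : AlgSp.RepWith @IsOpenImmersion
      (pullback.diagonal (spMapOfOver (BasedFunctor.comp eA (fpFst t g)))) :=
    Groth.Agent.Helper19.DiagConv.repWith_of_repBySpWith
      (fun φ hφ => (AlgSp.repWith_yon_map_iff _ φ).1 hφ) _ h0 h6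
  exact Groth.Agent.Helper15.locP_unramified_of_diagonal A.property _ hlft h7

section main

variable (h𝒳 : IsAlgStack Scheme.fppfPrecoverage 𝒳) (h𝒴 : IsAlgStack Scheme.fppfPrecoverage 𝒴)

include h𝒳 h𝒴 in
theorem repByAlgSp1_diag : RepByAlgSp1 (FibCat.diag f) :=
  Groth.Agent.Helper19.PshSt.RepByAlgSpWith.repByAlgSp1
    (Groth.Agent.Helper19.DiagLft.repByAlgSpWith_lft_diag h𝒳 h𝒴 f)

include h𝒳 h𝒴 in
/-- S12972. -/
theorem tfae_separated :
    [RepByAlgSpWith AlgSp.IsSeparatedMor (inertiaToBase f),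
      RepByAlgSpWith AlgSp.IsSeparatedMor (FibCat.diag f),
      IsClosedImm (inertiaNeutral f)].TFAE := by
  tfae_have 2 → 1 := fun h2 =>
    (repByAlgSpWith_inertiaToBase_iff f).2 (repByAlgSpWith_fpFst (FibCat.diag f) (FibCat.diag f) h2)
  tfae_have 1 → 3 := fun h1 =>
    (repByAlgSpWith_neutral_iff f).2
      (repByAlgSpWith_second_diag_of_inertia f sectionEqOf_separated h1)
  tfae_have 3 → 2 := fun h3 => by
    have h3' : RepByAlgSpWith (AlgSp.RepWith @IsClosedImmersion) (FibCat.diag (FibCat.diag f)) :=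
      (repByAlgSpWith_neutral_iff f).1 h3
    refine Groth.Agent.Helper19.DiagConv.repByAlgSpWith_isSeparatedMor_of_univClosed_diag (FibCat.diag f)
      (repByAlgSp1_diag f h𝒳 h𝒴) (Groth.Agent.Helper19.CancelLib.repByAlgSpWith_mono (fun _ _ a h => ?_) h3')
    refine Groth.Agent.Helper15.isUnivClosedMor_of_repWith a (Groth.Agent.Helper15.repWith_mono ?_ h)
    intro X Y g hg
    have : IsClosedImmersion g := hg
    exact (inferInstance : UniversallyClosed g)
  tfae_finish

include h𝒳 h𝒴 in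
/-- S12973. -/
theorem tfae_quasiSeparated :
    [RepByAlgSpWith AlgSp.IsQuasiSeparatedMor (inertiaToBase f),
      RepByAlgSpWith AlgSp.IsQuasiSeparatedMor (FibCat.diag f),
      RepByAlgSpWith AlgSp.IsQuasiCompactMor (inertiaNeutral f)].TFAE := by
  tfae_have 2 → 1 := fun h2 =>
    (repByAlgSpWith_inertiaToBase_iff f).2 (repByAlgSpWith_fpFst (FibCat.diag f) (FibCat.diag f) h2)
  tfae_have 1 → 3 := fun h1 =>
    (repByAlgSpWith_neutral_iff f).2
      (Groth.Agent.Helper19.CancelLib.repByAlgSpWith_mono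
        (fun _ _ a h => Groth.Agent.Helper15.isQuasiCompactMor_of_repWith a h)
        (repByAlgSpWith_second_diag_of_inertia f sectionEqOf_quasiSeparated h1))
  tfae_have 3 → 2 := fun h3 =>
    Groth.Agent.Helper19.DiagConv.repByAlgSpWith_isQuasiSeparatedMor_of_qc_diag (FibCat.diag f)
      (repByAlgSp1_diag f h𝒳 h𝒴) ((repByAlgSpWith_neutral_iff f).1 h3)
  tfae_finish

include h𝒳 h𝒴 in
/-- S12974. -/
theorem unramified_inertia_iff :
    RepByAlgSpWith (AlgSp.LocP (@LocallyOfFiniteType ⊓ @FormallyUnramified)) (inertiaToBase f) ↔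
      IsDMMor f := by
  constructor
  · intro h1
    exact repByAlgSpWith_unramified_of_openImm_diag (FibCat.diag f)
      (Groth.Agent.Helper19.DiagLft.repByAlgSpWith_lft_diag h𝒳 h𝒴 f)
      (repByAlgSpWith_second_diag_of_inertia f sectionEqOf_unramified h1)
  · intro h2
    exact (repByAlgSpWith_inertiaToBase_iff f).2 (repByAlgSpWith_fpFst (FibCat.diag f) (FibCat.diag f) h2)

end main

end Groth.Agent.Helper19.InertiaLib
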