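import Mathlib
import Groth.Agent.Lib.Helper19.OpenSub
import Groth.Agent.Lib.Helper19.StPtsInj
import Groth.Agent.Lib.Helper19.StPtsQc

/-!
# The image of an open subspace of an atlas as an open substack (helper19)
-/

set_option autoImplicit false
set_option backward.isDefEq.respectTransparency false

universe w₄ v₄ w₃ v₃ w' v' w v u

open CategoryTheory CategoryTheory.Limits Functor AlgebraicGeometry Opposite TopologicalSpace

namespace Groth.Agent.Helper19.OpenSub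

open FibCat AlgSt Stk Groth.Agent.Helper19.FibLib Groth.Agent.Helper19.StLib Groth.Agent.Helper19.StPts
  Groth.Agent.Helper19.EssImg Groth.Agent.Helper19.ImmLib Groth.Agent.Helper19.PshSt
  Groth.Agent.Helper19.AlgP Groth.Agent.Helper19.SpProps Groth.Agent.Helper16.AS
  Groth.Agent.Helper19.SrcLoc

variable {S : Scheme.{u}}

section general

variable {𝒵 : BasedCategory.{v, w} (Over S)} {𝒴 : BasedCategory.{v', w'} (Over S)}
  {𝒳 : BasedCategory.{v₃, w₃} (Over S)}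

/-- cancelling a fully faithful functor on the right. -/
theorem repByAlgSpWith_of_comp_fullyFaithful {P : MorphismProperty (AlgSp.Sp S)} (g : 𝒵 ⥤ᵇ 𝒴) (i : 𝒴 ⥤ᵇ 𝒳)
    [i.toFunctor.Full] [i.toFunctor.Faithful] (h : RepByAlgSpWith P (BasedFunctor.comp g i)) :
    RepByAlgSpWith P g := by
  intro U y
  let Φ : fp y g ⥤ᵇ fp (BasedFunctor.comp y i) (BasedFunctor.comp g i) :=
    fpMap (F := y) (G := g) (F' := BasedFunctor.comp y i) (G' := BasedFunctor.comp g i)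
      (BasedFunctor.id _) (BasedFunctor.id _) i (Iso.refl _) (Iso.refl _)
  have hΦ : IsEquivOver Φ := isEquivOver_fpMap _ _ _ _ _ (isEquivOver_id _) (isEquivOver_id _)
  exact RepOver.of_equiv_symm Φ hΦ (Iso.refl _) (h U (BasedFunctor.comp y i))

/-- the values of a functor lie in the substack cut out by its image on points. -/
theorem ofSet_range_obj (h𝒵 : IsFibGrpd 𝒵.p) (h𝒳 : IsFibGrpd 𝒳.p) (f : 𝒵 ⥤ᵇ 𝒳) (z : 𝒵.obj) :
    ofSet (Set.range (Points.map f)) (f.obj z) := by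
  intro q ⟨φ⟩
  let b : pt q ⟶ 𝒵.p.obj z := eqToHom q.lies.symm ≫ 𝒳.p.map φ ≫ eqToHom (f.w_obj z)
  have hφ : 𝒳.p.IsHomLift b φ := IsHomLift.of_fac 𝒳.p _ φ q.lies (f.w_obj z) (by simp [b])
  obtain ⟨z', ψ, hψ⟩ := h𝒵.exists_lift b
  have hψ' : 𝒳.p.IsHomLift b (f.map ψ) := inferInstance
  obtain ⟨χ, -, -, -⟩ := exists_iso_of_lifts h𝒳 b φ (f.map ψ)
  let p : FPt 𝒵 := { K := q.K, str := q.str, obj := z', lies := IsHomLift.domain_eq 𝒵.p b ψ }
  refine ⟨Points.mk p, ?_⟩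
  exact Points.sound (rel_of_hom (p := p.map f) (q := q) χ)

instance full_subIncl (Q : 𝒳.obj → Prop) : (subIncl 𝒳 Q).toFunctor.Full :=
  inferInstanceAs (ObjectProperty.ι Q).Full

instance faithful_subIncl (Q : 𝒳.obj → Prop) : (subIncl 𝒳 Q).toFunctor.Faithful :=
  inferInstanceAs (ObjectProperty.ι Q).Faithful

end general

section algst

variable {𝒳 : AlgSt.Cat S}

/-- S12860. -/
theorem exists_isOpenImm_image (h𝒳 : IsAlgStack Scheme.fppfPrecoverage 𝒳) (U : AlgSp.Space S)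
    (u : ofSp U.obj ⥤ᵇ 𝒳) (hu₁ : RepByAlgSpWith (AlgSp.LocP @Smooth) u)
    (V : AlgSp.Space S) (j : V ⟶ U) (hj : AlgSp.RepWith @IsOpenImmersion j.hom) :
    ∃ (𝒴 : AlgSt.Cat S) (i : 𝒴 ⥤ᵇ 𝒳) (g : ofSp V.obj ⥤ᵇ 𝒴),
      IsAlgStack Scheme.fppfPrecoverage 𝒴 ∧ IsOpenImm i ∧
        RepByAlgSpWith (AlgSp.LocP @Smooth) g ∧ RepByAlgSpWith AlgSp.IsSurjectiveMor g ∧
          Nonempty (BasedFunctor.comp g i ≅ BasedFunctor.comp (ofSpMap j.hom) u) := by
  have hPb : StableAlg (S := S) (AlgSp.LocP @Smooth) :=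
    stableAlg_locP Groth.Agent.Helper15.goodP_smooth srcEtLoc_smooth
  have hPc : CompAlg (S := S) (AlgSp.LocP @Smooth) :=
    compAlg_locP Groth.Agent.Helper15.goodP_smooth srcEtLoc_smooth
  have hP : DescAtlas (S := S) (AlgSp.LocP @Smooth) := descAtlas_of_fpqc isLocalOnBase_fpqc_locP_smooth
  have hV := isAlgStack_ofSp V
  have hU := isAlgStack_ofSp U
  -- the composite is smooth
  have hjsm : AlgSp.LocP @Smooth j.hom := by
    refine Groth.Agent.Helper15.locP_mono ?_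
      (Groth.Agent.Helper19.SubSt.locP_etale_of_repWith_isOpenImmersion j.hom hj)
    intro A B g hg
    have : Etale g := hg
    exact (inferInstance : Smooth g)
  have hj' : RepByAlgSpWith (AlgSp.LocP @Smooth) (ofSpMap j.hom) :=
    (repByAlgSpWith_ofSpMap_iff hPb hP j.hom).2 hjsm
  have hc : RepByAlgSpWith (AlgSp.LocP @Smooth) (BasedFunctor.comp (ofSpMap j.hom) u) :=
    repByAlgSpWith_comp hPb hPc hP hV.isStack.1 hU.isStack.1 _ _ hj' hu₁
  -- its image on points is open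
  have hopen : IsOpen (Set.range (Points.map (BasedFunctor.comp (ofSpMap j.hom) u))) :=
    (isOpenMap_map_of_flat_lfp hV h𝒳.isStack.1 _ (repByAlgSpWith_flat_of_smooth _ hc)
      (repByAlgSpWith_lfp_of_smooth _ hc)).isOpen_range
  let T : Set (Points 𝒳) := Set.range (Points.map (BasedFunctor.comp (ofSpMap j.hom) u))
  have hsub := isOpenSubstack_ofSet h𝒳 T hopen
  let g : ofSp V.obj ⥤ᵇ fullSub 𝒳 (ofSet T) :=
    liftSub (BasedFunctor.comp (ofSpMap j.hom) u) (ofSet T)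
      (ofSet_range_obj hV.isStack.1 h𝒳.isStack.1 _)
  have hg : RepByAlgSpWith (AlgSp.LocP @Smooth) g :=
    repByAlgSpWith_of_comp_fullyFaithful g (subIncl 𝒳 (ofSet T)) hc
  refine ⟨fullSub 𝒳 (ofSet T), subIncl 𝒳 (ofSet T), g, hsub.2.1, hsub.2.2, hg, ?_, ⟨Iso.refl _⟩⟩
  refine repByAlgSpWith_of_isSurjective hV.isStack.1 hsub.2.1.isStack.1 g
    (Groth.Agent.Helper19.PshSt.RepByAlgSpWith.repByAlgSp1 hg) ?_
  intro z
  have hz : Points.map (subIncl 𝒳 (ofSet T)) z ∈ T :=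
    (range_ofSet T).le ⟨z, rfl⟩
  obtain ⟨v, hv⟩ := hz
  refine ⟨v, ?_⟩
  apply injective_map_of_full hsub.2.1.isStack.1 h𝒳.isStack.1 (subIncl 𝒳 (ofSet T))
  rw [← hv, ← StPts.map_comp]
  rfl

end algst

end Groth.Agent.Helper19.OpenSub
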