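import Mathlib
import Groth.Agent.Lib.Helper19.OpenSub2
import Groth.Agent.Lib.Helper19.LocQCalc
import Groth.Agent.Lib.Helper19.DescCover
import Groth.Agent.Lib.Helper19.InertiaLib
import Groth.Agent.Lib.Helper16.AlgSp.StdIso

/-!
# The largest open substack on which a representable morphism has a property (helper19)
-/

set_option autoImplicit false
set_option backward.isDefEq.respectTransparency false

universe u

open CategoryTheory CategoryTheory.Limits AlgebraicGeometry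

namespace Groth.Agent.Helper19.LargestOpenSt

open FibCat AlgSt Stk Groth.Agent.Helper19.FibLib Groth.Agent.Helper19.StLib
  Groth.Agent.Helper19.AlgP Groth.Agent.Helper19.SpProps Groth.Agent.Helper19.SpDict
  Groth.Agent.Helper19.PshSt Groth.Agent.Helper19.LocQCore Groth.Agent.Helper16.AS
  Groth.Agent.Helper15 Groth.Agent.Helper19.StPts Groth.Agent.Helper19.OpenSub

variable {S : Scheme.{u}} {𝒳 𝒴 : AlgSt.Cat S}

theorem descAtlas_openImm : DescAtlas (S := S) (AlgSp.RepWith @IsOpenImmersion) :=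
  descAtlas_of_fpqc (isLocalOnBase_fpqc_of_std isLocalOnBase_std_repWith_isOpenImmersion)

theorem stableAlg_openImm : StableAlg (S := S) (AlgSp.RepWith @IsOpenImmersion) :=
  Groth.Agent.Helper19.InertiaLib.stableAlg_repWith @IsOpenImmersion

/-- A1: the preimage of an open substack in a chart from an algebraic space. -/
theorem exists_preimage_open (h𝒳 : IsAlgStack Scheme.fppfPrecoverage 𝒳)
    (Q' : 𝒳.obj → Prop) (hQ' : IsOpenSubstack 𝒳 Q' Scheme.fppfPrecoverage)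
    (X₀ : AlgSp.Space S) (U : ofSp X₀.obj ⥤ᵇ 𝒳) :
    ∃ (W' : AlgSp.Space S) (eB : ofSp W'.obj ⥤ᵇ fp U (subIncl 𝒳 Q')) (β : W'.obj ⟶ X₀.obj),
      IsEquivOver eB ∧
      Nonempty (BasedFunctor.comp eB (fpFst U (subIncl 𝒳 Q')) ≅ ofSpMap β) ∧
      AlgSp.RepWith @IsOpenImmersion β :=
  exists_rep_fp_of_space stableAlg_openImm descAtlas_openImm hQ'.2.1.isStack.1 h𝒳.isStack.1
    (subIncl 𝒳 Q') hQ'.2.2 X₀ U

/-- A2: the points of the preimage. -/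
theorem mem_range_preimage_iff (h𝒳 : IsAlgStack Scheme.fppfPrecoverage 𝒳)
    (Q' : 𝒳.obj → Prop) (hQ' : IsOpenSubstack 𝒳 Q' Scheme.fppfPrecoverage)
    (X₀ : AlgSp.Space S) (U : ofSp X₀.obj ⥤ᵇ 𝒳)
    (W' : AlgSp.Space S) (eB : ofSp W'.obj ⥤ᵇ fp U (subIncl 𝒳 Q')) (β : W'.obj ⟶ X₀.obj)
    (heB : IsEquivOver eB)
    (θ : BasedFunctor.comp eB (fpFst U (subIncl 𝒳 Q')) ≅ ofSpMap β) (x : AlgSp.Points X₀.obj) :
    x ∈ Set.range (AlgSp.Points.map β) ↔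
      Points.map U (ptsMap X₀.obj x) ∈ Set.range (Points.map (subIncl 𝒳 Q')) := by
  constructor
  · rintro ⟨w, rfl⟩
    rw [ptsMap_map, ← StPts.map_comp, ← StPts.map_congr (whiskerRightIso θ U)]
    have e : BasedFunctor.comp (BasedFunctor.comp eB (fpFst U (subIncl 𝒳 Q'))) U ≅
        BasedFunctor.comp (BasedFunctor.comp eB (fpSnd U (subIncl 𝒳 Q'))) (subIncl 𝒳 Q') :=
      whiskerLeftIso eB (fpIso U (subIncl 𝒳 Q'))
    rw [StPts.map_congr e, StPts.map_comp]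
    exact ⟨_, rfl⟩
  · rintro ⟨q, hq⟩
    obtain ⟨w, hw1, -⟩ := exists_points_fp_of_map_eq hQ'.2.1.isStack.1 h𝒳.isStack.1
      (Stk.isFibGrpd_ofPsh X₀.obj.obj) (subIncl 𝒳 Q') U (ptsMap X₀.obj x) q hq.symm
    obtain ⟨w', rfl⟩ := (mapHomeo eB heB).surjective w
    obtain ⟨w'', rfl⟩ := (ptsMap_bijective W'.obj).2 w'
    refine ⟨w'', ?_⟩
    apply (ptsMap_bijective X₀.obj).1
    rw [ptsMap_map, ← StPts.map_congr θ, StPts.map_comp]
    exact hw1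

section pieceB

variable {𝒳' : AlgSt.Cat S} {V₀ : Over S} (v : overCat V₀ ⥤ᵇ 𝒴) (f : 𝒳 ⥤ᵇ 𝒴)
  (X₀ : AlgSp.Space S) (e₀ : ofSp X₀.obj ⥤ᵇ fp v f) (he₀ : IsEquivOver e₀) (i : 𝒳' ⥤ᵇ 𝒳)
  (W' : AlgSp.Space S) (eB : ofSp W'.obj ⥤ᵇ fp (BasedFunctor.comp e₀ (fpSnd v f)) i)
  (heB : IsEquivOver eB) (β : W'.obj ⟶ X₀.obj)
  (θ : BasedFunctor.comp eB (fpFst (BasedFunctor.comp e₀ (fpSnd v f)) i) ≅ ofSpMap β)

/-- the equivalence presenting `V₀ ×_𝒴 𝒳'` by the preimage. -/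
noncomputable def restrE : ofSp W'.obj ⥤ᵇ fp v (BasedFunctor.comp i f) :=
  BasedFunctor.comp eB (BasedFunctor.comp (fpPre e₀ (fpSnd v f) i) (pasteRInv v f i))

include he₀ heB in
theorem isEquivOver_restrE : IsEquivOver (restrE v f X₀ e₀ i W' eB) :=
  IsEquivOver.comp heB (IsEquivOver.comp (isEquivOver_fpPre e₀ he₀ (fpSnd v f) i)
    (isEquivOver_pasteRInv v f i))

include θ in
theorem map_restrE :
    Pres.map (Pres.ofEquiv W'.obj (restrE v f X₀ e₀ i W' eB)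
        (isEquivOver_restrE v f X₀ e₀ he₀ i W' eB heB)) (Pres.ov V₀)
        (fpFst v (BasedFunctor.comp i f)) =
      β ≫ Pres.map (Pres.ofEquiv X₀.obj e₀ he₀) (Pres.ov V₀) (fpFst v f) := by
  apply Pres.map_unique
  exact whiskerRightIso θ (BasedFunctor.comp e₀ (fpFst v f)) ≪≫
    whiskerLeftIso (ofSpMap β) (Pres.mapIso (Pres.ofEquiv X₀.obj e₀ he₀) (Pres.ov V₀) (fpFst v f)) ≪≫
    whiskerRightIso (Groth.Agent.Helper19.PshLib.ofPshMapComp β.hom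
      (Pres.map (Pres.ofEquiv X₀.obj e₀ he₀) (Pres.ov V₀) (fpFst v f)).hom) (Pres.ov V₀).e

include heB θ in
/-- B: the restricted morphism has `P` after base change to the atlas iff the preimage has. -/
theorem repByAlgSpWith_restr_iff {P : MorphismProperty (AlgSp.Sp S)} (hPb : StableAlg P)
    (hPd : DescAtlas P) :
    RepByAlgSpWith P (fpFst v (BasedFunctor.comp i f)) ↔
      P (β ≫ Pres.map (Pres.ofEquiv X₀.obj e₀ he₀) (Pres.ov V₀) (fpFst v f)) := by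
  rw [Pres.repByAlgSpWith_iff_map hPb hPd (Pres.ofEquiv W'.obj (restrE v f X₀ e₀ i W' eB)
    (isEquivOver_restrE v f X₀ e₀ he₀ i W' eB heB)) (Pres.ov V₀) W'.property
    (AlgSp.IsAlgSpace.yon_obj V₀), map_restrE v f X₀ e₀ he₀ i W' eB heB β θ]

end pieceB

section squares

variable {𝒱 : AlgSt.Cat S} (v : 𝒱 ⥤ᵇ 𝒴) (f : 𝒳 ⥤ᵇ 𝒴)

/-- `𝒫 ×_𝒳 𝒫 ⟶ (𝒱 ×_𝒴 𝒱) ×_{pr₂, 𝒱} 𝒫` for `𝒫 = 𝒱 ×_𝒴 𝒳`. -/
def Psi2 : fp (fpSnd v f) (fpSnd v f) ⥤ᵇ fp (fpSnd v v) (fpFst v f) :=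
  BasedFunctor.comp (pasteRInv v f (fpSnd v f))
    (BasedFunctor.comp (fpCongrRight v (fpIso v f).symm) (pasteR v v (fpFst v f)))

theorem isEquivOver_Psi2 : IsEquivOver (Psi2 v f) :=
  IsEquivOver.comp (isEquivOver_pasteRInv _ _ _)
    (IsEquivOver.comp (isEquivOver_fpCongrRight _ _) (isEquivOver_pasteR _ _ _))

theorem Psi2_comp_fpSnd :
    BasedFunctor.comp (Psi2 v f) (fpSnd (fpSnd v v) (fpFst v f)) = fpSnd (fpSnd v f) (fpSnd v f) := rfl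

/-- the induced map `𝒫 ×_𝒳 𝒫 ⟶ 𝒱 ×_𝒴 𝒱`. -/
def lam2 : fp (fpSnd v f) (fpSnd v f) ⥤ᵇ fp v v :=
  BasedFunctor.comp (Psi2 v f) (fpFst (fpSnd v v) (fpFst v f))

/-- the induced map commutes with the swaps. -/
def nu : BasedFunctor.comp (fpSwap (fpSnd v f) (fpSnd v f))
    (BasedFunctor.comp (lam2 v f) (fpSwap v v)) ≅ lam2 v f :=
  fpFunctorIso _ _ (Iso.refl _) (Iso.refl _) (fun x => by
    simp [lam2, Psi2, fpSwap, pasteR, pasteRInv, fpCongrRight, fpMap])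

/-- `𝒫 ×_𝒳 𝒫 ⟶ (𝒱 ×_𝒴 𝒱) ×_{pr₁, 𝒱} 𝒫`. -/
def Psi1 : fp (fpSnd v f) (fpSnd v f) ⥤ᵇ fp (fpFst v v) (fpFst v f) :=
  BasedFunctor.comp (fpSwap (fpSnd v f) (fpSnd v f))
    (BasedFunctor.comp (Psi2 v f) (fpPre (fpSwap v v) (fpFst v v) (fpFst v f)))

theorem isEquivOver_Psi1 : IsEquivOver (Psi1 v f) :=
  IsEquivOver.comp (isEquivOver_fpSwap _ _)
    (IsEquivOver.comp (isEquivOver_Psi2 v f)
      (isEquivOver_fpPre (fpSwap v v) (isEquivOver_fpSwap v v) (fpFst v v) (fpFst v f)))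

theorem Psi1_comp_fpSnd :
    BasedFunctor.comp (Psi1 v f) (fpSnd (fpFst v v) (fpFst v f)) = fpFst (fpSnd v f) (fpSnd v f) := rfl

/-- both squares lie over the same map. -/
def Psi1CompFst : BasedFunctor.comp (Psi1 v f) (fpFst (fpFst v v) (fpFst v f)) ≅ lam2 v f :=
  nu v f

end squares

section presTransport

variable {𝒜 ℬ 𝒞 : AlgSt.Cat S}

theorem map_ofEquiv_comp (c : Pres 𝒜) (Ψ : 𝒜 ⥤ᵇ ℬ) (hΨ : IsEquivOver (BasedFunctor.comp c.e Ψ))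
    (q : Pres 𝒞) (M : ℬ ⥤ᵇ 𝒞) :
    Pres.map (Pres.ofEquiv c.sp (BasedFunctor.comp c.e Ψ) hΨ) q M =
      Pres.map c q (BasedFunctor.comp Ψ M) := by
  apply Pres.map_unique
  exact Pres.mapIso c q (BasedFunctor.comp Ψ M)

end presTransport

section sheafSquares

variable {𝒱 : AlgSt.Cat S} (v : 𝒱 ⥤ᵇ 𝒴) (f : 𝒳 ⥤ᵇ 𝒴)
  (pX : Pres (fp v f)) (pV : Pres 𝒱) (pV₂ : Pres (fp v v))
  (c : Pres (fp (fpSnd v f) (fpSnd v f)))

theorem isPullback_sq2 :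
    IsPullback (Pres.map c pV₂ (lam2 v f)) (Pres.map c pX (fpSnd (fpSnd v f) (fpSnd v f)))
      (Pres.map pV₂ pV (fpSnd v v)) (Pres.map pX pV (fpFst v f)) := by
  have hΨ : IsEquivOver (BasedFunctor.comp c.e (Psi2 v f)) :=
    IsEquivOver.comp c.isEquivOver_e (isEquivOver_Psi2 v f)
  have h := Pres.isPullback_map pV₂ pX pV (fpSnd v v) (fpFst v f)
    (Pres.ofEquiv c.sp (BasedFunctor.comp c.e (Psi2 v f)) hΨ)
  rw [map_ofEquiv_comp, map_ofEquiv_comp] at h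
  exact h

theorem isPullback_sq1 :
    IsPullback (Pres.map c pV₂ (lam2 v f)) (Pres.map c pX (fpFst (fpSnd v f) (fpSnd v f)))
      (Pres.map pV₂ pV (fpFst v v)) (Pres.map pX pV (fpFst v f)) := by
  have hΨ : IsEquivOver (BasedFunctor.comp c.e (Psi1 v f)) :=
    IsEquivOver.comp c.isEquivOver_e (isEquivOver_Psi1 v f)
  have h := Pres.isPullback_map pV₂ pX pV (fpFst v v) (fpFst v f)
    (Pres.ofEquiv c.sp (BasedFunctor.comp c.e (Psi1 v f)) hΨ)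
  rw [map_ofEquiv_comp, map_ofEquiv_comp, Pres.map_congr c pV₂ (Psi1CompFst v f)] at h
  exact h

end sheafSquares

section presPoints

variable {𝒜 ℬ : AlgSt.Cat S}

/-- the points of the presenting sheaf and of the presented category. -/
noncomputable def presPt (p : Pres 𝒜) : AlgSp.Points p.sp → Points 𝒜 :=
  fun α => Points.map p.e (ptsMap p.sp α)

theorem presPt_bijective (p : Pres 𝒜) : Function.Bijective (presPt p) :=
  (mapHomeo p.e p.isEquivOver_e).bijective.comp (ptsMap_bijective p.sp)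

theorem map_presPt (p : Pres 𝒜) (q : Pres ℬ) (M : 𝒜 ⥤ᵇ ℬ) (α : AlgSp.Points p.sp) :
    Points.map M (presPt p α) = presPt q (AlgSp.Points.map (Pres.map p q M) α) := by
  unfold presPt
  rw [ptsMap_map, ← StPts.map_comp, ← StPts.map_comp, StPts.map_congr (Pres.mapIso p q M)]

end presPoints

section saturation

/-- `w` is the largest open subspace of `X` on which `f` has `P`. -/
abbrev Largest (P : MorphismProperty (AlgSp.Sp S)) {X Y : AlgSp.Space S} (f : X ⟶ Y)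
    (W : AlgSp.Space S) (w : W ⟶ X) : Prop :=
  AlgSp.RepWith @IsOpenImmersion w.hom ∧ P (w ≫ f).hom ∧
    ∀ (W₁ : AlgSp.Space S) (w₁ : W₁ ⟶ X), AlgSp.RepWith @IsOpenImmersion w₁.hom → P (w₁ ≫ f).hom →
      ∃ k : W₁ ⟶ W, k ≫ w = w₁

theorem saturation_sheaf (P Q R : MorphismProperty (AlgSp.Sp S))
    (h₄ : ∀ (X Y X' Y' : AlgSp.Space S) (f : X ⟶ Y) (g : Y' ⟶ Y) (f' : X' ⟶ Y') (g' : X' ⟶ X),
      IsPullback g'.hom f'.hom f.hom g.hom → Q f.hom → R g.hom →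
      ∀ (W : AlgSp.Space S) (w : W ⟶ X), Largest P f W w →
        ∀ (W' : AlgSp.Space S) (w' : W' ⟶ X') (k : W' ⟶ W), IsPullback k.hom w'.hom w.hom g'.hom →
          Largest P f' W' w')
    {X₀ X₁ V₁ Y₀ : AlgSp.Space S} (a₀ : X₀ ⟶ Y₀) (f₂ : X₁ ⟶ V₁) (pr₁ pr₂ : X₁ ⟶ X₀)
    (g₁ g₂ : V₁ ⟶ Y₀)
    (sq₁ : IsPullback pr₁.hom f₂.hom a₀.hom g₁.hom) (sq₂ : IsPullback pr₂.hom f₂.hom a₀.hom g₂.hom)
    (hQ : Q a₀.hom) (hR₁ : R g₁.hom) (hR₂ : R g₂.hom)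
    (W₀ : AlgSp.Space S) (w₀ : W₀ ⟶ X₀) (hW₀ : Largest P a₀ W₀ w₀)
    (z : AlgSp.Points X₁.obj)
    (hz : AlgSp.Points.map pr₁.hom z ∈ Set.range (AlgSp.Points.map w₀.hom)) :
    AlgSp.Points.map pr₂.hom z ∈ Set.range (AlgSp.Points.map w₀.hom) := by
  -- the two preimages
  let Wa : AlgSp.Space S := ⟨pullback w₀.hom pr₁.hom,
    isAlgSpace_pullback W₀.property X₀.property X₁.property _ _⟩
  let Wb : AlgSp.Space S := ⟨pullback w₀.hom pr₂.hom,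
    isAlgSpace_pullback W₀.property X₀.property X₁.property _ _⟩
  let wa : Wa ⟶ X₁ := ObjectProperty.homMk (pullback.snd w₀.hom pr₁.hom)
  let wb : Wb ⟶ X₁ := ObjectProperty.homMk (pullback.snd w₀.hom pr₂.hom)
  let ka : Wa ⟶ W₀ := ObjectProperty.homMk (pullback.fst w₀.hom pr₁.hom)
  let kb : Wb ⟶ W₀ := ObjectProperty.homMk (pullback.fst w₀.hom pr₂.hom)
  have sqa : IsPullback ka.hom wa.hom w₀.hom pr₁.hom := IsPullback.of_hasPullback _ _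
  have sqb : IsPullback kb.hom wb.hom w₀.hom pr₂.hom := IsPullback.of_hasPullback _ _
  have hLa : Largest P f₂ Wa wa := h₄ X₀ Y₀ X₁ V₁ a₀ g₁ f₂ pr₁ sq₁ hQ hR₁ W₀ w₀ hW₀ Wa wa ka sqa
  have hLb : Largest P f₂ Wb wb := h₄ X₀ Y₀ X₁ V₁ a₀ g₂ f₂ pr₂ sq₂ hQ hR₂ W₀ w₀ hW₀ Wb wb kb sqb
  obtain ⟨k, hk⟩ := hLb.2.2 Wa wa hLa.1 hLa.2.1
  obtain ⟨y, hy⟩ := hz
  obtain ⟨p, -, hp⟩ := exists_point_of_isPullback sqa y z hy
  have hk' : k.hom ≫ wb.hom = wa.hom := congrArg (fun m : Wa ⟶ X₁ => m.hom) hk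
  refine ⟨AlgSp.Points.map kb.hom (AlgSp.Points.map k.hom p), ?_⟩
  rw [← hp, ← hk', AlgSp.Points.map_comp, ← AlgSp.Points.map_comp, ← AlgSp.Points.map_comp, sqb.w,
    AlgSp.Points.map_comp, AlgSp.Points.map_comp]

end saturation

section saturationStack

variable (h𝒳 : IsAlgStack Scheme.fppfPrecoverage 𝒳) (h𝒴 : IsAlgStack Scheme.fppfPrecoverage 𝒴)

include h𝒳 h𝒴 in
theorem saturation (P Q R : MorphismProperty (AlgSp.Sp S))
    (h₄ : ∀ (X Y X' Y' : AlgSp.Space S) (f : X ⟶ Y) (g : Y' ⟶ Y) (f' : X' ⟶ Y') (g' : X' ⟶ X),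
      IsPullback g'.hom f'.hom f.hom g.hom → Q f.hom → R g.hom →
      ∀ (W : AlgSp.Space S) (w : W ⟶ X), Largest P f W w →
        ∀ (W' : AlgSp.Space S) (w' : W' ⟶ X') (k : W' ⟶ W), IsPullback k.hom w'.hom w.hom g'.hom →
          Largest P f' W' w')
    {V₀ : Over S} (v : overCat V₀ ⥤ᵇ 𝒴) (f : 𝒳 ⥤ᵇ 𝒴)
    (X₀ : AlgSp.Space S) (e₀ : ofSp X₀.obj ⥤ᵇ fp v f) (he₀ : IsEquivOver e₀)
    (A₂ : AlgSp.Space S) (e₂ : ofSp A₂.obj ⥤ᵇ fp v v) (he₂ : IsEquivOver e₂)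
    (X₁ : AlgSp.Space S) (e₁ : ofSp X₁.obj ⥤ᵇ fp (fpSnd v f) (fpSnd v f)) (he₁ : IsEquivOver e₁)
    (hQ : Q (Pres.map (Pres.ofEquiv X₀.obj e₀ he₀) (Pres.ov V₀) (fpFst v f)))
    (hR₁ : R (Pres.map (Pres.ofEquiv A₂.obj e₂ he₂) (Pres.ov V₀) (fpFst v v)))
    (hR₂ : R (Pres.map (Pres.ofEquiv A₂.obj e₂ he₂) (Pres.ov V₀) (fpSnd v v)))
    (W₀ : AlgSp.Space S) (w₀ : W₀ ⟶ X₀)
    (hW₀ : Largest P (Y := ⟨(AlgSp.yon S).obj V₀, AlgSp.IsAlgSpace.yon_obj V₀⟩)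
      (ObjectProperty.homMk (Pres.map (Pres.ofEquiv X₀.obj e₀ he₀) (Pres.ov V₀) (fpFst v f))) W₀ w₀)
    (x₀ x : AlgSp.Points X₀.obj) (hx₀ : x₀ ∈ Set.range (AlgSp.Points.map w₀.hom))
    (h : Points.map (BasedFunctor.comp e₀ (fpSnd v f)) (ptsMap X₀.obj x₀) =
      Points.map (BasedFunctor.comp e₀ (fpSnd v f)) (ptsMap X₀.obj x)) :
    x ∈ Set.range (AlgSp.Points.map w₀.hom) := by
  let pX := Pres.ofEquiv X₀.obj e₀ he₀
  let pV := Pres.ov V₀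
  let pV₂ := Pres.ofEquiv A₂.obj e₂ he₂
  let c := Pres.ofEquiv X₁.obj e₁ he₁
  have h𝒫 : IsFibGrpd (fp v f).p :=
    Groth.Agent.S6401.result v f (Groth.Agent.Helper19.ChartOver.isFibGrpd_overCat V₀) h𝒳.isStack.1 h𝒴.isStack.1
  have h' : Points.map (fpSnd v f) (presPt pX x₀) = Points.map (fpSnd v f) (presPt pX x) := by
    unfold presPt
    rw [← StPts.map_comp, ← StPts.map_comp]
    exact h
  obtain ⟨w, hw1, hw2⟩ := exists_points_fp_of_map_eq h𝒫 h𝒳.isStack.1 h𝒫 (fpSnd v f) (fpSnd v f)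
    (presPt pX x₀) (presPt pX x) h'
  obtain ⟨z, rfl⟩ := (presPt_bijective c).2 w
  rw [map_presPt c pX] at hw1 hw2
  have hz1 := (presPt_bijective pX).1 hw1
  have hz2 := (presPt_bijective pX).1 hw2
  have key := saturation_sheaf P Q R h₄
    (X₀ := X₀) (X₁ := X₁) (V₁ := A₂) (Y₀ := ⟨(AlgSp.yon S).obj V₀, AlgSp.IsAlgSpace.yon_obj V₀⟩)
    (ObjectProperty.homMk (Pres.map pX pV (fpFst v f)))
    (ObjectProperty.homMk (Pres.map c pV₂ (lam2 v f)))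
    (ObjectProperty.homMk (Pres.map c pX (fpFst (fpSnd v f) (fpSnd v f))))
    (ObjectProperty.homMk (Pres.map c pX (fpSnd (fpSnd v f) (fpSnd v f))))
    (ObjectProperty.homMk (Pres.map pV₂ pV (fpFst v v)))
    (ObjectProperty.homMk (Pres.map pV₂ pV (fpSnd v v)))
    (isPullback_sq1 v f pX pV pV₂ c).flip (isPullback_sq2 v f pX pV pV₂ c).flip
    hQ hR₁ hR₂ W₀ w₀ hW₀ z (by
      show AlgSp.Points.map (Pres.map c pX (fpFst (fpSnd v f) (fpSnd v f))) z ∈ _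
      rw [hz1]; exact hx₀)
  have key' : AlgSp.Points.map (Pres.map c pX (fpSnd (fpSnd v f) (fpSnd v f))) z ∈
      Set.range (AlgSp.Points.map w₀.hom) := key
  rwa [hz2] at key'

end saturationStack

section main

theorem stableAlg_top : StableAlg (S := S) (⊤ : MorphismProperty (AlgSp.Sp S)) :=
  fun _ _ _ _ _ _ _ _ _ _ _ _ _ _ => trivial

theorem compAlg_top : CompAlg (S := S) (⊤ : MorphismProperty (AlgSp.Sp S)) :=
  fun _ _ _ _ _ _ _ _ _ _ => trivial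

theorem descAtlas_top : DescAtlas (S := S) (⊤ : MorphismProperty (AlgSp.Sp S)) :=
  fun _ _ _ _ _ _ _ _ _ _ _ => trivial

theorem repByAlgSp1_comp {𝒜 ℬ 𝒞 : AlgSt.Cat S} (h𝒜 : IsFibGrpd 𝒜.p) (hℬ : IsFibGrpd ℬ.p)
    (f : 𝒜 ⥤ᵇ ℬ) (g : ℬ ⥤ᵇ 𝒞) (hf : RepByAlgSp1 f) (hg : RepByAlgSp1 g) :
    RepByAlgSp1 (BasedFunctor.comp f g) := by
  have hf' : RepByAlgSpWith (⊤ : MorphismProperty (AlgSp.Sp S)) f := fun U y => by
    obtain ⟨X, e, he⟩ := hf U y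
    exact ⟨X, e, he, trivial⟩
  have hg' : RepByAlgSpWith (⊤ : MorphismProperty (AlgSp.Sp S)) g := fun U y => by
    obtain ⟨X, e, he⟩ := hg U y
    exact ⟨X, e, he, trivial⟩
  exact Groth.Agent.Helper19.PshSt.RepByAlgSpWith.repByAlgSp1
    (repByAlgSpWith_comp stableAlg_top compAlg_top descAtlas_top h𝒜 hℬ f g hf' hg')

end main

end Groth.Agent.Helper19.LargestOpenSt
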