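import Mathlib
import Groth.Agent.Lib.Helper19.LargestOpenSt

/-!
# The largest open substack on which a representable morphism has a property: main theorem
-/

set_option autoImplicit false
set_option backward.isDefEq.respectTransparency false

universe u

open CategoryTheory CategoryTheory.Limits AlgebraicGeometry

namespace Groth.Agent.Helper19.LargestOpenSt

open FibCat AlgSt Stk Groth.Agent.Helper19.FibLib Groth.Agent.Helper19.StLib
  Groth.Agent.Helper19.AlgP Groth.Agent.Helper19.SpProps Groth.Agent.Helper19.SpDict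
  Groth.Agent.Helper19.PshSt Groth.Agent.Helper19.LocQCore Groth.Agent.Helper16.AS
  Groth.Agent.Helper15 Groth.Agent.Helper19.StPts Groth.Agent.Helper19.OpenSub
  Groth.Agent.Helper19.SrcLoc

variable {S : Scheme.{u}} {𝒳 𝒴 : AlgSt.Cat S}

theorem hPb_smooth : StableAlg (S := S) (AlgSp.LocP @Smooth) :=
  stableAlg_locP Groth.Agent.Helper15.goodP_smooth srcEtLoc_smooth

theorem hPc_smooth : CompAlg (S := S) (AlgSp.LocP @Smooth) :=
  compAlg_locP Groth.Agent.Helper15.goodP_smooth srcEtLoc_smooth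

theorem hPd_smooth : DescAtlas (S := S) (AlgSp.LocP @Smooth) :=
  descAtlas_of_fpqc isLocalOnBase_fpqc_locP_smooth

/-- the image of an open subspace of a smooth space-chart is open. -/
theorem isOpen_range_open_chart (h𝒳 : IsAlgStack Scheme.fppfPrecoverage 𝒳) (X₀ : AlgSp.Space S)
    (U : ofSp X₀.obj ⥤ᵇ 𝒳) (hU : RepByAlgSpWith (AlgSp.LocP @Smooth) U)
    (W₀ : AlgSp.Space S) (w₀ : W₀ ⟶ X₀) (hw₀ : AlgSp.RepWith @IsOpenImmersion w₀.hom) :
    IsOpen (Set.range (Points.map (BasedFunctor.comp (ofSpMap w₀.hom) U))) := by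
  have hV := isAlgStack_ofSp W₀
  have hX := isAlgStack_ofSp X₀
  have hjsm : AlgSp.LocP @Smooth w₀.hom := by
    refine Groth.Agent.Helper15.locP_mono ?_
      (Groth.Agent.Helper19.SubSt.locP_etale_of_repWith_isOpenImmersion w₀.hom hw₀)
    intro A B g hg
    have : Etale g := hg
    exact (inferInstance : Smooth g)
  have hj' : RepByAlgSpWith (AlgSp.LocP @Smooth) (ofSpMap w₀.hom) :=
    (repByAlgSpWith_ofSpMap_iff hPb_smooth hPd_smooth w₀.hom).2 hjsm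
  have hc : RepByAlgSpWith (AlgSp.LocP @Smooth) (BasedFunctor.comp (ofSpMap w₀.hom) U) :=
    repByAlgSpWith_comp hPb_smooth hPc_smooth hPd_smooth hV.isStack.1 hX.isStack.1 _ _ hj' hU
  exact (isOpenMap_map_of_flat_lfp hV h𝒳.isStack.1 _ (repByAlgSpWith_flat_of_smooth _ hc)
      (repByAlgSpWith_lfp_of_smooth _ hc)).isOpen_range

theorem exists_largest
    (h𝒳 : AlgSt.IsAlgStack Scheme.fppfPrecoverage 𝒳) (h𝒴 : AlgSt.IsAlgStack Scheme.fppfPrecoverage 𝒴)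
    (P Q R : MorphismProperty (AlgSp.Sp S))
    (hPb : StableAlg P)
    (hP : AlgSp.IsLocalOnBase AlgSp.IsFppfCover P)
    (h₂ : ∀ (X Y : AlgSp.Space S) (g : X ⟶ Y), AlgSp.LocP @Smooth g.hom → R g.hom)
    (h₃ : ∀ (X Y : AlgSp.Space S) (f : X ⟶ Y), Q f.hom →
      ∃ (W : AlgSp.Space S) (w : W ⟶ X), Largest P f W w)
    (h₄ : ∀ (X Y X' Y' : AlgSp.Space S) (f : X ⟶ Y) (g : Y' ⟶ Y) (f' : X' ⟶ Y') (g' : X' ⟶ X),
      IsPullback g'.hom f'.hom f.hom g.hom → Q f.hom → R g.hom →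
      ∀ (W : AlgSp.Space S) (w : W ⟶ X), Largest P f W w →
        ∀ (W' : AlgSp.Space S) (w' : W' ⟶ X') (k : W' ⟶ W), IsPullback k.hom w'.hom w.hom g'.hom →
          Largest P f' W' w')
    (f : 𝒳 ⥤ᵇ 𝒴) (hf : AlgSt.RepByAlgSpWith Q f) :
    ∃ Q₀ : 𝒳.obj → Prop, AlgSt.IsOpenSubstack 𝒳 Q₀ Scheme.fppfPrecoverage ∧
      AlgSt.RepByAlgSpWith P (BasedFunctor.comp (AlgSt.subIncl 𝒳 Q₀) f) ∧
        ∀ Q₁ : 𝒳.obj → Prop, AlgSt.IsOpenSubstack 𝒳 Q₁ Scheme.fppfPrecoverage →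
          AlgSt.RepByAlgSpWith P (BasedFunctor.comp (AlgSt.subIncl 𝒳 Q₁) f) → ∀ y, Q₁ y → Q₀ y := by
  have hPd : DescAtlas P := descAtlas_of_isLocalOnBase hP
  obtain ⟨V₀, v, hv, hvs⟩ := h𝒴.atlas
  obtain ⟨X₀, e₀, he₀, hQ₀⟩ := hf V₀ v
  rw [← map_ofEquiv_ov X₀.obj e₀ he₀] at hQ₀
  let Y₀ : AlgSp.Space S := ⟨(AlgSp.yon S).obj V₀, AlgSp.IsAlgSpace.yon_obj V₀⟩
  let a₀ : X₀ ⟶ Y₀ :=
    ObjectProperty.homMk (Pres.map (Pres.ofEquiv X₀.obj e₀ he₀) (Pres.ov V₀) (fpFst v f))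
  obtain ⟨W₀, w₀, hW₀⟩ := h₃ X₀ Y₀ a₀ hQ₀
  -- the chart
  let U : ofSp X₀.obj ⥤ᵇ 𝒳 := BasedFunctor.comp e₀ (fpSnd v f)
  have hu₀ : RepByAlgSpWith (AlgSp.LocP @Smooth) (fpSnd v f) := repByAlgSpWith_fpSnd v f hv
  have hu₀s : RepByAlgSpWith AlgSp.IsSurjectiveMor (fpSnd v f) := repByAlgSpWith_fpSnd v f hvs
  have hU : RepByAlgSpWith (AlgSp.LocP @Smooth) U :=
    (repByAlgSpWith_equiv_comp e₀ he₀ (fpSnd v f)).2 hu₀
  have hUs : RepByAlgSpWith AlgSp.IsSurjectiveMor U :=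
    (repByAlgSpWith_equiv_comp e₀ he₀ (fpSnd v f)).2 hu₀s
  have hUsurj : IsSurjective U := isSurjective_of_repByAlgSpWith h𝒳.isStack.1 U hUs
  -- the open substack
  let T : Set (Points 𝒳) := Set.range (Points.map (BasedFunctor.comp (ofSpMap w₀.hom) U))
  have hopen : IsOpen T := isOpen_range_open_chart h𝒳 X₀ U hU W₀ w₀ hW₀.1
  have hsub := isOpenSubstack_ofSet h𝒳 T hopen
  -- auxiliary presentations for the saturation argument
  have h𝒫 : IsFibGrpd (fp v f).p :=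
    Groth.Agent.S6401.result v f (Groth.Agent.Helper19.ChartOver.isFibGrpd_overCat V₀)
      h𝒳.isStack.1 h𝒴.isStack.1
  obtain ⟨A₂, e₂, he₂, -⟩ := hv V₀ v
  obtain ⟨B, eB, -, heB, -, -⟩ := exists_rep_fp_of_space hPb_smooth hPd_smooth h𝒫 h𝒳.isStack.1
    (fpSnd v f) hu₀ X₀ U
  let e₁ : ofSp B.obj ⥤ᵇ fp (fpSnd v f) (fpSnd v f) :=
    BasedFunctor.comp eB (fpPre e₀ (fpSnd v f) (fpSnd v f))
  have he₁ : IsEquivOver e₁ := IsEquivOver.comp heB (isEquivOver_fpPre e₀ he₀ _ _)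
  have hg₁ : R (Pres.map (Pres.ofEquiv A₂.obj e₂ he₂) (Pres.ov V₀) (fpFst v v)) := by
    have h1 : RepByAlgSpWith (AlgSp.LocP @Smooth) (fpFst v v) := repByAlgSpWith_fpFst v v hv
    have h2 := (Pres.repByAlgSpWith_iff_map hPb_smooth hPd_smooth (Pres.ofEquiv A₂.obj e₂ he₂)
      (Pres.ov V₀) A₂.property (AlgSp.IsAlgSpace.yon_obj V₀) (fpFst v v)).1 h1
    exact h₂ A₂ Y₀ (ObjectProperty.homMk _) h2
  have hg₂ : R (Pres.map (Pres.ofEquiv A₂.obj e₂ he₂) (Pres.ov V₀) (fpSnd v v)) := by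
    have h1 : RepByAlgSpWith (AlgSp.LocP @Smooth) (fpSnd v v) := repByAlgSpWith_fpSnd v v hv
    have h2 := (Pres.repByAlgSpWith_iff_map hPb_smooth hPd_smooth (Pres.ofEquiv A₂.obj e₂ he₂)
      (Pres.ov V₀) A₂.property (AlgSp.IsAlgSpace.yon_obj V₀) (fpSnd v v)).1 h1
    exact h₂ A₂ Y₀ (ObjectProperty.homMk _) h2
  have hsat : ∀ x₀ x : AlgSp.Points X₀.obj, x₀ ∈ Set.range (AlgSp.Points.map w₀.hom) →
      Points.map U (ptsMap X₀.obj x₀) = Points.map U (ptsMap X₀.obj x) →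
      x ∈ Set.range (AlgSp.Points.map w₀.hom) :=
    fun x₀ x hx₀ h => saturation h𝒳 h𝒴 P Q R h₄ v f X₀ e₀ he₀ A₂ e₂ he₂ B e₁ he₁ hQ₀ hg₁ hg₂
      W₀ w₀ hW₀ x₀ x hx₀ h
  -- points of `T` seen on the chart
  have hT : ∀ x : AlgSp.Points X₀.obj, Points.map U (ptsMap X₀.obj x) ∈ T ↔
      x ∈ Set.range (AlgSp.Points.map w₀.hom) := by
    intro x
    constructor
    · rintro ⟨y, hy⟩
      obtain ⟨y', rfl⟩ := (ptsMap_bijective W₀.obj).2 y
      rw [StPts.map_comp, ← ptsMap_map] at hy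
      exact hsat _ x ⟨y', rfl⟩ hy
    · rintro ⟨y', rfl⟩
      refine ⟨ptsMap W₀.obj y', ?_⟩
      rw [StPts.map_comp, ← ptsMap_map]
  refine ⟨ofSet T, hsub, ?_, ?_⟩
  · -- Claim A
    have h1i : RepByAlgSp1 (subIncl 𝒳 (ofSet T)) :=
      Groth.Agent.Helper19.PshSt.RepByAlgSpWith.repByAlgSp1 hsub.2.2
    have h1f : RepByAlgSp1 f := Groth.Agent.Helper19.PshSt.RepByAlgSpWith.repByAlgSp1 hf
    have h1 : RepByAlgSp1 (BasedFunctor.comp (subIncl 𝒳 (ofSet T)) f) :=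
      repByAlgSp1_comp hsub.2.1.isStack.1 h𝒳.isStack.1 _ _ h1i h1f
    refine Groth.Agent.Helper19.DescCover.repByAlgSpWith_of_cover hPb hP hsub.2.1.isStack.1
      h𝒴.isStack.1 (Groth.Agent.Helper19.ChartOver.isFibGrpd_overCat V₀) _ h1 v
      (Groth.Agent.Helper19.DescCover.repByAlgSpWith_fppfP v (repByAlgSpWith_flat_of_smooth v hv)
        (repByAlgSpWith_lfp_of_smooth v hv) hvs) ?_
    obtain ⟨W', eW, β, heW, ⟨θ⟩, hβ⟩ := exists_preimage_open h𝒳 (ofSet T) hsub X₀ U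
    rw [repByAlgSpWith_restr_iff v f X₀ e₀ he₀ (subIncl 𝒳 (ofSet T)) W' eW heW β θ hPb hPd]
    -- `W'` and `W₀` are the same open subspace
    have hmem : ∀ x : AlgSp.Points X₀.obj, x ∈ Set.range (AlgSp.Points.map β) ↔
        x ∈ Set.range (AlgSp.Points.map w₀.hom) := by
      intro x
      rw [mem_range_preimage_iff h𝒳 (ofSet T) hsub X₀ U W' eW β heW θ x, range_ofSet, hT]
    obtain ⟨k₂, hk₂⟩ := (factors_through_open_iff w₀.hom hW₀.1 β).2 (by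
      rintro x hx
      exact (hmem x).1 hx)
    obtain ⟨k₁, hk₁⟩ := (factors_through_open_iff β hβ w₀.hom).2 (by
      rintro x hx
      exact (hmem x).2 hx)
    haveI : Mono β := mono_of_repWith isOpenImmersion_le_mono β hβ
    haveI : Mono w₀.hom := mono_of_repWith isOpenImmersion_le_mono w₀.hom hW₀.1
    have hiso : IsIso k₂ := by
      refine ⟨k₁, ?_, ?_⟩
      · rw [← cancel_mono β, Category.assoc, hk₁, hk₂, Category.id_comp]
      · rw [← cancel_mono w₀.hom, Category.assoc, hk₂, hk₁, Category.id_comp]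
    have sq : IsPullback k₂ (β ≫ a₀.hom) (w₀.hom ≫ a₀.hom) (𝟙 _) :=
      IsPullback.of_horiz_isIso ⟨by rw [Category.comp_id, ← Category.assoc, hk₂]⟩
    exact hPb W₀.property Y₀.property W'.property Y₀.property _ _ _ _ sq hW₀.2.1
  · -- Claim B
    intro Q₁ hQ₁ hP₁ y hy
    have h1 : RepByAlgSpWith P (fpFst v (BasedFunctor.comp (subIncl 𝒳 Q₁) f)) :=
      repByAlgSpWith_fpFst _ v hP₁
    obtain ⟨W', eW, β, heW, ⟨θ⟩, hβ⟩ := exists_preimage_open h𝒳 Q₁ hQ₁ X₀ U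
    rw [repByAlgSpWith_restr_iff v f X₀ e₀ he₀ (subIncl 𝒳 Q₁) W' eW heW β θ hPb hPd] at h1
    obtain ⟨k, hk⟩ := hW₀.2.2 W' (ObjectProperty.homMk β) hβ h1
    have hk' : k.hom ≫ w₀.hom = β := congrArg (fun m : W' ⟶ X₀ => m.hom) hk
    have hsubset : Set.range (Points.map (subIncl 𝒳 Q₁)) ⊆ T := by
      rintro q hq
      obtain ⟨x', hx'⟩ := hUsurj q
      obtain ⟨x, rfl⟩ := (ptsMap_bijective X₀.obj).2 x'
      rw [← hx', hT]
      have hx : x ∈ Set.range (AlgSp.Points.map β) := by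
        rw [mem_range_preimage_iff h𝒳 Q₁ hQ₁ X₀ U W' eW β heW θ x, hx']
        exact hq
      obtain ⟨y', rfl⟩ := hx
      exact ⟨AlgSp.Points.map k.hom y', by rw [← AlgSp.Points.map_comp, hk']⟩
    exact ofSet_mono hsubset y
      (le_ofSet_range h𝒳.isStack.1 Q₁ hQ₁.1 hQ₁.2.1.isStack.1 y hy)

end Groth.Agent.Helper19.LargestOpenSt
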