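import Mathlib

/-!
# The largest open subscheme on which a morphism of schemes is smooth (no finiteness hypotheses)
-/

set_option autoImplicit false

universe u

open CategoryTheory AlgebraicGeometry

namespace Groth.Agent.Lib.Helper19.SmLocSch

/-- for a property local at the source, there is a largest open subscheme of the source on which the morphism has it. -/
theorem exists_largest_open (P : MorphismProperty Scheme.{u}) [IsZariskiLocalAtSource P]
    {X Y : Scheme.{u}} (f : X ⟶ Y) :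
    ∃ W : X.Opens, P (W.ι ≫ f) ∧ ∀ W' : X.Opens, P (W'.ι ≫ f) → W' ≤ W := by
  classical
  let ι := {W' : X.Opens // P (W'.ι ≫ f)}
  let W : X.Opens := ⨆ i : ι, i.1
  refine ⟨W, ?_, fun W' h => le_iSup (fun i : ι => i.1) ⟨W', h⟩⟩
  refine IsZariskiLocalAtSource.of_iSup_eq_top (P := P) (fun i : ι => W.ι ⁻¹ᵁ i.1) ?_ ?_
  · apply top_le_iff.1
    rintro ⟨x, hx⟩ -
    have hx' : x ∈ (⨆ i : ι, i.1 : X.Opens) := hx
    rw [TopologicalSpace.Opens.mem_iSup] at hx'
    obtain ⟨i, hi⟩ := hx'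
    rw [TopologicalSpace.Opens.mem_iSup]
    exact ⟨i, hi⟩
  · intro i
    have hle : i.1 ≤ W := le_iSup (fun i : ι => i.1) i
    have hrange : Set.range ((W.ι ⁻¹ᵁ i.1).ι ≫ W.ι) ⊆ Set.range i.1.ι := by
      rintro _ ⟨z, rfl⟩
      rw [Scheme.Opens.range_ι]
      exact z.2
    let l := IsOpenImmersion.lift i.1.ι ((W.ι ⁻¹ᵁ i.1).ι ≫ W.ι) hrange
    have hl : l ≫ i.1.ι = (W.ι ⁻¹ᵁ i.1).ι ≫ W.ι := IsOpenImmersion.lift_fac _ _ _
    have : IsOpenImmersion l := by
      have : IsOpenImmersion (l ≫ i.1.ι) := by rw [hl]; infer_instance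
      exact IsOpenImmersion.of_comp l i.1.ι
    rw [← Category.assoc, ← hl, Category.assoc]
    exact IsZariskiLocalAtSource.comp i.2 l

end Groth.Agent.Lib.Helper19.SmLocSch
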