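import Mathlib
import Groth.Agent.Lib.Helper19.LargestOpenSt2
import Groth.Agent.Lib.Helper19.LocQNoeth
import Groth.Agent.Lib.Helper19.OpenSub2
import Groth.Agent.Lib.Helper19.SmLocSch

/-!
# The largest open substack on which a morphism of algebraic stacks is smooth (helper19)
-/

set_option autoImplicit false
set_option backward.isDefEq.respectTransparency false

universe v₇ u₇ v₆ u₆ v₅ u₅ v₄ u₄ v₃ u₃ v₂ u₂ v u

open CategoryTheory CategoryTheory.Limits AlgebraicGeometry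

namespace Groth.Agent.Helper19.SmLocSt

open FibCat AlgSt Stk Groth.Agent.Helper19.FibLib Groth.Agent.Helper19.StLib
  Groth.Agent.Helper19.AlgP Groth.Agent.Helper19.SpProps Groth.Agent.Helper19.SpDict
  Groth.Agent.Helper19.PshSt Groth.Agent.Helper19.LocQCore Groth.Agent.Helper16.AS
  Groth.Agent.Helper15 Groth.Agent.Helper19.StPts Groth.Agent.Helper19.OpenSub
  Groth.Agent.Helper19.SrcLoc Groth.Agent.Helper19.LocQGen Groth.Agent.Helper19.ChartOver
  Groth.Agent.Helper19.EssImg Groth.Agent.Helper19.ImmLib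

section fpMapFF

variable {C : Type u} [Category.{v} C]
variable {𝒳 : BasedCategory.{v₂, u₂} C} {𝒴 : BasedCategory.{v₃, u₃} C} {𝒮 : BasedCategory.{v₄, u₄} C}
  {𝒳' : BasedCategory.{v₅, u₅} C} {𝒴' : BasedCategory.{v₆, u₆} C} {𝒮' : BasedCategory.{v₇, u₇} C}
  {F : 𝒳 ⥤ᵇ 𝒮} {G : 𝒴 ⥤ᵇ 𝒮} {F' : 𝒳' ⥤ᵇ 𝒮'} {G' : 𝒴' ⥤ᵇ 𝒮'}
  (u : 𝒳 ⥤ᵇ 𝒳') (v : 𝒴 ⥤ᵇ 𝒴') (s : 𝒮 ⥤ᵇ 𝒮')
  (σ : BasedFunctor.comp F s ≅ BasedFunctor.comp u F') (τ : BasedFunctor.comp G s ≅ BasedFunctor.comp v G')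

theorem faithful_fpMap [u.toFunctor.Faithful] [v.toFunctor.Faithful] :
    (fpMap u v s σ τ).toFunctor.Faithful := by
  refine ⟨fun {x y} f g h => ?_⟩
  apply fp_hom_ext
  · apply u.toFunctor.map_injective
    exact congrArg (fun t => t.hom.fst) h
  · apply v.toFunctor.map_injective
    exact congrArg (fun t => t.hom.snd) h

theorem full_fpMap [u.toFunctor.Full] [v.toFunctor.Full] [s.toFunctor.Faithful] :
    (fpMap u v s σ τ).toFunctor.Full := by
  refine ⟨fun {x y} h => ?_⟩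
  have hw := fp_w h
  simp only [fpMap_obj_iso_hom, fpMap_obj_fst, fpMap_obj_snd] at hw
  obtain ⟨φ, hφ⟩ : ∃ φ : x.obj.fst ⟶ y.obj.fst, u.map φ = h.hom.fst :=
    u.toFunctor.map_surjective h.hom.fst
  obtain ⟨ψ, hψ⟩ : ∃ ψ : x.obj.snd ⟶ y.obj.snd, v.map ψ = h.hom.snd :=
    v.toFunctor.map_surjective h.hom.snd
  have n1 := hom_naturality σ φ
  have n2 := hom_naturality τ ψ
  simp only [bcomp_map] at n1 n2
  have hw' : F.map φ ≫ y.obj.iso.hom = x.obj.iso.hom ≫ G.map ψ := by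
    apply s.toFunctor.map_injective
    change s.map _ = s.map _
    rw [s.map_comp, s.map_comp]
    rw [← cancel_mono (τ.hom.toNatTrans.app y.obj.snd), ← cancel_epi (σ.inv.toNatTrans.app x.obj.fst)]
    have e1 : σ.inv.toNatTrans.app x.obj.fst ≫ s.map (F.map φ) =
        F'.map (u.map φ) ≫ σ.inv.toNatTrans.app y.obj.fst := by
      rw [← cancel_epi (σ.hom.toNatTrans.app x.obj.fst), hom_inv_app_assoc, ← Category.assoc, ← n1,
        Category.assoc, hom_inv_app, Category.comp_id]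
    simp only [Category.assoc]
    rw [← Category.assoc, e1, n2]
    rw [← hφ, ← hψ] at hw
    simp only [Category.assoc] at hw ⊢
    exact hw
  refine ⟨fpHomMk φ ψ hw', ?_⟩
  exact fp_hom_ext hφ hψ

end fpMapFF

variable {S : Scheme.{u}} {𝒳 𝒴 : AlgSt.Cat S}

/-- a morphism of schemes over `S`, as a functor of slices, is smooth iff it is smooth. -/
theorem repByAlgSpWith_smooth_overMap {U V : Over S} (b : U ⟶ V) :
    RepByAlgSpWith (AlgSp.LocP @Smooth) (overMap b) ↔ Smooth b.left := by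
  rw [smooth_map_iff (Pres.ov U) (Pres.ov V) (AlgSp.IsAlgSpace.yon_obj U) (AlgSp.IsAlgSpace.yon_obj V)
    (overMap b), Pres.map_overMap]
  exact ⟨AlgSp.locP_yon_map, locP_yon_map_of Groth.Agent.Helper15.goodP_smooth srcEtLoc_smooth b⟩

/-- the image of a smooth scheme chart is an open substack, which the chart covers smoothly. -/
theorem exists_open_image_chart (h𝒳 : IsAlgStack Scheme.fppfPrecoverage 𝒳) {W : Over S}
    (c : overCat W ⥤ᵇ 𝒳) (hc : RepByAlgSpWith (AlgSp.LocP @Smooth) c) :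
    IsOpen (Set.range (Points.map c)) ∧
      ∃ hmem : ∀ a, ofSet (Set.range (Points.map c)) (c.obj a),
        RepByAlgSpWith (AlgSp.LocP @Smooth) (liftSub c (ofSet (Set.range (Points.map c))) hmem) ∧
        RepByAlgSpWith AlgSp.IsSurjectiveMor (liftSub c (ofSet (Set.range (Points.map c))) hmem) := by
  have hW := isAlgStack_overCat (S := S) W
  have hopen : IsOpen (Set.range (Points.map c)) :=
    (isOpenMap_map_of_flat_lfp hW h𝒳.isStack.1 _ (repByAlgSpWith_flat_of_smooth _ hc)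
      (repByAlgSpWith_lfp_of_smooth _ hc)).isOpen_range
  refine ⟨hopen, ofSet_range_obj hW.isStack.1 h𝒳.isStack.1 c, ?_⟩
  set T : Set (Points 𝒳) := Set.range (Points.map c) with hT
  have hsub := isOpenSubstack_ofSet h𝒳 T hopen
  let g : overCat W ⥤ᵇ fullSub 𝒳 (ofSet T) :=
    liftSub c (ofSet T) (ofSet_range_obj hW.isStack.1 h𝒳.isStack.1 c)
  have hg : RepByAlgSpWith (AlgSp.LocP @Smooth) g :=
    repByAlgSpWith_of_comp_fullyFaithful g (subIncl 𝒳 (ofSet T)) hc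
  refine ⟨hg, ?_⟩
  refine repByAlgSpWith_of_isSurjective hW.isStack.1 hsub.2.1.isStack.1 g
    (Groth.Agent.Helper19.PshSt.RepByAlgSpWith.repByAlgSp1 hg) ?_
  intro z
  have hz : Points.map (subIncl 𝒳 (ofSet T)) z ∈ T :=
    (range_ofSet T).le ⟨z, rfl⟩
  obtain ⟨v, hv⟩ := hz
  refine ⟨v, ?_⟩
  apply injective_map_of_full hsub.2.1.isStack.1 h𝒳.isStack.1 (subIncl 𝒳 (ofSet T))
  rw [← hv, ← StPts.map_comp]
  rfl

end Groth.Agent.Helper19.SmLocSt
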