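import Mathlib
import Groth.Agent.Lib.Helper19.FlatST
import Groth.Agent.Lib.Helper16.AlgSp.SmSp
import Groth.Agent.S10553

/-!
# Smoothness is smooth local on source-and-target (helper19)
-/

set_option autoImplicit false
set_option backward.isDefEq.respectTransparency false

universe u

open CategoryTheory CategoryTheory.Limits AlgebraicGeometry MorphismProperty Opposite

namespace Groth.Agent.Helper19.SmoothST

open AlgSp Groth.Agent.Helper15 Groth.Agent.Helper16.AS Groth.Agent.Helper19.FlatST

variable {S : Scheme.{u}}

/-- Smoothness of morphisms of algebraic spaces is smooth local on source-and-target. -/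
theorem isSmoothLocalST_smooth : IsSmoothLocalST (S := S) (LocP @Smooth) :=
  isSmoothLocalST_of (Groth.Agent.S10553.result S)
    (isLocalOnBase_sm_of_fpqc isLocalOnBase_fpqc_locP_smooth)
    (fun _ _ _ hX hY hZ f g hf hg =>
      locP_comp goodP_smooth srcEtLoc_smooth hX hY hZ f g hf hg)

end Groth.Agent.Helper19.SmoothST
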