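import Mathlib
import Groth.Agent.Lib.Helper19.SmLocSt
import Groth.Agent.Lib.Helper19.SmoothST
import Groth.Agent.Lib.Helper19.LocQGen2
import Groth.Agent.Lib.Helper19.LocQCalc

/-!
# The largest open substack on which a morphism of algebraic stacks is smooth: main theorem (helper19)
-/

set_option autoImplicit false
set_option backward.isDefEq.respectTransparency false

universe u

open CategoryTheory CategoryTheory.Limits AlgebraicGeometry

namespace Groth.Agent.Helper19.SmLocSt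

open FibCat AlgSt Stk Groth.Agent.Helper19.FibLib Groth.Agent.Helper19.StLib
  Groth.Agent.Helper19.AlgP Groth.Agent.Helper19.SpProps Groth.Agent.Helper19.SpDict
  Groth.Agent.Helper19.PshSt Groth.Agent.Helper19.LocQCore Groth.Agent.Helper16.AS
  Groth.Agent.Helper15 Groth.Agent.Helper19.StPts Groth.Agent.Helper19.OpenSub
  Groth.Agent.Helper19.SrcLoc Groth.Agent.Helper19.LocQGen Groth.Agent.Helper19.ChartOver
  Groth.Agent.Helper19.EssImg Groth.Agent.Helper19.ImmLib Groth.Agent.Helper19.ProdAlg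

variable {S : Scheme.{u}} {𝒳 𝒴 : AlgSt.Cat S}

theorem exists_largest_smooth (h𝒳 : IsAlgStack Scheme.fppfPrecoverage 𝒳)
    (h𝒴 : IsAlgStack Scheme.fppfPrecoverage 𝒴) (f : 𝒳 ⥤ᵇ 𝒴) :
    ∃ Q : 𝒳.obj → Prop, IsOpenSubstack 𝒳 Q Scheme.fppfPrecoverage ∧
      LocQ (AlgSp.LocP @Smooth) (BasedFunctor.comp (subIncl 𝒳 Q) f) ∧
      ∀ Q' : 𝒳.obj → Prop, IsOpenSubstack 𝒳 Q' Scheme.fppfPrecoverage →
        LocQ (AlgSp.LocP @Smooth) (BasedFunctor.comp (subIncl 𝒳 Q') f) → ∀ a, Q' a → Q a := by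
  obtain ⟨V, v, hv, hvs⟩ := h𝒴.atlas
  have h𝒫 : IsAlgStack Scheme.fppfPrecoverage (fp v f) :=
    isAlgStack_fp h𝒴.isStack h𝒴.diag (isAlgStack_overCat V) h𝒳 v f
  obtain ⟨U₀, u₀, hu₀, hu₀s⟩ := h𝒫.atlas
  obtain ⟨h₀, ⟨θ₀⟩⟩ := exists_overMap_iso (BasedFunctor.comp u₀ (fpFst v f))
  have hU₀ := isFibGrpd_overCat U₀
  let x₀ : overCat U₀ ⥤ᵇ 𝒳 := BasedFunctor.comp u₀ (fpSnd v f)
  have hx₀ : RepByAlgSpWith (AlgSp.LocP @Smooth) x₀ :=
    repByAlgSpWith_comp stableAlg_smooth compAlg_smooth descAtlas_smooth hU₀ h𝒫.isStack.1 u₀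
      (fpSnd v f) hu₀ (repByAlgSpWith_fpSnd v f hv)
  have hx₀s : RepByAlgSpWith AlgSp.IsSurjectiveMor x₀ :=
    repByAlgSpWith_comp stableAlg_isSurjectiveMor compAlg_isSurjectiveMor descAtlas_isSurjectiveMor
      hU₀ h𝒫.isStack.1 u₀ (fpSnd v f) hu₀s (repByAlgSpWith_fpSnd v f hvs)
  obtain ⟨W, hWsm, hWmax⟩ := Groth.Agent.Lib.Helper19.SmLocSch.exists_largest_open @Smooth h₀.left
  -- the chart of the open substack
  have hWι : RepByAlgSpWith (AlgSp.LocP @Smooth) (overMap (opIncl W)) :=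
    (repByAlgSpWith_smooth_overMap (opIncl W)).2 (by
      change Smooth W.ι
      infer_instance)
  let c : overCat (opSub W) ⥤ᵇ 𝒳 := BasedFunctor.comp (overMap (opIncl W)) x₀
  have hc : RepByAlgSpWith (AlgSp.LocP @Smooth) c :=
    repByAlgSpWith_comp stableAlg_smooth compAlg_smooth descAtlas_smooth
      (isFibGrpd_overCat (opSub W)) hU₀ (overMap (opIncl W)) x₀ hWι hx₀
  obtain ⟨hopen, hmem, hg, hgs⟩ := exists_open_image_chart h𝒳 c hc
  set T : Set (Points 𝒳) := Set.range (Points.map c) with hT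
  have hsub := isOpenSubstack_ofSet h𝒳 T hopen
  refine ⟨ofSet T, hsub, ?_, ?_⟩
  · -- the chart square
    let α₀ : BasedFunctor.comp x₀ f ≅ BasedFunctor.comp (overMap h₀) v :=
      liftIso f v u₀ (overMap h₀) θ₀
    let α : BasedFunctor.comp (liftSub c (ofSet T) hmem) (BasedFunctor.comp (subIncl 𝒳 (ofSet T)) f) ≅
        BasedFunctor.comp (overMap (opIncl W ≫ h₀)) v :=
      whiskerLeftIso (overMap (opIncl W)) α₀ ≪≫ whiskerRightIso (overMapComp (opIncl W) h₀) v
    refine ⟨opSub W, V, liftSub c (ofSet T) hmem, v, opIncl W ≫ h₀, α, hg, hgs, hv, ?_⟩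
    exact locP_yon_map_of Groth.Agent.Helper15.goodP_smooth srcEtLoc_smooth _ hWsm
  · intro Q' hQ' hLoc' a ha
    have hT' : IsOpen (Set.range (Points.map (subIncl 𝒳 Q'))) :=
      Groth.Agent.Helper19.SubSt.isOpen_range_of_isOpenSubstack h𝒳 Q' hQ'
    have hQ'eq : ofSet (Set.range (Points.map (subIncl 𝒳 Q'))) = Q' := ofSet_range_eq h𝒳 Q' hQ'
    set T' : Set (Points 𝒳) := Set.range (Points.map (subIncl 𝒳 Q')) with hT'def
    let W' := chartOpen h𝒳 x₀ T' hT'
    have hW' : ∀ t, t ∈ W' ↔ Points.ofChart x₀ t ∈ T' := mem_chartOpen h𝒳 x₀ T' hT'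
    have hclaim : Smooth (W'.ι ≫ h₀.left) := by
      let i := subIncl 𝒳 Q'
      have hmem' : ∀ a : (overCat (opSub W')).obj, Q' (x₀.obj ((overMap (opIncl W')).obj a)) := by
        intro a
        rw [← hQ'eq]
        exact ofSet_opIncl x₀ T' W' h𝒳.isStack.1 hW' a
      let x' : overCat (opSub W') ⥤ᵇ fullSub 𝒳 Q' :=
        liftSub (BasedFunctor.comp (overMap (opIncl W')) x₀) Q' hmem'
      let a' : overCat (opSub W') ⥤ᵇ overCat V :=
        BasedFunctor.comp (overMap (opIncl W')) (BasedFunctor.comp u₀ (fpFst v f))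
      let β : BasedFunctor.comp a' v ≅ BasedFunctor.comp x' (BasedFunctor.comp i f) :=
        whiskerLeftIso (overMap (opIncl W')) (whiskerLeftIso u₀ (fpIso v f))
      let u' : overCat (opSub W') ⥤ᵇ fp v (BasedFunctor.comp i f) := fpLift a' x' β
      let j : fp v (BasedFunctor.comp i f) ⥤ᵇ fp v f :=
        fpMap (F := v) (G := BasedFunctor.comp i f) (F' := v) (G' := f)
          (BasedFunctor.id _) i (BasedFunctor.id 𝒴) (Iso.refl _) (Iso.refl _)
      have h1 : (BasedFunctor.id (overCat V)).toFunctor.Full := inferInstanceAs (𝟭 _).Full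
      have h2 : (BasedFunctor.id (overCat V)).toFunctor.Faithful := inferInstanceAs (𝟭 _).Faithful
      have h3 : (BasedFunctor.id 𝒴).toFunctor.Faithful := inferInstanceAs (𝟭 _).Faithful
      have hjfull : j.toFunctor.Full := full_fpMap _ _ _ _ _
      have hjfaith : j.toFunctor.Faithful := faithful_fpMap _ _ _ _ _
      have hWι' : RepByAlgSpWith (AlgSp.LocP @Smooth) (overMap (opIncl W')) :=
        (repByAlgSpWith_smooth_overMap (opIncl W')).2 (by
          change Smooth W'.ι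
          infer_instance)
      have hcomp : RepByAlgSpWith (AlgSp.LocP @Smooth) (BasedFunctor.comp (overMap (opIncl W')) u₀) :=
        repByAlgSpWith_comp stableAlg_smooth compAlg_smooth descAtlas_smooth
          (isFibGrpd_overCat (opSub W')) hU₀ (overMap (opIncl W')) u₀ hWι' hu₀
      have e : BasedFunctor.comp u' j ≅ BasedFunctor.comp (overMap (opIncl W')) u₀ :=
        fpFunctorIso _ _ (Iso.refl _) (Iso.refl _) (fun t => by
          simp [u', j, β])
      have hu'j : RepByAlgSpWith (AlgSp.LocP @Smooth) (BasedFunctor.comp u' j) :=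
        repByAlgSpWith_of_iso e hcomp
      have hu' : RepByAlgSpWith (AlgSp.LocP @Smooth) u' :=
        repByAlgSpWith_of_comp_fullyFaithful u' j hu'j
      let θ' : BasedFunctor.comp u' (fpFst v (BasedFunctor.comp i f)) ≅ overMap (opIncl W' ≫ h₀) :=
        whiskerLeftIso (overMap (opIncl W')) θ₀ ≪≫ overMapComp (opIncl W') h₀
      have := of_good_chart Groth.Agent.Helper19.SmoothST.isSmoothLocalST_smooth hQ'.2.1.isStack.1
        h𝒴.isStack.1 (BasedFunctor.comp i f) hLoc' v hv u' hu' (opIncl W' ≫ h₀) θ'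
      exact AlgSp.locP_yon_map this
    have hle : W' ≤ W := hWmax W' hclaim
    have hTT : T' ⊆ T := by
      intro z hz
      obtain ⟨p, rfl⟩ := isSurjective_of_repByAlgSpWith h𝒳.isStack.1 x₀ hx₀s z
      obtain ⟨t, rfl⟩ := (chartPt U₀).surjective p
      rw [← ofChart_eq] at hz
      have htW : t ∈ W := hle ((hW' t).2 hz)
      refine ⟨chartPt (opSub W) ⟨t, htW⟩, ?_⟩
      rw [StPts.map_comp, map_overMap_chartPt]
      rfl
    rw [← hQ'eq] at ha
    exact ofSet_mono hTT a ha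

end Groth.Agent.Helper19.SmLocSt
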