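import Mathlib
import Groth.Agent.Lib.Helper19.SmLocSt2
import Groth.Agent.Lib.Helper19.LocQCore2
import Groth.Agent.Lib.Helper19.StPts3
import Groth.Agent.Lib.Helper19.SubSt
import Groth.Agent.Lib.Helper19.DiagAlgSp

/-!
# The largest smooth open substack commutes with smooth base change of the source (helper19)
-/

set_option autoImplicit false
set_option backward.isDefEq.respectTransparency false

universe u

open CategoryTheory CategoryTheory.Limits AlgebraicGeometry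

namespace Groth.Agent.Helper19.SmLocSt3

open FibCat AlgSt Stk Groth.Agent.Helper19.FibLib Groth.Agent.Helper19.StLib
  Groth.Agent.Helper19.AlgP Groth.Agent.Helper19.SpProps Groth.Agent.Helper19.SpDict
  Groth.Agent.Helper19.PshSt Groth.Agent.Helper19.LocQCore Groth.Agent.Helper16.AS
  Groth.Agent.Helper15 Groth.Agent.Helper19.StPts Groth.Agent.Helper19.OpenSub
  Groth.Agent.Helper19.SrcLoc Groth.Agent.Helper19.LocQGen Groth.Agent.Helper19.ChartOver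
  Groth.Agent.Helper19.EssImg Groth.Agent.Helper19.ImmLib Groth.Agent.Helper19.ProdAlg
  Groth.Agent.Helper19.SmLocSt Groth.Agent.Helper19.SmoothST Groth.Agent.Helper19.CancelLib

variable {S : Scheme.{u}} {𝒳' 𝒳 𝒴 𝒵 : AlgSt.Cat S}

/-- the preimage of the substack cut out by a set of points. -/
theorem ofSet_preimage (h𝒳' : IsFibGrpd 𝒳'.p) (h𝒳 : IsFibGrpd 𝒳.p) (g : 𝒳' ⥤ᵇ 𝒳)
    (T : Set (Points 𝒳)) (a : 𝒳'.obj) :
    ofSet T (g.obj a) ↔ ofSet (Points.map g ⁻¹' T) a := by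
  constructor
  · intro h q ⟨φ⟩
    exact h (q.map g) ⟨g.map φ⟩
  · intro h q ⟨φ⟩
    let b : pt q ⟶ 𝒳'.p.obj a := eqToHom q.lies.symm ≫ 𝒳.p.map φ ≫ eqToHom (g.w_obj a)
    have hφ : 𝒳.p.IsHomLift b φ := IsHomLift.of_fac 𝒳.p _ φ q.lies (g.w_obj a) (by simp [b])
    obtain ⟨z', ψ, hψ⟩ := h𝒳'.exists_lift b
    have hψ' : 𝒳.p.IsHomLift b (g.map ψ) := inferInstance
    obtain ⟨χ, -, -, -⟩ := exists_iso_of_lifts h𝒳 b φ (g.map ψ)
    let p : FPt 𝒳' := { K := q.K, str := q.str, obj := z', lies := IsHomLift.domain_eq 𝒳'.p b ψ }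
    have h1 : Points.mk p ∈ Points.map g ⁻¹' T := h p ⟨ψ⟩
    have h2 : Points.mk (p.map g) = Points.mk q := Points.sound (rel_of_hom (p := p.map g) (q := q) χ)
    rw [← h2]
    exact h1

/-- an open immersion is smooth. -/
theorem repByAlgSpWith_smooth_of_isOpenImm (f : 𝒳 ⥤ᵇ 𝒴) (hf : IsOpenImm f) :
    RepByAlgSpWith (AlgSp.LocP @Smooth) f := by
  refine repByAlgSpWith_mono (fun A T a h => ?_) hf
  refine Groth.Agent.Helper15.locP_mono ?_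
    (Groth.Agent.Helper19.SubSt.locP_etale_of_repWith_isOpenImmersion a h)
  intro A B g hg
  have : Etale g := hg
  exact (inferInstance : Smooth g)

/-- cancelling a fully faithful smooth functor on the right in `LocQ`. -/
theorem locQ_of_comp_fullyFaithful {P : MorphismProperty (AlgSp.Sp S)} (hP : AlgSp.IsSmoothLocalST P)
    (h𝒵 : IsAlgStack Scheme.fppfPrecoverage 𝒵) (h𝒴 : IsAlgStack Scheme.fppfPrecoverage 𝒴)
    (h𝒳 : IsAlgStack Scheme.fppfPrecoverage 𝒳) (g₁ : 𝒵 ⥤ᵇ 𝒴) (i : 𝒴 ⥤ᵇ 𝒳)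
    [i.toFunctor.Full] [i.toFunctor.Faithful] (hi : RepByAlgSpWith (AlgSp.LocP @Smooth) i)
    (hLoc : LocQ P (BasedFunctor.comp g₁ i)) : LocQ P g₁ := by
  obtain ⟨V', y', hy', hy's⟩ := h𝒴.atlas
  obtain ⟨U, x, h, α, hℓ, hℓs, hx, hxs⟩ := exists_chart_square h𝒵 h𝒴 g₁ y'
  have hy'i : RepByAlgSpWith (AlgSp.LocP @Smooth) (BasedFunctor.comp y' i) :=
    repByAlgSpWith_comp stableAlg_smooth compAlg_smooth descAtlas_smooth (isFibGrpd_overCat V')
      h𝒴.isStack.1 y' i hy' hi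
  let Φ : fp g₁ y' ⥤ᵇ fp (BasedFunctor.comp g₁ i) (BasedFunctor.comp y' i) :=
    fpMap (F := g₁) (G := y') (F' := BasedFunctor.comp g₁ i) (G' := BasedFunctor.comp y' i)
      (BasedFunctor.id _) (BasedFunctor.id _) i (Iso.refl _) (Iso.refl _)
  have hΦ : IsEquivOver Φ := isEquivOver_fpMap _ _ _ _ _ (isEquivOver_id _) (isEquivOver_id _)
  have e : fpLift (F := BasedFunctor.comp g₁ i) (G := BasedFunctor.comp y' i) x (overMap h)
        (whiskerRightIso α i) ≅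
      BasedFunctor.comp (fpLift x (overMap h) α) Φ :=
    fpFunctorIso _ _ (Iso.refl _) (Iso.refl _) (fun t => by
      simp [Φ])
  have hℓ' : RepByAlgSpWith (AlgSp.LocP @Smooth)
      (fpLift (F := BasedFunctor.comp g₁ i) (G := BasedFunctor.comp y' i) x (overMap h)
        (whiskerRightIso α i)) :=
    repByAlgSpWith_of_iso e ((repByAlgSpWith_comp_equiv _ Φ hΦ).2 hℓ)
  have hPh : P ((AlgSp.yon S).map h) :=
    (locQ_iff_forall hP h𝒵 h𝒳 (BasedFunctor.comp g₁ i)).1 hLoc U V' x (BasedFunctor.comp y' i) h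
      (whiskerRightIso α i) (hx hy') hy'i hℓ'
  exact ⟨U, V', x, y', h, α, hx hy', hxs hy's, hy', hPh⟩

/-- the largest smooth open substack commutes with smooth precomposition. -/
theorem smooth_locus_precomp (h𝒳' : IsAlgStack Scheme.fppfPrecoverage 𝒳')
    (h𝒳 : IsAlgStack Scheme.fppfPrecoverage 𝒳) (h𝒴 : IsAlgStack Scheme.fppfPrecoverage 𝒴)
    (g : 𝒳' ⥤ᵇ 𝒳) (hg : LocQ (AlgSp.LocP @Smooth) g) (f : 𝒳 ⥤ᵇ 𝒴)
    (Q : 𝒳.obj → Prop) (hQ₁ : IsOpenSubstack 𝒳 Q Scheme.fppfPrecoverage)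
    (hQ₂ : LocQ (AlgSp.LocP @Smooth) (BasedFunctor.comp (subIncl 𝒳 Q) f))
    (hQ₃ : ∀ Q' : 𝒳.obj → Prop, IsOpenSubstack 𝒳 Q' Scheme.fppfPrecoverage →
      LocQ (AlgSp.LocP @Smooth) (BasedFunctor.comp (subIncl 𝒳 Q') f) → ∀ a, Q' a → Q a) :
    IsOpenSubstack 𝒳' (fun a ↦ Q (g.obj a)) Scheme.fppfPrecoverage ∧
      LocQ (AlgSp.LocP @Smooth)
        (BasedFunctor.comp (subIncl 𝒳' (fun a ↦ Q (g.obj a))) (BasedFunctor.comp g f)) ∧
      ∀ Q' : 𝒳'.obj → Prop, IsOpenSubstack 𝒳' Q' Scheme.fppfPrecoverage →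
        LocQ (AlgSp.LocP @Smooth) (BasedFunctor.comp (subIncl 𝒳' Q') (BasedFunctor.comp g f)) →
        ∀ a, Q' a → Q (g.obj a) := by
  have hsmST := Groth.Agent.Helper19.SmoothST.isSmoothLocalST_smooth (S := S)
  -- (A)
  have hT : IsOpen (Set.range (Points.map (subIncl 𝒳 Q))) :=
    Groth.Agent.Helper19.SubSt.isOpen_range_of_isOpenSubstack h𝒳 Q hQ₁
  have hQeq : ofSet (Set.range (Points.map (subIncl 𝒳 Q))) = Q := ofSet_range_eq h𝒳 Q hQ₁
  set T : Set (Points 𝒳) := Set.range (Points.map (subIncl 𝒳 Q)) with hTdef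
  have hT₁ : IsOpen (Points.map g ⁻¹' T) := hT.preimage (continuous_points_map h𝒳 g)
  have hQ₁eq : (fun a ↦ Q (g.obj a)) = ofSet (Points.map g ⁻¹' T) := by
    funext a
    rw [← hQeq]
    exact propext (ofSet_preimage h𝒳'.isStack.1 h𝒳.isStack.1 g T a)
  have hA : IsOpenSubstack 𝒳' (fun a ↦ Q (g.obj a)) Scheme.fppfPrecoverage := by
    rw [hQ₁eq]
    exact isOpenSubstack_ofSet h𝒳' _ hT₁
  refine ⟨hA, ?_, ?_⟩
  · -- (B)
    let j₁ := subIncl 𝒳' (fun a ↦ Q (g.obj a))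
    have hj₁ : LocQ (AlgSp.LocP @Smooth) j₁ :=
      locQ_of_repByAlgSpWith hsmST h𝒳' j₁ (repByAlgSpWith_smooth_of_isOpenImm j₁ hA.2.2)
    have hj₁g : LocQ (AlgSp.LocP @Smooth) (BasedFunctor.comp j₁ g) :=
      locQ_comp hsmST compAlg_smooth hA.2.1 h𝒳' j₁ g hj₁ hg
    let g₁ : fullSub 𝒳' (fun a ↦ Q (g.obj a)) ⥤ᵇ fullSub 𝒳 Q :=
      liftSub (BasedFunctor.comp j₁ g) Q (fun a => a.property)
    have hg₁ : LocQ (AlgSp.LocP @Smooth) g₁ :=
      locQ_of_comp_fullyFaithful hsmST hA.2.1 hQ₁.2.1 h𝒳 g₁ (subIncl 𝒳 Q)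
        (repByAlgSpWith_smooth_of_isOpenImm _ hQ₁.2.2) hj₁g
    exact locQ_comp hsmST compAlg_smooth hA.2.1 hQ₁.2.1 g₁ (BasedFunctor.comp (subIncl 𝒳 Q) f) hg₁ hQ₂
  · -- (C)
    intro Q' hQ' hLoc' a ha
    obtain ⟨U, V, x, y, h, α, hx, hxs, hy, hP⟩ := hLoc'
    let i' := subIncl 𝒳' Q'
    have hi' : LocQ (AlgSp.LocP @Smooth) i' :=
      locQ_of_repByAlgSpWith hsmST h𝒳' i' (repByAlgSpWith_smooth_of_isOpenImm i' hQ'.2.2)
    have hi'g : LocQ (AlgSp.LocP @Smooth) (BasedFunctor.comp i' g) :=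
      locQ_comp hsmST compAlg_smooth hQ'.2.1 h𝒳' i' g hi' hg
    have hxL : LocQ (AlgSp.LocP @Smooth) x := locQ_of_repByAlgSpWith hsmST hQ'.2.1 x hx
    let c : overCat U ⥤ᵇ 𝒳 := BasedFunctor.comp x (BasedFunctor.comp i' g)
    have hcL : LocQ (AlgSp.LocP @Smooth) c :=
      locQ_comp hsmST compAlg_smooth (isAlgStack_overCat U) hQ'.2.1 x _ hxL hi'g
    have hc1 : RepByAlgSp1 c := (Groth.Agent.Helper19.DiagAlgSp.repByAlgSp1_diag_iff 𝒳).1 h𝒳.diag U c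
    have hc : RepByAlgSpWith (AlgSp.LocP @Smooth) c :=
      repByAlgSpWith_of_locQ hsmST stableAlg_smooth c hc1 hcL
    obtain ⟨hopen, hmem, hgc, hgcs⟩ := exists_open_image_chart h𝒳 c hc
    set T₂ : Set (Points 𝒳) := Set.range (Points.map c) with hT₂
    have hsub := isOpenSubstack_ofSet h𝒳 T₂ hopen
    have hLoc₂ : LocQ (AlgSp.LocP @Smooth) (BasedFunctor.comp (subIncl 𝒳 (ofSet T₂)) f) :=
      ⟨U, V, liftSub c (ofSet T₂) hmem, y, h, α, hgc, hgcs, hy, hP⟩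
    have hle := hQ₃ (ofSet T₂) hsub hLoc₂
    apply hle
    have h1 := ofSet_range_obj hQ'.2.1.isStack.1 h𝒳.isStack.1 (BasedFunctor.comp i' g) ⟨a, ha⟩
    refine ofSet_mono ?_ _ h1
    rintro z ⟨w, rfl⟩
    obtain ⟨p, rfl⟩ := isSurjective_of_repByAlgSpWith hQ'.2.1.isStack.1 x hxs w
    exact ⟨p, StPts.map_comp x (BasedFunctor.comp i' g) p⟩

end Groth.Agent.Helper19.SmLocSt3
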