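import Mathlib
import Groth.Agent.Lib.Helper19.LocQNoeth
import Groth.Agent.Lib.Helper19.SrcLoc.Lfp
import Groth.Agent.S10526
import Groth.Agent.S10527

/-!
# Locally of finite type / presentation for algebraic stacks: descent along fppf covers of the source
(helper19)
-/

set_option autoImplicit false
set_option backward.isDefEq.respectTransparency false

universe w₃ v₃ w' v' w v u

open CategoryTheory CategoryTheory.Limits Functor AlgebraicGeometry Opposite

namespace Groth.Agent.Helper19.LocQGen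

open FibCat AlgSt Stk Groth.Agent.Helper19.FibLib Groth.Agent.Helper19.StLib
  Groth.Agent.Helper19.AlgP Groth.Agent.Helper19.SpProps Groth.Agent.Helper19.ChartOver
  Groth.Agent.Helper19.ProdAlg Groth.Agent.Helper19.SpDict Groth.Agent.Helper19.PshSt
  Groth.Agent.Helper19.ImmLib Groth.Agent.Helper16.AS Groth.Agent.Helper19.DiagAlgSp
  Groth.Agent.Helper19.LocQCore Groth.Agent.Helper19.FlatST Groth.Agent.Helper19.StPts

variable {S : Scheme.{u}}

theorem isLocalOnSource_sm_of_fppf {P : MorphismProperty (AlgSp.Sp S)}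
    (h : AlgSp.IsLocalOnSource (AlgSp.IsFppfCover (S := S)) P) :
    AlgSp.IsLocalOnSource (AlgSp.IsSmCover (S := S)) P := by
  intro ι X Xi g hX hXi hcov Y f hY
  exact h Xi g hX hXi (isFppfCover_of_isSmCover hcov) f hY

theorem isSmoothLocalST_lfp :
    AlgSp.IsSmoothLocalST (S := S) (AlgSp.LocP @LocallyOfFinitePresentation) :=
  isSmoothLocalST_of
    (isLocalOnSource_sm_of_fppf (Groth.Agent.Helper19.SrcLoc.isLocalOnSource_fppf_locP_lfp S))
    (isLocalOnBase_sm_of_fpqc (Groth.Agent.S10527.result S))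
    (fun _ _ _ hX hY hZ f g hf hg => smStable_lfp.postcomp hX hY hZ f g hf hg)

theorem isSmoothLocalST_lft :
    AlgSp.IsSmoothLocalST (S := S) (AlgSp.LocP @LocallyOfFiniteType) :=
  isSmoothLocalST_of
    (isLocalOnSource_sm_of_fppf (Groth.Agent.Helper19.SrcLoc.isLocalOnSource_fppf_locP_lft S))
    (isLocalOnBase_sm_of_fpqc (Groth.Agent.S10526.result S))
    (fun _ _ _ hX hY hZ f g hf hg => smStable_lft.postcomp hX hY hZ f g hf hg)

/-- descent along one fppf surjective morphism on the source. -/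
theorem locP_of_precomp_fppf {P : MorphismProperty (AlgSp.Sp S)}
    (hsrc : AlgSp.IsLocalOnSource (AlgSp.IsFppfCover (S := S)) P)
    {X' X Y : AlgSp.Sp S} (hX' : AlgSp.IsAlgSpace X') (hX : AlgSp.IsAlgSpace X)
    (hY : AlgSp.IsAlgSpace Y) (a : X' ⟶ X) (g : X ⟶ Y) (ha : AlgSp.LocP @Flat a)
    (ha' : AlgSp.LocP @LocallyOfFinitePresentation a) (has : AlgSp.IsSurjectiveMor a)
    (h : P (a ≫ g)) : P g := by
  have hcov : AlgSp.IsFppfCover (S := S) (fun _ : PUnit.{u + 1} => X') (fun _ => a) :=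
    ⟨fun _ => ⟨ha, ha'⟩, fun x => ⟨PUnit.unit, has x⟩⟩
  exact (hsrc (fun _ : PUnit.{u + 1} => X') (fun _ => a) hX (fun _ => hX') hcov g hY).2
    (fun _ => h)

variable {𝒳 𝒴 𝒵 : AlgSt.Cat S}

set_option maxHeartbeats 1600000 in
/-- S13001 / S13007 in general form. -/
theorem locQ_of_comp_fppf {P : MorphismProperty (AlgSp.Sp S)}
    (hPst : AlgSp.IsSmoothLocalST P)
    (hPsrc : AlgSp.IsLocalOnSource (AlgSp.IsFppfCover (S := S)) P)
    (h𝒳 : IsAlgStack Scheme.fppfPrecoverage 𝒳)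
    (h𝒴 : IsAlgStack Scheme.fppfPrecoverage 𝒴) (h𝒵 : IsAlgStack Scheme.fppfPrecoverage 𝒵)
    (f : 𝒳 ⥤ᵇ 𝒴) (g : 𝒴 ⥤ᵇ 𝒵) (hf₁ : LocQ (AlgSp.LocP @Flat) f)
    (hf₂ : LocQ (AlgSp.LocP @LocallyOfFinitePresentation) f) (hf₃ : IsSurjective f)
    (hfg : LocQ P (BasedFunctor.comp f g)) : LocQ P g := by
  obtain ⟨W, z, hz, hzs⟩ := h𝒵.atlas
  have h𝒫 : IsAlgStack Scheme.fppfPrecoverage (fp z g) :=
    isAlgStack_fp h𝒵.isStack h𝒵.diag (isAlgStack_overCat W) h𝒴 z g
  obtain ⟨V, ug, hug, hugs⟩ := h𝒫.atlas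
  obtain ⟨k, ⟨θg⟩⟩ := exists_overMap_iso (BasedFunctor.comp ug (fpFst z g))
  obtain ⟨U, uf, h, θf, huf, hufs, hfl_h⟩ :=
    exists_good_chart (smStable_inf smStable_flat smStable_lfp) f
      (locQ_inf_flat_lfp h𝒳 h𝒴 f hf₁ hf₂) (BasedFunctor.comp ug (fpSnd z g))
  have hfU := isFibGrpd_overCat U
  have hfV := isFibGrpd_overCat V
  have hfW := isFibGrpd_overCat W
  have hfp1 : IsFibGrpd (fp (BasedFunctor.comp ug (fpSnd z g)) f).p :=
    Groth.Agent.S6401.result _ _ hfV h𝒳.isStack.1 h𝒴.isStack.1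
  have hfp2 : IsFibGrpd (fp (fpSnd z g) f).p :=
    Groth.Agent.S6401.result _ _ h𝒫.isStack.1 h𝒳.isStack.1 h𝒴.isStack.1
  have hfp3 : IsFibGrpd (fp ug (fpFst (fpSnd z g) f)).p :=
    Groth.Agent.S6401.result _ _ hfV hfp2 h𝒫.isStack.1
  -- the chart of `W ×_𝒵 𝒳`
  let m : fp (BasedFunctor.comp ug (fpSnd z g)) f ⥤ᵇ fp z (BasedFunctor.comp f g) :=
    BasedFunctor.comp (pasteL ug (fpSnd z g) f)
      (BasedFunctor.comp (fpSnd ug (fpFst (fpSnd z g) f)) (pasteRInv z g f))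
  have hm : RepByAlgSpWith (AlgSp.LocP @Smooth) m :=
    (repByAlgSpWith_equiv_comp _ (isEquivOver_pasteL ug (fpSnd z g) f) _).2
      ((repByAlgSpWith_comp_equiv _ _ (isEquivOver_pasteRInv z g f)).2
        (repByAlgSpWith_fpSnd ug (fpFst (fpSnd z g) f) hug))
  have hu' : RepByAlgSpWith (AlgSp.LocP @Smooth) (BasedFunctor.comp uf m) :=
    repByAlgSpWith_comp stableAlg_smooth compAlg_smooth descAtlas_smooth hfU hfp1 uf m huf hm
  have θ' : BasedFunctor.comp (BasedFunctor.comp uf m) (fpFst z (BasedFunctor.comp f g)) ≅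
      overMap (h ≫ k) := by
    have e1 : BasedFunctor.comp (fpSnd ug (fpFst (fpSnd z g) f)) (fpFst (fpSnd z g) f) ≅
        BasedFunctor.comp (fpFst ug (fpFst (fpSnd z g) f)) ug := (fpIso ug (fpFst (fpSnd z g) f)).symm
    have e2 : BasedFunctor.comp (BasedFunctor.comp uf m) (fpFst z (BasedFunctor.comp f g)) ≅
        BasedFunctor.comp (BasedFunctor.comp uf (fpFst (BasedFunctor.comp ug (fpSnd z g)) f))
          (BasedFunctor.comp ug (fpFst z g)) :=
      whiskerLeftIso (BasedFunctor.comp uf (pasteL ug (fpSnd z g) f)) (whiskerRightIso e1 (fpFst z g))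
    have e3 : BasedFunctor.comp (BasedFunctor.comp uf (fpFst (BasedFunctor.comp ug (fpSnd z g)) f))
          (BasedFunctor.comp ug (fpFst z g)) ≅ BasedFunctor.comp (overMap h) (overMap k) :=
      whiskerRightIso θf _ ≪≫ whiskerLeftIso (overMap h) θg
    exact e2 ≪≫ e3 ≪≫ overMapComp h k
  have hP_hk : P ((AlgSp.yon S).map (h ≫ k)) :=
    of_good_chart hPst h𝒳.isStack.1 h𝒵.isStack.1 (BasedFunctor.comp f g) hfg z hz
      (BasedFunctor.comp uf m) hu' (h ≫ k) θ'
  -- `h` is surjective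
  have hsurj : AlgSp.IsSurjectiveMor ((AlgSp.yon S).map h) := by
    apply isSurjectiveMor_yon_map_of_surjective
    apply surjective_left_of_isSurjective_overMap
    refine isSurjective_of_iso θf (isSurjective_comp _ _ ?_ ?_)
    · exact isSurjective_of_repByAlgSpWith hfp1 uf hufs
    · exact isSurjective_fpFst h𝒳.isStack.1 h𝒴.isStack.1 hfV f _ hf₃
  have hP_k : P ((AlgSp.yon S).map k) := by
    refine locP_of_precomp_fppf hPsrc (AlgSp.IsAlgSpace.yon_obj U)
      (AlgSp.IsAlgSpace.yon_obj V) (AlgSp.IsAlgSpace.yon_obj W) ((AlgSp.yon S).map h)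
      ((AlgSp.yon S).map k) hfl_h.1 hfl_h.2 hsurj ?_
    rw [← Functor.map_comp]
    exact hP_hk
  exact locQ_of_chart h𝒴.isStack.1 h𝒵.isStack.1 g z hz hzs ug hug hugs k θg hP_k

end Groth.Agent.Helper19.LocQGen
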