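import Mathlib
import Groth.Agent.Lib.Helper19.AlgP
import Groth.Agent.Lib.Helper15.AlgSpBasic

/-!
# Monomorphisms of sheaves descend along locally surjective maps; monomorphisms of algebraic stacks compose (helper19)
-/

set_option autoImplicit false

universe u

open CategoryTheory CategoryTheory.Limits AlgebraicGeometry Opposite

namespace Groth.Agent.Helper19.MonoDesc

open AlgSp Groth.Agent.Helper15 Groth.Agent.Helper19.AlgP

variable {S : Scheme.{u}}

theorem mono_of_mono_pullback_snd {X Y V : Sp S} (f : X ⟶ Y) (q : V ⟶ Y)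
    [Sheaf.IsLocallySurjective q] (h : Mono (pullback.snd f q)) : Mono f := by
  apply mono_of_yon
  intro T a b hab
  apply yonEquiv.injective
  have hX := (isSheaf_iff_isSheaf_of_type _ _).1 X.property
  have hcov := Presheaf.imageSieve_mem (J S) q.hom (yonEquiv (a ≫ f))
  apply (hX _ hcov).isSeparatedFor.ext
  intro T' k hk
  obtain ⟨v, hv⟩ := hk
  let τ : (yon S).obj T' ⟶ V := yonEquiv.symm v
  have hτ : τ ≫ q = (yon S).map k ≫ a ≫ f := by
    apply yonEquiv.injective
    rw [GrothendieckTopology.uliftYonedaEquiv_comp, Equiv.apply_symm_apply,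
      ← GrothendieckTopology.uliftYonedaEquiv_naturality]
    exact hv
  have hτ' : τ ≫ q = (yon S).map k ≫ b ≫ f := by rw [hτ, hab]
  have h1 : ((yon S).map k ≫ a) ≫ f = τ ≫ q := by rw [Category.assoc, hτ]
  have h2 : ((yon S).map k ≫ b) ≫ f = τ ≫ q := by rw [Category.assoc, hτ']
  have h3 : pullback.lift ((yon S).map k ≫ a) τ h1 = pullback.lift ((yon S).map k ≫ b) τ h2 := by
    rw [← cancel_mono (pullback.snd f q), pullback.lift_snd, pullback.lift_snd]
  have h4 : (yon S).map k ≫ a = (yon S).map k ≫ b := by
    have := congrArg (· ≫ pullback.fst f q) h3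
    dsimp only at this
    rwa [pullback.lift_fst, pullback.lift_fst] at this
  rw [GrothendieckTopology.uliftYonedaEquiv_naturality, GrothendieckTopology.uliftYonedaEquiv_naturality]
  exact congrArg yonEquiv h4

theorem stableAlg_mono : StableAlg (MorphismProperty.monomorphisms (Sp S)) := by
  intro X₁ Y₁ X₂ Y₂ _ _ _ _ a b a' b' sq ha
  have : Mono a := ha
  exact sq.mono_snd_of_mono

theorem compAlg_mono : CompAlg (MorphismProperty.monomorphisms (Sp S)) := by
  intro X Y Z _ _ _ a b ha hb
  have : Mono a := ha
  have : Mono b := hb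
  exact (inferInstance : Mono (a ≫ b))

theorem descAtlas_mono : DescAtlas (MorphismProperty.monomorphisms (Sp S)) := by
  intro X Y f _ _ U q hqe hqs _ hm
  have := isLocallySurjective_of_etale_surjective q hqe hqs
  exact mono_of_mono_pullback_snd f q hm

end Groth.Agent.Helper19.MonoDesc
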