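import Mathlib
import Groth.Prelude.Def_AlgSt
import Groth.Agent.Lib.Helper19.FibLib2
import Groth.Agent.Lib.Helper19.YonLib

set_option autoImplicit false
set_option backward.isDefEq.respectTransparency false

universe v u

open CategoryTheory CategoryTheory.Limits Functor Opposite

namespace Groth.Agent.Helper19.StkGlue

open FibCat Stk Groth.Agent.Helper19.FibLib

variable {C : Type u} [Category.{v} C] {𝒳 𝒴 : BasedCategory.{v, max u v} C}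

/-- local lifts of an object `y` along a sieve, through a fully faithful functor. -/
structure LocalLifts (F : 𝒳 ⥤ᵇ 𝒴) (y : 𝒴.obj) (R : Sieve (𝒴.p.obj y)) where
  /-- the lifts -/
  X : (sieveCat R).obj → 𝒳.obj
  /-- the comparison morphisms -/
  φ : ∀ a : (sieveCat R).obj, F.obj (X a) ⟶ y
  /-- lying over the arrows of the sieve -/
  lift : ∀ a : (sieveCat R).obj, 𝒴.p.IsHomLift a.obj.hom (φ a)

theorem LocalLifts.nonempty (F : 𝒳 ⥤ᵇ 𝒴) (y : 𝒴.obj) (R : Sieve (𝒴.p.obj y))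
    (h : ∀ ⦃V : C⦄ (f : V ⟶ 𝒴.p.obj y), R f → ∃ (x : 𝒳.obj) (φ : F.obj x ⟶ y), 𝒴.p.IsHomLift f φ) :
    Nonempty (LocalLifts F y R) := by
  choose X φ hφ using fun a : (sieveCat R).obj => h a.obj.hom a.property
  exact ⟨⟨X, φ, hφ⟩⟩

namespace LocalLifts

variable {F : 𝒳 ⥤ᵇ 𝒴} {y : 𝒴.obj} {R : Sieve (𝒴.p.obj y)} (L : LocalLifts F y R)
  (h𝒴 : IsFibGrpd 𝒴.p)

include h𝒴 in
/-- the transition morphisms in `𝒴`. -/
theorem exists_trans {a b : (sieveCat R).obj} (h : a ⟶ b) :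
    ∃! χ : F.obj (L.X a) ⟶ F.obj (L.X b), 𝒴.p.IsHomLift h.hom.left χ ∧ χ ≫ L.φ b = L.φ a := by
  have := L.lift a
  have := L.lift b
  exact existsUnique_fac h𝒴 b.obj.hom (L.φ b) h.hom.left a.obj.hom (Over.w h.hom).symm (L.φ a)

/-- the transition morphism -/
noncomputable def trans {a b : (sieveCat R).obj} (h : a ⟶ b) : F.obj (L.X a) ⟶ F.obj (L.X b) :=
  (L.exists_trans h𝒴 h).exists.choose

theorem trans_lift {a b : (sieveCat R).obj} (h : a ⟶ b) : 𝒴.p.IsHomLift h.hom.left (L.trans h𝒴 h) :=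
  (L.exists_trans h𝒴 h).exists.choose_spec.1

theorem trans_comp {a b : (sieveCat R).obj} (h : a ⟶ b) : L.trans h𝒴 h ≫ L.φ b = L.φ a :=
  (L.exists_trans h𝒴 h).exists.choose_spec.2

theorem trans_unique {a b : (sieveCat R).obj} (h : a ⟶ b) (χ : F.obj (L.X a) ⟶ F.obj (L.X b))
    (h1 : 𝒴.p.IsHomLift h.hom.left χ) (h2 : χ ≫ L.φ b = L.φ a) : χ = L.trans h𝒴 h :=
  (L.exists_trans h𝒴 h).unique ⟨h1, h2⟩ ⟨L.trans_lift h𝒴 h, L.trans_comp h𝒴 h⟩

theorem trans_id (a : (sieveCat R).obj) : L.trans h𝒴 (𝟙 a) = 𝟙 _ := by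
  symm
  apply L.trans_unique
  · have h1 : 𝒴.p.obj (F.obj (L.X a)) = a.obj.left := by
      have := L.lift a
      exact IsHomLift.domain_eq 𝒴.p a.obj.hom (L.φ a)
    have : (𝟙 a : a ⟶ a).hom.left = 𝟙 a.obj.left := rfl
    rw [this, ← h1]
    infer_instance
  · simp

theorem trans_comp' {a b c : (sieveCat R).obj} (h : a ⟶ b) (k : b ⟶ c) :
    L.trans h𝒴 (h ≫ k) = L.trans h𝒴 h ≫ L.trans h𝒴 k := by
  symm
  apply L.trans_unique
  · have := L.trans_lift h𝒴 h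
    have := L.trans_lift h𝒴 k
    have e : (h ≫ k).hom.left = h.hom.left ≫ k.hom.left := rfl
    rw [e]
    infer_instance
  · rw [Category.assoc, L.trans_comp, L.trans_comp]

variable [F.toFunctor.Full] [F.toFunctor.Faithful]

/-- the glued functor on the sieve -/
noncomputable def functor₀ : (sieveCat R).obj ⥤ 𝒳.obj where
  obj := L.X
  map h := F.toFunctor.preimage (L.trans h𝒴 h)
  map_id a := by
    apply F.toFunctor.map_injective
    rw [F.toFunctor.map_preimage, L.trans_id h𝒴]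
    simp
  map_comp h k := by
    apply F.toFunctor.map_injective
    rw [F.toFunctor.map_preimage, L.trans_comp' h𝒴]
    simp

theorem map_functor₀ {a b : (sieveCat R).obj} (h : a ⟶ b) :
    F.map ((L.functor₀ h𝒴).map h) = L.trans h𝒴 h := F.toFunctor.map_preimage _

/-- the glued based functor on the sieve -/
noncomputable def functor : sieveCat R ⥤ᵇ 𝒳 :=
  mkBased (L.functor₀ h𝒴)
    (fun a => by
      have := L.lift a
      rw [← F.w_obj]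
      exact IsHomLift.domain_eq 𝒴.p a.obj.hom (L.φ a))
    (fun {a b} h => by
      rw [← BasedFunctor.isHomLift_iff F]
      rw [L.map_functor₀ h𝒴 h]
      exact L.trans_lift h𝒴 h)

section compare

variable (Y : overCat (𝒴.p.obj y) ⥤ᵇ 𝒴) (θ : Y.obj (Over.mk (𝟙 (𝒴.p.obj y))) ≅ y)
  (hθ : 𝒴.p.IsHomLift (𝟙 (𝒴.p.obj y)) θ.hom)

/-- the structure morphism `Y(a) ⟶ y`. -/
def toY (a : (sieveCat R).obj) : Y.obj a.obj ⟶ y :=
  Y.map (Over.homMk a.obj.hom (by simp) : a.obj ⟶ Over.mk (𝟙 (𝒴.p.obj y))) ≫ θ.hom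

include hθ in
theorem toY_lift (a : (sieveCat R).obj) : 𝒴.p.IsHomLift a.obj.hom (toY Y θ a) := by
  have h0 : (overCat (𝒴.p.obj y)).p.IsHomLift a.obj.hom
      (Over.homMk a.obj.hom (by simp) : a.obj ⟶ Over.mk (𝟙 (𝒴.p.obj y))) :=
    IsHomLift.map (overCat (𝒴.p.obj y)).p
      (Over.homMk a.obj.hom (by simp) : a.obj ⟶ Over.mk (𝟙 (𝒴.p.obj y)))
  have h1 : 𝒴.p.IsHomLift a.obj.hom
      (Y.map (Over.homMk a.obj.hom (by simp) : a.obj ⟶ Over.mk (𝟙 (𝒴.p.obj y)))) :=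
    inferInstance
  have h2 : 𝒴.p.IsHomLift (a.obj.hom ≫ 𝟙 (𝒴.p.obj y)) (toY Y θ a) := by
    unfold toY
    infer_instance
  simpa using h2

theorem toY_nat {a b : (sieveCat R).obj} (h : a ⟶ b) : Y.map h.hom ≫ toY Y θ b = toY Y θ a := by
  unfold toY
  rw [← Category.assoc, ← Y.map_comp]
  congr 2
  apply Over.OverMorphism.ext
  exact Over.w h.hom

end compare

section compare2

variable (Y : overCat (𝒴.p.obj y) ⥤ᵇ 𝒴) (θ : Y.obj (Over.mk (𝟙 (𝒴.p.obj y))) ≅ y)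
  (hθ : 𝒴.p.IsHomLift (𝟙 (𝒴.p.obj y)) θ.hom)

include h𝒴 hθ in
theorem exists_eps (a : (sieveCat R).obj) :
    ∃! χ : F.obj (L.X a) ⟶ Y.obj a.obj, 𝒴.p.IsHomLift (𝟙 a.obj.left) χ ∧ χ ≫ toY Y θ a = L.φ a := by
  have := toY_lift Y θ hθ a
  have := L.lift a
  exact existsUnique_fac h𝒴 a.obj.hom (toY Y θ a) (𝟙 _) a.obj.hom (Category.id_comp _).symm (L.φ a)

/-- the comparison morphism -/
noncomputable def epsHom (a : (sieveCat R).obj) : F.obj (L.X a) ⟶ Y.obj a.obj :=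
  (L.exists_eps h𝒴 Y θ hθ a).exists.choose

theorem epsHom_lift (a : (sieveCat R).obj) : 𝒴.p.IsHomLift (𝟙 a.obj.left) (L.epsHom h𝒴 Y θ hθ a) :=
  (L.exists_eps h𝒴 Y θ hθ a).exists.choose_spec.1

theorem epsHom_comp (a : (sieveCat R).obj) : L.epsHom h𝒴 Y θ hθ a ≫ toY Y θ a = L.φ a :=
  (L.exists_eps h𝒴 Y θ hθ a).exists.choose_spec.2

theorem isIso_epsHom (a : (sieveCat R).obj) : IsIso (L.epsHom h𝒴 Y θ hθ a) := by
  have := L.epsHom_lift h𝒴 Y θ hθ a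
  exact isIso_of_isHomLift h𝒴 (𝟙 a.obj.left) _

/-- the comparison isomorphism of functors on the sieve -/
noncomputable def compIso :
    BasedFunctor.comp (L.functor h𝒴) F ≅ BasedFunctor.comp (sieveIncl R) Y :=
  mkIso (fun a => @asIso _ _ _ _ (L.epsHom h𝒴 Y θ hθ a) (L.isIso_epsHom h𝒴 Y θ hθ a))
    (fun {a b} h => by
      have i1 := L.trans_lift h𝒴 h
      have i2 := L.epsHom_lift h𝒴 Y θ hθ a
      have i3 := L.epsHom_lift h𝒴 Y θ hθ b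
      have i4 := toY_lift Y θ hθ b
      have i5 : 𝒴.p.IsHomLift h.hom.left (Y.map h.hom) := by
        have h0 : (overCat (𝒴.p.obj y)).p.IsHomLift h.hom.left h.hom :=
          IsHomLift.map (overCat (𝒴.p.obj y)).p h.hom
        infer_instance
      change F.map ((L.functor₀ h𝒴).map h) ≫ L.epsHom h𝒴 Y θ hθ b = L.epsHom h𝒴 Y θ hθ a ≫ Y.map h.hom
      rw [L.map_functor₀ h𝒴 h]
      have j1 : 𝒴.p.IsHomLift h.hom.left (L.trans h𝒴 h ≫ L.epsHom h𝒴 Y θ hθ b) := by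
        have : 𝒴.p.IsHomLift (h.hom.left ≫ 𝟙 b.obj.left) (L.trans h𝒴 h ≫ L.epsHom h𝒴 Y θ hθ b) :=
          inferInstance
        simpa using this
      have j2 : 𝒴.p.IsHomLift h.hom.left (L.epsHom h𝒴 Y θ hθ a ≫ Y.map h.hom) := by
        have : 𝒴.p.IsHomLift (𝟙 a.obj.left ≫ h.hom.left) (L.epsHom h𝒴 Y θ hθ a ≫ Y.map h.hom) :=
          inferInstance
        simpa using this
      apply hom_ext_of_comp_eq h𝒴 b.obj.hom (toY Y θ b) h.hom.left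
      rw [Category.assoc, Category.assoc, L.epsHom_comp, L.trans_comp, toY_nat, L.epsHom_comp])
    (fun a => L.epsHom_lift h𝒴 Y θ hθ a)

end compare2

end LocalLifts

/-- S12794 (⇐): a fully faithful, locally essentially surjective functor of stacks is essentially surjective on
fibres. -/
theorem exists_preimage_of_locally (J : GrothendieckTopology C) (h𝒳 : IsStack J 𝒳) (h𝒴 : IsStack J 𝒴)
    (F : 𝒳 ⥤ᵇ 𝒴) [F.toFunctor.Full] [F.toFunctor.Faithful] (y : 𝒴.obj) (R : Sieve (𝒴.p.obj y))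
    (hR : R ∈ J (𝒴.p.obj y))
    (h : ∀ ⦃V : C⦄ (f : V ⟶ 𝒴.p.obj y), R f → ∃ (x : 𝒳.obj) (φ : F.obj x ⟶ y), 𝒴.p.IsHomLift f φ) :
    ∃ (x : 𝒳.obj) (e : F.obj x ≅ y), 𝒴.p.IsHomLift (𝟙 (𝒴.p.obj y)) e.hom := by
  obtain ⟨L⟩ := LocalLifts.nonempty F y R h
  obtain ⟨Y, θ, hθ⟩ := Groth.Agent.Helper19.YonLib.exists_chart_of_obj h𝒴.1 y rfl
  have h1 : (resSieve R 𝒳).IsEquivalence := h𝒳.2 R hR
  have h2 : (resSieve R 𝒴).IsEquivalence := h𝒴.2 R hR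
  let X' : overCat (𝒴.p.obj y) ⥤ᵇ 𝒳 := (resSieve R 𝒳).objPreimage (L.functor h𝒴.1)
  let e1 : (resSieve R 𝒳).obj X' ≅ L.functor h𝒴.1 := (resSieve R 𝒳).objObjPreimageIso (L.functor h𝒴.1)
  let e2 : (resSieve R 𝒴).obj (BasedFunctor.comp X' F) ≅ (resSieve R 𝒴).obj Y :=
    whiskerRightIso e1 F ≪≫ L.compIso h𝒴.1 Y θ hθ
  let e3 : BasedFunctor.comp X' F ≅ Y := (resSieve R 𝒴).preimageIso e2
  refine ⟨X'.obj (Over.mk (𝟙 (𝒴.p.obj y))), appIso e3 (Over.mk (𝟙 (𝒴.p.obj y))) ≪≫ θ, ?_⟩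
  have i1 : 𝒴.p.IsHomLift (𝟙 (𝒴.p.obj y)) (e3.hom.toNatTrans.app (Over.mk (𝟙 (𝒴.p.obj y)))) :=
    e3.hom.isHomLift' (Over.mk (𝟙 (𝒴.p.obj y)))
  have i2 : 𝒴.p.IsHomLift (𝟙 (𝒴.p.obj y) ≫ 𝟙 (𝒴.p.obj y))
      (e3.hom.toNatTrans.app (Over.mk (𝟙 (𝒴.p.obj y))) ≫ θ.hom) := inferInstance
  simpa using i2

end Groth.Agent.Helper19.StkGlue
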