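import Mathlib
import Groth.Agent.Lib.Helper19.OpenSub2
import Groth.Agent.Lib.Helper19.LocQGen3
import Groth.Agent.Lib.Helper19.LocQNoeth
import Groth.Agent.Lib.Helper19.StkGlue

/-!
# Closed substacks of reduced algebraic stacks (helper19)
-/

set_option autoImplicit false
set_option backward.isDefEq.respectTransparency false

universe w₃ v₃ w' v' w v u

open CategoryTheory CategoryTheory.Limits Functor AlgebraicGeometry Opposite TopologicalSpace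

namespace Groth.Agent.Helper19.ClosedSub

open FibCat AlgSt Stk Groth.Agent.Helper19.FibLib Groth.Agent.Helper19.StLib Groth.Agent.Helper19.StPts
  Groth.Agent.Helper19.EssImg Groth.Agent.Helper19.ImmLib Groth.Agent.Helper19.PshSt
  Groth.Agent.Helper19.OpenSub Groth.Agent.Helper19.LocQGen
  Groth.Agent.Helper19.ChartOver

variable {S : Scheme.{u}} {𝒳 : AlgSt.Cat S}

/-- a chart from a reduced scheme all of whose points lie in a closed substack factors through it. -/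
theorem of_reduced_chart (h𝒳 : IsAlgStack Scheme.fppfPrecoverage 𝒳) (Q : 𝒳.obj → Prop)
    (hQ : IsClosedSubstack 𝒳 Q Scheme.fppfPrecoverage) {U : Over S} (hU : IsReduced U.left)
    (x : overCat U ⥤ᵇ 𝒳)
    (hx : ∀ t : U.left, Points.map x (chartPt U t) ∈ Set.range (Points.map (subIncl 𝒳 Q))) :
    Q (x.obj (Over.mk (𝟙 U))) := by
  obtain ⟨hcl, halg, himm⟩ := hQ
  obtain ⟨U', τ, e', he', ⟨η⟩, hτ⟩ :=
    exists_scheme_of_repOver_repWith @IsClosedImmersion (fpFst x (subIncl 𝒳 Q)) (himm _ x)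
  have hsurj : Function.Surjective τ.left := by
    intro t
    obtain ⟨z, hz⟩ := hx t
    obtain ⟨w, hw1, -⟩ := exists_points_fp_of_map_eq halg.isStack.1 h𝒳.isStack.1
      (isFibGrpd_overCat U) (subIncl 𝒳 Q) x (chartPt U t) z hz.symm
    obtain ⟨w', rfl⟩ := (mapHomeo e' he').surjective w
    obtain ⟨t', rfl⟩ := (chartPt U').surjective w'
    refine ⟨t', ?_⟩
    apply (chartPt U).injective
    rw [← hw1, mapHomeo_apply, ← StPts.map_comp, map_congr η, map_overMap_chartPt]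
  have : IsClosedImmersion τ.left := hτ
  have : Surjective τ.left := ⟨hsurj⟩
  have hiso : IsIso τ.left := isIso_of_isClosedImmersion_of_surjective τ.left
  let σ : U ⟶ U' := Over.homMk (inv τ.left) (by
    rw [IsIso.inv_comp_eq]
    exact (Over.w τ).symm)
  let a' : Over U' := Over.mk σ
  let e₀ : (overMap τ).obj a' ≅ Over.mk (𝟙 U) := Over.isoMk (Iso.refl _) (by
    apply Over.OverMorphism.ext
    simp [overMap, a', σ])
  let w := e'.obj a'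
  have e₁ : w.obj.fst ≅ (overMap τ).obj a' := appIso η a'
  exact hcl.of_iso (w.obj.iso.symm ≪≫ x.toFunctor.mapIso (e₁ ≪≫ e₀)) w.obj.snd.property


/-- a property cutting out a substack which holds locally (on a covering sieve) holds. -/
theorem of_locally (h𝒳 : IsStack (QuotSh.J Scheme.fppfPrecoverage S) 𝒳) (Q : 𝒳.obj → Prop)
    (hcl : ObjectProperty.IsClosedUnderIsomorphisms Q)
    (hQ : IsStack (QuotSh.J Scheme.fppfPrecoverage S) (fullSub 𝒳 Q)) (y : 𝒳.obj)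
    (R : Sieve (𝒳.p.obj y)) (hR : R ∈ (QuotSh.J Scheme.fppfPrecoverage S) (𝒳.p.obj y))
    (h : ∀ ⦃V : Over S⦄ (f : V ⟶ 𝒳.p.obj y), R f → ∃ (y' : 𝒳.obj) (φ : y' ⟶ y), 𝒳.p.IsHomLift f φ ∧ Q y') :
    Q y := by
  obtain ⟨x, e, -⟩ := Groth.Agent.Helper19.StkGlue.exists_preimage_of_locally
    (QuotSh.J Scheme.fppfPrecoverage S) hQ h𝒳 (subIncl 𝒳 Q) y R hR (by
      intro V f hf
      obtain ⟨y', φ, hφ, hy'⟩ := h f hf
      exact ⟨⟨y', hy'⟩, φ, hφ⟩)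
  exact hcl.of_iso e x.property

/-- every object is, locally for the fppf topology, a pullback of the atlas. -/
theorem exists_sieve_atlas {𝒴 : AlgSt.Cat S} (h𝒴 : IsAlgStack Scheme.fppfPrecoverage 𝒴) {Y₀ : Over S}
    (p : overCat Y₀ ⥤ᵇ 𝒴) (hp : RepByAlgSpWith (AlgSp.LocP @Smooth) p)
    (hps : RepByAlgSpWith AlgSp.IsSurjectiveMor p) (y : 𝒴.obj) :
    ∃ R ∈ (QuotSh.J Scheme.fppfPrecoverage S) (𝒴.p.obj y),
      ∀ ⦃V : Over S⦄ (f : V ⟶ 𝒴.p.obj y), R f →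
        ∃ (a : Over Y₀) (φ : p.obj a ⟶ y), 𝒴.p.IsHomLift f φ := by
  obtain ⟨x, θ, hθ⟩ := Groth.Agent.Helper19.YonLib.exists_chart_of_obj h𝒴.isStack.1 y rfl
  have h1 : LocQ (AlgSp.LocP @Flat) p := locQ_of_repByAlgSpWith' smStable_flat h𝒴 p
    (Groth.Agent.Helper19.CancelLib.repByAlgSpWith_mono
      (fun _ _ _ h => Groth.Agent.Helper15.locP_mono Groth.Agent.Helper16.AS.smooth_le_flat h) hp)
  have h2 : LocQ (AlgSp.LocP @LocallyOfFinitePresentation) p := locQ_of_repByAlgSpWith' smStable_lfp h𝒴 p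
    (Groth.Agent.Helper19.CancelLib.repByAlgSpWith_mono
      (fun _ _ _ h => Groth.Agent.Helper15.locP_mono Groth.Agent.Helper16.AS.smooth_le_lfp h) hp)
  have h3 : IsSurjective p := isSurjective_of_repByAlgSpWith h𝒴.isStack.1 p hps
  obtain ⟨R, hR, hlift⟩ := exists_sieve_lift (isAlgStack_overCat Y₀) h𝒴 p h1 h2 h3 (𝒴.p.obj y) x
  refine ⟨R, hR, ?_⟩
  intro V f hf
  obtain ⟨z', ⟨η⟩⟩ := hlift f hf
  let c : Over.mk f ⟶ Over.mk (𝟙 (𝒴.p.obj y)) := Over.homMk f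
  refine ⟨z'.obj (Over.mk (𝟙 V)), (appIso η (Over.mk (𝟙 V))).hom ≫ x.map (c : (overMap f).obj (Over.mk (𝟙 V)) ⟶ _) ≫ θ.hom, ?_⟩
  have i1 : 𝒴.p.IsHomLift (𝟙 V) (appIso η (Over.mk (𝟙 V))).hom := η.hom.isHomLift' (Over.mk (𝟙 V))
  have i0 : (overCat (𝒴.p.obj y)).p.IsHomLift f (c : (overMap f).obj (Over.mk (𝟙 V)) ⟶ _) :=
    IsHomLift.map (overCat (𝒴.p.obj y)).p (c : (overMap f).obj (Over.mk (𝟙 V)) ⟶ _)
  have i2 : 𝒴.p.IsHomLift f (x.map (c : (overMap f).obj (Over.mk (𝟙 V)) ⟶ _)) := inferInstance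
  have i3 : 𝒴.p.IsHomLift (𝟙 V ≫ f ≫ 𝟙 (𝒴.p.obj y))
      ((appIso η (Over.mk (𝟙 V))).hom ≫ x.map (c : (overMap f).obj (Over.mk (𝟙 V)) ⟶ _) ≫ θ.hom) :=
    inferInstance
  simpa using i3


theorem of_locally' (h𝒳 : IsStack (QuotSh.J Scheme.fppfPrecoverage S) 𝒳) (Q : 𝒳.obj → Prop)
    (hcl : ObjectProperty.IsClosedUnderIsomorphisms Q)
    (hQ : IsStack (QuotSh.J Scheme.fppfPrecoverage S) (fullSub 𝒳 Q)) (y : 𝒳.obj)
    (U : Over S) (hU : 𝒳.p.obj y = U)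
    (R : Sieve U) (hR : R ∈ (QuotSh.J Scheme.fppfPrecoverage S) U)
    (h : ∀ ⦃V : Over S⦄ (f : V ⟶ U), R f → ∃ (y' : 𝒳.obj) (φ : y' ⟶ y), 𝒳.p.IsHomLift f φ ∧ Q y') :
    Q y := by
  subst hU
  exact of_locally h𝒳 Q hcl hQ y R hR h

/-- S12866 (⇐): a morphism from a reduced algebraic stack whose image on points lies in a closed substack factors
through it. -/
theorem of_points_subset {𝒴 : AlgSt.Cat S} (h𝒳 : IsAlgStack Scheme.fppfPrecoverage 𝒳)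
    (h𝒴 : IsAlgStack Scheme.fppfPrecoverage 𝒴) (hred : SmoothLocally (fun X => IsReduced X) 𝒴)
    (Q : 𝒳.obj → Prop) (hQ : IsClosedSubstack 𝒳 Q Scheme.fppfPrecoverage) (f : 𝒴 ⥤ᵇ 𝒳)
    (hsub : Set.range (Points.map f) ⊆ Set.range (Points.map (subIncl 𝒳 Q))) (y : 𝒴.obj) :
    Q (f.obj y) := by
  obtain ⟨Y₀, p, hp, hps⟩ := h𝒴.atlas
  have hY₀ : IsReduced Y₀.left := hred Y₀ p hp
  have hA : Q ((BasedFunctor.comp p f).obj (Over.mk (𝟙 Y₀))) :=
    of_reduced_chart h𝒳 Q hQ hY₀ (BasedFunctor.comp p f) (fun t => hsub ⟨Points.map p (chartPt Y₀ t), by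
      rw [StPts.map_comp]⟩)
  have hall : ∀ a : Over Y₀, Q (f.obj (p.obj a)) := fun a =>
    of_hom_of_isFibGrpd h𝒳.isStack.1 Q hQ.1 hQ.2.1.isStack.1
      (f.map (p.map (Over.homMk a.hom : a ⟶ Over.mk (𝟙 Y₀)))) hA
  obtain ⟨R, hR, hl⟩ := exists_sieve_atlas h𝒴 p hp hps y
  refine of_locally' h𝒳.isStack Q hQ.1 hQ.2.1.isStack (f.obj y) (𝒴.p.obj y) (f.w_obj y) R hR ?_
  intro V g hg
  obtain ⟨a, φ, hφ⟩ := hl g hg
  exact ⟨f.obj (p.obj a), f.map φ, inferInstance, hall a⟩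

/-- S12865. -/
theorem of_points_eq_univ (h𝒳 : IsAlgStack Scheme.fppfPrecoverage 𝒳)
    (hred : SmoothLocally (fun X => IsReduced X) 𝒳)
    (Q : 𝒳.obj → Prop) (hQ : IsClosedSubstack 𝒳 Q Scheme.fppfPrecoverage)
    (hpts : Set.range (Points.map (subIncl 𝒳 Q)) = Set.univ) (y : 𝒳.obj) : Q y :=
  of_points_subset h𝒳 h𝒳 hred Q hQ (BasedFunctor.id 𝒳) (by rw [hpts]; exact Set.subset_univ _) y

end Groth.Agent.Helper19.ClosedSub
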