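import Mathlib
import Groth.Prelude.Def_HTop

set_option autoImplicit false
universe w u
open CategoryTheory Limits AlgebraicGeometry Opposite

namespace Groth.Agent.Lib.Helper19.PhSheaf

/-- A jointly surjective family of open immersions generates a Zariski covering sieve. -/
lemma ofArrows_mem_zariski {X : Scheme.{u}} {ι : Type*} (Y : ι → Scheme.{u}) (f : ∀ i, Y i ⟶ X)
    (h1 : ∀ i, IsOpenImmersion (f i)) (h2 : ∀ x : X, ∃ i, x ∈ Set.range (f i)) :
    Sieve.generate (Presieve.ofArrows Y f) ∈ Scheme.zariskiTopology X := by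
  apply Precoverage.generate_mem_toGrothendieck
  rw [Scheme.ofArrows_mem_precoverage_iff]
  exact ⟨h2, h1⟩

theorem main (F : Scheme.{u}ᵒᵖ ⥤ Type w) (h₁ : Presieve.IsSheaf Scheme.zariskiTopology F)
    (h₂ : ∀ (U V : Scheme.{u}) (f : V ⟶ U), IsProper f → Surjective f →
      Presieve.IsSheafFor F (Presieve.singleton f)) : HTop.IsPhSheaf F := by
  let J := Sheaf.finestTopologySingle F
  have hZ : Scheme.zariskiTopology ≤ J := fun X S hS Y f =>
    h₁ _ (Scheme.zariskiTopology.pullback_stable f hS)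
  have hP : ∀ {U V : Scheme.{u}} (f : V ⟶ U), IsProper f → Surjective f →
      Sieve.generate (Presieve.singleton f) ∈ J U := by
    intro U V f hf hs Y g
    rw [← Sieve.pullbackArrows_comm, Presieve.pullback_singleton,
      ← Presieve.isSheafFor_iff_generate]
    exact h₂ _ _ _ inferInstance inferInstance
  intro X R hR
  rw [HTop.phPrecoverage, PreZeroHypercoverFamily.mem_precoverage_iff] at hR
  obtain ⟨E, hE, rfl⟩ := hR
  rw [Presieve.isSheafFor_iff_generate]
  suffices hmem : Sieve.generate E.presieve₀ ∈ J X by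
    have := hmem X (𝟙 X)
    rwa [Sieve.pullback_id] at this
  -- local on the affine opens of `X`
  have hcov : Sieve.generate (Presieve.ofArrows (fun U : X.affineOpens => ((U : X.Opens) : Scheme.{u}))
      (fun U => (U : X.Opens).ι)) ∈ J X := by
    apply hZ
    apply ofArrows_mem_zariski
    · intro U; infer_instance
    · intro x
      obtain ⟨_, ⟨U, hU, rfl⟩, hxU, -⟩ := X.isBasis_affineOpens.exists_subset_of_mem_open
        (Set.mem_univ x) isOpen_univ
      exact ⟨⟨U, hU⟩, ⟨⟨x, hxU⟩, rfl⟩⟩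
  refine J.transitive hcov _ ?_
  rintro Y a ⟨W, k, _, ⟨U⟩, rfl⟩
  rw [Sieve.pullback_comp]
  apply J.pullback_stable
  -- now on the affine open `U`
  obtain ⟨F', hF', href⟩ := hE.2 U
  obtain ⟨V, f, ι, hf, hs, hι, hιf, hcovV⟩ := hF'.exists_proper
  have hsub : Sieve.generate F'.presieve₀ ≤ (Sieve.generate E.presieve₀).pullback (U : X.Opens).ι := by
    rw [Sieve.generate_le_iff]
    rintro _ _ ⟨j⟩
    obtain ⟨i, h, hh⟩ := href j
    exact ⟨_, h, E.f i, ⟨i⟩, hh⟩
  refine J.superset_covering hsub ?_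
  refine J.transitive (hP f hf hs) _ ?_
  rintro Y' a' ⟨W', k', _, ⟨⟩, rfl⟩
  rw [Sieve.pullback_comp]
  apply J.pullback_stable
  have hsub' : Sieve.generate (Presieve.ofArrows F'.X ι) ≤ (Sieve.generate F'.presieve₀).pullback f := by
    rw [Sieve.generate_le_iff]
    rintro _ _ ⟨j⟩
    exact ⟨_, 𝟙 _, F'.f j, ⟨j⟩, by rw [Category.id_comp, hιf]⟩
  refine J.superset_covering hsub' ?_
  apply hZ
  exact ofArrows_mem_zariski _ _ hι hcovV

end Groth.Agent.Lib.Helper19.PhSheaf
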