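import Mathlib
import Groth.Agent.Lib.Helper19.PhSheaf

set_option autoImplicit false
universe v u
open CategoryTheory Limits AlgebraicGeometry Opposite

namespace Groth.Agent.Lib.Helper19.ClassTop

lemma ofArrows_mem_zariski_over {S : Scheme.{u}} {X : Over S} {ι : Type*} (Z : ι → Over S)
    (g : ∀ i, Z i ⟶ X) (h1 : ∀ i, IsOpenImmersion (g i).left)
    (h2 : ∀ x : X.left, ∃ i, x ∈ Set.range (g i).left) :
    Sieve.ofArrows Z g ∈ Scheme.zariskiTopology.over S X := by
  rw [GrothendieckTopology.mem_over_iff, Sieve.overEquiv_ofArrows]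
  exact PhSheaf.ofArrows_mem_zariski _ _ h1 h2

section

variable (S : Scheme.{u}) (C : MorphismProperty Scheme.{u}) [C.IsStableUnderBaseChange]
  (F : (Over S)ᵒᵖ ⥤ Type v)

lemma zariski_le (hZar : Presieve.IsSheaf (Scheme.zariskiTopology.over S) F) :
    Scheme.zariskiTopology.over S ≤ Sheaf.finestTopologySingle F :=
  fun _ _ hR _ f => hZar _ (GrothendieckTopology.pullback_stable _ f hR)

include C in
lemma singleton_mem
    (hC : ∀ (X X' : Over S) (f : X' ⟶ X), C f.left → Presieve.IsSheafFor F (Presieve.singleton f))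
    {X X' : Over S} (f : X' ⟶ X) (hf : C f.left) :
    Sieve.generate (Presieve.singleton f) ∈ Sheaf.finestTopologySingle F X := by
  intro Y g
  rw [← Sieve.pullbackArrows_comm, Presieve.pullback_singleton, ← Presieve.isSheafFor_iff_generate]
  apply hC
  have sq := (IsPullback.of_hasPullback f g).map (Over.forget S)
  exact C.of_isPullback sq hf

/-- finite families whose coproduct is in `C` generate covering sieves. -/
lemma ofArrows_mem (hZar : Presieve.IsSheaf (Scheme.zariskiTopology.over S) F)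
    (hC : ∀ (X X' : Over S) (f : X' ⟶ X), C f.left → Presieve.IsSheafFor F (Presieve.singleton f))
    {X : Over S} {κ : Type u} (V : κ → Over S) (ψ : ∀ j, V j ⟶ X)
    (h : C (Sigma.desc fun j => (ψ j).left)) :
    Sieve.ofArrows V ψ ∈ Sheaf.finestTopologySingle F X := by
  let J' := Sheaf.finestTopologySingle F
  let P : Over S := Over.mk (Sigma.desc (fun j => (ψ j).left) ≫ X.hom)
  let p : P ⟶ X := Over.homMk (Sigma.desc (fun j => (ψ j).left))
  let ιj : ∀ j, V j ⟶ P := fun j => Over.homMk (Sigma.ι (fun j => (V j).left) j) (by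
    change Sigma.ι (fun j => (V j).left) j ≫ Sigma.desc (fun j => (ψ j).left) ≫ X.hom = _
    rw [Sigma.ι_desc_assoc, Over.w])
  have hιp : ∀ j, ιj j ≫ p = ψ j := by
    intro j
    ext
    change Sigma.ι (fun j => (V j).left) j ≫ Sigma.desc (fun j => (ψ j).left) = _
    rw [Sigma.ι_desc]
  refine J'.transitive (singleton_mem S C F hC p h) _ ?_
  rintro Y a ⟨W, k, _, ⟨⟩, rfl⟩
  rw [Sieve.pullback_comp]
  apply J'.pullback_stable
  have hsub : Sieve.ofArrows V ιj ≤ (Sieve.ofArrows V ψ).pullback p := by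
    rw [Sieve.ofArrows, Sieve.generate_le_iff]
    rintro _ _ ⟨j⟩
    change (Sieve.ofArrows V ψ) (ιj j ≫ p)
    rw [hιp]
    exact Sieve.ofArrows_mk _ _ j
  refine J'.superset_covering hsub ?_
  apply zariski_le S F hZar
  apply ofArrows_mem_zariski_over
  · intro j
    change IsOpenImmersion (Sigma.ι (fun j => (V j).left) j)
    infer_instance
  · intro x
    obtain ⟨j, y, hy⟩ := (sigmaOpenCover (fun j => (V j).left)).exists_eq x
    exact ⟨j, y, hy⟩

end

end Groth.Agent.Lib.Helper19.ClassTop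

namespace Groth.Agent.Lib.Helper19.ClassTop

section Main

variable (S : Scheme.{u}) (C : MorphismProperty Scheme.{u}) [C.IsStableUnderBaseChange]
  (F : (Over S)ᵒᵖ ⥤ Type v)

/-- the covering data predicate of the statement -/
def HasData {S : Scheme.{u}} (C : MorphismProperty Scheme.{u}) (X : Over S) (R : Sieve X) : Prop :=
  ∃ (ι : Type u) (U : ι → X.left.Opens), (∀ i, IsAffineOpen (U i)) ∧ ⨆ i, U i = ⊤ ∧
    ∀ i, ∃ (κ : Type u) (_ : Finite κ) (V : κ → Over S) (φ : ∀ j, V j ⟶ X)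
      (ψ : ∀ j, (V j).left ⟶ (U i : Scheme.{u})),
      (∀ j, IsAffine (V j).left) ∧ (∀ j, R.arrows (φ j)) ∧ (∀ j, ψ j ≫ (U i).ι = (φ j).left) ∧
        C (Limits.Sigma.desc ψ)

theorem mem_of_hasData (hZar : Presieve.IsSheaf (Scheme.zariskiTopology.over S) F)
    (hC : ∀ (X X' : Over S) (f : X' ⟶ X), C f.left → Presieve.IsSheafFor F (Presieve.singleton f))
    {X : Over S} {R : Sieve X} (hR : HasData C X R) :
    R ∈ Sheaf.finestTopologySingle F X := by
  let J' := Sheaf.finestTopologySingle F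
  obtain ⟨ι, U, hU, hsup, hdata⟩ := hR
  let Ui : ι → Over S := fun i => Over.mk ((U i).ι ≫ X.hom)
  let ui : ∀ i, Ui i ⟶ X := fun i => Over.homMk (U i).ι
  have hcov : Sieve.ofArrows Ui ui ∈ J' X := by
    apply zariski_le S F hZar
    apply ofArrows_mem_zariski_over
    · intro i
      change IsOpenImmersion (U i).ι
      infer_instance
    · intro x
      have hx : x ∈ (⨆ i, U i : X.left.Opens) := by rw [hsup]; trivial
      obtain ⟨i, hi⟩ := TopologicalSpace.Opens.mem_iSup.mp hx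
      exact ⟨i, ⟨x, hi⟩, rfl⟩
  refine J'.transitive hcov _ ?_
  rintro Y a ⟨W, k, _, ⟨i⟩, rfl⟩
  rw [Sieve.pullback_comp]
  apply J'.pullback_stable
  obtain ⟨κ, _, V, φ, ψ, hV, hφ, hψ, hCψ⟩ := hdata i
  let ψ' : ∀ j, V j ⟶ Ui i := fun j => Over.homMk (ψ j) (by
    change ψ j ≫ (U i).ι ≫ X.hom = _
    rw [reassoc_of% (hψ j), Over.w])
  have hψ' : ∀ j, ψ' j ≫ ui i = φ j := by
    intro j
    ext
    exact hψ j
  have hsub : Sieve.ofArrows V ψ' ≤ R.pullback (ui i) := by
    rw [Sieve.ofArrows, Sieve.generate_le_iff]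
    rintro _ _ ⟨j⟩
    change R (ψ' j ≫ ui i)
    rw [hψ']
    exact hφ j
  refine J'.superset_covering hsub ?_
  exact ofArrows_mem S C F hZar hC V ψ' hCψ

theorem mpr (J : GrothendieckTopology (Over S))
    (hJ : ∀ (X : Over S) (R : Sieve X), R ∈ J X → HasData C X R)
    (hZar : Presieve.IsSheaf (Scheme.zariskiTopology.over S) F)
    (hC : ∀ (X X' : Over S) (f : X' ⟶ X), C f.left → Presieve.IsSheafFor F (Presieve.singleton f)) :
    Presieve.IsSheaf J F := by
  intro X R hR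
  have := mem_of_hasData S C F hZar hC (hJ X R hR) X (𝟙 X)
  rwa [Sieve.pullback_id] at this

end Main

end Groth.Agent.Lib.Helper19.ClassTop

namespace Groth.Agent.Lib.Helper19.ClassTop

section Mp

variable (S : Scheme.{u}) (C : MorphismProperty Scheme.{u}) [C.IsStableUnderBaseChange]

theorem zariski_hasData
    (haff : ∀ (U : Scheme.{u}) [IsAffine U] (κ : Type u) [Finite κ] (V : κ → U.Opens),
      (∀ j, IsAffineOpen (V j)) → ⨆ j, V j = ⊤ → C (Limits.Sigma.desc fun j => (V j).ι))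
    {X : Over S} {R : Sieve X} (hR : R ∈ Scheme.zariskiTopology.over S X) : HasData C X R := by
  rw [GrothendieckTopology.mem_over_iff] at hR
  obtain ⟨𝒰, hle⟩ := Scheme.exists_cover_of_mem_grothendieckTopology hR
  have hex : ∀ x : X.left, ∃ (a : 𝒰.I₀) (U : X.left.Opens), IsAffineOpen U ∧ x ∈ U ∧
      U ≤ (𝒰.f a).opensRange := by
    intro x
    obtain ⟨a, y, hy⟩ := 𝒰.exists_eq x
    haveI : IsOpenImmersion (𝒰.f a) := 𝒰.map_prop a
    obtain ⟨_, ⟨U, hU, rfl⟩, hxU, hUle⟩ := X.left.isBasis_affineOpens.exists_subset_of_mem_open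
      (show x ∈ ((𝒰.f a).opensRange : Set X.left) from ⟨y, hy⟩) (𝒰.f a).opensRange.2
    exact ⟨a, U, hU, hxU, hUle⟩
  choose a U hU hxU hUle using hex
  refine ⟨X.left, U, hU, ?_, fun x => ?_⟩
  · rw [eq_top_iff]
    intro x _
    exact TopologicalSpace.Opens.mem_iSup.mpr ⟨x, hxU x⟩
  · haveI : IsAffine (U x) := hU x
    haveI : IsOpenImmersion (𝒰.f (a x)) := 𝒰.map_prop (a x)
    let g : ((⊤ : (U x).toScheme.Opens) : Scheme.{u}) ⟶ X.left :=
      (⊤ : (U x).toScheme.Opens).ι ≫ (U x).ι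
    refine ⟨PUnit.{u+1}, inferInstance, fun _ => Over.mk (g ≫ X.hom), fun _ => Over.homMk g,
      fun _ => (⊤ : (U x).toScheme.Opens).ι, ?_, ?_, ?_, ?_⟩
    · intro _
      exact isAffineOpen_top (U x).toScheme
    · intro _
      rw [← Sieve.overEquiv_iff]
      have hrange : Set.range g ⊆ Set.range (𝒰.f (a x)) := by
        rintro _ ⟨z, rfl⟩
        exact hUle x (((⊤ : (U x).toScheme.Opens).ι z).2)
      rw [← IsOpenImmersion.lift_fac (𝒰.f (a x)) g hrange]
      exact Sieve.downward_closed _ (hle _ _ (Presieve.ofArrows.mk (a x))) _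
    · intro _
      rfl
    · exact haff (U x) PUnit.{u+1} (fun _ => ⊤) (fun _ => isAffineOpen_top _) (by simp)

theorem singleton_hasData
    (hqc : ∀ {A B : Scheme.{u}} (f : A ⟶ B), C f → QuasiCompact f)
    (hres : ∀ (W X' : Scheme.{u}) [IsAffine W] (f : X' ⟶ W), C f →
      ∀ (κ : Type u) [Finite κ] (A : κ → X'.Opens), (∀ l, IsAffineOpen (A l)) → ⨆ l, A l = ⊤ →
        C (Limits.Sigma.desc fun l => (A l).ι ≫ f))
    {X X' : Over S} (f : X' ⟶ X) (hf : C f.left) :
    HasData C X (Sieve.generate (Presieve.singleton f)) := by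
  refine ⟨X.left.affineOpens, fun U => U.1, fun U => U.2, iSup_affineOpens_eq_top X.left,
    fun U => ?_⟩
  haveI : IsAffine (U.1 : Scheme.{u}) := U.2
  have hCr : C (f.left ∣_ U.1) := C.of_isPullback (isPullback_morphismRestrict f.left U.1).flip hf
  haveI : QuasiCompact (f.left ∣_ U.1) := hqc _ hCr
  haveI : CompactSpace ((f.left ⁻¹ᵁ U.1 : X'.left.Opens) : Scheme.{u}) :=
    QuasiCompact.compactSpace_of_compactSpace (f.left ∣_ U.1)
  obtain ⟨s, hs, hs'⟩ := (isCompact_iff_finite_and_eq_biUnion_affineOpens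
    (U := (⊤ : ((f.left ⁻¹ᵁ U.1 : X'.left.Opens) : Scheme.{u}).Opens))).mp isCompact_univ
  haveI : Finite s := hs.to_subtype
  have hsup : ⨆ l : s, (l.1 : ((f.left ⁻¹ᵁ U.1 : X'.left.Opens) : Scheme.{u}).Opens) = ⊤ := by
    rw [hs', iSup_subtype']
  have hC' := hres (U.1 : Scheme.{u}) _ (f.left ∣_ U.1) hCr s (fun l => l.1.1) (fun l => l.1.2) hsup
  let g : ∀ l : s, ((l.1.1 : _) : Scheme.{u}) ⟶ X'.left := fun l =>
    (l.1.1).ι ≫ (f.left ⁻¹ᵁ U.1).ι
  refine ⟨s, inferInstance, fun l => Over.mk ((g l ≫ f.left) ≫ X.hom),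
    fun l => Over.homMk (g l ≫ f.left), fun l => (l.1.1).ι ≫ f.left ∣_ U.1, ?_, ?_, ?_, hC'⟩
  · intro l
    exact l.1.2
  · intro l
    refine ⟨X', Over.homMk (g l) ?_, f, Presieve.singleton.mk, ?_⟩
    · change g l ≫ X'.hom = (g l ≫ f.left) ≫ X.hom
      simp only [Category.assoc, Over.w]
    · ext
      rfl
  · intro l
    change ((l.1.1).ι ≫ f.left ∣_ U.1) ≫ U.1.ι = ((l.1.1).ι ≫ (f.left ⁻¹ᵁ U.1).ι) ≫ f.left
    rw [Category.assoc, Category.assoc, morphismRestrict_ι]

end Mp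

end Groth.Agent.Lib.Helper19.ClassTop
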