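import Mathlib
import Groth.Agent.Lib.Helper19.ClassTop

/-!
# The Grothendieck topology defined by affine-local finite covering data of a class of morphisms
-/

set_option autoImplicit false
universe v u
open CategoryTheory Limits AlgebraicGeometry Opposite

namespace Groth.Agent.Lib.Helper19.ClassTop

section

variable (C : MorphismProperty Scheme.{u}) [C.IsStableUnderComposition]
  [C.IsStableUnderBaseChange]

include C in
/-- composition of nested finite families in `C` -/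
lemma desc_comp_mem
    (hcoprod : ∀ (κ : Type u) [Finite κ] (A B : κ → Scheme.{u}) (f : ∀ j, A j ⟶ B j),
      (∀ j, C (f j)) → C (Limits.Sigma.map f))
    {κ : Type u} [Finite κ] {lam : κ → Type u} [∀ j, Finite (lam j)] {T : Scheme.{u}}
    (B : κ → Scheme.{u}) (g : ∀ j, B j ⟶ T) (A : ∀ j, lam j → Scheme.{u})
    (h : ∀ j l, A j l ⟶ B j) (hg : C (Limits.Sigma.desc g)) (hh : ∀ j, C (Limits.Sigma.desc (h j))) :
    C (Limits.Sigma.desc (fun p : Σ j, lam j => h p.1 p.2 ≫ g p.1)) := by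
  have e : Limits.Sigma.desc (fun p : Σ j, lam j => h p.1 p.2 ≫ g p.1) =
      (sigmaSigmaIso lam A).inv ≫ Limits.Sigma.map (fun j => Limits.Sigma.desc (h j)) ≫ Limits.Sigma.desc g := by
    apply Sigma.hom_ext
    rintro ⟨j, l⟩
    simp
  rw [e]
  rw [MorphismProperty.cancel_left_of_respectsIso C]
  exact C.comp_mem _ _ (hcoprod κ _ _ _ hh) hg

end

end Groth.Agent.Lib.Helper19.ClassTop

namespace Groth.Agent.Lib.Helper19.ClassTop

section

variable {S : Scheme.{u}} (C : MorphismProperty Scheme.{u}) [C.IsStableUnderComposition]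
  [C.IsStableUnderBaseChange]

lemma hasData_mono {X : Over S} {R R' : Sieve X} (h : HasData C X R) (hle : R ≤ R') :
    HasData C X R' := by
  obtain ⟨ι, U, hU, hsup, hdata⟩ := h
  refine ⟨ι, U, hU, hsup, fun i => ?_⟩
  obtain ⟨κ, hκ, V, φ, ψ, hV, hφ, hψ, hCψ⟩ := hdata i
  exact ⟨κ, hκ, V, φ, ψ, hV, fun j => hle _ (hφ j), hψ, hCψ⟩

/-- base change of a finite family in `C` -/
lemma desc_snd_mem {κ : Type u} [Finite κ] {U W : Scheme.{u}} (V : κ → Scheme.{u})
    (ψ : ∀ j, V j ⟶ U) (g : W ⟶ U) (h : C (Limits.Sigma.desc ψ)) :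
    C (Limits.Sigma.desc (fun p : κ × PUnit.{u + 1} => pullback.snd (ψ p.1) g)) := by
  have sq := FinitaryPreExtensive.isPullback_sigmaDesc (ι := κ) (ι' := PUnit.{u + 1}) ψ
    (fun _ => g)
  have h2 := C.of_isPullback sq h
  have e : Limits.Sigma.desc (fun p : κ × PUnit.{u + 1} => pullback.snd (ψ p.1) g) =
      Limits.Sigma.desc (fun p : κ × PUnit.{u + 1} => pullback.snd (ψ p.1) g ≫
        Limits.Sigma.ι (fun _ : PUnit.{u + 1} => W) p.2) ≫
        (coproductUniqueIso (fun _ : PUnit.{u + 1} => W)).hom := by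
    apply Limits.Sigma.hom_ext
    rintro ⟨j, _⟩
    simp
  rw [e, MorphismProperty.cancel_right_of_respectsIso C]
  exact h2

theorem hasData_pullback {X Y : Over S} {R : Sieve X} (h : HasData C X R) (f : Y ⟶ X) :
    HasData C Y (R.pullback f) := by
  obtain ⟨ι, U, hU, hsup, hdata⟩ := h
  refine ⟨Σ i : ι, {W : Y.left.affineOpens // W.1 ≤ f.left ⁻¹ᵁ U i}, fun p => p.2.1.1,
    fun p => p.2.1.2, ?_, ?_⟩
  · rw [eq_top_iff]
    intro y _
    have hy : f.left y ∈ (⨆ i, U i : X.left.Opens) := by rw [hsup]; trivial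
    obtain ⟨i, hi⟩ := TopologicalSpace.Opens.mem_iSup.mp hy
    obtain ⟨_, ⟨W, hW, rfl⟩, hyW, hWle⟩ := Y.left.isBasis_affineOpens.exists_subset_of_mem_open
      (show y ∈ ((f.left ⁻¹ᵁ U i : Y.left.Opens) : Set Y.left) from hi) (f.left ⁻¹ᵁ U i).2
    exact TopologicalSpace.Opens.mem_iSup.mpr ⟨⟨i, ⟨⟨W, hW⟩, hWle⟩⟩, hyW⟩
  · rintro ⟨i, ⟨W, hW⟩⟩
    obtain ⟨κ, hκ, V, φ, ψ, hV, hφ, hψ, hCψ⟩ := hdata i
    haveI : IsAffine (W.1 : Scheme.{u}) := W.2
    haveI : IsAffine (U i : Scheme.{u}) := hU i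
    haveI : ∀ j, IsAffine (V j).left := hV
    let gW : (W.1 : Scheme.{u}) ⟶ (U i : Scheme.{u}) := f.left.resLE (U i) W.1 hW
    have hgW : gW ≫ (U i).ι = W.1.ι ≫ f.left := Scheme.Hom.resLE_comp_ι _ _
    have hVhom : ∀ j, (V j).hom = ψ j ≫ (U i).ι ≫ X.hom := by
      intro j
      rw [reassoc_of% (hψ j), Over.w]
    let V' : κ × PUnit.{u + 1} → Over S := fun p =>
      Over.mk (pullback.snd (ψ p.1) gW ≫ W.1.ι ≫ Y.hom)
    let φ' : ∀ p, V' p ⟶ Y := fun p => Over.homMk (pullback.snd (ψ p.1) gW ≫ W.1.ι) (by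
      simp [V'])
    have hw : ∀ p : κ × PUnit.{u + 1}, pullback.fst (ψ p.1) gW ≫ (V p.1).hom = (V' p).hom := by
      intro p
      change _ = pullback.snd (ψ p.1) gW ≫ W.1.ι ≫ Y.hom
      rw [hVhom, pullback.condition_assoc, reassoc_of% hgW, Over.w]
    let fst' : ∀ p, V' p ⟶ V p.1 := fun p => Over.homMk (pullback.fst (ψ p.1) gW) (hw p)
    have hcomm : ∀ p, φ' p ≫ f = fst' p ≫ φ p.1 := by
      intro p
      ext
      change (pullback.snd (ψ p.1) gW ≫ W.1.ι) ≫ f.left = pullback.fst (ψ p.1) gW ≫ (φ p.1).left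
      rw [Category.assoc, ← hgW, ← pullback.condition_assoc, hψ]
    refine ⟨κ × PUnit.{u + 1}, inferInstance, V', φ', fun p => pullback.snd (ψ p.1) gW, ?_, ?_, ?_,
      desc_snd_mem C (fun j => (V j).left) ψ gW hCψ⟩
    · intro p
      change IsAffine (pullback (ψ p.1) gW)
      infer_instance
    · intro p
      change R (φ' p ≫ f)
      rw [hcomm]
      exact R.downward_closed (hφ p.1) _
    · intro p
      rfl

end

end Groth.Agent.Lib.Helper19.ClassTop

namespace Groth.Agent.Lib.Helper19.ClassTop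

section

variable {S : Scheme.{u}} (C : MorphismProperty Scheme.{u}) [C.IsStableUnderComposition]
  [C.IsStableUnderBaseChange]

/-- local finite data over an affine `S`-scheme, extracted from `HasData`. -/
lemma exists_finite_data_of_hasData
    (hcoprod : ∀ (κ : Type u) [Finite κ] (A B : κ → Scheme.{u}) (f : ∀ j, A j ⟶ B j),
      (∀ j, C (f j)) → C (Limits.Sigma.map f))
    (haff : ∀ (U : Scheme.{u}) [IsAffine U] (κ : Type u) [Finite κ] (V : κ → U.Opens),
      (∀ j, IsAffineOpen (V j)) → ⨆ j, V j = ⊤ → C (Limits.Sigma.desc fun j => (V j).ι))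
    {A : Over S} [IsAffine A.left] {R : Sieve A} (h : HasData C A R) :
    ∃ (κ : Type u) (_ : Finite κ) (V : κ → Over S) (φ : ∀ j, V j ⟶ A),
      (∀ j, IsAffine (V j).left) ∧ (∀ j, R.arrows (φ j)) ∧
        C (Limits.Sigma.desc fun j => (φ j).left) := by
  obtain ⟨ι, U, hU, hsup, hdata⟩ := h
  choose κ hκ V φ ψ hV hφ hψ hCψ using hdata
  have hcov : (Set.univ : Set A.left) ⊆ ⋃ i, (U i : Set A.left) := by
    intro x _
    have hx : x ∈ (⨆ i, U i : A.left.Opens) := by rw [hsup]; trivial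
    obtain ⟨i, hi⟩ := TopologicalSpace.Opens.mem_iSup.mp hx
    exact Set.mem_iUnion.mpr ⟨i, hi⟩
  obtain ⟨t, ht⟩ := isCompact_univ.elim_finite_subcover (fun i => (U i : Set A.left))
    (fun i => (U i).2) hcov
  have hsup' : ⨆ k : t, U k.1 = ⊤ := by
    rw [eq_top_iff]
    intro x _
    have := ht (Set.mem_univ x)
    simp only [Set.mem_iUnion] at this
    obtain ⟨i, hi, hx⟩ := this
    exact TopologicalSpace.Opens.mem_iSup.mpr ⟨⟨i, hi⟩, hx⟩
  have h1 : C (Limits.Sigma.desc fun k : t => (U k.1).ι) :=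
    haff A.left t (fun k => U k.1) (fun k => hU k.1) hsup'
  haveI : ∀ k : t, Finite (κ k.1) := fun k => hκ k.1
  have h2 := desc_comp_mem C hcoprod (κ := t) (lam := fun k => κ k.1)
    (fun k : t => (U k.1 : Scheme.{u})) (fun k => (U k.1).ι)
    (fun k l => (V k.1 l).left) (fun k l => ψ k.1 l) h1 (fun k => hCψ k.1)
  refine ⟨Σ k : t, κ k.1, inferInstance, fun p => V p.1.1 p.2, fun p => φ p.1.1 p.2,
    fun p => hV _ _, fun p => hφ _ _, ?_⟩
  have e : (fun p : Σ k : t, κ k.1 => (φ p.1.1 p.2).left) =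
      fun p : Σ k : t, κ k.1 => ψ p.1.1 p.2 ≫ (U p.1.1).ι := by
    funext p
    exact (hψ _ _).symm
  rw [e]
  exact h2

theorem hasData_transitive
    (hcoprod : ∀ (κ : Type u) [Finite κ] (A B : κ → Scheme.{u}) (f : ∀ j, A j ⟶ B j),
      (∀ j, C (f j)) → C (Limits.Sigma.map f))
    (haff : ∀ (U : Scheme.{u}) [IsAffine U] (κ : Type u) [Finite κ] (V : κ → U.Opens),
      (∀ j, IsAffineOpen (V j)) → ⨆ j, V j = ⊤ → C (Limits.Sigma.desc fun j => (V j).ι))
    {X : Over S} {R₁ R₂ : Sieve X} (h₁ : HasData C X R₁)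
    (h₂ : ∀ ⦃Y : Over S⦄ ⦃f : Y ⟶ X⦄, R₁ f → HasData C Y (R₂.pullback f)) :
    HasData C X R₂ := by
  obtain ⟨ι, U, hU, hsup, hdata⟩ := h₁
  refine ⟨ι, U, hU, hsup, fun i => ?_⟩
  obtain ⟨κ, hκ, V, φ, ψ, hV, hφ, hψ, hCψ⟩ := hdata i
  haveI : ∀ j, IsAffine (V j).left := hV
  have hex : ∀ j, ∃ (κ' : Type u) (_ : Finite κ') (V' : κ' → Over S) (φ' : ∀ l, V' l ⟶ V j),
      (∀ l, IsAffine (V' l).left) ∧ (∀ l, (R₂.pullback (φ j)).arrows (φ' l)) ∧
        C (Limits.Sigma.desc fun l => (φ' l).left) := fun j =>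
    exists_finite_data_of_hasData C hcoprod haff (h₂ (hφ j))
  choose κ' hκ' V' φ' hV' hφ' hCφ' using hex
  have h3 := desc_comp_mem C hcoprod (κ := κ) (lam := κ')
    (fun j => (V j).left) ψ (fun j l => (V' j l).left) (fun j l => (φ' j l).left) hCψ hCφ'
  refine ⟨Σ j, κ' j, inferInstance, fun p => V' p.1 p.2, fun p => φ' p.1 p.2 ≫ φ p.1,
    fun p => (φ' p.1 p.2).left ≫ ψ p.1, fun p => hV' _ _, fun p => hφ' _ _, fun p => ?_, h3⟩
  rw [Category.assoc, hψ]
  rfl

/-- The Grothendieck topology whose covering sieves are those with affine-local finite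
covering data for the class `C`. -/
def topology (S : Scheme.{u})
    (hcoprod : ∀ (κ : Type u) [Finite κ] (A B : κ → Scheme.{u}) (f : ∀ j, A j ⟶ B j),
      (∀ j, C (f j)) → C (Limits.Sigma.map f))
    (haff : ∀ (U : Scheme.{u}) [IsAffine U] (κ : Type u) [Finite κ] (V : κ → U.Opens),
      (∀ j, IsAffineOpen (V j)) → ⨆ j, V j = ⊤ → C (Limits.Sigma.desc fun j => (V j).ι)) :
    GrothendieckTopology (Over S) where
  sieves X := {R | HasData C X R}
  top_mem' X := zariski_hasData S C haff ((Scheme.zariskiTopology.over S).top_mem X)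
  pullback_stable' X Y R f hR := hasData_pullback C hR f
  transitive' X R₁ h₁ R₂ h₂ := hasData_transitive C hcoprod haff h₁ h₂

end

end Groth.Agent.Lib.Helper19.ClassTop
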