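import Groth.Prelude.Def_DescFam

/-!
# Pullback of descent data along families refining each other (helper19)

`mkHom`, `mkIso`: morphisms / isomorphisms of descent data from their action on points (Yoneda);
`pullPullIso`: for morphisms of families `(α, 𝟙, p') : f' → f` and `(β, 𝟙, q') : f → f'`,
`pullDDFam w ⋙ pullDDFam w' ≅ 𝟭`; hence `pullDDFam w` is an equivalence.
-/

set_option autoImplicit false
set_option backward.isDefEq.respectTransparency false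
set_option backward.isDefEq.respectTransparency.types false

universe w' w u

open CategoryTheory CategoryTheory.Limits AlgebraicGeometry

namespace Groth.Agent.Helper19.DescBack

open Desc

variable {S : Scheme.{u}} {ι : Type w} {X : ι → Scheme.{u}} {f : ∀ i, X i ⟶ S}

/-- A morphism of descent data from its action on points. -/
def mkHom (D D' : SchDDFam f)
    (θ : ∀ ⦃T : Scheme.{u}⦄ ⦃i : ι⦄ (x : T ⟶ X i), Lifts (D.obj i) x → Lifts (D'.obj i) x)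
    (hnat : ∀ ⦃T T' : Scheme.{u}⦄ (g : T' ⟶ T) ⦃i : ι⦄ (x : T ⟶ X i) (y : T' ⟶ X i)
        (_ : g ≫ x = y) (v : Lifts (D.obj i) x) (v' : Lifts (D.obj i) y),
        v'.1 = g ≫ v.1 → (θ y v').1 = g ≫ (θ x v).1)
    (hφ : ∀ ⦃T : Scheme.{u}⦄ ⦃i j : ι⦄ (x₀ : T ⟶ X i) (x₁ : T ⟶ X j)
        (h : x₀ ≫ f i = x₁ ≫ f j) (v : Lifts (D.obj i) x₀),
        θ x₁ (D.φ x₀ x₁ h v) = D'.φ x₀ x₁ h (θ x₀ v)) : D ⟶ D' where
  hom i := Over.homMk (θ (D.obj i).hom ⟨𝟙 _, Category.id_comp _⟩).1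
    (θ (D.obj i).hom ⟨𝟙 _, Category.id_comp _⟩).2
  comm T i j x₀ x₁ h v w hw := by
    have e : w = θ x₀ v := Subtype.ext (by
      rw [hw]
      exact (hnat v.1 (D.obj i).hom x₀ v.2 ⟨𝟙 _, Category.id_comp _⟩ v (by simp)).symm)
    subst e
    rw [← hφ]
    exact hnat (D.φ x₀ x₁ h v).1 (D.obj j).hom x₁ (D.φ x₀ x₁ h v).2
      ⟨𝟙 _, Category.id_comp _⟩ _ (by simp)

theorem mkHom_pts (D D' : SchDDFam f)
    (θ : ∀ ⦃T : Scheme.{u}⦄ ⦃i : ι⦄ (x : T ⟶ X i), Lifts (D.obj i) x → Lifts (D'.obj i) x)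
    (hnat : ∀ ⦃T T' : Scheme.{u}⦄ (g : T' ⟶ T) ⦃i : ι⦄ (x : T ⟶ X i) (y : T' ⟶ X i)
        (_ : g ≫ x = y) (v : Lifts (D.obj i) x) (v' : Lifts (D.obj i) y),
        v'.1 = g ≫ v.1 → (θ y v').1 = g ≫ (θ x v).1)
    (hφ : ∀ ⦃T : Scheme.{u}⦄ ⦃i j : ι⦄ (x₀ : T ⟶ X i) (x₁ : T ⟶ X j)
        (h : x₀ ≫ f i = x₁ ≫ f j) (v : Lifts (D.obj i) x₀),
        θ x₁ (D.φ x₀ x₁ h v) = D'.φ x₀ x₁ h (θ x₀ v))
    {T : Scheme.{u}} {i : ι} (x : T ⟶ X i) (v : Lifts (D.obj i) x) :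
    v.1 ≫ ((mkHom D D' θ hnat hφ).hom i).left = (θ x v).1 :=
  (hnat v.1 (D.obj i).hom x v.2 ⟨𝟙 _, Category.id_comp _⟩ v (by simp)).symm

theorem hom_ext_pts {D D' : SchDDFam f} {a b : D ⟶ D'}
    (h : ∀ ⦃T : Scheme.{u}⦄ ⦃i : ι⦄ (x : T ⟶ X i) (v : Lifts (D.obj i) x),
      v.1 ≫ (a.hom i).left = v.1 ≫ (b.hom i).left) : a = b := by
  apply SchDDFam.hom_ext
  funext i
  apply Over.OverMorphism.ext
  simpa using h (D.obj i).hom ⟨𝟙 _, Category.id_comp _⟩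

theorem symm_nat (D D' : SchDDFam f)
    (θ : ∀ ⦃T : Scheme.{u}⦄ ⦃i : ι⦄ (x : T ⟶ X i), Lifts (D.obj i) x ≃ Lifts (D'.obj i) x)
    (hnat : ∀ ⦃T T' : Scheme.{u}⦄ (g : T' ⟶ T) ⦃i : ι⦄ (x : T ⟶ X i) (y : T' ⟶ X i)
        (_ : g ≫ x = y) (v : Lifts (D.obj i) x) (v' : Lifts (D.obj i) y),
        v'.1 = g ≫ v.1 → (θ y v').1 = g ≫ (θ x v).1) :
    ∀ ⦃T T' : Scheme.{u}⦄ (g : T' ⟶ T) ⦃i : ι⦄ (x : T ⟶ X i) (y : T' ⟶ X i)
        (_ : g ≫ x = y) (v : Lifts (D'.obj i) x) (v' : Lifts (D'.obj i) y),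
        v'.1 = g ≫ v.1 → ((θ y).symm v').1 = g ≫ ((θ x).symm v).1 := by
  intro T T' g i x y hy v v' hv'
  have hu : (g ≫ ((θ x).symm v).1) ≫ (D.obj i).hom = y := by
    rw [Category.assoc, ((θ x).symm v).2, hy]
  have key := hnat g x y hy ((θ x).symm v) ⟨g ≫ ((θ x).symm v).1, hu⟩ rfl
  rw [Equiv.apply_symm_apply, ← hv'] at key
  have e : θ y ⟨g ≫ ((θ x).symm v).1, hu⟩ = v' := Subtype.ext key
  rw [← e, Equiv.symm_apply_apply]

theorem symm_phi (D D' : SchDDFam f)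
    (θ : ∀ ⦃T : Scheme.{u}⦄ ⦃i : ι⦄ (x : T ⟶ X i), Lifts (D.obj i) x ≃ Lifts (D'.obj i) x)
    (hφ : ∀ ⦃T : Scheme.{u}⦄ ⦃i j : ι⦄ (x₀ : T ⟶ X i) (x₁ : T ⟶ X j)
        (h : x₀ ≫ f i = x₁ ≫ f j) (v : Lifts (D.obj i) x₀),
        θ x₁ (D.φ x₀ x₁ h v) = D'.φ x₀ x₁ h (θ x₀ v)) :
    ∀ ⦃T : Scheme.{u}⦄ ⦃i j : ι⦄ (x₀ : T ⟶ X i) (x₁ : T ⟶ X j)
        (h : x₀ ≫ f i = x₁ ≫ f j) (v : Lifts (D'.obj i) x₀),
        (θ x₁).symm (D'.φ x₀ x₁ h v) = D.φ x₀ x₁ h ((θ x₀).symm v) := by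
  intro T i j x₀ x₁ h v
  apply (θ x₁).injective
  rw [Equiv.apply_symm_apply, hφ, Equiv.apply_symm_apply]

/-- An isomorphism of descent data from natural bijections on points compatible with the gluing
bijections. -/
def mkIso (D D' : SchDDFam f)
    (θ : ∀ ⦃T : Scheme.{u}⦄ ⦃i : ι⦄ (x : T ⟶ X i), Lifts (D.obj i) x ≃ Lifts (D'.obj i) x)
    (hnat : ∀ ⦃T T' : Scheme.{u}⦄ (g : T' ⟶ T) ⦃i : ι⦄ (x : T ⟶ X i) (y : T' ⟶ X i)
        (_ : g ≫ x = y) (v : Lifts (D.obj i) x) (v' : Lifts (D.obj i) y),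
        v'.1 = g ≫ v.1 → (θ y v').1 = g ≫ (θ x v).1)
    (hφ : ∀ ⦃T : Scheme.{u}⦄ ⦃i j : ι⦄ (x₀ : T ⟶ X i) (x₁ : T ⟶ X j)
        (h : x₀ ≫ f i = x₁ ≫ f j) (v : Lifts (D.obj i) x₀),
        θ x₁ (D.φ x₀ x₁ h v) = D'.φ x₀ x₁ h (θ x₀ v)) : D ≅ D' where
  hom := mkHom D D' (fun _ _ x => θ x) hnat hφ
  inv := mkHom D' D (fun _ _ x => (θ x).symm) (symm_nat D D' θ hnat) (symm_phi D D' θ hφ)
  hom_inv_id := by
    apply hom_ext_pts
    intro T i x v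
    rw [SchDDFam.comp_hom, Over.comp_left, ← Category.assoc,
      mkHom_pts D D' (fun _ _ x => θ x) hnat hφ x v,
      mkHom_pts D' D (fun _ _ x => (θ x).symm) (symm_nat D D' θ hnat) (symm_phi D D' θ hφ) x
        (θ x v)]
    simp
  inv_hom_id := by
    apply hom_ext_pts
    intro T i x v
    rw [SchDDFam.comp_hom, Over.comp_left, ← Category.assoc,
      mkHom_pts D' D (fun _ _ x => (θ x).symm) (symm_nat D D' θ hnat) (symm_phi D D' θ hφ) x v,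
      mkHom_pts D D' (fun _ _ x => θ x) hnat hφ x ((θ x).symm v)]
    simp

theorem mkIso_hom_pts (D D' : SchDDFam f)
    (θ : ∀ ⦃T : Scheme.{u}⦄ ⦃i : ι⦄ (x : T ⟶ X i), Lifts (D.obj i) x ≃ Lifts (D'.obj i) x)
    (hnat : ∀ ⦃T T' : Scheme.{u}⦄ (g : T' ⟶ T) ⦃i : ι⦄ (x : T ⟶ X i) (y : T' ⟶ X i)
        (_ : g ≫ x = y) (v : Lifts (D.obj i) x) (v' : Lifts (D.obj i) y),
        v'.1 = g ≫ v.1 → (θ y v').1 = g ≫ (θ x v).1)
    (hφ : ∀ ⦃T : Scheme.{u}⦄ ⦃i j : ι⦄ (x₀ : T ⟶ X i) (x₁ : T ⟶ X j)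
        (h : x₀ ≫ f i = x₁ ≫ f j) (v : Lifts (D.obj i) x₀),
        θ x₁ (D.φ x₀ x₁ h v) = D'.φ x₀ x₁ h (θ x₀ v))
    {T : Scheme.{u}} {i : ι} (x : T ⟶ X i) (v : Lifts (D.obj i) x) :
    v.1 ≫ ((mkIso D D' θ hnat hφ).hom.hom i).left = (θ x v).1 :=
  mkHom_pts D D' (fun _ _ x => θ x) hnat hφ x v

section pullpull

variable {ι' : Type w'} {X' : ι' → Scheme.{u}} {f' : ∀ j, X' j ⟶ S}
  {α : ι' → ι} {p' : ∀ j, X' j ⟶ X (α j)} (w : ∀ j, p' j ≫ f (α j) = f' j ≫ 𝟙 S)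
  {β : ι → ι'} {q' : ∀ i, X i ⟶ X' (β i)} (w' : ∀ i, q' i ≫ f' (β i) = f i ≫ 𝟙 S)

include w w' in
theorem back_compat {T : Scheme.{u}} {i : ι} (x : T ⟶ X i) :
    ((x ≫ q' i) ≫ p' (β i)) ≫ f (α (β i)) = x ≫ f i := by
  rw [Category.assoc, w, Category.comp_id, Category.assoc, w', Category.comp_id]

/-- Points of the double pullback of `D` are points of `D`. -/
noncomputable def θ (D : SchDDFam f) ⦃T : Scheme.{u}⦄ ⦃i : ι⦄ (x : T ⟶ X i) :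
    Lifts (((pullDDFam w ⋙ pullDDFam w').obj D).obj i) x ≃ Lifts (D.obj i) x :=
  (liftsPullbackEquiv (((pullDDFam w).obj D).obj (β i)) (q' i) x).trans
    ((liftsPullbackEquiv (D.obj (α (β i))) (p' (β i)) (x ≫ q' i)).trans
      (D.φ ((x ≫ q' i) ≫ p' (β i)) x (back_compat w w' x)))

theorem θ_nat (D : SchDDFam f) :
    ∀ ⦃T T' : Scheme.{u}⦄ (g : T' ⟶ T) ⦃i : ι⦄ (x : T ⟶ X i) (y : T' ⟶ X i)
        (_ : g ≫ x = y) (v : Lifts (((pullDDFam w ⋙ pullDDFam w').obj D).obj i) x)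
        (v' : Lifts (((pullDDFam w ⋙ pullDDFam w').obj D).obj i) y),
        v'.1 = g ≫ v.1 → (θ w w' D y v').1 = g ≫ (θ w w' D x v).1 := by
  intro T T' g i x y hy v v' hv'
  subst hy
  simp only [θ, Equiv.trans_apply]
  refine D.φ_natural g ((x ≫ q' i) ≫ p' (β i)) x (back_compat w w' x)
    (((g ≫ x) ≫ q' i) ≫ p' (β i)) (g ≫ x) (by simp) rfl (back_compat w w' (g ≫ x)) _ _ ?_
  simp [liftsPullbackEquiv, hv']

theorem θ_phi (D : SchDDFam f) :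
    ∀ ⦃T : Scheme.{u}⦄ ⦃i j : ι⦄ (x₀ : T ⟶ X i) (x₁ : T ⟶ X j)
        (h : x₀ ≫ f i = x₁ ≫ f j) (v : Lifts (((pullDDFam w ⋙ pullDDFam w').obj D).obj i) x₀),
        θ w w' D x₁ (((pullDDFam w ⋙ pullDDFam w').obj D).φ x₀ x₁ h v) =
          D.φ x₀ x₁ h (θ w w' D x₀ v) := by
  intro T i j x₀ x₁ h v
  simp only [θ, Equiv.trans_apply, Functor.comp_obj, pullDDFam, pullDDFamObj,
    Equiv.apply_symm_apply, D.φ_comp]

/-- The double pullback of `D` is `D`. -/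
noncomputable def pullPullObjIso (D : SchDDFam f) :
    (pullDDFam w ⋙ pullDDFam w').obj D ≅ D :=
  mkIso _ _ (θ w w' D) (θ_nat w w' D) (θ_phi w w' D)

theorem pullPullObjIso_pts (D : SchDDFam f) {T : Scheme.{u}} {i : ι} (x : T ⟶ X i)
    (v : Lifts (((pullDDFam w ⋙ pullDDFam w').obj D).obj i) x) :
    v.1 ≫ ((pullPullObjIso w w' D).hom.hom i).left = (θ w w' D x v).1 :=
  mkIso_hom_pts _ _ (θ w w' D) (θ_nat w w' D) (θ_phi w w' D) x v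

theorem pullPull_natural {D D' : SchDDFam f} (a : D ⟶ D') :
    (pullDDFam w ⋙ pullDDFam w').map a ≫ (pullPullObjIso w w' D').hom =
      (pullPullObjIso w w' D).hom ≫ a := by
  apply hom_ext_pts
  intro T i x v
  have hv2 : (v.1 ≫ (((pullDDFam w ⋙ pullDDFam w').map a).hom i).left) ≫
      (((pullDDFam w ⋙ pullDDFam w').obj D').obj i).hom = x := by
    rw [Category.assoc, Over.w]; exact v.2
  have h1 := pullPullObjIso_pts w w' D' x ⟨_, hv2⟩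
  have h2 := pullPullObjIso_pts w w' D x v
  rw [SchDDFam.comp_hom, Over.comp_left, ← Category.assoc, SchDDFam.comp_hom, Over.comp_left,
    ← Category.assoc, h2]
  refine h1.trans ?_
  simp only [θ, Equiv.trans_apply]
  refine a.comm ((x ≫ q' i) ≫ p' (β i)) x (back_compat w w' x) _ _ ?_
  simp [liftsPullbackEquiv, pullDDFam]

/-- `pullDDFam w ⋙ pullDDFam w' ≅ 𝟭`. -/
noncomputable def pullPullIso : pullDDFam w ⋙ pullDDFam w' ≅ 𝟭 (SchDDFam f) :=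
  NatIso.ofComponents (fun D => pullPullObjIso w w' D) (fun a => pullPull_natural w w' a)

include w' in
/-- Pullback of descent data along a morphism of families (over the same base) admitting a
morphism of families back is an equivalence. -/
theorem isEquivalence_pullDDFam : (pullDDFam w).IsEquivalence :=
  (CategoryTheory.Equivalence.mk (pullDDFam w) (pullDDFam w') (pullPullIso w w').symm
    (pullPullIso w' w)).isEquivalence_functor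

end pullpull

end Groth.Agent.Helper19.DescBack
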