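import Mathlib
import Groth.Agent.Lib.Helper19.EtDiag
import Groth.Agent.Lib.Helper19.ProdAlg

/-!
# The diagonal of a product of functors (helper19)
-/

set_option autoImplicit false
set_option backward.isDefEq.respectTransparency false

universe w₆ v₆ w₅ v₅ w₄ v₄ w₃ v₃ w' v' w v u

open CategoryTheory CategoryTheory.Limits Functor AlgebraicGeometry Opposite

namespace Groth.Agent.Helper19.DiagProd

open FibCat AlgSt Stk Groth.Agent.Helper19.FibLib Groth.Agent.Helper19.StLib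
  Groth.Agent.Helper19.AlgP Groth.Agent.Helper19.CancelLib Groth.Agent.Helper19.DiagComp
  Groth.Agent.Helper19.ProdAlg Groth.Agent.Helper19.EtDiag

section general

variable {C : Type*} [Category C] {𝒳' : BasedCategory.{v, w} C} {𝒳 : BasedCategory.{v', w'} C}
  {𝒴 : BasedCategory.{v₃, w₃} C} (a : 𝒳' ⥤ᵇ 𝒳) (F : 𝒳 ⥤ᵇ 𝒴)

/-- `𝒳' ×_𝒴 𝒳' ⟶ 𝒳 ×_𝒴 𝒳` induced by `a : 𝒳' ⟶ 𝒳`. -/
def fpPreMap : fp (BasedFunctor.comp a F) (BasedFunctor.comp a F) ⥤ᵇ fp F F :=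
  fpMap (F := BasedFunctor.comp a F) (G := BasedFunctor.comp a F) (F' := F) (G' := F) a a
    (BasedFunctor.id 𝒴) (Iso.refl _) (Iso.refl _)

theorem isEquivOver_fpPreMap (ha : IsEquivOver a) : IsEquivOver (fpPreMap a F) := by
  have h1 : (BasedFunctor.id 𝒴).toFunctor.Full := inferInstanceAs (𝟭 𝒴.obj).Full
  have h2 : (BasedFunctor.id 𝒴).toFunctor.Faithful := inferInstanceAs (𝟭 𝒴.obj).Faithful
  exact isEquivOver_fpMap _ _ _ _ _ ha ha

/-- `Δ_{F ∘ a}` followed by `𝒳' ×_𝒴 𝒳' ⟶ 𝒳 ×_𝒴 𝒳` is `Δ_F ∘ a`. -/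
def diagPreIso : BasedFunctor.comp (diag (BasedFunctor.comp a F)) (fpPreMap a F) ≅
    BasedFunctor.comp a (diag F) :=
  fpFunctorIso _ _ (Iso.refl _) (Iso.refl _) (fun x => by
    simp [fpPreMap])

end general

variable {S : Scheme.{u}} {P : MorphismProperty (AlgSp.Sp S)}

/-- the diagonal of `F ∘ a`, for an equivalence `a`, inherits properties of the diagonal of `F`. -/
theorem repByAlgSpWith_diag_equiv_comp {𝒳' : BasedCategory.{v, w} (Over S)}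
    {𝒳 : BasedCategory.{v', w'} (Over S)} {𝒴 : BasedCategory.{v₃, w₃} (Over S)}
    (a : 𝒳' ⥤ᵇ 𝒳) (ha : IsEquivOver a) (F : 𝒳 ⥤ᵇ 𝒴) (h : RepByAlgSpWith P (diag F)) :
    RepByAlgSpWith P (diag (BasedFunctor.comp a F)) :=
  (repByAlgSpWith_iff_of_square (diag F) (diag (BasedFunctor.comp a F)) a (fpPreMap a F) ha
    (isEquivOver_fpPreMap a F ha) (diagPreIso a F)).1 h

/-- the diagonal of a base change (second projection). -/
theorem repByAlgSpWith_diag_fpSnd {𝒳 : BasedCategory.{v, w} (Over S)} {𝒴 : BasedCategory.{v', w'} (Over S)}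
    {𝒵 : BasedCategory.{v₃, w₃} (Over S)} (u : 𝒳 ⥤ᵇ 𝒴) (k : 𝒵 ⥤ᵇ 𝒴)
    (hu : RepByAlgSpWith P (diag u)) : RepByAlgSpWith P (diag (fpSnd u k)) :=
  repByAlgSpWith_diag_equiv_comp (fpSwap u k) (isEquivOver_fpSwap u k) (fpFst k u)
    (repByAlgSpWith_diag_fpFst u k hu)

theorem repByAlgSpWith_diag_prodMapGen (hPb : StableAlg P) (hPc : CompAlg P) (hP : DescAtlas P)
    {𝒰 𝒱 𝒳 𝒴 ℬ : AlgSt.Cat S} (h𝒰 : IsFibGrpd 𝒰.p) (h𝒱 : IsFibGrpd 𝒱.p) (h𝒳 : IsFibGrpd 𝒳.p)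
    (hℬ : IsFibGrpd ℬ.p) (u : 𝒰 ⥤ᵇ 𝒳) (v : 𝒱 ⥤ᵇ 𝒴) (F : 𝒳 ⥤ᵇ ℬ) (G : 𝒴 ⥤ᵇ ℬ)
    (hu : RepByAlgSpWith P (diag u)) (hv : RepByAlgSpWith P (diag v)) :
    RepByAlgSpWith P (diag (prodMapGen u v F G)) := by
  have h1 : RepByAlgSpWith P (diag (prodStepA u F (BasedFunctor.comp v G))) :=
    repByAlgSpWith_diag_equiv_comp _ (isEquivOver_pasteL u F (BasedFunctor.comp v G)) _
      (repByAlgSpWith_diag_fpSnd u (fpFst F (BasedFunctor.comp v G)) hu)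
  have h2 : RepByAlgSpWith P (diag (prodStepB F G v)) :=
    repByAlgSpWith_diag_equiv_comp _ (isEquivOver_pasteR F G v) _
      (repByAlgSpWith_diag_fpFst v (fpSnd F G) hv)
  have hfib1 : IsFibGrpd (fp (BasedFunctor.comp u F) (BasedFunctor.comp v G)).p :=
    Groth.Agent.S6401.result _ _ h𝒰 h𝒱 hℬ
  have hfib2 : IsFibGrpd (fp F (BasedFunctor.comp v G)).p := Groth.Agent.S6401.result _ _ h𝒳 h𝒱 hℬ
  exact DiagComp.repByAlgSpWith_diag_comp hPb hPc hP hfib1 hfib2 _ _ h1 h2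

section iso

variable {C : Type*} [Category C] {𝒰 : BasedCategory.{v, w} C} {𝒱 : BasedCategory.{v', w'} C}
  {𝒳 : BasedCategory.{v₃, w₃} C} {𝒴 : BasedCategory.{v₄, w₄} C} {ℬ : BasedCategory.{v₅, w₅} C}
  (u : 𝒰 ⥤ᵇ 𝒳) (v : 𝒱 ⥤ᵇ 𝒴) (F : 𝒳 ⥤ᵇ ℬ) (G : 𝒴 ⥤ᵇ ℬ)

/-- the product functor written as a single lift agrees with the two-step composite. -/
def prodMapGenIso
    (e : BasedFunctor.comp (BasedFunctor.comp (fpFst (BasedFunctor.comp u F) (BasedFunctor.comp v G)) u) F ≅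
      BasedFunctor.comp (BasedFunctor.comp (fpSnd (BasedFunctor.comp u F) (BasedFunctor.comp v G)) v) G)
    (he : ∀ x, e.hom.toNatTrans.app x = x.obj.iso.hom) :
    fpLift (BasedFunctor.comp (fpFst (BasedFunctor.comp u F) (BasedFunctor.comp v G)) u)
      (BasedFunctor.comp (fpSnd (BasedFunctor.comp u F) (BasedFunctor.comp v G)) v) e ≅
      prodMapGen u v F G :=
  fpFunctorIso _ _ (Iso.refl _) (Iso.refl _) (fun x => by
    simp [he, prodMapGen, prodStepA, prodStepB, pasteL, pasteR])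

end iso

end Groth.Agent.Helper19.DiagProd
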