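import Mathlib
import Groth.Agent.Lib.Helper19.StkGlue
import Groth.Agent.Lib.Helper19.FibLib3
import Groth.Agent.S12794
import Groth.Agent.S12810

set_option autoImplicit false
set_option backward.isDefEq.respectTransparency false

universe v₄ u₄ v₃ u₃ v₂ u₂ v u

open CategoryTheory CategoryTheory.Limits Functor Opposite

/-!
# More on stacks over a general site (helper19)
-/

namespace Groth.Agent.Helper19.StkMore

open FibCat Stk Groth.Agent.Helper19.FibLib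

variable {C : Type u} [Category.{v} C]

section equiv

variable {𝒳 : BasedCategory.{v₂, u₂} C} {𝒴 : BasedCategory.{v₃, u₃} C} {𝒲 : BasedCategory.{v₄, u₄} C}

/-- The base change of an equivalence is an equivalence (general base). -/
theorem isEquivOver_fpFst_of_equiv (y : 𝒲 ⥤ᵇ 𝒴) (f : 𝒳 ⥤ᵇ 𝒴) (hf : IsEquivOver f) :
    IsEquivOver (fpFst y f) := by
  have h1 : (BasedFunctor.id 𝒴).toFunctor.Full := inferInstanceAs (𝟭 𝒴.obj).Full
  have h2 : (BasedFunctor.id 𝒴).toFunctor.Faithful := inferInstanceAs (𝟭 𝒴.obj).Faithful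
  have h3 : IsEquivOver (fpMap (F := y) (G := f) (F' := y) (G' := BasedFunctor.id 𝒴) (BasedFunctor.id 𝒲) f
      (BasedFunctor.id 𝒴) (Iso.refl _) (Iso.refl _)) :=
    isEquivOver_fpMap _ _ _ _ _ (isEquivOver_id 𝒲) hf
  exact IsEquivOver.comp h3 (isEquivOver_fpFst_id y)

theorem isEquivOver_fpSnd_of_equiv (f : 𝒳 ⥤ᵇ 𝒴) (y : 𝒲 ⥤ᵇ 𝒴) (hf : IsEquivOver f) :
    IsEquivOver (fpSnd f y) := by
  have h : IsEquivOver (BasedFunctor.comp (fpSwap f y) (fpFst y f)) :=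
    IsEquivOver.comp (isEquivOver_fpSwap f y) (isEquivOver_fpFst_of_equiv y f hf)
  exact h

end equiv

/-- S12799. -/
theorem isFibSetoid_of_isFibSetoid_fp (J : GrothendieckTopology C) {𝒮₁ 𝒮₂ 𝒯₁ : BasedCategory.{v, max u v} C}
    (h₁ : IsStack J 𝒮₁) (h₂ : IsStack J 𝒮₂) (F : 𝒮₂ ⥤ᵇ 𝒮₁) [F.toFunctor.Full] [F.toFunctor.Faithful]
    (hF : ∀ y : 𝒮₁.obj, ∃ R ∈ J (𝒮₁.p.obj y), ∀ ⦃V : C⦄ (f : V ⟶ 𝒮₁.p.obj y), R f →
      ∃ (x : 𝒮₂.obj) (φ : F.obj x ⟶ y), 𝒮₁.p.IsHomLift f φ)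
    (G : 𝒯₁ ⥤ᵇ 𝒮₁) (h : IsFibSetoid (fp F G).p) : IsFibSetoid 𝒯₁.p := by
  have hE : IsEquivOver F := (Groth.Agent.S12794.result J h₂ h₁ F).2 hF
  exact Groth.Agent.S12810.setoid_of_equiv (fpSnd F G) (isEquivOver_fpSnd_of_equiv F G hE) h

end Groth.Agent.Helper19.StkMore
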