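import Mathlib
import Groth.Agent.Lib.Helper19.ProdAlg

set_option autoImplicit false
set_option backward.isDefEq.respectTransparency false

universe w₆ v₆ w₅ v₅ w₄ v₄ w₃ v₃ w' v' w v u
open CategoryTheory CategoryTheory.Limits Functor AlgebraicGeometry Opposite

/-!
# Products of morphisms representable by algebraic spaces (helper19)
-/

namespace Groth.Agent.Helper19.ProdMap

open FibCat AlgSt Stk Groth.Agent.Helper19.FibLib Groth.Agent.Helper19.StLib Groth.Agent.Helper19.DiagAlgSp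
  Groth.Agent.Helper19.PshSt Groth.Agent.Helper19.AlgP Groth.Agent.Helper19.ProdAlg Groth.Agent.Helper19.DiagLib
  Groth.Agent.Helper19.CancelLib

theorem selfOver_eq_eqToHom {C : Type*} [Category C] {a b : (selfOver C).obj} (R : C) (φ : a ⟶ b)
    [IsHomLift (selfOver C).p (𝟙 R) φ] : ∃ h : a = b, φ = eqToHom h := by
  have h1 := IsHomLift.fac' (selfOver C).p (𝟙 R) φ
  have ha := IsHomLift.domain_eq (selfOver C).p (𝟙 R) φ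
  have hb := IsHomLift.codomain_eq (selfOver C).p (𝟙 R) φ
  refine ⟨ha.trans hb.symm, ?_⟩
  have : (selfOver C).p.map φ = φ := rfl
  rw [← this, h1]
  simp

theorem selfOver_hom_ext' {C : Type*} [Category C] {a b : (selfOver C).obj} (R R' : C) (φ ψ : a ⟶ b)
    [IsHomLift (selfOver C).p (𝟙 R) φ] [IsHomLift (selfOver C).p (𝟙 R') ψ] : φ = ψ := by
  obtain ⟨h1, e1⟩ := selfOver_eq_eqToHom R φ
  obtain ⟨h2, e2⟩ := selfOver_eq_eqToHom R' ψ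
  rw [e1, e2]

variable {S : Scheme.{u}}

def prodMapIso {𝒳₁ 𝒳₂ 𝒴₁ 𝒴₂ : AlgSt.Cat S} (f₁ : 𝒳₁ ⥤ᵇ 𝒴₁) (f₂ : 𝒳₂ ⥤ᵇ 𝒴₂)
    (e : BasedFunctor.comp (BasedFunctor.comp (fpFst (toSelf 𝒳₁) (toSelf 𝒳₂)) f₁) (toSelf 𝒴₁) ≅
      BasedFunctor.comp (BasedFunctor.comp (fpSnd (toSelf 𝒳₁) (toSelf 𝒳₂)) f₂) (toSelf 𝒴₂)) :
    fpLift (BasedFunctor.comp (fpFst (toSelf 𝒳₁) (toSelf 𝒳₂)) f₁)
      (BasedFunctor.comp (fpSnd (toSelf 𝒳₁) (toSelf 𝒳₂)) f₂) e ≅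
    BasedFunctor.comp (BasedFunctor.comp
      (fpCongrLeft (toSelf 𝒳₂) (selfOverIso (toSelf 𝒳₁) (BasedFunctor.comp f₁ (toSelf 𝒴₁))))
      (fpCongrRight (BasedFunctor.comp f₁ (toSelf 𝒴₁)) (selfOverIso (toSelf 𝒳₂) (BasedFunctor.comp f₂ (toSelf 𝒴₂)))))
      (prodMapGen f₁ f₂ (toSelf 𝒴₁) (toSelf 𝒴₂)) :=
  fpFunctorIso _ _ (Iso.refl _) (Iso.refl _) (fun x => by
    simp [prodMapGen, prodStepA, prodStepB, pasteL, pasteR, fpCongrLeft, fpCongrRight]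
    have h1 := (selfOverIso (toSelf 𝒳₁) (BasedFunctor.comp f₁ (toSelf 𝒴₁))).inv.isHomLift' x.obj.fst
    have h2 : IsHomLift (selfOver (Over S)).p (𝟙 (𝒳₁.p.obj x.obj.fst)) x.obj.iso.hom := x.property
    have h3 := (selfOverIso (toSelf 𝒳₂) (BasedFunctor.comp f₂ (toSelf 𝒴₂))).hom.isHomLift' x.obj.snd
    have h4 := e.hom.isHomLift' x
    obtain ⟨_, e1⟩ := @selfOver_eq_eqToHom _ _ _ _ _ ((selfOverIso (toSelf 𝒳₁) (BasedFunctor.comp f₁ (toSelf 𝒴₁))).inv.app x.obj.fst) h1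
    obtain ⟨_, e2⟩ := @selfOver_eq_eqToHom _ _ _ _ _ x.obj.iso.hom h2
    obtain ⟨_, e3⟩ := @selfOver_eq_eqToHom _ _ _ _ _ ((selfOverIso (toSelf 𝒳₂) (BasedFunctor.comp f₂ (toSelf 𝒴₂))).hom.app x.obj.snd) h3
    obtain ⟨_, e4⟩ := @selfOver_eq_eqToHom _ _ _ _ _ (e.hom.app x) h4
    rw [e1, e2, e3, e4]
    simp)

/-- S12789: a product of morphisms with `P` has `P`. -/
theorem repByAlgSpWith_prodMap {P : MorphismProperty (AlgSp.Sp S)} (hPb : StableAlg P) (hPc : CompAlg P)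
    (hP : AlgSp.IsLocalOnBase AlgSp.IsFppfCover P) {𝒳₁ 𝒳₂ 𝒴₁ 𝒴₂ : AlgSt.Cat S}
    (h𝒳₁ : IsFibGrpd 𝒳₁.p) (h𝒳₂ : IsFibGrpd 𝒳₂.p) (h𝒴₁ : IsFibGrpd 𝒴₁.p)
    (f₁ : 𝒳₁ ⥤ᵇ 𝒴₁) (f₂ : 𝒳₂ ⥤ᵇ 𝒴₂) (hf₁ : RepByAlgSpWith P f₁) (hf₂ : RepByAlgSpWith P f₂)
    (e : BasedFunctor.comp (BasedFunctor.comp (fpFst (toSelf 𝒳₁) (toSelf 𝒳₂)) f₁) (toSelf 𝒴₁) ≅
      BasedFunctor.comp (BasedFunctor.comp (fpSnd (toSelf 𝒳₁) (toSelf 𝒳₂)) f₂) (toSelf 𝒴₂)) :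
    RepByAlgSpWith P (fpLift (BasedFunctor.comp (fpFst (toSelf 𝒳₁) (toSelf 𝒳₂)) f₁)
      (BasedFunctor.comp (fpSnd (toSelf 𝒳₁) (toSelf 𝒳₂)) f₂) e) := by
  refine repByAlgSpWith_of_iso (prodMapIso f₁ f₂ e) ?_
  refine (repByAlgSpWith_equiv_comp _ (IsEquivOver.comp (isEquivOver_fpCongrLeft _ _)
    (isEquivOver_fpCongrRight _ _)) _).2 ?_
  exact repByAlgSpWith_prodMapGen hPb hPc (descAtlas_of_isLocalOnBase hP) h𝒳₁ h𝒳₂ h𝒴₁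
    (isFibGrpd_selfOver (Over S)) f₁ f₂ _ _ hf₁ hf₂

end Groth.Agent.Helper19.ProdMap
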