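import Mathlib
import Groth.Agent.Lib.Helper19.DiagLft
import Groth.Agent.Lib.Helper19.StPtsQc
import Groth.Agent.Lib.Helper19.YonLib

/-!
# Surjectivity of the diagonal and lifting of 2-arrows over algebraically closed fields (helper19)
-/

set_option autoImplicit false
set_option backward.isDefEq.respectTransparency false

universe u

open CategoryTheory CategoryTheory.Limits AlgebraicGeometry

namespace Groth.Agent.Helper19.DiagSurj

open FibCat AlgSt Stk Groth.Agent.Helper19.FibLib Groth.Agent.Helper19.StLib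
  Groth.Agent.Helper19.StPts

variable {S : Scheme.{u}} {𝒳 𝒴 : AlgSt.Cat S}

/-- S12832 (⇐). -/
theorem isSurjective_diag_of_lift (h𝒳 : IsAlgStack Scheme.fppfPrecoverage 𝒳)
    (h𝒴 : IsAlgStack Scheme.fppfPrecoverage 𝒴) (f : 𝒳 ⥤ᵇ 𝒴)
    (H : ∀ (k : Type u) [Field k] [IsAlgClosed k] (s : Spec (CommRingCat.of k) ⟶ S) (a₁ a₂ : 𝒳.obj)
        (_ : 𝒳.p.obj a₁ = Over.mk s) (_ : 𝒳.p.obj a₂ = Over.mk s) (β : f.obj a₁ ⟶ f.obj a₂),
        𝒴.p.IsHomLift (𝟙 (Over.mk s)) β →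
          ∃ α : a₁ ⟶ a₂, 𝒳.p.IsHomLift (𝟙 (Over.mk s)) α ∧ f.map α = β) :
    IsSurjective (FibCat.diag f) := by
  have hfp : IsFibGrpd (fp f f).p := Groth.Agent.S6401.result f f h𝒳.isStack.1 h𝒳.isStack.1 h𝒴.isStack.1
  intro w
  obtain ⟨p, rfl⟩ := Points.mk_surjective w
  let k := AlgebraicClosure p.K
  let ι : Spec (CommRingCat.of k) ⟶ Spec (CommRingCat.of p.K) :=
    Spec.map (CommRingCat.ofHom (algebraMap p.K k))
  let s : Spec (CommRingCat.of k) ⟶ S := ι ≫ p.str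
  let m : Over.mk s ⟶ pt p := Over.homMk ι rfl
  obtain ⟨y, φ, hφ⟩ := exists_lift_fpt hfp p m
  have hy : (fp f f).p.obj y = Over.mk s := IsHomLift.domain_eq (fp f f).p m φ
  have ha₁ : 𝒳.p.obj y.obj.fst = Over.mk s := hy
  have ha₂ : 𝒳.p.obj y.obj.snd = Over.mk s := (fp_snd_obj y).trans ha₁
  have hβ : 𝒴.p.IsHomLift (𝟙 (Over.mk s)) y.obj.iso.hom := by
    have := fp_iso_isHomLift y
    rw [ha₁] at this
    exact this
  obtain ⟨α, hα, hfα⟩ := H k s y.obj.fst y.obj.snd ha₁ ha₂ y.obj.iso.hom hβ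
  let q : FPt 𝒳 := { K := k, str := s, obj := y.obj.fst, lies := ha₁ }
  refine ⟨Points.mk q, ?_⟩
  rw [Points.map_mk]
  apply Points.sound
  let ψ : (FibCat.diag f).obj y.obj.fst ⟶ y := fpHomMk (𝟙 _) α (by
    rw [hfα]
    simp [FibCat.diag])
  exact rel_of_hom (p := q.map (FibCat.diag f)) (q := p) (ψ ≫ φ)


/-- a nonempty algebraic space locally of finite type over an algebraically closed field has a rational point. -/
theorem exists_section_of_lft (I₀ : AlgSp.Space S) (k : Type u) [Field k] [IsAlgClosed k]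
    (s : Spec (CommRingCat.of k) ⟶ S) (a₀ : I₀.obj ⟶ (AlgSp.yon S).obj (Over.mk s))
    (hlft : AlgSp.LocP @LocallyOfFiniteType a₀) (hne : Nonempty (AlgSp.Points I₀.obj)) :
    ∃ σ : (AlgSp.yon S).obj (Over.mk s) ⟶ I₀.obj, σ ≫ a₀ = 𝟙 _ := by
  obtain ⟨U, p, hpe, hps⟩ := I₀.property.atlas
  obtain ⟨ι⟩ := hne
  obtain ⟨u, -⟩ := Groth.Agent.Helper15.surjective_ofPt p hps ι
  obtain ⟨h, hh⟩ := (AlgSp.yon S).map_surjective (p ≫ a₀)
  have hlft' : LocallyOfFiniteType h.left :=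
    hlft p (𝟙 _) h hpe (AlgSp.repWith_id _ _) (by rw [hh, Category.comp_id])
  let h' : U.left ⟶ Spec (CommRingCat.of k) := h.left
  have hlft'' : LocallyOfFiniteType h' := hlft'
  have hJ : JacobsonSpace ↥U.left := LocallyOfFiniteType.jacobsonSpace h'
  have hcl : (closedPoints ↥U.left).Nonempty := by
    by_contra hempty
    rw [Set.not_nonempty_iff_eq_empty] at hempty
    have := closure_closedPoints (X := ↥U.left)
    rw [hempty, closure_empty] at this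
    exact (this ▸ Set.mem_univ u : u ∈ (∅ : Set ↥U.left))
  obtain ⟨c, hc⟩ := hcl
  let σ₀ : Spec (CommRingCat.of k) ⟶ U.left := pointOfClosedPoint h' c hc
  have hσ₀ : σ₀ ≫ h' = 𝟙 _ := pointOfClosedPoint_comp h' c hc
  let σ' : Over.mk s ⟶ U := Over.homMk σ₀ (by
    have := Over.w h
    dsimp at this ⊢
    rw [← this, ← Category.assoc, hσ₀, Category.id_comp])
  have hσ' : σ' ≫ h = 𝟙 _ := by
    apply Over.OverMorphism.ext
    exact hσ₀
  refine ⟨(AlgSp.yon S).map σ' ≫ p, ?_⟩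
  rw [Category.assoc, ← hh, ← CategoryTheory.Functor.map_comp, hσ', CategoryTheory.Functor.map_id]


/-- a section of the map of sheaves underlying `e ⋙ g` gives a section of `g` up to isomorphism. -/
theorem exists_section_functor {A : AlgSp.Sp S} {𝒲 : AlgSt.Cat S} {T : Over S} (e : ofSp A ⥤ᵇ 𝒲)
    (g : 𝒲 ⥤ᵇ overCat T) (σ : (AlgSp.yon S).obj T ⟶ A)
    (hσ : σ ≫ spMapOfOver (BasedFunctor.comp e g) = 𝟙 _) :
    ∃ Sec : overCat T ⥤ᵇ 𝒲, Nonempty (BasedFunctor.comp Sec g ≅ overMap (𝟙 T)) := by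
  let Ψ : ofSch T ⥤ᵇ overCat T := BasedFunctor.comp (ofSpMap σ) (BasedFunctor.comp e g)
  have hΨ : spMapOfOver Ψ = (AlgSp.yon S).map (𝟙 T) := by
    rw [Groth.Agent.Helper19.CompLib.spMapOfOver_ofSpMap_comp, hσ, CategoryTheory.Functor.map_id]
  refine ⟨BasedFunctor.comp (ofOverCat T) (BasedFunctor.comp (ofSpMap σ) e), ⟨?_⟩⟩
  exact whiskerLeftIso (ofOverCat T) (Groth.Agent.Helper19.ImmLib.isoOfSpMapOfOver Ψ ≪≫ eqToIso (by rw [hΨ])) ≪≫
    Groth.Agent.Helper19.ImmLib.overMapIso (𝟙 T)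

/-- S12832 (⇒). -/
theorem exists_lift_of_isSurjective_diag (h𝒳 : IsAlgStack Scheme.fppfPrecoverage 𝒳)
    (h𝒴 : IsAlgStack Scheme.fppfPrecoverage 𝒴) (f : 𝒳 ⥤ᵇ 𝒴) (hΔ : IsSurjective (FibCat.diag f))
    (k : Type u) [Field k] [IsAlgClosed k] (s : Spec (CommRingCat.of k) ⟶ S) (a₁ a₂ : 𝒳.obj)
    (ha₁ : 𝒳.p.obj a₁ = Over.mk s) (ha₂ : 𝒳.p.obj a₂ = Over.mk s) (β : f.obj a₁ ⟶ f.obj a₂)
    (hβ : 𝒴.p.IsHomLift (𝟙 (Over.mk s)) β) :
    ∃ α : a₁ ⟶ a₂, 𝒳.p.IsHomLift (𝟙 (Over.mk s)) α ∧ f.map α = β := by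
  have hfp : IsFibGrpd (fp f f).p := Groth.Agent.S6401.result f f h𝒳.isStack.1 h𝒳.isStack.1 h𝒴.isStack.1
  have hβiso : IsIso β := isIso_of_isHomLift h𝒴.isStack.1 (𝟙 (Over.mk s)) β
  have hβ' : 𝒴.p.IsHomLift (𝟙 (𝒳.p.obj a₁)) (asIso β).hom := by
    rw [ha₁]
    exact hβ
  let z : (fp f f).obj := fpMk f f a₁ a₂ (asIso β) hβ'
  have hz : (fp f f).p.obj z = Over.mk s := ha₁
  -- it suffices to find an isomorphism with an object of the diagonal
  suffices h : ∃ (x : 𝒳.obj), Nonempty (z ≅ (FibCat.diag f).obj x) by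
    obtain ⟨x, ⟨Θ⟩⟩ := h
    let α : a₁ ⟶ a₂ := Θ.hom.hom.fst ≫ Θ.inv.hom.snd
    have hfα : f.map α = β := by
      have h1 := fp_w Θ.hom
      have h2 : Θ.hom.hom.snd ≫ Θ.inv.hom.snd = 𝟙 _ := by
        rw [← fp_comp_snd, Θ.hom_inv_id]
        rfl
      have h3 : ((FibCat.diag f).obj x).obj.iso.hom = 𝟙 _ := rfl
      have h4 : z.obj.iso.hom = β := rfl
      rw [h3, h4, Category.comp_id] at h1
      simp only [α, f.map_comp]
      rw [h1, Category.assoc, ← f.map_comp, h2, f.map_id, Category.comp_id]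
    refine ⟨α, ?_, hfα⟩
    rw [← BasedFunctor.isHomLift_iff f, hfα]
    exact hβ
  obtain ⟨t, θ, hθ⟩ := Groth.Agent.Helper19.YonLib.exists_chart_of_obj hfp z hz
  let pz : FPt (fp f f) := { K := k, str := s, obj := z, lies := hz }
  obtain ⟨q, hq⟩ := hΔ (Points.mk pz)
  let T : Over S := Over.mk s
  let c : T.left := IsLocalRing.closedPoint k
  have hchart : Points.map t (chartPt T c) = Points.mk pz := by
    rw [← ofChart_eq]
    apply Points.sound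
    let m : ptObj T c ⟶ Over.mk (𝟙 T) := Over.homMk (ptObj T c).hom (by simp)
    exact rel_of_hom (q := pz) (t.map m ≫ θ.hom)
  obtain ⟨w, hw1, hw2⟩ := exists_points_fp_of_map_eq h𝒳.isStack.1 hfp
    (Groth.Agent.Helper19.ChartOver.isFibGrpd_overCat T) (FibCat.diag f) t (chartPt T c) q
    (hchart.trans hq.symm)
  obtain ⟨I₀, e, he, hlft⟩ := Groth.Agent.Helper19.DiagLft.repByAlgSpWith_lft_diag h𝒳 h𝒴 f T t
  have hne : Nonempty (AlgSp.Points I₀.obj) := ⟨(kappa I₀ e he).symm w⟩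
  obtain ⟨σ, hσ⟩ := exists_section_of_lft I₀ k s _ hlft hne
  obtain ⟨Sec, ⟨Λ⟩⟩ := exists_section_functor e (fpFst t (FibCat.diag f)) σ hσ
  let o := Sec.obj (Over.mk (𝟙 T))
  let ε : o.obj.fst ≅ Over.mk (𝟙 T) :=
    appIso Λ (Over.mk (𝟙 T)) ≪≫ Over.isoMk (Iso.refl _) (by simp [overMap])
  exact ⟨o.obj.snd, ⟨θ.symm ≪≫ t.toFunctor.mapIso ε.symm ≪≫ o.obj.iso⟩⟩

end Groth.Agent.Helper19.DiagSurj
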