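import Mathlib
set_option autoImplicit false
universe u
open CategoryTheory CategoryTheory.Limits AlgebraicGeometry Opposite TopologicalSpace Topology

namespace Groth.Agent.Lib.Helper19.DimZeroFT

/-- on a discrete scheme, global sections are products of stalks -/
theorem germs_bijective (X : Scheme.{u}) [DiscreteTopology X] :
    Function.Bijective (fun s : Γ(X, ⊤) => fun x : X => X.presheaf.germ ⊤ x trivial s) := by
  constructor
  · intro s t h
    apply TopCat.Presheaf.section_ext X.sheaf ⊤ s t
    intro x hx
    exact congrFun h x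
  · intro g
    let V : X → X.Opens := fun x => ⟨{x}, isOpen_discrete _⟩
    have hxV : ∀ x, x ∈ V x := fun x => rfl
    have hex : ∀ x : X, ∃ t : Γ(X, V x), X.presheaf.germ (V x) x (hxV x) t = g x := by
      intro x
      obtain ⟨U, hxU, s, hs⟩ := TopCat.Presheaf.exists_germ_eq X.presheaf (g x)
      have hle : V x ≤ U := by
        intro y hy
        have : y = x := hy
        rw [this]; exact hxU
      refine ⟨X.presheaf.map (homOfLE hle).op s, ?_⟩
      rw [TopCat.Presheaf.germ_res_apply]
      exact hs
    choose t ht using hex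
    have hcompat : TopCat.Presheaf.IsCompatible X.sheaf.1 V t := by
      intro x y
      by_cases hxy : x = y
      · subst hxy
        rfl
      · have hbot : V x ⊓ V y = ⊥ := by
          ext z
          simp only [Opens.coe_inf, Set.mem_inter_iff, SetLike.mem_coe, Opens.coe_bot,
            Set.mem_empty_iff_false, iff_false, not_and]
          intro h1 h2
          have e1 : z = x := h1
          have e2 : z = y := h2
          exact hxy (e1.symm.trans e2)
        haveI : Subsingleton (X.sheaf.1.obj (op (V x ⊓ V y))) :=
          CommRingCat.subsingleton_of_isTerminal (X.sheaf.isTerminalOfEqEmpty hbot)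
        exact Subsingleton.elim _ _
    obtain ⟨s, hs, -⟩ := TopCat.Sheaf.existsUnique_gluing' X.sheaf V ⊤
      (fun x => homOfLE le_top) (fun x _ => Opens.mem_iSup.mpr ⟨x, hxV x⟩) t hcompat
    refine ⟨s, ?_⟩
    funext x
    have h1 := hs x
    change X.presheaf.germ ⊤ x trivial s = g x
    rw [← ht x, ← h1]
    exact (TopCat.Presheaf.germ_res_apply X.presheaf (homOfLE le_top) x (hxV x) s).symm

theorem main (k : Type u) [Field k] {X : Scheme.{u}} [Nonempty X]
    (f : X ⟶ Spec (CommRingCat.of k)) [LocallyOfFiniteType f] [QuasiCompact f] :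
    [topologicalKrullDim ↥X = 0,
      IsAffine X ∧ f.appTop.hom.Finite ∧
        Function.Bijective (fun s : Γ(X, ⊤) => fun x : X => X.presheaf.germ ⊤ x trivial s),
      DiscreteTopology ↥X,
      Finite ↥X].TFAE := by
  haveI : IsLocallyNoetherian X := LocallyOfFiniteType.isLocallyNoetherian f
  haveI : JacobsonSpace X := LocallyOfFiniteType.jacobsonSpace f
  haveI : CompactSpace X := QuasiCompact.compactSpace_of_compactSpace f
  haveI hArtk : IsArtinianRing Γ(Spec (CommRingCat.of k), ⊤) :=
    (Scheme.ΓSpecIso (CommRingCat.of k)).commRingCatIsoToRingEquiv.symm.isArtinianRing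
  tfae_have 1 → 3 := by
    intro h
    haveI : IsLocallyArtinian X := .of_topologicalKrullDim_le_zero h.le
    infer_instance
  tfae_have 3 → 4 := fun h => by
    haveI := h
    exact finite_of_compact_of_discrete
  tfae_have 4 → 3 := fun h => by
    haveI := h
    infer_instance
  tfae_have 3 → 1 := by
    intro h
    haveI := h
    apply le_antisymm (topologicalKrullDim_zero_of_discreteTopology X)
    haveI : Nonempty (IrreducibleCloseds X) := by
      obtain ⟨x⟩ := ‹Nonempty X›
      exact ⟨⟨closure {x}, isIrreducible_singleton.closure, isClosed_closure⟩⟩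
    exact Order.krullDim_nonneg
  tfae_have 3 → 2 := by
    intro h
    haveI := h
    haveI : Finite X := finite_of_compact_of_discrete
    haveI : IsAffine X := inferInstance
    refine ⟨inferInstance, ?_, germs_bijective X⟩
    haveI : IsLocallyArtinian X := .of_isLocallyNoetherian_of_discreteTopology
    haveI : IsArtinianRing Γ(X, ⊤) := inferInstance
    have hft : RingHom.FiniteType f.appTop.hom :=
      (HasRingHomProperty.iff_of_isAffine (P := @LocallyOfFiniteType)).mp inferInstance
    letI := f.appTop.hom.toAlgebra
    haveI : Algebra.FiniteType Γ(Spec (CommRingCat.of k), ⊤) Γ(X, ⊤) := hft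
    exact (Module.finite_iff_isArtinianRing Γ(Spec (CommRingCat.of k), ⊤) Γ(X, ⊤)).mpr inferInstance
  tfae_have 2 → 4 := by
    rintro ⟨h1, h2, -⟩
    haveI := h1
    have hft : RingHom.FiniteType f.appTop.hom :=
      (HasRingHomProperty.iff_of_isAffine (P := @LocallyOfFiniteType)).mp inferInstance
    letI := f.appTop.hom.toAlgebra
    haveI : Algebra.FiniteType Γ(Spec (CommRingCat.of k), ⊤) Γ(X, ⊤) := hft
    haveI : Module.Finite Γ(Spec (CommRingCat.of k), ⊤) Γ(X, ⊤) := h2
    haveI : IsArtinianRing Γ(X, ⊤) :=
      (Module.finite_iff_isArtinianRing Γ(Spec (CommRingCat.of k), ⊤) Γ(X, ⊤)).mp inferInstance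
    haveI : Finite (Spec Γ(X, ⊤)) := inferInstance
    exact Finite.of_equiv _ X.isoSpec.hom.homeomorph.toEquiv.symm
  tfae_finish

end Groth.Agent.Lib.Helper19.DimZeroFT
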