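import Mathlib
set_option autoImplicit false
universe u
open CategoryTheory CategoryTheory.Limits AlgebraicGeometry Opposite TopologicalSpace

namespace Groth.Agent.Lib.Helper19.DualNumUnram

section alg
variable (k : Type u) [Field k] [IsAlgClosed k] (A : Type u) [CommRing A] [Algebra k A]
  [Algebra.FiniteType k A]

/-- residue character at a maximal ideal -/
theorem exists_char (m : Ideal A) [hm : m.IsMaximal] :
    ∃ χ : A →ₐ[k] k, ∀ a, a - algebraMap k A (χ a) ∈ m := by
  letI := Ideal.Quotient.field m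
  haveI : Algebra.FiniteType k (A ⧸ m) :=
    Algebra.FiniteType.of_surjective (Ideal.Quotient.mkₐ k m) Ideal.Quotient.mk_surjective
  haveI : Module.Finite k (A ⧸ m) := finite_of_finite_type_of_isJacobsonRing k (A ⧸ m)
  have hbij : Function.Bijective (algebraMap k (A ⧸ m)) :=
    IsAlgClosed.algebraMap_bijective_of_isIntegral
  let e : k ≃ₐ[k] (A ⧸ m) := AlgEquiv.ofBijective (Algebra.ofId k _) hbij
  refine ⟨e.symm.toAlgHom.comp (Ideal.Quotient.mkₐ k m), fun a => ?_⟩
  rw [← Ideal.Quotient.eq_zero_iff_mem, map_sub, sub_eq_zero]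
  have : e (e.symm (Ideal.Quotient.mk m a)) = Ideal.Quotient.mk m a := e.apply_symm_apply _
  rw [← this]
  rfl

theorem subsingleton_of_smul_top (M : Type u) [AddCommGroup M] [Module A M] [Module.Finite A M]
    (h : ∀ m : Ideal A, m.IsMaximal → m • (⊤ : Submodule A M) = ⊤) : Subsingleton M := by
  by_contra hns
  rw [not_subsingleton_iff_nontrivial] at hns
  have hann : Module.annihilator A M ≠ ⊤ := by
    intro h1
    have h2 : (1 : A) ∈ Module.annihilator A M := h1 ▸ trivial
    rw [Module.mem_annihilator] at h2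
    obtain ⟨x, hx⟩ := exists_ne (0 : M)
    exact hx (by simpa using h2 x)
  obtain ⟨m, hm, hle⟩ := Ideal.exists_le_maximal _ hann
  have h3 := h m hm
  obtain ⟨r, hr1, hr2⟩ := Submodule.exists_sub_one_mem_and_smul_eq_zero_of_fg_of_le_smul m ⊤
    (Module.Finite.fg_top) h3.ge
  have hr : r ∈ Module.annihilator A M := Module.mem_annihilator.mpr fun x => hr2 x trivial
  have h4 : (1 : A) ∈ m := by
    have := m.sub_mem (hle hr) hr1
    simpa using this
  exact hm.ne_top (m.eq_top_iff_one.mpr h4)

open TrivSqZeroExt in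
theorem smul_top_eq_top
    (H : ∀ g₁ g₂ : A →ₐ[k] DualNumber k,
      (TrivSqZeroExt.fstHom k k k).comp g₁ = (TrivSqZeroExt.fstHom k k k).comp g₂ → g₁ = g₂)
    (m : Ideal A) [m.IsMaximal] : m • (⊤ : Submodule A Ω[A⁄k]) = ⊤ := by
  obtain ⟨χ, hχ⟩ := exists_char k A m
  set N := m • (⊤ : Submodule A Ω[A⁄k]) with hN
  by_contra hne
  obtain ⟨ω, hω⟩ : ∃ ω, ω ∉ N := by
    by_contra h
    push Not at h
    exact hne (eq_top_iff.mpr fun x _ => h x)
  have hv : N.mkQ ω ≠ 0 := by
    simpa [Submodule.Quotient.mk_eq_zero] using hω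
  obtain ⟨φ, hφ⟩ : ∃ φ : Module.Dual k (Ω[A⁄k] ⧸ N), φ (N.mkQ ω) ≠ 0 := by
    by_contra h
    push Not at h
    exact hv ((Module.forall_dual_apply_eq_zero_iff k _).mp h)
  have hsm : ∀ (a : A) (x : Ω[A⁄k] ⧸ N), a • x = χ a • x := by
    intro a x
    obtain ⟨y, rfl⟩ := N.mkQ_surjective x
    have h2 : (a - algebraMap k A (χ a)) • y ∈ N := Submodule.smul_mem_smul (hχ a) trivial
    have h3 : N.mkQ ((a - algebraMap k A (χ a)) • y) = 0 :=
      (Submodule.Quotient.mk_eq_zero N).mpr h2
    rw [sub_smul, map_sub, sub_eq_zero, map_smul, algebraMap_smul] at h3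
    exact h3.trans (Submodule.Quotient.mk_smul N (χ a) y)
  let D : A → k := fun a => φ (N.mkQ (KaehlerDifferential.D k A a))
  have hD_add : ∀ a b, D (a + b) = D a + D b := fun a b => by simp [D]
  have hD_mul : ∀ a b, D (a * b) = χ a * D b + χ b * D a := fun a b => by
    simp only [D, Derivation.leibniz, map_add, map_smul, hsm, smul_eq_mul]
  have hD_alg : ∀ c : k, D (algebraMap k A c) = 0 := fun c => by simp [D]
  let g₂ : A →ₐ[k] DualNumber k :=
    { toFun := fun a => inl (χ a) + inr (D a)
      map_one' := by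
        have : D 1 = 0 := by simpa using hD_alg 1
        ext <;> simp [this]
      map_mul' := fun a b => by
        ext
        · simp
        · simp [hD_mul]; ring
      map_zero' := by
        have : D 0 = 0 := by simpa using hD_alg 0
        ext <;> simp [this]
      map_add' := fun a b => by
        ext
        · simp
        · simp [hD_add]
      commutes' := fun c => by
        ext
        · simp [TrivSqZeroExt.algebraMap_eq_inl]
        · simp [hD_alg, TrivSqZeroExt.algebraMap_eq_inl] }
  let g₁ : A →ₐ[k] DualNumber k := (TrivSqZeroExt.inlAlgHom k k k).comp χ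
  have h12 : g₁ = g₂ := by
    apply H
    ext a
    simp [g₁, g₂]
  have hD0 : ∀ a, D a = 0 := by
    intro a
    have := congrArg (fun g : A →ₐ[k] DualNumber k => (g a).snd) h12
    simpa [g₁, g₂] using this.symm
  let W : Submodule A Ω[A⁄k] :=
    { carrier := {x | φ (N.mkQ x) = 0}
      add_mem' := fun {x y} hx hy => by
        simp only [Set.mem_ofPred_eq] at hx hy ⊢
        rw [map_add, map_add, hx, hy, add_zero]
      zero_mem' := by simp
      smul_mem' := fun a x hx => by
        simp only [Set.mem_ofPred_eq] at hx ⊢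
        rw [map_smul, hsm, map_smul, hx, smul_zero] }
  have hW : W = ⊤ := by
    rw [eq_top_iff, ← KaehlerDifferential.span_range_derivation k A, Submodule.span_le]
    rintro _ ⟨a, rfl⟩
    exact hD0 a
  have : ω ∈ W := hW ▸ trivial
  exact hφ this

theorem core
    (H : ∀ g₁ g₂ : A →ₐ[k] DualNumber k,
      (TrivSqZeroExt.fstHom k k k).comp g₁ = (TrivSqZeroExt.fstHom k k k).comp g₂ → g₁ = g₂) :
    Algebra.FormallyUnramified k A := by
  have := subsingleton_of_smul_top A (Ω[A⁄k]) (fun m hm => by
    haveI := hm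
    exact smul_top_eq_top k A H m)
  exact ⟨this⟩

end alg

theorem fromSpec_comp {k : Type u} [Field k] {X : Scheme.{u}} (p : X ⟶ Spec (CommRingCat.of k))
    (V : X.Opens) (hV : IsAffineOpen V) :
    hV.fromSpec ≫ p =
      Spec.map ((Scheme.ΓSpecIso (CommRingCat.of k)).inv ≫ p.appLE ⊤ V le_top) := by
  have h := IsAffineOpen.SpecMap_appLE_fromSpec p (isAffineOpen_top _) hV le_top
  rw [← h, IsAffineOpen.fromSpec_top, Scheme.isoSpec_Spec_inv, ← Spec.map_comp]

theorem main (k : Type u) [Field k] [IsAlgClosed k] {X : Scheme.{u}}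
    (p : X ⟶ Spec (CommRingCat.of k)) [LocallyOfFiniteType p] :
    FormallyUnramified p ↔
      ∀ v₁ v₂ : Spec (CommRingCat.of (DualNumber k)) ⟶ X,
        v₁ ≫ p = Spec.map (CommRingCat.ofHom (algebraMap k (DualNumber k))) →
        v₂ ≫ p = Spec.map (CommRingCat.ofHom (algebraMap k (DualNumber k))) →
        Spec.map (CommRingCat.ofHom (TrivSqZeroExt.fstHom k k k).toRingHom) ≫ v₁ =
          Spec.map (CommRingCat.ofHom (TrivSqZeroExt.fstHom k k k).toRingHom) ≫ v₂ →
        v₁ = v₂ := by
  constructor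
  · intro h v₁ v₂ h1 h2 h3
    set φ : CommRingCat.of (DualNumber k) ⟶ CommRingCat.of k :=
      CommRingCat.ofHom (TrivSqZeroExt.fstHom k k k).toRingHom with hφ
    have hsurj : Function.Surjective φ.hom := fun c => ⟨TrivSqZeroExt.inl c, by simp [φ]⟩
    haveI : IsClosedImmersion (Spec.map φ) := IsClosedImmersion.spec_of_surjective _ hsurj
    refine FormallyUnramified.hom_ext (Spec.map φ) ?_ p h3 (h1.trans h2.symm)
    refine ⟨2, ?_⟩
    apply Scheme.IdealSheafData.equivOfIsAffine.injective
    rw [map_pow, map_zero]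
    change (Scheme.Hom.ker (Spec.map φ)).ideal ⟨⊤, isAffineOpen_top _⟩ ^ 2 = 0
    rw [Scheme.Hom.ker_apply]
    rw [sq, Ideal.zero_eq_bot, ← le_bot_iff, Ideal.mul_le]
    intro x hx y hy
    rw [RingHom.mem_ker] at hx hy
    have hnat := Scheme.ΓSpecIso_naturality φ
    have hx' : φ.hom ((Scheme.ΓSpecIso _).hom.hom x) = 0 := by
      have := congrArg (fun ψ => ψ.hom x) hnat
      simp only [CommRingCat.hom_comp, RingHom.coe_comp, Function.comp_apply] at this
      rw [← this]
      change (Scheme.ΓSpecIso _).hom.hom ((Spec.map φ).appTop.hom x) = 0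
      rw [show (Spec.map φ).appTop.hom x = 0 from hx, map_zero]
    have hy' : φ.hom ((Scheme.ΓSpecIso _).hom.hom y) = 0 := by
      have := congrArg (fun ψ => ψ.hom y) hnat
      simp only [CommRingCat.hom_comp, RingHom.coe_comp, Function.comp_apply] at this
      rw [← this]
      change (Scheme.ΓSpecIso _).hom.hom ((Spec.map φ).appTop.hom y) = 0
      rw [show (Spec.map φ).appTop.hom y = 0 from hy, map_zero]
    have hxy : (Scheme.ΓSpecIso (CommRingCat.of (DualNumber k))).hom.hom (x * y) = 0 := by
      rw [map_mul]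
      have hx'' : TrivSqZeroExt.fst ((Scheme.ΓSpecIso (CommRingCat.of (DualNumber k))).hom.hom x)
          = 0 := hx'
      have hy'' : TrivSqZeroExt.fst ((Scheme.ΓSpecIso (CommRingCat.of (DualNumber k))).hom.hom y)
          = 0 := hy'
      ext
      · simp [hx'']
      · simp [hx'', hy'']
    have hinj : Function.Injective (Scheme.ΓSpecIso (CommRingCat.of (DualNumber k))).hom.hom :=
      ((ConcreteCategory.isIso_iff_bijective _).mp inferInstance).1
    rw [Submodule.mem_bot]
    exact hinj (by rw [hxy, map_zero])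
  · intro H
    rw [HasRingHomProperty.iff_of_iSup_eq_top (P := @FormallyUnramified)
      (fun V : X.affineOpens => V) (iSup_affineOpens_eq_top X)]
    intro V
    set ψ : CommRingCat.of k ⟶ Γ(X, V.1) :=
      (Scheme.ΓSpecIso (CommRingCat.of k)).inv ≫ p.appLE ⊤ V.1 le_top with hψdef
    have hψ : p.appLE ⊤ V.1 le_top = (Scheme.ΓSpecIso (CommRingCat.of k)).hom ≫ ψ := by
      simp [ψ]
    rw [hψ, CommRingCat.hom_comp]
    have hsurj : Function.Surjective (Scheme.ΓSpecIso (CommRingCat.of k)).hom.hom :=
      ((ConcreteCategory.isIso_iff_bijective _).mp inferInstance).2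
    refine RingHom.FormallyUnramified.comp (RingHom.FormallyUnramified.of_surjective hsurj) ?_
    have hft : ψ.hom.FiniteType := by
      rw [hψdef, CommRingCat.hom_comp]
      refine RingHom.FiniteType.comp (LocallyOfFiniteType.finiteType_appLE p
        (isAffineOpen_top _) V.2 le_top) (RingHom.FiniteType.of_surjective _ ?_)
      exact ((ConcreteCategory.isIso_iff_bijective
        (Scheme.ΓSpecIso (CommRingCat.of k)).inv).mp inferInstance).2
    letI : Algebra k Γ(X, V.1) := ψ.hom.toAlgebra
    haveI : Algebra.FiniteType k Γ(X, V.1) := hft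
    change Algebra.FormallyUnramified k Γ(X, V.1)
    apply core k Γ(X, V.1)
    intro g₁ g₂ h12
    have hv : ∀ g : Γ(X, V.1) →ₐ[k] DualNumber k,
        (Spec.map (CommRingCat.ofHom g.toRingHom) ≫ V.2.fromSpec) ≫ p =
          Spec.map (CommRingCat.ofHom (algebraMap k (DualNumber k))) := by
      intro g
      rw [Category.assoc, fromSpec_comp p V.1 V.2, ← Spec.map_comp]
      congr 1
      apply CommRingCat.hom_ext
      apply RingHom.ext
      intro c
      exact g.commutes c
    have hfst : ∀ g : Γ(X, V.1) →ₐ[k] DualNumber k,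
        Spec.map (CommRingCat.ofHom (TrivSqZeroExt.fstHom k k k).toRingHom) ≫
          (Spec.map (CommRingCat.ofHom g.toRingHom) ≫ V.2.fromSpec) =
        Spec.map (CommRingCat.ofHom ((TrivSqZeroExt.fstHom k k k).comp g).toRingHom) ≫
          V.2.fromSpec := by
      intro g
      rw [← Category.assoc, ← Spec.map_comp]
      rfl
    have := H _ _ (hv g₁) (hv g₂) (by rw [hfst, hfst, h12])
    rw [cancel_mono, Spec.map_inj] at this
    exact AlgHom.ext fun x => congr($this x)

end Groth.Agent.Lib.Helper19.DualNumUnram
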