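import Mathlib

set_option autoImplicit false
universe u
open CategoryTheory CategoryTheory.Limits AlgebraicGeometry IsLocalRing

namespace Groth.Agent.Lib.Helper19.ValEx

/-- a morphism from a local scheme factors through any affine open containing the image of the
closed point -/
lemma exists_factor_of_isLocalRing {A : Type u} [CommRing A] [IsLocalRing A] {Y : Scheme.{u}}
    (g : Spec (CommRingCat.of A) ⟶ Y) {D : CommRingCat.{u}} (j : Spec D ⟶ Y) [IsOpenImmersion j]
    (hj : g.base (closedPoint A) ∈ Set.range j.base) :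
    ∃ d : D ⟶ CommRingCat.of A, g = Spec.map d ≫ j := by
  have hrange : Set.range g.base ⊆ Set.range j.base := by
    rintro _ ⟨p, rfl⟩
    have hsp : p ⤳ closedPoint A := specializes_closedPoint p
    exact (hsp.map g.continuous).mem_open j.isOpenEmbedding.isOpen_range hj
  refine ⟨Spec.preimage (IsOpenImmersion.lift j g hrange), ?_⟩
  rw [Spec.map_preimage, IsOpenImmersion.lift_fac]

lemma exists_affine_nbhd (Y : Scheme.{u}) (y : Y) :
    ∃ (D : CommRingCat.{u}) (j : Spec D ⟶ Y), IsOpenImmersion j ∧ y ∈ Set.range j.base :=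
  ⟨Y.affineOpenCover.X (Y.affineOpenCover.idx y), Y.affineOpenCover.f _,
    Y.affineOpenCover.openCover.map_prop _, Y.affineOpenCover.covers y⟩

/-- two field-valued points with the same image have a common field extension -/
lemma exists_common_field {L₁ L₂ : Type u} [Field L₁] [Field L₂] {X : Scheme.{u}}
    (g₁ : Spec (CommRingCat.of L₁) ⟶ X) (g₂ : Spec (CommRingCat.of L₂) ⟶ X)
    (he : g₁.base (closedPoint L₁) = g₂.base (closedPoint L₂)) :
    ∃ (Ω : Type u) (_ : Field Ω) (ω₁ : L₁ →+* Ω) (ω₂ : L₂ →+* Ω),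
      Spec.map (CommRingCat.ofHom ω₁) ≫ g₁ = Spec.map (CommRingCat.ofHom ω₂) ≫ g₂ := by
  obtain ⟨z, -, -⟩ := Scheme.Pullback.exists_preimage_pullback (f := g₁) (g := g₂) _ _ he
  refine ⟨(pullback g₁ g₂).residueField z, inferInstance,
    (Spec.preimage ((pullback g₁ g₂).fromSpecResidueField z ≫ pullback.fst g₁ g₂)).hom,
    (Spec.preimage ((pullback g₁ g₂).fromSpecResidueField z ≫ pullback.snd g₁ g₂)).hom, ?_⟩
  rw [CommRingCat.ofHom_hom, CommRingCat.ofHom_hom, Spec.map_preimage, Spec.map_preimage,
    Category.assoc, Category.assoc, pullback.condition]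

/-- elements of `K` landing in a valuation ring dominating `R` lie in `R` -/
lemma mem_range_of_map_mem {R K Ω : Type*} [CommRing R] [IsDomain R] [ValuationRing R] [Field K]
    [Algebra R K] [IsFractionRing R K] [Field Ω] (ω : K →+* Ω) (V : ValuationSubring Ω)
    (hV : ∀ r : R, (ω.comp (algebraMap R K)) r ∈ V.toSubring)
    (hloc : IsLocalHom ((ω.comp (algebraMap R K)).codRestrict V.toSubring hV))
    (z : K) (hz : ω z ∈ V) : ∃ r : R, algebraMap R K r = z := by
  rcases ValuationRing.isInteger_or_isInteger R z with ⟨r, hr⟩ | ⟨r, hr⟩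
  · exact ⟨r, hr⟩
  · by_cases hz0 : z = 0
    · exact ⟨0, by rw [map_zero, hz0]⟩
    have hru : IsUnit r := by
      apply hloc.map_nonunit r
      rw [isUnit_iff_exists_inv]
      refine ⟨⟨ω z, hz⟩, ?_⟩
      apply Subtype.ext
      change ω (algebraMap R K r) * ω z = 1
      rw [hr, ← map_mul, inv_mul_cancel₀ hz0, map_one]
    obtain ⟨r', hr'⟩ := hru.exists_right_inv
    refine ⟨r', ?_⟩
    have : algebraMap R K r * algebraMap R K r' = 1 := by rw [← map_mul, hr', map_one]
    rw [hr] at this
    have h2 := eq_inv_of_mul_eq_one_right this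
    rw [h2, inv_inv]

section Composite

variable {F Ω : Type*} [Field F] [Field Ω] (B : ValuationSubring F) (t : B →+* Ω)
  (ht : ∀ y : B, ¬ IsUnit y → t y = 0) (V : ValuationSubring Ω)

/-- the composite valuation ring -/
def compVal : ValuationSubring F where
  toSubring := (V.toSubring.comap t).map B.subtype
  mem_or_inv_mem' := by
    intro z
    by_cases hz0 : z = 0
    · left; rw [hz0]; exact Subring.zero_mem _
    by_cases hzB : z ∈ B
    · by_cases htV : t ⟨z, hzB⟩ ∈ V
      · left
        exact ⟨⟨z, hzB⟩, htV, rfl⟩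
      · right
        have hu : IsUnit (⟨z, hzB⟩ : B) := by
          by_contra hnu
          exact htV (by rw [ht _ hnu]; exact V.zero_mem)
        obtain ⟨y', hy'⟩ := hu.exists_right_inv
        have hty : t ⟨z, hzB⟩ * t y' = 1 := by rw [← map_mul, hy', map_one]
        have hy'V : t y' ∈ V := by
          rcases V.mem_or_inv_mem (t ⟨z, hzB⟩) with h | h
          · exact absurd h htV
          · rwa [eq_inv_of_mul_eq_one_right hty]
        refine ⟨y', hy'V, ?_⟩
        have h3 : z * (y' : F) = 1 := by
          have := congrArg (fun b : B => (b : F)) hy'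
          simpa using this
        exact eq_inv_of_mul_eq_one_right h3
    · right
      have hzB' : z⁻¹ ∈ B := (B.mem_or_inv_mem z).resolve_left hzB
      have hnu : ¬ IsUnit (⟨z⁻¹, hzB'⟩ : B) := by
        intro hu
        obtain ⟨y', hy'⟩ := hu.exists_right_inv
        have h3 : z⁻¹ * (y' : F) = 1 := by
          have := congrArg (fun b : B => (b : F)) hy'
          simpa using this
        have : (y' : F) = z := by
          have := eq_inv_of_mul_eq_one_right h3
          rw [inv_inv] at this; exact this
        exact hzB (this ▸ y'.2)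
      refine ⟨⟨z⁻¹, hzB'⟩, ?_, rfl⟩
      change t ⟨z⁻¹, hzB'⟩ ∈ V
      rw [ht _ hnu]; exact V.zero_mem

lemma mem_compVal {z : F} : z ∈ compVal B t ht V ↔ ∃ y : B, t y ∈ V ∧ (y : F) = z := by
  change z ∈ (V.toSubring.comap t).map B.subtype ↔ _
  rw [Subring.mem_map]
  rfl

lemma compVal_le {z : F} (hz : z ∈ compVal B t ht V) : z ∈ B := by
  obtain ⟨y, -, rfl⟩ := (mem_compVal B t ht V).mp hz
  exact y.2

/-- inclusion of the composite into `B` -/
def inclB : compVal B t ht V →+* B :=
  RingHom.codRestrict (compVal B t ht V).subtype B.toSubring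
    (fun c => compVal_le B t ht V c.2)

lemma inclB_coe (c : compVal B t ht V) : ((inclB B t ht V c : B) : F) = (c : F) := rfl

lemma t_inclB_mem (c : compVal B t ht V) : t (inclB B t ht V c) ∈ V := by
  obtain ⟨y, hy, hyc⟩ := (mem_compVal B t ht V).mp c.2
  have : inclB B t ht V c = y := Subtype.ext hyc.symm
  rw [this]; exact hy

/-- the map from the composite to `V` -/
def toV : compVal B t ht V →+* V :=
  RingHom.codRestrict (t.comp (inclB B t ht V)) V.toSubring (fun c => t_inclB_mem B t ht V c)

lemma toV_coe (c : compVal B t ht V) : ((toV B t ht V c : V) : Ω) = t (inclB B t ht V c) := rfl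

end Composite

/-- an "epi" property of dominating injective maps of local rings -/
lemma eq_of_comp_eq {R V : Type u} [CommRing R] [CommRing V] [IsLocalRing R] [IsLocalRing V]
    (π : R →+* V) [IsLocalHom π] (hπ : Function.Injective π) {S : Scheme.{u}}
    (g₁ g₂ : Spec (CommRingCat.of R) ⟶ S)
    (hg : Spec.map (CommRingCat.ofHom π) ≫ g₁ = Spec.map (CommRingCat.ofHom π) ≫ g₂) :
    g₁ = g₂ := by
  obtain ⟨D, j, hj, hs⟩ := exists_affine_nbhd S (g₂.base (closedPoint R))
  haveI := hj
  obtain ⟨d₂, hd₂⟩ := exists_factor_of_isLocalRing g₂ j hs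
  have hcl : (Spec.map (CommRingCat.ofHom π)).base (closedPoint V) = closedPoint R :=
    IsLocalRing.comap_closedPoint π
  have hs1 : g₁.base (closedPoint R) ∈ Set.range j.base := by
    have : g₁.base (closedPoint R) = g₂.base (closedPoint R) := by
      rw [← hcl]
      change (Spec.map (CommRingCat.ofHom π) ≫ g₁).base (closedPoint V) =
        (Spec.map (CommRingCat.ofHom π) ≫ g₂).base (closedPoint V)
      rw [hg]
    rw [this]; exact hs
  obtain ⟨d₁, hd₁⟩ := exists_factor_of_isLocalRing g₁ j hs1
  rw [hd₁, hd₂, ← Category.assoc, ← Category.assoc, ← Spec.map_comp, ← Spec.map_comp,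
    cancel_mono] at hg
  have h3 := Spec.map_injective hg
  have : d₁ = d₂ := by
    ext a
    apply hπ
    exact congrArg (fun φ => φ.hom a) h3
  rw [hd₁, hd₂, this]

end Groth.Agent.Lib.Helper19.ValEx
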