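import Mathlib
import Groth.Agent.Lib.Helper19.ValEx
import Groth.Agent.Lib.Helper4.ValSep

set_option autoImplicit false
universe u
open CategoryTheory CategoryTheory.Limits AlgebraicGeometry IsLocalRing

namespace Groth.Agent.Lib.Helper19.ValEx

set_option maxHeartbeats 1600000 in
theorem existence {U X S : Scheme.{u}} (f : X ⟶ S) (h : U ⟶ X)
    (hG : ∀ x : X, ∃ u : U, h.base u ⤳ x)
    (HV : ∀ (u : U) (A : ValuationSubring (U.residueField u)) (φ : Spec (CommRingCat.of A) ⟶ S),
      Spec.map (CommRingCat.ofHom A.subtype) ≫ φ = U.fromSpecResidueField u ≫ h ≫ f →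
      ∃! φ' : Spec (CommRingCat.of A) ⟶ X,
        Spec.map (CommRingCat.ofHom A.subtype) ≫ φ' = U.fromSpecResidueField u ≫ h ∧
          φ' ≫ f = φ) :
    ValuativeCriterion.Existence f := by
  intro sq
  obtain ⟨u, hux⟩ := hG (sq.i₁.base (closedPoint sq.K))
  -- (M1)
  obtain ⟨B, b, hbx, hb⟩ :=
    Groth.Agent.Helper4.ValSep.exists_valuationSubring_through_specialization h u _ hux
  -- (M2)
  let gB : Spec (CommRingCat.of (ResidueField B)) ⟶ X :=
    Spec.map (CommRingCat.ofHom (residue B)) ≫ b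
  have hgB : gB.base (closedPoint (ResidueField B)) = sq.i₁.base (closedPoint sq.K) := by
    have h1 : (Spec.map (CommRingCat.ofHom (residue B))).base (closedPoint (ResidueField B)) =
        closedPoint B := IsLocalRing.comap_closedPoint (residue B)
    change b.base ((Spec.map (CommRingCat.ofHom (residue B))).base _) = _
    rw [h1, hbx]
  obtain ⟨Ω, _, ωB, ωK, hΩ⟩ := exists_common_field gB sq.i₁ hgB
  -- (M3)
  obtain ⟨V, hV, hloc⟩ := exists_factor_valuationRing (ωK.comp (algebraMap sq.R sq.K))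
  -- (M4)
  let t : B →+* Ω := ωB.comp (residue B)
  have ht : ∀ y : B, ¬ IsUnit y → t y = 0 := by
    intro y hy
    change ωB (residue B y) = 0
    rw [(residue_eq_zero_iff y).mpr ((mem_maximalIdeal y).mpr hy), map_zero]
  -- (M5)
  obtain ⟨D, jW, hjW, hsW⟩ := exists_affine_nbhd S (sq.i₂.base (closedPoint sq.R))
  haveI := hjW
  obtain ⟨dR, hdR⟩ := exists_factor_of_isLocalRing sq.i₂ jW hsW
  have hfx : (b ≫ f).base (closedPoint B) ∈ Set.range jW.base := by
    have e1 : (b ≫ f).base (closedPoint B) = sq.i₂.base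
        ((Spec.map (CommRingCat.ofHom (algebraMap sq.R sq.K))).base (closedPoint sq.K)) := by
      change f.base (b.base (closedPoint B)) = _
      rw [hbx]
      change (sq.i₁ ≫ f).base _ = (Spec.map (CommRingCat.ofHom (algebraMap sq.R sq.K)) ≫ sq.i₂).base _
      rw [sq.commSq.w]
    rw [e1]
    exact ((specializes_closedPoint _).map sq.i₂.continuous).mem_open
      jW.isOpenEmbedding.isOpen_range hsW
  obtain ⟨dB, hdB⟩ := exists_factor_of_isLocalRing (b ≫ f) jW hfx
  have hcompat : dB ≫ CommRingCat.ofHom t =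
      dR ≫ CommRingCat.ofHom (ωK.comp (algebraMap sq.R sq.K)) := by
    have e : Spec.map (dB ≫ CommRingCat.ofHom t) ≫ jW =
        Spec.map (dR ≫ CommRingCat.ofHom (ωK.comp (algebraMap sq.R sq.K))) ≫ jW := by
      have e1 : CommRingCat.ofHom t = CommRingCat.ofHom (residue B) ≫ CommRingCat.ofHom ωB := rfl
      have e2 : CommRingCat.ofHom (ωK.comp (algebraMap sq.R sq.K)) =
          CommRingCat.ofHom (algebraMap sq.R sq.K) ≫ CommRingCat.ofHom ωK := rfl
      rw [e1, e2, Spec.map_comp, Spec.map_comp, Spec.map_comp, Spec.map_comp, Category.assoc,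
        Category.assoc, Category.assoc, Category.assoc, ← hdB, ← hdR, ← sq.commSq.w,
        ← Category.assoc (Spec.map (CommRingCat.ofHom (residue B))), ← Category.assoc,
        ← Category.assoc (Spec.map (CommRingCat.ofHom ωK)), ← hΩ]
    exact Spec.map_injective ((cancel_mono jW).mp e)
  have hcompat' : ∀ a : D, t (dB.hom a) = ωK (algebraMap sq.R sq.K (dR.hom a)) := fun a =>
    congrArg (fun φ => φ.hom a) hcompat
  have hdC : ∀ a : D, (B.subtype.comp dB.hom) a ∈ (compVal B t ht V).toSubring := by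
    intro a
    refine (mem_compVal B t ht V).mpr ⟨dB.hom a, ?_, rfl⟩
    rw [hcompat']
    exact hV _
  let dC : D ⟶ CommRingCat.of (compVal B t ht V) :=
    CommRingCat.ofHom (RingHom.codRestrict (B.subtype.comp dB.hom) (compVal B t ht V).toSubring hdC)
  let ιCB : CommRingCat.of (compVal B t ht V) ⟶ CommRingCat.of B :=
    CommRingCat.ofHom (inclB B t ht V)
  have hι : ιCB ≫ CommRingCat.ofHom B.subtype = CommRingCat.ofHom (compVal B t ht V).subtype := rfl
  have hdCι : dC ≫ ιCB = dB := by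
    ext a; rfl
  have hφC : Spec.map (CommRingCat.ofHom (compVal B t ht V).subtype) ≫ Spec.map dC ≫ jW =
      U.fromSpecResidueField u ≫ h ≫ f := by
    rw [← hι, Spec.map_comp, Category.assoc, ← Category.assoc (Spec.map ιCB), ← Spec.map_comp,
      hdCι, ← hdB, ← Category.assoc, hb, Category.assoc]
  -- (M6)
  obtain ⟨ℓ, ⟨hℓ1, hℓ2⟩, -⟩ := HV u (compVal B t ht V) (Spec.map dC ≫ jW) hφC
  -- (M7)
  have hbℓ : b = Spec.map ιCB ≫ ℓ := by
    obtain ⟨φ', -, huniq⟩ := HV u B (b ≫ f) (by rw [← Category.assoc, hb, Category.assoc])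
    have e1 := huniq b ⟨hb, rfl⟩
    have e2 := huniq (Spec.map ιCB ≫ ℓ) ⟨by
      rw [← Category.assoc, ← Spec.map_comp, hι, hℓ1], by
      rw [Category.assoc, hℓ2, ← Category.assoc, ← Spec.map_comp, hdCι, hdB]⟩
    exact e1.trans e2.symm
  -- (M8)
  obtain ⟨E, jW', hjW', hx''⟩ := exists_affine_nbhd X (ℓ.base (closedPoint (compVal B t ht V)))
  haveI := hjW'
  obtain ⟨lam, hlam⟩ := exists_factor_of_isLocalRing ℓ jW' hx''
  have hi₁ : sq.i₁.base (closedPoint sq.K) ∈ Set.range jW'.base := by
    rw [← hbx, hbℓ, hlam]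
    exact ⟨_, rfl⟩
  obtain ⟨mu, hmu⟩ := exists_factor_of_isLocalRing sq.i₁ jW' hi₁
  have hcompat2 : mu ≫ CommRingCat.ofHom ωK = lam ≫ ιCB ≫ CommRingCat.ofHom t := by
    have e : Spec.map (mu ≫ CommRingCat.ofHom ωK) ≫ jW' =
        Spec.map (lam ≫ ιCB ≫ CommRingCat.ofHom t) ≫ jW' := by
      have e1 : CommRingCat.ofHom t = CommRingCat.ofHom (residue B) ≫ CommRingCat.ofHom ωB := rfl
      rw [e1, Spec.map_comp, Spec.map_comp, Spec.map_comp, Spec.map_comp, Category.assoc,
        Category.assoc, Category.assoc, Category.assoc, ← hmu, ← hlam, ← hbℓ, ← hΩ]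
    exact Spec.map_injective ((cancel_mono jW').mp e)
  have hcompat2' : ∀ a : E, ωK (mu.hom a) = t (inclB B t ht V (lam.hom a)) := fun a =>
    congrArg (fun φ => φ.hom a) hcompat2
  have hmem : ∀ a : E, ∃ r : sq.R, algebraMap sq.R sq.K r = mu.hom a := by
    intro a
    apply mem_range_of_map_mem ωK V hV hloc
    rw [hcompat2']
    exact t_inclB_mem B t ht V _
  have hinj : Function.Injective (algebraMap sq.R sq.K) := IsFractionRing.injective _ _
  let eqv : sq.R ≃+* (algebraMap sq.R sq.K).range := RingEquiv.ofBijective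
    (algebraMap sq.R sq.K).rangeRestrict
    ⟨fun r₁ r₂ hr => hinj (congrArg Subtype.val hr),
      (algebraMap sq.R sq.K).rangeRestrict_surjective⟩
  let rho : E →+* sq.R := eqv.symm.toRingHom.comp
    (RingHom.codRestrict mu.hom (algebraMap sq.R sq.K).range (fun a => by
      obtain ⟨r, hr⟩ := hmem a; exact ⟨r, hr⟩))
  have hrho : ∀ a : E, algebraMap sq.R sq.K (rho a) = mu.hom a := by
    intro a
    have := eqv.apply_symm_apply
      (RingHom.codRestrict mu.hom (algebraMap sq.R sq.K).range (fun a => by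
        obtain ⟨r, hr⟩ := hmem a; exact ⟨r, hr⟩) a)
    exact congrArg Subtype.val this
  have hrho' : CommRingCat.ofHom rho ≫ CommRingCat.ofHom (algebraMap sq.R sq.K) = mu := by
    ext a; exact hrho a
  -- (M9)
  refine ⟨⟨⟨Spec.map (CommRingCat.ofHom rho) ≫ jW', ?_, ?_⟩⟩⟩
  · rw [← Category.assoc, ← Spec.map_comp, hrho', hmu]
  · -- right triangle
    let πV : sq.R →+* V := (ωK.comp (algebraMap sq.R sq.K)).codRestrict V.toSubring hV
    haveI : IsLocalHom πV := hloc
    have hπinj : Function.Injective πV := by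
      intro r₁ r₂ hr
      have := congrArg Subtype.val hr
      exact hinj (ωK.injective this)
    apply eq_of_comp_eq πV hπinj
    let tC : CommRingCat.of (compVal B t ht V) ⟶ CommRingCat.of V :=
      CommRingCat.ofHom (toV B t ht V)
    have h1 : CommRingCat.ofHom rho ≫ CommRingCat.ofHom πV = lam ≫ tC := by
      ext a
      change ωK (algebraMap sq.R sq.K (rho a)) = t (inclB B t ht V (lam.hom a))
      rw [hrho, hcompat2']
    have h2 : dC ≫ tC = dR ≫ CommRingCat.ofHom πV := by
      ext a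
      change t (inclB B t ht V (dC.hom a)) = ωK (algebraMap sq.R sq.K (dR.hom a))
      rw [← hcompat']
      rfl
    rw [← Category.assoc, ← Category.assoc, ← Spec.map_comp, h1, Spec.map_comp, Category.assoc,
      Category.assoc, ← Category.assoc (Spec.map lam), ← hlam, hℓ2, ← Category.assoc,
      ← Spec.map_comp, h2, Spec.map_comp, Category.assoc, ← hdR]

end Groth.Agent.Lib.Helper19.ValEx
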