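import Mathlib

/-!
# Surjective scheme-theoretically dominant quasi-compact morphisms are epimorphisms (helper19)
-/

set_option autoImplicit false

universe u

open CategoryTheory AlgebraicGeometry TopologicalSpace

namespace Groth.Agent.Helper19.EpiSTD

theorem epi_of_surjective_of_std {X Y : Scheme.{u}} (f : X ⟶ Y) [Surjective f]
    [IsSchemeTheoreticallyDominant f] [QuasiCompact f] : Epi f := by
  constructor
  intro Z χ₁ χ₂ h
  have hb : χ₁.base = χ₂.base := by
    ext y
    obtain ⟨x, rfl⟩ := f.surjective y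
    have := congrArg (fun g : X ⟶ Z => g.base x) h
    simpa using this
  refine Scheme.Hom.ext hb (fun U => ?_)
  have hinj := f.app_injective (χ₂ ⁻¹ᵁ U)
  haveI : Mono (f.app (χ₂ ⁻¹ᵁ U)) := ConcreteCategory.mono_of_injective _ hinj
  rw [← cancel_mono (f.app (χ₂ ⁻¹ᵁ U))]
  have h2 : (f ≫ χ₂).app U = χ₂.app U ≫ f.app (χ₂ ⁻¹ᵁ U) := Scheme.Hom.comp_app f χ₂ U
  have h1 : (f ≫ χ₁).app U = χ₁.app U ≫ f.app (χ₁ ⁻¹ᵁ U) := Scheme.Hom.comp_app f χ₁ U
  have h3 := Scheme.Hom.congr_app h U
  rw [Category.assoc, f.naturality, ← Category.assoc, ← h1, ← h2, h3]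
  erw [Category.assoc, ← Functor.map_comp]
  have hm : ∀ {A : (Opens X)ᵒᵖ} (m : A ⟶ A), X.presheaf.map m = 𝟙 _ := fun m => by
    rw [Subsingleton.elim m (𝟙 _), X.presheaf.map_id]
  erw [hm, Category.comp_id]

theorem std_SpecMap {R S : CommRingCat.{u}} (φ : R ⟶ S) (h : Function.Injective φ.hom) :
    IsSchemeTheoreticallyDominant (Spec.map φ) := by
  rw [isSchemeTheoreticallyDominant_iff]
  apply Scheme.IdealSheafData.ext_of_isAffine
  rw [Scheme.Hom.ker_apply]
  simp only [Scheme.IdealSheafData.ideal_bot, Pi.bot_apply]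
  rw [← RingHom.injective_iff_ker_eq_bot]
  have e : (Spec.map φ).appTop = (Scheme.ΓSpecIso R).hom ≫ φ ≫ (Scheme.ΓSpecIso S).inv := by
    rw [← Scheme.ΓSpecIso_naturality_assoc, Iso.hom_inv_id, Category.comp_id]
  change Function.Injective (Spec.map φ).appTop.hom
  rw [e]
  simp only [CommRingCat.hom_comp, RingHom.coe_comp]
  refine Function.Injective.comp ?_ ((ConcreteCategory.bijective_of_isIso (Scheme.ΓSpecIso R).hom).1)
  exact Function.Injective.comp
    ((ConcreteCategory.bijective_of_isIso (Scheme.ΓSpecIso S).inv).1) h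

end Groth.Agent.Helper19.EpiSTD
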