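import Mathlib
import Groth.Prelude.Def_HTop2
import Groth.Agent.Lib.Helper11.AWNSchemeIso
import Groth.Agent.Lib.Helper11.KeyLemma
import Groth.Agent.Lib.Helper20.EtaSN
import Groth.Agent.Lib.Helper7.Reduced

/-!
Seminormal schemes: a universal homeomorphism with trivial residue field extensions from a reduced
scheme to a seminormal scheme is an isomorphism; consequences.
-/

open AlgebraicGeometry CategoryTheory Limits

universe u

namespace Groth.Agent.Helper19.SNIso

open Groth.Agent.Helper11.UH Groth.Agent.Helper11.SemiN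

/-- A universal homeomorphism with trivial residue field extensions out of a seminormal ring into a
reduced ring is bijective. -/
theorem bijective_of_isSeminormalRing {A B : Type u} [CommRing A] [CommRing B] (χ : A →+* B)
    (hχ : UHom χ) (hr : RFTriv χ) (hA : HTop.IsSeminormalRing A) [IsReduced B] :
    Function.Bijective χ := by
  have hAred : IsReduced A := isReduced_of_isSeminormalRing hA
  have hinj : Function.Injective χ := by
    rw [injective_iff_map_eq_zero]
    intro b hb
    have hnil : b ∈ nilradical A := by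
      rw [nilradical_eq_sInf, Ideal.mem_sInf]
      intro q hq
      obtain ⟨Q, hQ⟩ := hχ.2.1 ⟨q, hq⟩
      have : b ∈ (PrimeSpectrum.comap χ Q).asIdeal := by
        change χ b ∈ Q.asIdeal
        rw [hb]
        exact Ideal.zero_mem _
      rw [hQ] at this
      exact this
    rw [nilradical_eq_zero A] at hnil
    exact hnil
  refine ⟨hinj, ?_⟩
  by_contra hsurj
  have hne : ∃ w, w ∉ χ.range := by
    by_contra hcon
    push Not at hcon
    exact hsurj fun w => hcon w
  obtain ⟨w, hw, ⟨y, hy⟩, ⟨x, hx⟩⟩ := KL_sn χ hχ hr hne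
  have hxy : x ^ 2 = y ^ 3 := by
    apply hinj
    rw [map_pow, map_pow, hx, hy]
    ring
  obtain ⟨a, ⟨ha1, ha2⟩, -⟩ := hA y x hxy.symm
  apply hw
  refine ⟨a, ?_⟩
  apply eq_of_sq_cube
  · rw [← map_pow, ← ha1, hy]
  · rw [← map_pow, ← ha2, hx]

/-- Residue field isomorphisms pass to the restriction over an affine open. -/
theorem residueFieldsIso_specMap_app {Y X : Scheme.{u}} (π : Y ⟶ X)
    (hres : HTop.ResidueFieldsIso π) {U : X.Opens} (hU : IsAffineOpen U)
    (hV : IsAffineOpen (π ⁻¹ᵁ U)) :
    HTop.ResidueFieldsIso (Spec.map (π.app U)) := by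
  intro z
  have hsq : Spec.map (π.app U) ≫ hU.fromSpec = hV.fromSpec ≫ π := by
    rw [Scheme.Hom.app_eq_appLE, IsAffineOpen.SpecMap_appLE_fromSpec]
  have h1 := Scheme.Hom.residueFieldMap_congr hsq z
  rw [Scheme.residueFieldMap_comp, Scheme.residueFieldMap_comp] at h1
  haveI : IsIso (π.residueFieldMap (hV.fromSpec z)) := hres _
  haveI : IsIso (hV.fromSpec.residueFieldMap z) := inferInstance
  haveI : IsIso (hU.fromSpec.residueFieldMap ((Spec.map (π.app U)) z)) := inferInstance
  haveI : IsIso (hU.fromSpec.residueFieldMap ((Spec.map (π.app U)) z) ≫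
      (Spec.map (π.app U)).residueFieldMap z) := by
    rw [h1]
    exact IsIso.comp_isIso' inferInstance (IsIso.comp_isIso' (hres _) inferInstance)
  exact IsIso.of_isIso_comp_left (hU.fromSpec.residueFieldMap ((Spec.map (π.app U)) z)) _

/-- A universal homeomorphism with trivial residue field extensions from a reduced scheme to a
seminormal scheme is an isomorphism. -/
theorem isIso_of_isSeminormal {Y X : Scheme.{u}} (π : Y ⟶ X) (hπ : FlatMor.IsUnivHomeo π)
    (hres : HTop.ResidueFieldsIso π) (hX : HTop.IsSeminormal X)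
    [AlgebraicGeometry.IsReduced Y] : IsIso π := by
  rw [isSeminormal_iff] at hX
  have := isAffineHom_of_isUnivHomeo π hπ
  change MorphismProperty.isomorphisms Scheme.{u} π
  apply prop_of_isPullback_family (MorphismProperty.isomorphisms Scheme.{u}) π
    (ι := X.affineOpens) (fun U => Spec Γ(X, U.1)) (fun U => Spec Γ(Y, π ⁻¹ᵁ U.1))
    (fun U => U.2.fromSpec) ?_ (fun U => (U.2.preimage π).fromSpec)
    (fun U => Spec.map (π.app U.1)) ?_ ?_
  · intro x
    obtain ⟨U, hU, hxU, -⟩ := exists_isAffineOpen_mem_and_subset (x := x) (U := ⊤) trivial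
    refine ⟨⟨U, hU⟩, ?_⟩
    rw [hU.range_fromSpec]
    exact hxU
  · intro U
    exact (isPullback_app π U.2 (U.2.preimage π)).flip
  · intro U
    change IsIso (Spec.map (π.app U.1))
    have hrf : RFTriv (π.app U.1).hom :=
      (Groth.Agent.Helper20.EtaSN.residueFieldsIso_iff (π.app U.1).hom).mp
        (residueFieldsIso_specMap_app π hres U.2 (U.2.preimage π))
    have hb : Function.Bijective (π.app U.1).hom :=
      bijective_of_isSeminormalRing _ (uhom_app π hπ U.2) hrf (hX U)
    have : IsIso (π.app U.1) := (ConcreteCategory.isIso_iff_bijective _).mpr hb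
    infer_instance

/-- A surjective closed immersion is a universal homeomorphism. -/
theorem isUnivHomeo_of_closedImmersion_surjective {Z Y : Scheme.{u}} (i : Z ⟶ Y)
    [IsClosedImmersion i] [Surjective i] : FlatMor.IsUnivHomeo i :=
  (isUnivHomeo_iff i).mpr ⟨inferInstance, inferInstance, inferInstance⟩

theorem residueFieldsIso_of_isPreimmersion {Z Y : Scheme.{u}} (i : Z ⟶ Y) [IsPreimmersion i] :
    HTop.ResidueFieldsIso i := by
  intro z
  rw [ConcreteCategory.isIso_iff_bijective]
  refine ⟨(i.residueFieldMap z).hom.injective, ?_⟩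
  have h := Scheme.residue_residueFieldMap i z
  have hs : Function.Surjective (i.stalkMap z ≫ Z.residue z).hom :=
    (Z.residue_surjective z).comp (i.stalkMap_surjective z)
  rw [← h] at hs
  intro w
  obtain ⟨t, ht⟩ := hs w
  exact ⟨(Y.residue (i z)).hom t, ht⟩

theorem isUnivHomeo_comp {A B C : Scheme.{u}} (f : A ⟶ B) (g : B ⟶ C)
    (hf : FlatMor.IsUnivHomeo f) (hg : FlatMor.IsUnivHomeo g) : FlatMor.IsUnivHomeo (f ≫ g) := by
  rw [isUnivHomeo_iff] at hf hg ⊢
  obtain ⟨_, hf2, _⟩ := hf
  obtain ⟨_, hg2, _⟩ := hg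
  exact ⟨inferInstance, MorphismProperty.comp_mem (W := @UniversallyInjective) f g hf2 hg2,
    inferInstance⟩

theorem residueFieldsIso_comp {A B C : Scheme.{u}} (f : A ⟶ B) (g : B ⟶ C)
    (hf : HTop.ResidueFieldsIso f) (hg : HTop.ResidueFieldsIso g) :
    HTop.ResidueFieldsIso (f ≫ g) := by
  intro a
  rw [Scheme.residueFieldMap_comp]
  exact IsIso.comp_isIso' (hg _) (hf _)

/-- A universal homeomorphism with trivial residue field extensions onto a seminormal scheme has a
section. -/
theorem exists_section {P T : Scheme.{u}} (p : P ⟶ T) (hp : FlatMor.IsUnivHomeo p)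
    (hres : HTop.ResidueFieldsIso p) (hT : HTop.IsSeminormal T) :
    ∃ s : T ⟶ P, s ≫ p = 𝟙 T := by
  haveI : Surjective P.nilradical.subschemeι :=
    ⟨Groth.Agent.Helper7.surjective_nilradical_subschemeι P⟩
  have h1 : FlatMor.IsUnivHomeo (P.nilradical.subschemeι ≫ p) :=
    isUnivHomeo_comp _ _ (isUnivHomeo_of_closedImmersion_surjective _) hp
  have h2 : HTop.ResidueFieldsIso (P.nilradical.subschemeι ≫ p) :=
    residueFieldsIso_comp _ _ (residueFieldsIso_of_isPreimmersion _) hres
  haveI : IsIso (P.nilradical.subschemeι ≫ p) := isIso_of_isSeminormal _ h1 h2 hT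
  exact ⟨inv (P.nilradical.subschemeι ≫ p) ≫ P.nilradical.subschemeι, by
    rw [Category.assoc, IsIso.inv_hom_id]⟩

/-- A section over the residue field of `t` pins down a point over `t` with trivial residue field
extension. -/
theorem residue_of_section {P T : Scheme.{u}} (p : P ⟶ T) (t : T)
    (σ : Spec (T.residueField t) ⟶ P) (hσ : σ ≫ p = T.fromSpecResidueField t) :
    ∃ z : P, p.base z = t ∧ IsIso (p.residueFieldMap z) := by
  obtain ⟨⟨z, lam⟩, rfl⟩ := (P.SpecToEquivOfField (T.residueField t)).symm.surjective σ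
  change (Spec.map lam ≫ P.fromSpecResidueField z) ≫ p = T.fromSpecResidueField t at hσ
  have h1 : (Spec.map lam ≫ P.fromSpecResidueField z) ≫ p =
      (T.SpecToEquivOfField (T.residueField t)).symm ⟨p.base z, p.residueFieldMap z ≫ lam⟩ := by
    show _ = Spec.map (p.residueFieldMap z ≫ lam) ≫ T.fromSpecResidueField (p.base z)
    rw [Category.assoc, ← Scheme.Hom.SpecMap_residueFieldMap_fromSpecResidueField,
      ← Category.assoc, ← Spec.map_comp]
  have h2 : T.fromSpecResidueField t =
      (T.SpecToEquivOfField (T.residueField t)).symm ⟨t, 𝟙 _⟩ := by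
    show _ = Spec.map (𝟙 _) ≫ T.fromSpecResidueField t
    rw [Spec.map_id, Category.id_comp]
  rw [h1, h2] at hσ
  have h3 := (T.SpecToEquivOfField (T.residueField t)).symm.injective hσ
  rw [Scheme.SpecToEquivOfField_eq_iff] at h3
  obtain ⟨e, he⟩ := h3
  dsimp only at e he
  refine ⟨z, e, ?_⟩
  rw [Category.comp_id] at he
  have hbij : Function.Bijective (p.residueFieldMap z ≫ lam).hom := by
    rw [he]
    exact (ConcreteCategory.isIso_iff_bijective _).mp inferInstance
  have hlam : Function.Bijective lam.hom := by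
    refine ⟨lam.hom.injective, ?_⟩
    intro w
    obtain ⟨v, hv⟩ := hbij.2 w
    exact ⟨(p.residueFieldMap z).hom v, hv⟩
  rw [ConcreteCategory.isIso_iff_bijective]
  refine ⟨(p.residueFieldMap z).hom.injective, ?_⟩
  intro w
  obtain ⟨v, hv⟩ := hbij.2 (lam.hom w)
  exact ⟨v, hlam.1 hv⟩

/-- Pointwise liftings through a proper universally injective morphism glue over a seminormal
base. -/
theorem exists_lift {T X Y : Scheme.{u}} (hT : HTop.IsSeminormal T)
    (f : X ⟶ Y) [IsProper f] [UniversallyInjective f] (g : T ⟶ Y)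
    (hlift : ∀ t : T, ∃ l : Spec (T.residueField t) ⟶ X, l ≫ f = T.fromSpecResidueField t ≫ g) :
    ∃ h : T ⟶ X, h ≫ f = g := by
  have hpts : ∀ t : T, ∃ z : ↥(pullback g f), (pullback.fst g f).base z = t ∧
      IsIso ((pullback.fst g f).residueFieldMap z) := by
    intro t
    obtain ⟨l, hl⟩ := hlift t
    exact residue_of_section (pullback.fst g f) t
      (pullback.lift (T.fromSpecResidueField t) l hl.symm) (pullback.lift_fst _ _ _)
  haveI : Surjective (pullback.fst g f) := ⟨fun t => by
    obtain ⟨z, hz, -⟩ := hpts t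
    exact ⟨z, hz⟩⟩
  haveI hUI : UniversallyInjective (pullback.fst g f) :=
    MorphismProperty.pullback_fst (P := @UniversallyInjective) g f inferInstance
  have hUH : FlatMor.IsUnivHomeo (pullback.fst g f) :=
    (isUnivHomeo_iff _).mpr ⟨inferInstance, hUI, inferInstance⟩
  have hRF : HTop.ResidueFieldsIso (pullback.fst g f) := by
    intro z'
    obtain ⟨z, hz, hiso⟩ := hpts ((pullback.fst g f).base z')
    have : z = z' := (pullback.fst g f).injective hz
    rw [← this]
    exact hiso
  obtain ⟨s, hs⟩ := exists_section (pullback.fst g f) hUH hRF hT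
  refine ⟨s ≫ pullback.snd g f, ?_⟩
  rw [Category.assoc, ← pullback.condition, ← Category.assoc, hs, Category.id_comp]

/-- A seminormalization of a seminormal scheme is an isomorphism. -/
theorem isIso_of_isSeminormalization {X' X : Scheme.{u}} (ν : X' ⟶ X)
    (hν : HTop.IsSeminormalization ν) (hX : HTop.IsSeminormal X) : IsIso ν := by
  obtain ⟨s, hs⟩ := exists_section ν hν.1.1 hν.1.2 hX
  have h1 : (ν ≫ s) ≫ ν = ν := by rw [Category.assoc, hs, Category.comp_id]
  have h2 : ν ≫ s = 𝟙 X' :=
    (hν.2 X' ν hν.1.1 hν.1.2).unique h1 (Category.id_comp ν)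
  exact ⟨s, h2, hs⟩

end Groth.Agent.Helper19.SNIso
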