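import Mathlib
import Groth.Prelude.Def_HTop2
import Groth.Agent.Lib.Helper19.SNIso
import Groth.Agent.Lib.Helper19.EpiSTD

/-!
Descent of global sections along proper surjective morphisms onto seminormal schemes (helper19).
-/

open AlgebraicGeometry CategoryTheory Limits TensorProduct

universe u

namespace Groth.Agent.Helper19.SNDescent

open Groth.Agent.Helper11.UH Groth.Agent.Helper11.SemiN Groth.Agent.Helper19.EpiSTD

/-- In a field extension `L/K`, an element `a` with `a ⊗ 1 = 1 ⊗ a` in `L ⊗[K] L` lies in `K`. -/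
theorem mem_range_of_tmul_comm {K L : Type*} [Field K] [Field L] [Algebra K L] (a : L)
    (h : a ⊗ₜ[K] (1 : L) = (1 : L) ⊗ₜ[K] a) : a ∈ Set.range (algebraMap K L) := by
  obtain ⟨r, hr⟩ := LinearMap.exists_leftInverse_of_injective (Algebra.linearMap K L)
    (LinearMap.ker_eq_bot.mpr (algebraMap K L).injective)
  have h1 : r 1 = 1 := by
    have := LinearMap.congr_fun hr 1
    simpa using this
  have h2 := congrArg (fun t => TensorProduct.lid K L (LinearMap.rTensor L r t)) h
  simp only [LinearMap.rTensor_tmul, TensorProduct.lid_tmul, h1, one_smul] at h2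
  refine ⟨r a, ?_⟩
  rw [Algebra.smul_def, mul_one] at h2
  exact h2

/-- `Spec` of a homomorphism of fields is an epimorphism of schemes. -/
theorem epi_SpecMap_field {K L : Type u} [Field K] [Field L] (φ : K →+* L) :
    Epi (Spec.map (CommRingCat.ofHom φ)) := by
  haveI : IsSchemeTheoreticallyDominant (Spec.map (CommRingCat.ofHom φ)) :=
    std_SpecMap _ φ.injective
  haveI : Surjective (Spec.map (CommRingCat.ofHom φ)) := by
    constructor
    intro y
    refine ⟨⟨⊥, Ideal.bot_prime⟩, ?_⟩
    apply PrimeSpectrum.ext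
    have : y.asIdeal = ⊥ := by
      have hy := y.isPrime
      rcases Ideal.eq_bot_or_top y.asIdeal with h | h
      · exact h
      · exact absurd h hy.ne_top
    rw [this]
    exact Ideal.comap_bot_of_injective _ φ.injective
  exact epi_of_surjective_of_std _

/-- If `g : Y ⟶ Z` is surjective and the kernel pair of `g ≫ q` is contained in the kernel pair
of `g`, then `q` is universally injective. -/
theorem universallyInjective_of_kernelPair {Y Z X : Scheme.{u}} (g : Y ⟶ Z) [Surjective g]
    (q : Z ⟶ X)
    (H : ∀ (T : Scheme.{u}) (a b : T ⟶ Y), a ≫ g ≫ q = b ≫ g ≫ q → a ≫ g = b ≫ g) :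
    UniversallyInjective q := by
  rw [UniversallyInjective.iff_diagonal]
  let m : pullback (g ≫ q) (g ≫ q) ⟶ pullback q q :=
    pullback.map (g ≫ q) (g ≫ q) q q g g (𝟙 X)
      ((Category.comp_id _).trans rfl) ((Category.comp_id _).trans rfl)
  have hm : Surjective m :=
    MorphismProperty.pullbackMap (P := @Surjective) (f := g ≫ q) (g := g ≫ q) (f' := q) (g' := q)
      (i₁ := g) (i₂ := g) inferInstance inferInstance rfl rfl
  constructor
  intro w
  obtain ⟨c, rfl⟩ := m.surjective w
  have hab : ((pullback (g ≫ q) (g ≫ q)).fromSpecResidueField c ≫ pullback.fst _ _) ≫ g =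
      ((pullback (g ≫ q) (g ≫ q)).fromSpecResidueField c ≫ pullback.snd _ _) ≫ g := by
    apply H
    rw [Category.assoc, Category.assoc, pullback.condition]
  have hfac := Scheme.Hom.SpecMap_residueFieldMap_fromSpecResidueField m c
  have hm1 : m ≫ pullback.fst q q = pullback.fst _ _ ≫ g := pullback.lift_fst _ _ _
  have hm2 : m ≫ pullback.snd q q = pullback.snd _ _ ≫ g := pullback.lift_snd _ _ _
  have h1 : Spec.map (m.residueFieldMap c) ≫
      ((pullback q q).fromSpecResidueField (m c) ≫ pullback.fst q q) =
      Spec.map (m.residueFieldMap c) ≫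
      ((pullback q q).fromSpecResidueField (m c) ≫ pullback.snd q q) := by
    rw [← Category.assoc, ← Category.assoc, hfac, Category.assoc, Category.assoc, hm1, hm2,
      ← Category.assoc, ← Category.assoc]
    exact hab
  haveI : Epi (Spec.map (m.residueFieldMap c)) :=
    epi_SpecMap_field (m.residueFieldMap c).hom
  have h2 := (cancel_epi _).mp h1
  have h3 : (pullback q q).fromSpecResidueField (m c) =
      ((pullback q q).fromSpecResidueField (m c) ≫ pullback.fst q q) ≫ pullback.diagonal q := by
    apply pullback.hom_ext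
    · rw [Category.assoc, pullback.diagonal_fst, Category.comp_id]
    · rw [Category.assoc, pullback.diagonal_snd, Category.comp_id, h2]
  let pt : Spec ((pullback q q).residueField (m c)) := default
  refine ⟨((pullback q q).fromSpecResidueField (m c) ≫ pullback.fst q q) pt, ?_⟩
  have h4 := congrArg (fun φ : Spec ((pullback q q).residueField (m c)) ⟶ pullback q q => φ pt) h3
  simp only [Scheme.fromSpecResidueField_apply] at h4
  exact h4.symm

/-- If the kernel pair of `g ≫ q` is contained in the kernel pair of `g`, then `q` induces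
isomorphisms of residue fields at all points in the image of `g`. -/
theorem residueFieldMap_surjective_of_kernelPair {Y Z X : Scheme.{u}} (g : Y ⟶ Z) (q : Z ⟶ X)
    (H : ∀ (T : Scheme.{u}) (a b : T ⟶ Y), a ≫ g ≫ q = b ≫ g ≫ q → a ≫ g = b ≫ g) (y : Y) :
    Function.Surjective (q.residueFieldMap (g y)).hom := by
  let φ : X.residueField (q (g y)) →+* Z.residueField (g y) := (q.residueFieldMap (g y)).hom
  let ψ : Z.residueField (g y) →+* Y.residueField y := (g.residueFieldMap y).hom
  letI : Algebra (X.residueField (q (g y))) (Y.residueField y) := (ψ.comp φ).toAlgebra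
  let K := X.residueField (q (g y))
  let L := Y.residueField y
  let i₁ : L →+* L ⊗[K] L := Algebra.TensorProduct.includeLeftRingHom
  let i₂ : L →+* L ⊗[K] L := (Algebra.TensorProduct.includeRight (R := K) (A := L) (B := L)).toRingHom
  have hi : i₁.comp (ψ.comp φ) = i₂.comp (ψ.comp φ) := by
    ext k
    show (algebraMap K L k) ⊗ₜ[K] (1 : L) = (1 : L) ⊗ₜ[K] (algebraMap K L k)
    rw [Algebra.algebraMap_eq_smul_one, TensorProduct.smul_tmul]
  have hg := Scheme.Hom.SpecMap_residueFieldMap_fromSpecResidueField g y
  have hq := Scheme.Hom.SpecMap_residueFieldMap_fromSpecResidueField q (g y)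
  have key : (Spec.map (CommRingCat.ofHom i₁) ≫ Y.fromSpecResidueField y) ≫ g =
      (Spec.map (CommRingCat.ofHom i₂) ≫ Y.fromSpecResidueField y) ≫ g := by
    apply H
    have e : ∀ i : L →+* L ⊗[K] L, (Spec.map (CommRingCat.ofHom i) ≫ Y.fromSpecResidueField y) ≫
        g ≫ q = Spec.map (CommRingCat.ofHom (i.comp (ψ.comp φ))) ≫
          X.fromSpecResidueField (q (g y)) := by
      intro i
      rw [Category.assoc, ← Category.assoc (Y.fromSpecResidueField y), ← hg, Category.assoc, ← hq,
        ← Spec.map_comp_assoc, ← Spec.map_comp_assoc]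
      rfl
    rw [e, e, hi]
  rw [Category.assoc, Category.assoc, ← hg, ← Spec.map_comp_assoc, ← Spec.map_comp_assoc,
    cancel_mono] at key
  have key2 := Spec.map_injective key
  intro a
  have h1 : (ψ a) ⊗ₜ[K] (1 : L) = (1 : L) ⊗ₜ[K] (ψ a) := by
    have := congrArg (fun t => t.hom a) key2
    exact this
  obtain ⟨b, hb⟩ := mem_range_of_tmul_comm (ψ a) h1
  exact ⟨b, ψ.injective hb⟩

/-- the scheme-theoretic image of a quasi-compact morphism from a reduced scheme is reduced -/
theorem isReduced_image {X Y : Scheme.{u}} (f : X ⟶ Y) [QuasiCompact f] [IsReduced X] :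
    IsReduced f.image := by
  rw [IsReduced.iff_of_openCover (X := f.image) f.ker.subschemeCover.openCover]
  intro (U : Y.affineOpens)
  have h3 : (f.ker.ideal U).IsRadical := by
    rw [Scheme.Hom.ker_apply]
    exact Ideal.IsRadical.comap (f := (f.app U).hom) Ideal.isRadical_bot
  have h2 : _root_.IsReduced (Γ(Y, U) ⧸ f.ker.ideal U) :=
    (Ideal.isRadical_iff_quotient_reduced _).mp h3
  exact (affine_isReduced_iff (.of (Γ(Y, U) ⧸ f.ker.ideal U))).mpr h2

/-- A seminormal scheme is reduced. -/
theorem isReduced_of_isSeminormal {X : Scheme.{u}} (hX : HTop.IsSeminormal X) : IsReduced X := by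
  rw [isSeminormal_iff] at hX
  refine ⟨fun U => ⟨fun s hs => ?_⟩⟩
  refine X.IsSheaf.section_ext fun x hx ↦ ?_
  obtain ⟨_, ⟨V, hV, rfl⟩, hxV, hVU : V ≤ U⟩ :=
    X.isBasis_affineOpens.exists_subset_of_mem_open hx U.isOpen
  refine ⟨V, hVU, hxV, ?_⟩
  have hred : _root_.IsReduced Γ(X, V) :=
    Groth.Agent.Helper11.UH.isReduced_of_isSeminormalRing (hX ⟨V, hV⟩)
  rw [map_zero]
  exact hred.eq_zero _ (hs.map _)

/-- Descent of global sections along a proper surjective morphism from a reduced scheme onto a
seminormal scheme. -/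
theorem main {X Y : Scheme.{u}} (hX : HTop.IsSeminormal X)
    (π : Y ⟶ X) [IsProper π] [Surjective π] [IsReduced Y]
    (s : Γ(Y, ⊤)) (hs : (pullback.fst π π).appTop s = (pullback.snd π π).appTop s) :
    ∃! t : Γ(X, ⊤), π.appTop t = s := by
  haveI : IsReduced X := isReduced_of_isSeminormal hX
  let W := 𝔸(PUnit.{u+1}; X)
  let f : Y ⟶ W := AffineSpace.homOfVector π (fun _ => s)
  have hfπ : f ≫ (W ↘ X) = π := AffineSpace.homOfVector_over _ _
  have hfs : f.appTop (AffineSpace.coord X PUnit.unit) = s :=
    AffineSpace.homOfVector_appTop_coord _ _ _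
  haveI : UniversallyClosed (f ≫ (W ↘ X)) := by rw [hfπ]; infer_instance
  haveI : UniversallyClosed f := UniversallyClosed.of_comp_of_isSeparated f (W ↘ X)
  haveI : QuasiCompact f := inferInstance
  let g : Y ⟶ f.image := f.toImage
  let q : f.image ⟶ X := f.imageι ≫ (W ↘ X)
  have hgq : g ≫ q = π := by
    show f.toImage ≫ f.imageι ≫ (W ↘ X) = π
    rw [← Category.assoc, f.toImage_imageι, hfπ]
  haveI : Surjective g :=
    surjective_of_isDominant_of_isClosed_range f.toImage (f.toImage.isClosedMap.isClosed_range)
  have hff : pullback.fst π π ≫ f = pullback.snd π π ≫ f := by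
    apply AffineSpace.hom_ext
    · rw [Category.assoc, Category.assoc, hfπ, pullback.condition]
    · intro i
      rw [Scheme.Hom.comp_appTop, Scheme.Hom.comp_appTop]
      show (pullback.fst π π).appTop (f.appTop (AffineSpace.coord X i)) =
        (pullback.snd π π).appTop (f.appTop (AffineSpace.coord X i))
      rw [show i = PUnit.unit from rfl, hfs, hs]
  have H : ∀ (T : Scheme.{u}) (a b : T ⟶ Y), a ≫ g ≫ q = b ≫ g ≫ q → a ≫ g = b ≫ g := by
    intro T a b hab
    rw [hgq] at hab
    have h1 : a ≫ f = b ≫ f := by
      have ha : a = pullback.lift a b hab ≫ pullback.fst π π := (pullback.lift_fst _ _ _).symm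
      have hb : b = pullback.lift a b hab ≫ pullback.snd π π := (pullback.lift_snd _ _ _).symm
      rw [ha, Category.assoc, hff, ← Category.assoc, ← hb]
    rw [← cancel_mono f.imageι, Category.assoc, Category.assoc, f.toImage_imageι]
    exact h1
  have hUH : FlatMor.IsUnivHomeo q := by
    rw [isUnivHomeo_iff]
    haveI : UniversallyClosed (g ≫ q) := by rw [hgq]; infer_instance
    haveI : Surjective (g ≫ q) := by rw [hgq]; infer_instance
    exact ⟨UniversallyClosed.of_comp_surjective g q, universallyInjective_of_kernelPair g q H,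
      Surjective.of_comp g q⟩
  have hres : HTop.ResidueFieldsIso q := by
    intro z
    obtain ⟨y, rfl⟩ := g.surjective z
    rw [ConcreteCategory.isIso_iff_bijective]
    exact ⟨(q.residueFieldMap (g y)).hom.injective,
      residueFieldMap_surjective_of_kernelPair g q H y⟩
  haveI : IsReduced f.image := isReduced_image f
  haveI : IsIso q := Groth.Agent.Helper19.SNIso.isIso_of_isSeminormal q hUH hres hX
  haveI : IsSchemeTheoreticallyDominant π := IsSchemeTheoreticallyDominant.of_isDominant π
  have hinj : Function.Injective π.appTop := π.app_injective ⊤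
  have hex : π.appTop ((inv q).appTop (f.imageι.appTop (AffineSpace.coord X PUnit.unit))) = s := by
    show π.appTop ((inv q).appTop (f.imageι.appTop (AffineSpace.coord X PUnit.unit))) = s
    have e1 : π.appTop = q.appTop ≫ g.appTop := by rw [← Scheme.Hom.comp_appTop, hgq]
    have e2 : (inv q).appTop ≫ q.appTop = 𝟙 _ := by
      rw [← Scheme.Hom.comp_appTop, IsIso.hom_inv_id]; rfl
    have e3 : f.imageι.appTop ≫ g.appTop = f.appTop := by
      rw [← Scheme.Hom.comp_appTop]
      show (f.toImage ≫ f.imageι).appTop = _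
      rw [f.toImage_imageι]
    rw [e1]
    have : ((inv q).appTop ≫ q.appTop ≫ g.appTop)
        (f.imageι.appTop (AffineSpace.coord X PUnit.unit)) = s := by
      rw [← Category.assoc, e2, Category.id_comp, ← hfs, ← e3]
      rfl
    exact this
  exact ⟨_, hex, fun t ht => hinj (ht.trans hex.symm)⟩

end Groth.Agent.Helper19.SNDescent
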