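import Mathlib
import Groth.Prelude
import Groth.Agent.Lib.Helper19.SNDescent

set_option autoImplicit false
set_option linter.style.haveILetI false
set_option backward.isDefEq.respectTransparency false
set_option backward.isDefEq.respectTransparency.types false
universe u
open CategoryTheory CategoryTheory.Limits AlgebraicGeometry

noncomputable section

namespace Groth.Agent.Helper19.EtDescHom

/-- a section of an étale morphism is an open immersion -/
theorem isOpenImmersion_of_section {P Y : Scheme.{u}} (p : P ⟶ Y) [Etale p] (σ : Y ⟶ P)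
    (h : σ ≫ p = 𝟙 Y) : IsOpenImmersion σ := by
  haveI : Etale (σ ≫ p) := by rw [h]; infer_instance
  haveI : Etale σ := Etale.of_comp σ p
  haveI : Mono σ := mono_of_mono_fac h
  exact IsOpenImmersion.of_flat_of_mono σ

/-- an étale universally injective morphism is an open immersion. -/
theorem isOpenImmersion_of_etale_of_universallyInjective {X Y : Scheme.{u}} (f : X ⟶ Y)
    [Etale f] [UniversallyInjective f] : IsOpenImmersion f := by
  haveI : Surjective (pullback.diagonal f) := (UniversallyInjective.iff_diagonal f).mp ‹_›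
  haveI : IsIso (pullback.diagonal f) :=
    (isIso_iff_isOpenImmersion_and_surjective _).mpr ⟨inferInstance, inferInstance⟩
  haveI : Mono f := (pullback.isIso_diagonal_iff f).mp inferInstance
  exact IsOpenImmersion.of_flat_of_mono f

/-- any morphism between spectra of fields is an epimorphism -/
theorem epi_of_fields {K M : Type u} [Field K] [Field M]
    (m : Spec (CommRingCat.of M) ⟶ Spec (CommRingCat.of K)) : Epi m := by
  have h : m = Spec.map (CommRingCat.ofHom (Spec.preimage m).hom) := by simp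
  rw [h]
  exact SNDescent.epi_SpecMap_field _

variable {X S : Scheme.{u}} (p : X ⟶ S) (U₁ U₂ : Over S)

/-- the key consequence of compatibility with the canonical descent data: the `U₂`-component
of a morphism of canonical descent data only depends on the `U₁`-component. -/
theorem key (F : (Desc.toDD p).obj U₁ ⟶ (Desc.toDD p).obj U₂)
    (φ : pullback p U₁.hom ⟶ pullback p U₂.hom) (hφ : φ = F.hom.left) {T : Scheme.{u}}
    (v v' : T ⟶ pullback p U₁.hom)
    (h : v ≫ pullback.snd p U₁.hom = v' ≫ pullback.snd p U₁.hom) :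
    v ≫ φ ≫ pullback.snd p U₂.hom = v' ≫ φ ≫ pullback.snd p U₂.hom := by
  have hφ1 : φ ≫ pullback.fst p U₂.hom = pullback.fst p U₁.hom := by
    rw [hφ]; exact Over.w F.hom
  have hx : (v ≫ pullback.fst p U₁.hom) ≫ p = (v' ≫ pullback.fst p U₁.hom) ≫ p := by
    rw [Category.assoc, Category.assoc, pullback.condition,
      ← Category.assoc, ← Category.assoc, h]
  have hw : (v ≫ φ) ≫ pullback.fst p U₂.hom = v ≫ pullback.fst p U₁.hom := by
    rw [Category.assoc, hφ1]
  have := F.comm (v ≫ pullback.fst p U₁.hom) (v' ≫ pullback.fst p U₁.hom) hx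
    ⟨v, rfl⟩ ⟨v ≫ φ, hw⟩ (by subst hφ; rfl)
  rw [← hφ] at this
  change (Desc.canMap p U₂ _ _ hx ⟨v ≫ φ, hw⟩).1 = (Desc.canMap p U₁ _ _ hx ⟨v, rfl⟩).1 ≫ φ
    at this
  rw [Desc.canMap_val, Desc.canMap_val] at this
  have h2 := congrArg (fun t => t ≫ pullback.snd p U₂.hom) this
  simp only [pullback.lift_snd, Category.assoc] at h2
  rw [h2]
  have h3 : pullback.lift (v' ≫ pullback.fst p U₁.hom) (v ≫ pullback.snd p U₁.hom)
      (by rw [Category.assoc, Category.assoc, pullback.condition,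
        ← Category.assoc, ← Category.assoc, h]) = v' := by
    apply pullback.hom_ext
    · simp
    · simp [h]
  rw [← Category.assoc, h3, Category.assoc]

instance : MorphismProperty.DescendsAlong @UniversallyInjective @Surjective := by
  rw [universallyInjective_eq_diagonal]; infer_instance

theorem main (hp : ∀ U : Over S, Etale U.hom →
      Topology.IsQuotientMap (pullback.snd p U.hom).base)
    [Etale U₁.hom] [Etale U₂.hom] (F : (Desc.toDD p).obj U₁ ⟶ (Desc.toDD p).obj U₂) :
    ∃ g : U₁ ⟶ U₂, (Desc.toDD p).map g = F := by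
  -- notation
  let φ : pullback p U₁.hom ⟶ pullback p U₂.hom := F.hom.left
  have hφ1 : φ ≫ pullback.fst p U₂.hom = pullback.fst p U₁.hom := Over.w F.hom
  have hkey := fun {T : Scheme.{u}} (v v' : T ⟶ pullback p U₁.hom) h =>
    key p U₁ U₂ F φ rfl v v' h
  let q₁ := pullback.snd p U₁.hom
  let ψ : pullback p U₁.hom ⟶ U₂.left := φ ≫ pullback.snd p U₂.hom
  have hψ : ψ ≫ U₂.hom = q₁ ≫ U₁.hom := by
    simp only [ψ, q₁, Category.assoc]
    rw [← pullback.condition, ← Category.assoc, hφ1, pullback.condition]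
  let w₁ := pullback.fst U₁.hom U₂.hom
  let w₂ := pullback.snd U₁.hom U₂.hom
  let γ : pullback p U₁.hom ⟶ pullback U₁.hom U₂.hom := pullback.lift q₁ ψ hψ.symm
  have hγ1 : γ ≫ w₁ = q₁ := pullback.lift_fst _ _ _
  have hγ2 : γ ≫ w₂ = ψ := pullback.lift_snd _ _ _
  haveI : Etale (w₁ ≫ U₁.hom) := inferInstance
  have hqW := hp (Over.mk (w₁ ≫ U₁.hom)) (by change Etale (w₁ ≫ U₁.hom); infer_instance)
  let qW := pullback.snd p (w₁ ≫ U₁.hom)
  let σ : pullback p U₁.hom ⟶ pullback p (w₁ ≫ U₁.hom) :=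
    pullback.lift (pullback.fst p U₁.hom) γ (by
      rw [← Category.assoc, hγ1]; exact pullback.condition)
  let π : pullback p (w₁ ≫ U₁.hom) ⟶ pullback p U₁.hom :=
    pullback.lift (pullback.fst p (w₁ ≫ U₁.hom)) (qW ≫ w₁) (by
      rw [Category.assoc]; exact pullback.condition)
  have hσπ : σ ≫ π = 𝟙 _ := by
    apply pullback.hom_ext
    · simp [σ, π]
    · simp only [σ, π, Category.assoc, pullback.lift_snd, Category.id_comp]
      rw [pullback.lift_snd_assoc]
      exact hγ1
  have hσq : σ ≫ qW = γ := pullback.lift_snd _ _ _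
  have hπq : π ≫ q₁ = qW ≫ w₁ := pullback.lift_snd _ _ _
  have hπ1 : π ≫ pullback.fst p U₁.hom = pullback.fst p (w₁ ≫ U₁.hom) := pullback.lift_fst _ _ _
  -- π is étale
  have hleft : IsPullback π qW q₁ w₁ := by
    refine IsPullback.of_right ?_ hπq (IsPullback.of_hasPullback p U₁.hom)
    rw [hπ1]
    exact IsPullback.of_hasPullback p (w₁ ≫ U₁.hom)
  haveI : Etale π := MorphismProperty.of_isPullback (P := @Etale) hleft.flip inferInstance
  haveI : IsOpenImmersion σ := isOpenImmersion_of_section π σ hσπ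
  -- the image of γ is open
  have hΓ : qW.base ⁻¹' (Set.range γ.base) = Set.range σ.base := by
    ext y
    constructor
    · rintro ⟨z, hz⟩
      obtain ⟨t, ht1, ht2⟩ := Scheme.Pullback.exists_preimage_pullback (f := qW) (g := γ) y z hz.symm
      let τ := (pullback qW γ).fromSpecResidueField t
      let a := τ ≫ pullback.fst qW γ
      let b := τ ≫ pullback.snd qW γ
      have hab : a ≫ qW = b ≫ γ := by
        simp only [a, b, Category.assoc, pullback.condition]
      have h1 : (a ≫ π) ≫ q₁ = b ≫ q₁ := by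
        rw [Category.assoc, hπq, ← Category.assoc, hab, Category.assoc, hγ1]
      have h2 := hkey (a ≫ π) b h1
      have h3 : a = (a ≫ π) ≫ σ := by
        apply pullback.hom_ext
        · simp only [Category.assoc, σ, pullback.lift_fst, hπ1]
        · change a ≫ qW = ((a ≫ π) ≫ σ) ≫ qW
          rw [Category.assoc (a ≫ π) σ qW, hσq]
          apply pullback.hom_ext
          · change (a ≫ qW) ≫ w₁ = ((a ≫ π) ≫ γ) ≫ w₁
            rw [Category.assoc (a ≫ π) γ w₁, hγ1, Category.assoc a π q₁, hπq,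
              Category.assoc a qW w₁]
          · change (a ≫ qW) ≫ w₂ = ((a ≫ π) ≫ γ) ≫ w₂
            rw [Category.assoc (a ≫ π) γ w₂, hγ2, hab, Category.assoc b γ w₂, hγ2]
            exact h2.symm
      let pt : Spec ((pullback qW γ).residueField t) := default
      refine ⟨(a ≫ π).base pt, ?_⟩
      have h4 : a.base pt = y := by
        simp only [a, τ, Scheme.Hom.comp_base, TopCat.hom_comp, ContinuousMap.comp_apply]
        rw [Scheme.fromSpecResidueField_apply]
        exact ht1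
      rw [← h4]
      conv_rhs => rw [h3]
      rfl
    · rintro ⟨z, rfl⟩
      refine ⟨z, ?_⟩
      rw [← hσq]
      rfl
  have hopen : IsOpen (Set.range γ.base) := by
    rw [← hqW.isOpen_preimage]
    change IsOpen (qW.base ⁻¹' _)
    rw [hΓ]
    exact σ.isOpenEmbedding.isOpen_range
  let Γo : (pullback U₁.hom U₂.hom).Opens := ⟨Set.range γ.base, hopen⟩
  have hrange : Set.range γ.base ⊆ Set.range Γo.ι.base := by
    rw [Scheme.Opens.range_ι]; exact subset_rfl
  let γ' : pullback p U₁.hom ⟶ Γo := IsOpenImmersion.lift Γo.ι γ hrange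
  have hγ' : γ' ≫ Γo.ι = γ := IsOpenImmersion.lift_fac _ _ _
  let e : (Γo : Scheme) ⟶ U₁.left := Γo.ι ≫ w₁
  have hq₁e : γ' ≫ e = q₁ := by
    change γ' ≫ Γo.ι ≫ w₁ = q₁
    rw [← Category.assoc, hγ', hγ1]
  haveI : Surjective q₁ := ⟨(hp U₁ inferInstance).surjective⟩
  haveI : Surjective e := by
    haveI : Surjective (γ' ≫ e) := by rw [hq₁e]; infer_instance
    exact Surjective.of_comp γ' e
  haveI : Etale e := by change Etale (Γo.ι ≫ w₁); infer_instance
  haveI : UniversallyInjective e := by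
    apply ((tfae_universallyInjective e).out 0 1).mpr
    intro K _ a b hab
    dsimp only at hab
    rw [← cancel_mono Γo.ι]
    have hab1 : (a ≫ Γo.ι) ≫ w₁ = (b ≫ Γo.ι) ≫ w₁ := by
      rw [Category.assoc, Category.assoc]; exact hab
    apply pullback.hom_ext
    · exact hab1
    · change (a ≫ Γo.ι) ≫ w₂ = (b ≫ Γo.ι) ≫ w₂
      let pt : Spec (CommRingCat.of K) := IsLocalRing.closedPoint K
      obtain ⟨za, hza⟩ : ∃ z, γ.base z = (a ≫ Γo.ι).base pt := (a.base pt).2
      obtain ⟨zb, hzb⟩ : ∃ z, γ.base z = (b ≫ Γo.ι).base pt := (b.base pt).2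
      obtain ⟨ta, hta1, hta2⟩ := Scheme.Pullback.exists_preimage_pullback
        (f := a ≫ Γo.ι) (g := γ) pt za hza.symm
      obtain ⟨tb, htb1, htb2⟩ := Scheme.Pullback.exists_preimage_pullback
        (f := b ≫ Γo.ι) (g := γ) pt zb hzb.symm
      obtain ⟨z, -, -⟩ := Scheme.Pullback.exists_preimage_pullback
        (f := pullback.fst (a ≫ Γo.ι) γ) (g := pullback.fst (b ≫ Γo.ι) γ) ta tb
        (by rw [hta1, htb1])
      let μ := (pullback (pullback.fst (a ≫ Γo.ι) γ) (pullback.fst (b ≫ Γo.ι) γ)).fromSpecResidueField z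
      obtain ⟨m, hm⟩ : ∃ m, m = μ ≫ pullback.fst _ _ ≫ pullback.fst (a ≫ Γo.ι) γ := ⟨_, rfl⟩
      obtain ⟨va, hva⟩ : ∃ v, v = μ ≫ pullback.fst _ _ ≫ pullback.snd (a ≫ Γo.ι) γ := ⟨_, rfl⟩
      obtain ⟨vb, hvb⟩ : ∃ v, v = μ ≫ pullback.snd _ _ ≫ pullback.snd (b ≫ Γo.ι) γ := ⟨_, rfl⟩
      have h_a : m ≫ (a ≫ Γo.ι) = va ≫ γ := by
        rw [hm, hva, Category.assoc, Category.assoc, Category.assoc, Category.assoc,
          pullback.condition]
      have c1 : pullback.fst (b ≫ Γo.ι) γ ≫ (b ≫ Γo.ι) = pullback.snd _ _ ≫ γ :=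
        pullback.condition
      have c2 : pullback.fst (pullback.fst (a ≫ Γo.ι) γ) (pullback.fst (b ≫ Γo.ι) γ) ≫
          pullback.fst (a ≫ Γo.ι) γ = pullback.snd _ _ ≫ pullback.fst (b ≫ Γo.ι) γ :=
        pullback.condition
      have h_b : m ≫ (b ≫ Γo.ι) = vb ≫ γ :=
        calc m ≫ (b ≫ Γo.ι) = (μ ≫ (pullback.fst _ _ ≫ pullback.fst (a ≫ Γo.ι) γ)) ≫
              (b ≫ Γo.ι) := by rw [hm]
          _ = (μ ≫ (pullback.snd _ _ ≫ pullback.fst (b ≫ Γo.ι) γ)) ≫ (b ≫ Γo.ι) := by rw [c2]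
          _ = μ ≫ pullback.snd _ _ ≫ (pullback.fst (b ≫ Γo.ι) γ ≫ (b ≫ Γo.ι)) := by
            simp only [Category.assoc]
          _ = μ ≫ pullback.snd _ _ ≫ pullback.snd (b ≫ Γo.ι) γ ≫ γ := by rw [c1]
          _ = vb ≫ γ := by rw [hvb]; simp only [Category.assoc]
      have h1 : va ≫ q₁ = vb ≫ q₁ :=
        calc va ≫ q₁ = va ≫ γ ≫ w₁ := by rw [hγ1]
          _ = (m ≫ (a ≫ Γo.ι)) ≫ w₁ := by rw [h_a, Category.assoc]
          _ = m ≫ ((a ≫ Γo.ι) ≫ w₁) := Category.assoc _ _ _
          _ = m ≫ ((b ≫ Γo.ι) ≫ w₁) := by rw [hab1]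
          _ = (vb ≫ γ) ≫ w₁ := by rw [← Category.assoc, h_b]
          _ = vb ≫ q₁ := by rw [Category.assoc, hγ1]
      have h2 := hkey va vb h1
      haveI : Epi m := epi_of_fields (K := K) m
      rw [← cancel_epi m]
      calc m ≫ (a ≫ Γo.ι) ≫ w₂ = (va ≫ γ) ≫ w₂ := by rw [← Category.assoc, h_a]
        _ = va ≫ ψ := by rw [Category.assoc, hγ2]
        _ = vb ≫ ψ := h2
        _ = (vb ≫ γ) ≫ w₂ := by rw [Category.assoc, hγ2]
        _ = m ≫ (b ≫ Γo.ι) ≫ w₂ := by rw [← h_b, Category.assoc]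
  haveI : IsOpenImmersion e := isOpenImmersion_of_etale_of_universallyInjective e
  haveI : IsIso e := (isIso_iff_isOpenImmersion_and_surjective e).mpr ⟨inferInstance, inferInstance⟩
  let g₀ : U₁.left ⟶ U₂.left := inv e ≫ Γo.ι ≫ w₂
  have hg₀ : g₀ ≫ U₂.hom = U₁.hom := by
    simp only [g₀, Category.assoc]
    rw [IsIso.inv_comp_eq]
    change Γo.ι ≫ w₂ ≫ U₂.hom = (Γo.ι ≫ w₁) ≫ U₁.hom
    rw [Category.assoc, pullback.condition]
  have hqg : q₁ ≫ g₀ = ψ := by
    simp only [g₀]
    rw [← hq₁e, Category.assoc, IsIso.hom_inv_id_assoc, ← Category.assoc, hγ', hγ2]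
  refine ⟨Over.homMk g₀ hg₀, ?_⟩
  apply Desc.SchDD.hom_ext
  apply Over.OverMorphism.ext
  change pullback.map p U₁.hom p U₂.hom (𝟙 X) g₀ (𝟙 S) (by simp) (by simp [hg₀]) = φ
  apply pullback.hom_ext
  · rw [pullback.lift_fst, Category.comp_id]; exact hφ1.symm
  · rw [pullback.lift_snd]; exact hqg

end Groth.Agent.Helper19.EtDescHom
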