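import Mathlib

set_option autoImplicit false
universe u
open CategoryTheory CategoryTheory.Limits AlgebraicGeometry

namespace Groth.Agent.Helper19.FBaseGeom

/-- pasting iso -/
theorem exists_iso_of_comp {X T S₁ S₂ : Scheme.{u}} (f : X ⟶ T) (σ : S₁ ⟶ T) (j : S₂ ⟶ S₁)
    (σ' : S₂ ⟶ T) (hσ : σ' = j ≫ σ) :
    ∃ e : pullback f σ' ≅ pullback (pullback.snd f σ) j,
      e.hom ≫ pullback.snd _ _ = pullback.snd f σ' := by
  subst hσ
  have h1 : IsPullback (pullback.fst f (j ≫ σ)) (pullback.snd f (j ≫ σ)) f (j ≫ σ) :=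
    IsPullback.of_hasPullback _ _
  have h2 : IsPullback (pullback.fst f σ) (pullback.snd f σ) f σ := IsPullback.of_hasPullback _ _
  have h3 := IsPullback.of_right
    (h₁₁ := pullback.lift (pullback.fst f (j ≫ σ)) (pullback.snd f (j ≫ σ) ≫ j)
      (by rw [pullback.condition, Category.assoc]))
    (by rw [pullback.lift_fst]; exact h1) (pullback.lift_snd _ _ _) h2
  exact ⟨h3.isoPullback, h3.isoPullback_hom_snd⟩

section

variable (P : ∀ (k : Type u) [Field k] (Z : Scheme.{u}), (Z ⟶ Spec (CommRingCat.of k)) → Prop)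
  (hiso : ∀ (k : Type u) [Field k] (Z Z' : Scheme.{u}) (e : Z ≅ Z')
    (g : Z' ⟶ Spec (CommRingCat.of k)), P k Z' g → P k Z (e.hom ≫ g))

include hiso

theorem geomFibre_iff
    (hext : ∀ (k K : Type u) [Field k] [Field K] (i : k →+* K) (Z : Scheme.{u})
      (g : Z ⟶ Spec (CommRingCat.of k)),
      P k Z g → P K (pullback g (Spec.map (CommRingCat.ofHom i)))
        (pullback.snd g (Spec.map (CommRingCat.ofHom i))))
    {X T : Scheme.{u}} (f : X ⟶ T) :
    (∀ (k : Type u) [Field k] [IsAlgClosed k] (σ : Spec (CommRingCat.of k) ⟶ T),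
        P k (pullback f σ) (pullback.snd f σ)) ↔
      ∀ t : T, P (AlgebraicClosure ↥(T.residueField t))
        (pullback f (Spec.map (CommRingCat.ofHom (algebraMap ↥(T.residueField t)
          (AlgebraicClosure ↥(T.residueField t)))) ≫ T.fromSpecResidueField t))
        (pullback.snd f (Spec.map (CommRingCat.ofHom (algebraMap ↥(T.residueField t)
          (AlgebraicClosure ↥(T.residueField t)))) ≫ T.fromSpecResidueField t)) := by
  constructor
  · intro H t
    exact H _ _
  · intro H k _ _ σ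
    obtain ⟨t, φ, hσ⟩ : ∃ t, ∃ φ : T.residueField t ⟶ CommRingCat.of k,
        σ = Spec.map φ ≫ T.fromSpecResidueField t :=
      ⟨_, _, ((Scheme.SpecToEquivOfField k T).left_inv σ).symm⟩
    letI : Algebra ↥(T.residueField t) k := φ.hom.toAlgebra
    let ψ : AlgebraicClosure ↥(T.residueField t) →ₐ[↥(T.residueField t)] k := IsAlgClosed.lift
    have hψ : (ψ : AlgebraicClosure ↥(T.residueField t) →+* k).comp
        (algebraMap ↥(T.residueField t) (AlgebraicClosure ↥(T.residueField t))) = φ.hom :=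
      ψ.comp_algebraMap
    have hσ' : σ = Spec.map (CommRingCat.ofHom (ψ : AlgebraicClosure ↥(T.residueField t) →+* k)) ≫
        (Spec.map (CommRingCat.ofHom (algebraMap ↥(T.residueField t)
          (AlgebraicClosure ↥(T.residueField t)))) ≫ T.fromSpecResidueField t) := by
      rw [hσ, ← Category.assoc, ← Spec.map_comp, ← CommRingCat.ofHom_comp, hψ]
      rfl
    have h1 := hext _ k (ψ : AlgebraicClosure ↥(T.residueField t) →+* k) _ _ (H t)
    obtain ⟨e, he⟩ := exists_iso_of_comp f _ _ σ hσ'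
    have h2 := hiso k _ _ e _ h1
    rw [he] at h2
    exact h2

theorem geomFibre_descent
    (hext : ∀ (k K : Type u) [Field k] [Field K] (i : k →+* K) (Z : Scheme.{u})
      (g : Z ⟶ Spec (CommRingCat.of k)),
      P k Z g ↔ P K (pullback g (Spec.map (CommRingCat.ofHom i)))
        (pullback.snd g (Spec.map (CommRingCat.ofHom i))))
    {X T X' T' : Scheme.{u}} (f : X ⟶ T) (h : T' ⟶ T) [Surjective h] (f' : X' ⟶ T') (h' : X' ⟶ X)
    (sq : IsPullback h' f' f h)
    (H : ∀ (k : Type u) [Field k] [IsAlgClosed k] (σ' : Spec (CommRingCat.of k) ⟶ T'),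
        P k (pullback f' σ') (pullback.snd f' σ'))
    (k : Type u) [Field k] [IsAlgClosed k] (σ : Spec (CommRingCat.of k) ⟶ T) :
    P k (pullback f σ) (pullback.snd f σ) := by
  haveI : Surjective (pullback.fst σ h) := inferInstance
  obtain ⟨x⟩ : Nonempty ↥(Spec (CommRingCat.of k)) := inferInstance
  obtain ⟨w, -⟩ := (pullback.fst σ h).surjective x
  let K := AlgebraicClosure ↥((pullback σ h).residueField w)
  let τ : Spec (CommRingCat.of K) ⟶ pullback σ h :=
    Spec.map (CommRingCat.ofHom (algebraMap ↥((pullback σ h).residueField w) K)) ≫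
      (pullback σ h).fromSpecResidueField w
  obtain ⟨i', hi'⟩ : ∃ i' : CommRingCat.of k ⟶ CommRingCat.of K,
      Spec.map i' = τ ≫ pullback.fst σ h := ⟨Spec.preimage _, Spec.map_preimage _⟩
  have hcomm : (τ ≫ pullback.snd σ h) ≫ h = Spec.map (CommRingCat.ofHom i'.hom) ≫ σ := by
    rw [Category.assoc, ← pullback.condition, ← Category.assoc, ← hi']
    rfl
  have HK := H K (τ ≫ pullback.snd σ h)
  have hp := (IsPullback.of_hasPullback f' (τ ≫ pullback.snd σ h)).paste_horiz sq
  obtain ⟨e1, he1⟩ := exists_iso_of_comp f σ (Spec.map (CommRingCat.ofHom i'.hom))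
    ((τ ≫ pullback.snd σ h) ≫ h) hcomm
  rw [hext k K i'.hom _ (pullback.snd f σ)]
  have h2 := hiso K _ _ (e1.symm ≪≫ hp.isoPullback.symm) _ HK
  have h3 : (e1.symm ≪≫ hp.isoPullback.symm).hom ≫ pullback.snd f' (τ ≫ pullback.snd σ h) =
      pullback.snd (pullback.snd f σ) (Spec.map (CommRingCat.ofHom i'.hom)) := by
    simp only [Iso.trans_hom, Iso.symm_hom, Category.assoc]
    rw [hp.isoPullback_inv_snd, ← he1, Iso.inv_hom_id_assoc]
  rw [h3] at h2
  exact h2

end

end Groth.Agent.Helper19.FBaseGeom
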