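import Mathlib

universe u
open CategoryTheory

namespace Groth.Agent.Helper19.FQ

variable {R : Type u} [CommRing R]

/-- The concrete localisation-of-quotient ring. -/
abbrev A (I : Ideal R) (S : Submonoid R) : Type u :=
  Localization (S.map (Ideal.Quotient.mk I))

/-- structure map -/
noncomputable def φA (I : Ideal R) (S : Submonoid R) : R →+* A I S :=
  (algebraMap (R ⧸ I) (A I S)).comp (Ideal.Quotient.mk I)

lemma φA_apply (I : Ideal R) (S : Submonoid R) (x : R) :
    φA I S x = algebraMap (R ⧸ I) (A I S) (Ideal.Quotient.mk I x) := rfl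

lemma φA_eq_zero_of_mem {I : Ideal R} {S : Submonoid R} {x : R} (hx : x ∈ I) : φA I S x = 0 := by
  rw [φA_apply, Ideal.Quotient.eq_zero_iff_mem.mpr hx, map_zero]

lemma φA_isUnit_of_mem {I : Ideal R} {S : Submonoid R} {s : R} (hs : s ∈ S) :
    IsUnit (φA I S s) := by
  rw [φA_apply]
  exact IsLocalization.map_units (A I S)
    (⟨Ideal.Quotient.mk I s, Submonoid.mem_map_of_mem _ hs⟩ : S.map (Ideal.Quotient.mk I))

lemma φA_eq_zero_iff {I : Ideal R} {S : Submonoid R} {x : R} :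
    φA I S x = 0 ↔ ∃ s ∈ S, s * x ∈ I := by
  rw [φA_apply, IsLocalization.map_eq_zero_iff (S.map (Ideal.Quotient.mk I))]
  constructor
  · rintro ⟨⟨_, s, hs, rfl⟩, h⟩
    refine ⟨s, hs, ?_⟩
    rw [← Ideal.Quotient.eq_zero_iff_mem, map_mul]
    exact h
  · rintro ⟨s, hs, h⟩
    refine ⟨⟨Ideal.Quotient.mk I s, Submonoid.mem_map_of_mem _ hs⟩, ?_⟩
    rw [← Ideal.Quotient.eq_zero_iff_mem, map_mul] at h
    exact h

lemma φA_surj (I : Ideal R) (S : Submonoid R) (b : A I S) :
    ∃ x s, s ∈ S ∧ b * φA I S s = φA I S x := by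
  obtain ⟨⟨y, ⟨_, s, hs, rfl⟩⟩, h⟩ := IsLocalization.surj (S.map (Ideal.Quotient.mk I)) b
  obtain ⟨x, rfl⟩ := Ideal.Quotient.mk_surjective y
  exact ⟨x, s, hs, h⟩

/-- Universal property: existence. -/
lemma exists_lift {I : Ideal R} {S : Submonoid R} {C : Type u} [CommRing C] (ψ : R →+* C)
    (hI : ∀ x ∈ I, ψ x = 0) (hS : ∀ s ∈ S, IsUnit (ψ s)) :
    ∃ g : A I S →+* C, g.comp (φA I S) = ψ := by
  have hu : ∀ y : S.map (Ideal.Quotient.mk I), IsUnit (Ideal.Quotient.lift I ψ hI y) := by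
    rintro ⟨_, s, hs, rfl⟩
    simpa using hS s hs
  refine ⟨IsLocalization.lift hu, ?_⟩
  ext x
  simp [φA_apply]

/-- Universal property: uniqueness. -/
lemma hom_ext {I : Ideal R} {S : Submonoid R} {C : Type u} [CommRing C] {g g' : A I S →+* C}
    (h : g.comp (φA I S) = g'.comp (φA I S)) : g = g' := by
  apply IsLocalization.ringHom_ext (S.map (Ideal.Quotient.mk I))
  apply Ideal.Quotient.ringHom_ext
  exact h

/-- fraction-quotient algebras -/
def IsFQ {B : Type u} [CommRing B] (φ : R →+* B) : Prop :=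
  ∀ b : B, ∃ x s, IsUnit (φ s) ∧ b * φ s = φ x

/-- the submonoid of elements becoming units -/
def unitsS {B : Type u} [CommRing B] (φ : R →+* B) : Submonoid R :=
  (IsUnit.submonoid B).comap φ

lemma mem_unitsS {B : Type u} [CommRing B] (φ : R →+* B) (s : R) :
    s ∈ unitsS φ ↔ IsUnit (φ s) := Iff.rfl

lemma isFQ_φA (I : Ideal R) (S : Submonoid R) : IsFQ (φA I S) := by
  intro b
  obtain ⟨x, s, hs, h⟩ := φA_surj I S b
  exact ⟨x, s, φA_isUnit_of_mem hs, h⟩

/-- An FQ algebra is canonically the model ring for its saturated pair. -/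
lemma exists_equiv_of_isFQ {B : Type u} [CommRing B] (φ : R →+* B) (h : IsFQ φ) :
    ∃ e : A (RingHom.ker φ) (unitsS φ) ≃+* B,
      e.toRingHom.comp (φA (RingHom.ker φ) (unitsS φ)) = φ := by
  obtain ⟨g, hg⟩ := exists_lift (I := RingHom.ker φ) (S := unitsS φ) φ
    (fun x hx => hx) (fun s hs => hs)
  have hg' : ∀ x, g (φA _ _ x) = φ x := fun x => RingHom.congr_fun hg x
  have hinj : Function.Injective g := by
    rw [injective_iff_map_eq_zero]
    intro b hb
    obtain ⟨x, s, hs, hbs⟩ := φA_surj _ _ b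
    have h1 : φ x = 0 := by
      rw [← hg' x, ← hbs, map_mul, hb, zero_mul]
    have h2 : φA (RingHom.ker φ) (unitsS φ) x = 0 := φA_eq_zero_of_mem h1
    have h3 := φA_isUnit_of_mem (I := RingHom.ker φ) hs
    rw [h2] at hbs
    exact (h3.mul_left_eq_zero).mp hbs
  have hsurj : Function.Surjective g := by
    intro b
    obtain ⟨x, s, hs, hbs⟩ := h b
    have h3 := φA_isUnit_of_mem (I := RingHom.ker φ) (S := unitsS φ) (s := s) hs
    obtain ⟨u, hu⟩ := h3
    refine ⟨φA (RingHom.ker φ) (unitsS φ) x * ((u⁻¹ : Units _) : A (RingHom.ker φ) (unitsS φ)), ?_⟩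
    have : g (u : A (RingHom.ker φ) (unitsS φ)) = φ s := by rw [hu, hg']
    have hgu : g ((u⁻¹ : Units _) : A (RingHom.ker φ) (unitsS φ)) * φ s = 1 := by
      rw [← this, ← map_mul, Units.inv_mul, map_one]
    rw [map_mul, hg', ← hbs, mul_assoc, mul_comm (φ s), hgu, mul_one]
  exact ⟨RingEquiv.ofBijective g ⟨hinj, hsurj⟩, hg⟩

end Groth.Agent.Helper19.FQ
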