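import Mathlib
import Groth.Agent.Lib.Helper19.FQAlg

universe u
open CategoryTheory

namespace Groth.Agent.Helper19.FQ

variable {R : Type u} [CommRing R]

lemma nontrivial_iff {I : Ideal R} {S : Submonoid R} :
    Nontrivial (A I S) ↔ ∀ s ∈ S, s ∉ I := by
  constructor
  · intro hn s hs hsI
    have h1 := φA_isUnit_of_mem (I := I) hs
    rw [φA_eq_zero_of_mem hsI] at h1
    exact not_isUnit_zero h1
  · intro h
    by_contra hn
    rw [not_nontrivial_iff_subsingleton] at hn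
    have : φA I S 1 = 0 := Subsingleton.elim _ _
    obtain ⟨s, hs, hsI⟩ := φA_eq_zero_iff.mp this
    rw [mul_one] at hsI
    exact h s hs hsI

/-- transition maps -/
noncomputable def trans {I I' : Ideal R} {S S' : Submonoid R} (hI : I ≤ I') (hS : S ≤ S') :
    A I S →+* A I' S' :=
  (exists_lift (I := I) (S := S) (φA I' S') (fun _ hx => φA_eq_zero_of_mem (hI hx))
    (fun _ hs => φA_isUnit_of_mem (hS hs))).choose

lemma trans_comp_φA {I I' : Ideal R} {S S' : Submonoid R} (hI : I ≤ I') (hS : S ≤ S') :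
    (trans hI hS).comp (φA I S) = φA I' S' :=
  (exists_lift (I := I) (S := S) (φA I' S') (fun _ hx => φA_eq_zero_of_mem (hI hx))
    (fun _ hs => φA_isUnit_of_mem (hS hs))).choose_spec

lemma trans_refl (I : Ideal R) (S : Submonoid R) :
    trans (le_refl I) (le_refl S) = RingHom.id _ := by
  apply hom_ext
  rw [trans_comp_φA]
  rfl

lemma trans_trans {I I' I'' : Ideal R} {S S' S'' : Submonoid R} (hI : I ≤ I') (hS : S ≤ S')
    (hI' : I' ≤ I'') (hS' : S' ≤ S'') :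
    (trans hI' hS').comp (trans hI hS) = trans (hI.trans hI') (hS.trans hS') := by
  apply hom_ext
  rw [RingHom.comp_assoc, trans_comp_φA, trans_comp_φA, trans_comp_φA]

section chain

variable (c : Set (Ideal R × Submonoid R)) (hc : IsChain (· ≤ ·) c) (hne : c.Nonempty)

include hc in
lemma exists_ge_of_chain {p q : Ideal R × Submonoid R} (hp : p ∈ c) (hq : q ∈ c) :
    ∃ r ∈ c, p ≤ r ∧ q ≤ r := by
  rcases hc.total hp hq with h | h
  · exact ⟨q, hq, h, le_rfl⟩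
  · exact ⟨p, hp, le_rfl, h⟩

include hc hne in
lemma mem_sSup_fst {x : R} : x ∈ sSup (Prod.fst '' c) ↔ ∃ p ∈ c, x ∈ p.1 := by
  have hd : DirectedOn (· ≤ ·) (Prod.fst '' c) := by
    rintro _ ⟨p, hp, rfl⟩ _ ⟨q, hq, rfl⟩
    obtain ⟨r, hr, h1, h2⟩ := exists_ge_of_chain c hc hp hq
    exact ⟨r.1, ⟨r, hr, rfl⟩, h1.1, h2.1⟩
  rw [Submodule.mem_sSup_of_directed (hne.image _) hd]
  constructor
  · rintro ⟨_, ⟨p, hp, rfl⟩, hx⟩
    exact ⟨p, hp, hx⟩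
  · rintro ⟨p, hp, hx⟩
    exact ⟨_, ⟨p, hp, rfl⟩, hx⟩

include hc hne in
lemma mem_sSup_snd {x : R} : x ∈ sSup (Prod.snd '' c) ↔ ∃ p ∈ c, x ∈ p.2 := by
  have hd : DirectedOn (· ≤ ·) (Prod.snd '' c) := by
    rintro _ ⟨p, hp, rfl⟩ _ ⟨q, hq, rfl⟩
    obtain ⟨r, hr, h1, h2⟩ := exists_ge_of_chain c hc hp hq
    exact ⟨r.2, ⟨r, hr, rfl⟩, h1.2, h2.2⟩
  rw [Submonoid.mem_sSup_of_directedOn (hne.image _) hd]
  constructor
  · rintro ⟨_, ⟨p, hp, rfl⟩, hx⟩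
    exact ⟨p, hp, hx⟩
  · rintro ⟨p, hp, hx⟩
    exact ⟨_, ⟨p, hp, rfl⟩, hx⟩

include hc hne in
lemma nontrivial_sSup (h : ∀ p ∈ c, Nontrivial (A p.1 p.2)) :
    Nontrivial (A (sSup (Prod.fst '' c)) (sSup (Prod.snd '' c))) := by
  rw [nontrivial_iff]
  intro s hs hsI
  obtain ⟨p, hp, hsp⟩ := (mem_sSup_snd c hc hne).mp hs
  obtain ⟨q, hq, hsq⟩ := (mem_sSup_fst c hc hne).mp hsI
  obtain ⟨r, hr, h1, h2⟩ := exists_ge_of_chain c hc hp hq
  exact (nontrivial_iff.mp (h r hr)) s (h1.2 hsp) (h2.1 hsq)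

lemma le_sSup_fst {p : Ideal R × Submonoid R} (hp : p ∈ c) : p.1 ≤ sSup (Prod.fst '' c) :=
  le_sSup ⟨p, hp, rfl⟩

lemma le_sSup_snd {p : Ideal R × Submonoid R} (hp : p ∈ c) : p.2 ≤ sSup (Prod.snd '' c) :=
  le_sSup ⟨p, hp, rfl⟩

include hc hne in
/-- the colimit property of the supremum along a chain -/
lemma exists_desc {C : Type u} [CommRing C] (g : ∀ p : c, A p.1.1 p.1.2 →+* C)
    (hg : ∀ (p q : c) (h : p.1 ≤ q.1), (g q).comp (trans h.1 h.2) = g p) :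
    ∃ G : A (sSup (Prod.fst '' c)) (sSup (Prod.snd '' c)) →+* C,
      ∀ p : c, G.comp (trans (le_sSup_fst c p.2) (le_sSup_snd c p.2)) = g p := by
  obtain ⟨p₀, hp₀⟩ := hne
  let ψ : R →+* C := (g ⟨p₀, hp₀⟩).comp (φA p₀.1 p₀.2)
  have hψ : ∀ p : c, (g p).comp (φA p.1.1 p.1.2) = ψ := by
    rintro ⟨p, hp⟩
    obtain ⟨r, hr, h1, h2⟩ := exists_ge_of_chain c hc hp hp₀
    have e1 := hg ⟨p, hp⟩ ⟨r, hr⟩ h1
    have e2 := hg ⟨p₀, hp₀⟩ ⟨r, hr⟩ h2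
    change (g ⟨p, hp⟩).comp (φA p.1 p.2) = (g ⟨p₀, hp₀⟩).comp (φA p₀.1 p₀.2)
    rw [← e1, ← e2, RingHom.comp_assoc, RingHom.comp_assoc, trans_comp_φA, trans_comp_φA]
  obtain ⟨G, hG⟩ := exists_lift (I := sSup (Prod.fst '' c)) (S := sSup (Prod.snd '' c)) ψ
    (by
      intro x hx
      obtain ⟨p, hp, hxp⟩ := (mem_sSup_fst c hc ⟨p₀, hp₀⟩).mp hx
      rw [← hψ ⟨p, hp⟩]
      simp [φA_eq_zero_of_mem hxp])
    (by
      intro s hs
      obtain ⟨p, hp, hsp⟩ := (mem_sSup_snd c hc ⟨p₀, hp₀⟩).mp hs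
      rw [← hψ ⟨p, hp⟩]
      exact (φA_isUnit_of_mem hsp).map (g ⟨p, hp⟩))
  refine ⟨G, fun p => ?_⟩
  apply hom_ext
  rw [RingHom.comp_assoc, trans_comp_φA, hG, hψ]

end chain

lemma IsFQ.comp {B B' : Type u} [CommRing B] [CommRing B'] {φ : R →+* B} (hφ : IsFQ φ)
    (g : B →+* B') (hg : ∀ b' : B', ∃ b r, IsUnit (g (φ r)) ∧ b' * g (φ r) = g b) :
    IsFQ (g.comp φ) := by
  intro b'
  obtain ⟨b, r, hr, hb⟩ := hg b'
  obtain ⟨x, s, hs, hx⟩ := hφ b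
  refine ⟨x, r * s, ?_, ?_⟩
  · simp only [RingHom.comp_apply, map_mul]
    exact hr.mul (hs.map g)
  · simp only [RingHom.comp_apply, map_mul]
    rw [← mul_assoc, hb, ← map_mul, hx]

lemma isFQ_id : IsFQ (RingHom.id R) := fun b => ⟨b, 1, by simp, by simp⟩

end Groth.Agent.Helper19.FQ
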