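import Mathlib
import Groth.Agent.Lib.Helper19.FQAlg2

universe u
open CategoryTheory

namespace Groth.Agent.Helper19.FQ

variable {R : Type u} [CommRing R]

/-- The abstract Zorn argument: a property `Q` of `R`-algebras (given by ring maps out of `R`)
which is invariant under isomorphism, passes to the reduction, satisfies the open/closed dichotomy
and passes to suprema of chains holds for some field if it holds for a nontrivial `R`. -/
theorem exists_isField
    (Q : ∀ (B : Type u) [CommRing B], (R →+* B) → Prop)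
    (Q1 : ∀ (B B' : Type u) [CommRing B] [CommRing B'] (φ : R →+* B) (e : B ≃+* B'),
      Q B φ ↔ Q B' (e.toRingHom.comp φ))
    (Q2 : ∀ (B : Type u) [CommRing B] (φ : R →+* B), Q B φ →
      Q (B ⧸ nilradical B) ((Ideal.Quotient.mk (nilradical B)).comp φ))
    (Q3 : ∀ (B : Type u) [CommRing B] (φ : R →+* B) (f : B), Q B φ →
      Q (Localization.Away f) ((algebraMap B (Localization.Away f)).comp φ) ∨
      Q (B ⧸ Ideal.span {f}) ((Ideal.Quotient.mk (Ideal.span {f})).comp φ))
    (Q4 : ∀ c : Set (Ideal R × Submonoid R), IsChain (· ≤ ·) c → c.Nonempty →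
      (∀ p ∈ c, Q (A p.1 p.2) (φA p.1 p.2)) →
      Q (A (sSup (Prod.fst '' c)) (sSup (Prod.snd '' c)))
        (φA (sSup (Prod.fst '' c)) (sSup (Prod.snd '' c))))
    [Nontrivial R] (h0 : Q R (RingHom.id R)) :
    ∃ (B : Type u) (_ : CommRing B) (φ : R →+* B), IsField B ∧ Q B φ := by
  classical
  let 𝔉 : Set (Ideal R × Submonoid R) :=
    {p | Nontrivial (A p.1 p.2) ∧ Q (A p.1 p.2) (φA p.1 p.2)}
  -- saturated pairs of FQ algebras with `Q` lie in `𝔉`
  have sat : ∀ (B : Type u) [CommRing B] (φ : R →+* B), IsFQ φ → Nontrivial B → Q B φ →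
      ((RingHom.ker φ, unitsS φ) : Ideal R × Submonoid R) ∈ 𝔉 := by
    intro B _ φ hφ hn hQ
    obtain ⟨e, he⟩ := exists_equiv_of_isFQ φ hφ
    refine ⟨e.toEquiv.nontrivial, ?_⟩
    rw [Q1 _ _ _ e, he]
    exact hQ
  have hx₀ := sat R (RingHom.id R) isFQ_id inferInstance h0
  obtain ⟨m, -, hm⟩ := zorn_le_nonempty₀ 𝔉 (by
    intro c hc𝔉 hc y hy
    refine ⟨(sSup (Prod.fst '' c), sSup (Prod.snd '' c)), ⟨?_, ?_⟩, ?_⟩
    · exact nontrivial_sSup c hc ⟨y, hy⟩ (fun p hp => (hc𝔉 hp).1)
    · exact Q4 c hc ⟨y, hy⟩ (fun p hp => (hc𝔉 hp).2)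
    · intro z hz
      exact ⟨le_sSup_fst c hz, le_sSup_snd c hz⟩) _ hx₀
  obtain ⟨hmn, hmQ⟩ := hm.prop
  -- the maximality consequence
  have key : ∀ (B' : Type u) [CommRing B'] (g : A m.1 m.2 →+* B'),
      IsFQ (g.comp (φA m.1 m.2)) → Nontrivial B' → Q B' (g.comp (φA m.1 m.2)) →
      (∀ x, g (φA m.1 m.2 x) = 0 → x ∈ m.1) ∧ (∀ s, IsUnit (g (φA m.1 m.2 s)) → s ∈ m.2) := by
    intro B' _ g hFQ hn hQ
    have h1 := sat B' _ hFQ hn hQ
    have h2 : m ≤ (RingHom.ker (g.comp (φA m.1 m.2)), unitsS (g.comp (φA m.1 m.2))) := by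
      constructor
      · intro x hx
        change g (φA m.1 m.2 x) = 0
        rw [φA_eq_zero_of_mem hx, map_zero]
      · intro s hs
        change IsUnit (g (φA m.1 m.2 s))
        exact (φA_isUnit_of_mem hs).map g
    have h3 := hm.le_of_ge h1 h2
    exact ⟨fun x hx => h3.1 hx, fun s hs => h3.2 hs⟩
  -- `A m` is reduced on the image of `R`
  have hred : ∀ x : R, IsNilpotent (φA m.1 m.2 x) → φA m.1 m.2 x = 0 := by
    intro x hx
    have hne : nilradical (A m.1 m.2) ≠ ⊤ := by
      intro h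
      have : (1 : A m.1 m.2) ∈ nilradical (A m.1 m.2) := h ▸ Submodule.mem_top
      rw [mem_nilradical] at this
      exact (not_isNilpotent_one) this
    haveI : Nontrivial (A m.1 m.2 ⧸ nilradical (A m.1 m.2)) := Ideal.Quotient.nontrivial_iff.mpr hne
    have hFQ : IsFQ ((Ideal.Quotient.mk (nilradical (A m.1 m.2))).comp (φA m.1 m.2)) := by
      refine (isFQ_φA m.1 m.2).comp _ ?_
      intro b'
      obtain ⟨b, rfl⟩ := Ideal.Quotient.mk_surjective b'
      exact ⟨b, 1, by simp, by simp⟩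
    have := (key _ _ hFQ inferInstance (Q2 _ _ hmQ)).1 x
      (by rw [Ideal.Quotient.eq_zero_iff_mem, mem_nilradical]; exact hx)
    exact φA_eq_zero_of_mem this
  -- dichotomy on the image of `R`
  have hdich : ∀ r : R, φA m.1 m.2 r = 0 ∨ IsUnit (φA m.1 m.2 r) := by
    intro r
    set f := φA m.1 m.2 r with hf
    rcases Q3 _ _ f hmQ with hQ | hQ
    · by_cases hn : Nontrivial (Localization.Away f)
      · right
        have hFQ : IsFQ ((algebraMap (A m.1 m.2) (Localization.Away f)).comp (φA m.1 m.2)) := by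
          refine (isFQ_φA m.1 m.2).comp _ ?_
          intro b'
          obtain ⟨⟨b, ⟨_, n, rfl⟩⟩, hb⟩ := IsLocalization.surj (Submonoid.powers f) b'
          refine ⟨b, r ^ n, ?_, ?_⟩
          · rw [map_pow, map_pow]
            exact (IsLocalization.Away.algebraMap_isUnit f).pow n
          · rw [map_pow]
            exact hb
        have := (key _ _ hFQ hn hQ).2 r (IsLocalization.Away.algebraMap_isUnit f)
        exact φA_isUnit_of_mem this
      · left
        rw [not_nontrivial_iff_subsingleton] at hn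
        apply hred
        have h0 : algebraMap (A m.1 m.2) (Localization.Away f) 1 = 0 := Subsingleton.elim _ _
        rw [IsLocalization.map_eq_zero_iff (Submonoid.powers f)] at h0
        obtain ⟨⟨_, n, rfl⟩, hn'⟩ := h0
        exact ⟨n, by simpa using hn'⟩
    · by_cases hn : Nontrivial (A m.1 m.2 ⧸ Ideal.span {f})
      · left
        have hFQ : IsFQ ((Ideal.Quotient.mk (Ideal.span {f})).comp (φA m.1 m.2)) := by
          refine (isFQ_φA m.1 m.2).comp _ ?_
          intro b'
          obtain ⟨b, rfl⟩ := Ideal.Quotient.mk_surjective b'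
          exact ⟨b, 1, by simp, by simp⟩
        have := (key _ _ hFQ hn hQ).1 r
          (by rw [Ideal.Quotient.eq_zero_iff_mem]; exact Ideal.mem_span_singleton_self f)
        exact φA_eq_zero_of_mem this
      · right
        rw [Ideal.Quotient.nontrivial_iff, not_not, Ideal.span_singleton_eq_top] at hn
        exact hn
  refine ⟨A m.1 m.2, inferInstance, φA m.1 m.2, ?_, hmQ⟩
  refine { exists_pair_ne := ⟨0, 1, zero_ne_one⟩, mul_comm := mul_comm, mul_inv_cancel := ?_ }
  intro b hb
  obtain ⟨x, s, hs, hx⟩ := φA_surj m.1 m.2 b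
  have hsu := φA_isUnit_of_mem (I := m.1) hs
  rcases hdich x with h | h
  · exfalso
    rw [h] at hx
    exact hb ((hsu.mul_left_eq_zero).mp hx)
  · rw [← hx] at h
    have hbu : IsUnit b := isUnit_of_mul_isUnit_left h
    obtain ⟨u, rfl⟩ := hbu
    exact ⟨↑u⁻¹, Units.mul_inv u⟩

end Groth.Agent.Helper19.FQ
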