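import Mathlib
import Groth.Prelude.Def_AlgSt
import Groth.Agent.Lib.Helper19.LocEq

/-!
# Faithfulness descends along a locally essentially surjective base change (helper19)
-/

set_option autoImplicit false
set_option backward.isDefEq.respectTransparency false

universe v u

open CategoryTheory CategoryTheory.Limits Functor Opposite

namespace Groth.Agent.Helper19.LocEq

open FibCat Stk Groth.Agent.Helper19.FibLib

variable {C : Type u} [Category.{v} C]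

theorem faithful_of_faithful_fpFst (J : GrothendieckTopology C) {𝒮₁ 𝒮₂ 𝒯₁ : BasedCategory.{v, max u v} C}
    (h₁ : Stk.IsStack J 𝒮₁) (h₂ : Stk.IsStack J 𝒮₂) (h₃ : Stk.IsStack J 𝒯₁) (F : 𝒮₂ ⥤ᵇ 𝒮₁) (G : 𝒯₁ ⥤ᵇ 𝒮₁)
    (hF : ∀ y : 𝒮₁.obj, ∃ R ∈ J (𝒮₁.p.obj y), ∀ ⦃V : C⦄ (f : V ⟶ 𝒮₁.p.obj y), R f →
      ∃ (x : 𝒮₂.obj) (φ : F.obj x ⟶ y), 𝒮₁.p.IsHomLift f φ)
    (hG' : (FibCat.fpFst F G).toFunctor.Faithful) : G.toFunctor.Faithful := by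
  refine ⟨fun {t t'} ψ₁ ψ₂ hψ => ?_⟩
  have hψ' : G.map ψ₁ = G.map ψ₂ := hψ
  -- the base morphisms agree
  have hg : 𝒯₁.p.map ψ₁ = 𝒯₁.p.map ψ₂ := by
    have e1 := IsHomLift.fac' 𝒮₁.p (𝒯₁.p.map ψ₁) (G.map ψ₁)
    have e2 := IsHomLift.fac' 𝒮₁.p (𝒯₁.p.map ψ₂) (G.map ψ₂)
    have e3 := e1.symm.trans ((congrArg (fun k => 𝒮₁.p.map k) hψ').trans e2)
    have e4 := (cancel_epi _).1 e3
    exact (cancel_mono _).1 e4
  have hfib := h₃.1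
  have hfib₁ := h₁.1
  -- the automorphism comparing the two
  obtain ⟨a, ⟨ha, hac⟩, -⟩ := existsUnique_fac hfib (𝒯₁.p.map ψ₂) ψ₂ (𝟙 (𝒯₁.p.obj t)) (𝒯₁.p.map ψ₁)
    (by rw [Category.id_comp, hg]) ψ₁
  suffices h : a = 𝟙 t by rw [← hac, h, Category.id_comp]
  -- `G a` is the identity
  have hGa : G.map a = 𝟙 (G.obj t) := by
    have i1 : 𝒮₁.p.IsHomLift (𝟙 (𝒯₁.p.obj t)) (G.map a) := inferInstance
    have i2 : 𝒮₁.p.IsHomLift (𝟙 (𝒯₁.p.obj t)) (𝟙 (G.obj t)) := IsHomLift.id (G.w_obj t)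
    apply hom_ext_of_comp_eq hfib₁ (𝒯₁.p.map ψ₂) (G.map ψ₂) (𝟙 (𝒯₁.p.obj t))
    rw [← G.map_comp, hac, Category.id_comp, hψ']
  -- the sieve
  obtain ⟨R, hR, hloc⟩ := hF (G.obj t)
  have hU : 𝒮₁.p.obj (G.obj t) = 𝒯₁.p.obj t := G.w_obj t
  have ia : 𝒯₁.p.IsHomLift (𝟙 (𝒮₁.p.obj (G.obj t))) a := by rw [hU]; exact ha
  have iid : 𝒯₁.p.IsHomLift (𝟙 (𝒮₁.p.obj (G.obj t))) (𝟙 t) := IsHomLift.id hU.symm
  have hst : (resSieve R 𝒯₁).IsEquivalence := h₃.2 R hR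
  have hfaith : (resSieve R 𝒯₁).Faithful := inferInstance
  apply hom_ext_of_locally hfib R hfaith a (𝟙 t)
  intro V f hf s χ hχ
  rw [Category.comp_id]
  obtain ⟨x, φ, hφ⟩ := hloc f hf
  -- the comparison isomorphism
  have hGχ : 𝒮₁.p.IsHomLift f (G.map χ) := inferInstance
  obtain ⟨ι, ⟨hι, hιc⟩, -⟩ := existsUnique_fac hfib₁ f (G.map χ) (𝟙 V) f (by rw [Category.id_comp]) φ
  have hιiso : IsIso ι := isIso_of_isHomLift hfib₁ (𝟙 V) ι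
  -- the restriction of `a`
  have hχa : 𝒯₁.p.IsHomLift f (χ ≫ a) := by
    have h1 : 𝒯₁.p.IsHomLift (f ≫ 𝟙 (𝒮₁.p.obj (G.obj t))) (χ ≫ a) := inferInstance
    simpa using h1
  obtain ⟨af, ⟨haf, hafc⟩, -⟩ := existsUnique_fac hfib f χ (𝟙 V) f (by rw [Category.id_comp]) (χ ≫ a)
  suffices h : af = 𝟙 s by rw [← hafc, h, Category.id_comp]
  have hGaf : G.map af = 𝟙 (G.obj s) := by
    have i1 : 𝒮₁.p.IsHomLift (𝟙 V) (G.map af) := inferInstance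
    have hs : 𝒯₁.p.obj s = V := IsHomLift.domain_eq 𝒯₁.p f χ
    have i2 : 𝒮₁.p.IsHomLift (𝟙 V) (𝟙 (G.obj s)) := IsHomLift.id ((G.w_obj s).trans hs)
    apply hom_ext_of_comp_eq hfib₁ f (G.map χ) (𝟙 V)
    rw [← G.map_comp, hafc, G.map_comp, hGa, Category.comp_id, Category.id_comp]
  -- the object of the fibre product
  have hx : 𝒮₂.p.obj x = V := (F.w_obj x).symm.trans (IsHomLift.domain_eq 𝒮₁.p f φ)
  have hι' : 𝒮₁.p.IsHomLift (𝟙 (𝒮₂.p.obj x)) (asIso ι).hom := by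
    rw [hx]; exact hι
  let w : (fp F G).obj := fpMk F G x s (asIso ι) hι'
  let μ : w ⟶ w := fpHomMk (𝟙 x) af (by
    show F.map (𝟙 x) ≫ ι = ι ≫ G.map af
    rw [F.map_id, hGaf, Category.id_comp, Category.comp_id])
  have hμ : (fpFst F G).map μ = (fpFst F G).map (𝟙 w) := rfl
  have hμ' : μ = 𝟙 w := (fpFst F G).toFunctor.map_injective hμ
  exact congrArg (fun k => k.hom.snd) hμ'

end Groth.Agent.Helper19.LocEq
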