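import Mathlib

/-! Embedding a field extension of finite transcendence degree into an algebraically closed
field with an infinite algebraically independent family. -/

namespace Groth.Agent.Helper19.FieldEmb

open IntermediateField

theorem nonempty_algHom_of_finTrdeg
    (K L Ω : Type*) [Field K] [Field L] [Field Ω] [Algebra K L] [Algebra K Ω]
    [IsAlgClosed Ω] [FinTrdeg K L]
    (t : ℕ → Ω) (ht : AlgebraicIndependent K t) : Nonempty (L →ₐ[K] Ω) := by
  classical
  obtain ⟨s, hs⟩ := exists_finset_isTranscendenceBasis K L
  obtain ⟨e, he⟩ := Countable.exists_injective_nat s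
  have ht' : AlgebraicIndependent K (t ∘ e) := ht.comp e he
  let E₁ := hs.1.aevalEquivField
  let E₂ := ht'.aevalEquivField
  let g : (IntermediateField.adjoin K (Set.range ((↑) : s → L))) →ₐ[K] Ω :=
    (IntermediateField.val _).comp (E₂.toAlgHom.comp E₁.symm.toAlgHom)
  haveI : Algebra.IsAlgebraic (IntermediateField.adjoin K (Set.range ((↑) : s → L))) L :=
    hs.isAlgebraic_field
  obtain ⟨φ, -⟩ := IsAlgClosed.surjective_domRestrict_of_isAlgebraic
    (K := K) (L := IntermediateField.adjoin K (Set.range ((↑) : s → L))) (M := Ω) (E := L) g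
  exact ⟨φ⟩

end Groth.Agent.Helper19.FieldEmb
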