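import Mathlib
import Groth.Agent.Lib.Helper19.FQAlg3

universe u
open CategoryTheory AlgebraicGeometry

namespace Groth.Agent.Helper19.FieldPt

open Groth.Agent.Helper19.FQ

section

variable {T : Scheme.{u}} (P : ∀ ⦃T' : Scheme.{u}⦄, (T' ⟶ T) → Prop)
variable {R : Type u} [CommRing R] (b₀ : Spec (CommRingCat.of R) ⟶ T)

/-- The property of `R`-algebras induced by `P`. -/
def Q (B : Type u) [CommRing B] (φ : R →+* B) : Prop :=
  P (Spec.map (CommRingCat.ofHom φ) ≫ b₀)

lemma Q_comp {B B' : Type u} [CommRing B] [CommRing B'] (φ : R →+* B) (g : B →+* B') :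
    Q P b₀ B' (g.comp φ) ↔
      P (Spec.map (CommRingCat.ofHom g) ≫ Spec.map (CommRingCat.ofHom φ) ≫ b₀) := by
  unfold Q
  rw [CommRingCat.ofHom_comp, Spec.map_comp, Category.assoc]

variable (h1 : ∀ ⦃T' T'' : Scheme.{u}⦄ (a : T' ⟶ T) (t : T'' ⟶ T') [IsClosedImmersion t]
      [Surjective t] [CompactSpace T'] [QuasiSeparatedSpace T'] [CompactSpace T'']
      [QuasiSeparatedSpace T''], P (t ≫ a) ↔ P a)

include h1 in
lemma Q1 (B B' : Type u) [CommRing B] [CommRing B'] (φ : R →+* B) (e : B ≃+* B') :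
    Q P b₀ B φ ↔ Q P b₀ B' (e.toRingHom.comp φ) := by
  rw [Q_comp]
  haveI : IsIso (CommRingCat.ofHom e.toRingHom) := inferInstanceAs (IsIso e.toCommRingCatIso.hom)
  exact (h1 _ (Spec.map (CommRingCat.ofHom e.toRingHom))).symm

include h1 in
lemma Q2 (B : Type u) [CommRing B] (φ : R →+* B) (h : Q P b₀ B φ) :
    Q P b₀ (B ⧸ nilradical B) ((Ideal.Quotient.mk (nilradical B)).comp φ) := by
  rw [Q_comp]
  haveI : IsClosedImmersion (Spec.map (CommRingCat.ofHom (Ideal.Quotient.mk (nilradical B)))) :=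
    IsClosedImmersion.spec_of_surjective _ Ideal.Quotient.mk_surjective
  haveI : Surjective (Spec.map (CommRingCat.ofHom (Ideal.Quotient.mk (nilradical B)))) := by
    constructor
    change Function.Surjective (PrimeSpectrum.comap (Ideal.Quotient.mk (nilradical B)))
    rw [← Set.range_eq_univ, _root_.range_comap_of_surjective _ _
      Ideal.Quotient.mk_surjective, Ideal.mk_ker]
    exact (PrimeSpectrum.zeroLocus_eq_univ_iff _).mpr le_rfl
  exact (h1 _ (Spec.map (CommRingCat.ofHom (Ideal.Quotient.mk (nilradical B))))).mpr h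

variable (h3 : ∀ ⦃T' Z V : Scheme.{u}⦄ (a : T' ⟶ T) [CompactSpace T'] [QuasiSeparatedSpace T']
      (i : Z ⟶ T') [IsClosedImmersion i] (j : V ⟶ T') [IsOpenImmersion j] [CompactSpace V],
      Set.range j = (Set.range i)ᶜ → P a → P (j ≫ a) ∨ P (i ≫ a))

include h3 in
lemma Q3 (B : Type u) [CommRing B] (φ : R →+* B) (f : B) (h : Q P b₀ B φ) :
    Q P b₀ (Localization.Away f) ((algebraMap B (Localization.Away f)).comp φ) ∨
      Q P b₀ (B ⧸ Ideal.span {f}) ((Ideal.Quotient.mk (Ideal.span {f})).comp φ) := by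
  rw [Q_comp, Q_comp]
  haveI : IsClosedImmersion (Spec.map (CommRingCat.ofHom (Ideal.Quotient.mk (Ideal.span {f})))) :=
    IsClosedImmersion.spec_of_surjective _ Ideal.Quotient.mk_surjective
  haveI : IsOpenImmersion (Spec.map (CommRingCat.ofHom (algebraMap B (Localization.Away f)))) :=
    IsOpenImmersion.of_isLocalization f
  refine h3 _ (Spec.map (CommRingCat.ofHom (Ideal.Quotient.mk (Ideal.span {f}))))
    (Spec.map (CommRingCat.ofHom (algebraMap B (Localization.Away f)))) ?_ h
  change Set.range (PrimeSpectrum.comap (algebraMap B (Localization.Away f))) =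
    (Set.range (PrimeSpectrum.comap (Ideal.Quotient.mk (Ideal.span {f}))))ᶜ
  rw [PrimeSpectrum.localization_away_comap_range _ f,
    _root_.range_comap_of_surjective _ _ Ideal.Quotient.mk_surjective, Ideal.mk_ker,
    PrimeSpectrum.zeroLocus_span, PrimeSpectrum.basicOpen_eq_zeroLocus_compl]

end

end Groth.Agent.Helper19.FieldPt
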