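import Mathlib
import Groth.Agent.Lib.Helper19.FieldPt

universe u
open CategoryTheory AlgebraicGeometry Limits

namespace Groth.Agent.Helper19.FieldPt

open Groth.Agent.Helper19.FQ

section

variable {R : Type u} [CommRing R]
variable (c : Set (Ideal R × Submonoid R)) (hc : IsChain (· ≤ ·) c) (hne : c.Nonempty)

/-- the diagram of rings along a chain -/
noncomputable def F : ↥c ⥤ CommRingCat.{u} where
  obj p := CommRingCat.of (A p.1.1 p.1.2)
  map f := CommRingCat.ofHom (trans (leOfHom f).1 (leOfHom f).2)
  map_id p := by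
    rw [← CommRingCat.ofHom_id]
    congr 1
    exact trans_refl _ _
  map_comp f g := by
    rw [← CommRingCat.ofHom_comp]
    congr 1
    exact (trans_trans _ _ _ _).symm

/-- the cocone on the supremum -/
noncomputable def cc : Cocone (F c) where
  pt := CommRingCat.of (A (sSup (Prod.fst '' c)) (sSup (Prod.snd '' c)))
  ι :=
    { app := fun p => CommRingCat.ofHom (trans (le_sSup_fst c p.2) (le_sSup_snd c p.2))
      naturality := by
        intro p q f
        simp only [Functor.const_obj_obj, Functor.const_obj_map, Category.comp_id]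
        change CommRingCat.ofHom _ ≫ CommRingCat.ofHom _ = _
        rw [← CommRingCat.ofHom_comp]
        congr 1
        exact trans_trans _ _ _ _ }

include hc hne in
lemma isColimit_cc : Nonempty (IsColimit (cc c)) := by
  have hex : ∀ s : Cocone (F c), ∃ G : A (sSup (Prod.fst '' c)) (sSup (Prod.snd '' c)) →+* s.pt,
      ∀ p : c, G.comp (trans (le_sSup_fst c p.2) (le_sSup_snd c p.2)) = (s.ι.app p).hom := by
    intro s
    refine exists_desc (C := s.pt) c hc hne
      (fun p => ((s.ι.app p).hom : A p.1.1 p.1.2 →+* s.pt)) ?_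
    intro p q h
    have := s.w (homOfLE h : p ⟶ q)
    rw [← this]
    rfl
  refine ⟨{ desc := fun s => CommRingCat.ofHom (hex s).choose, fac := ?_, uniq := ?_ }⟩
  · intro s p
    ext1
    exact (hex s).choose_spec p
  · intro s m hm
    ext1
    apply hom_ext
    obtain ⟨p₀, hp₀⟩ := hne
    have e := trans_comp_φA (le_sSup_fst c hp₀) (le_sSup_snd c hp₀)
    rw [← e, ← RingHom.comp_assoc, ← RingHom.comp_assoc]
    congr 1
    have h1 := (hex s).choose_spec ⟨p₀, hp₀⟩
    have h2 := hm ⟨p₀, hp₀⟩
    change _ = (CommRingCat.ofHom (hex s).choose).hom.comp _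
    rw [CommRingCat.hom_ofHom, h1, ← h2]
    rfl

end

end Groth.Agent.Helper19.FieldPt
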