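import Mathlib
import Groth.Agent.Lib.Helper19.FieldPt2

universe u
open CategoryTheory AlgebraicGeometry Limits

namespace Groth.Agent.Helper19.FieldPt

open Groth.Agent.Helper19.FQ

section

variable {T : Scheme.{u}} (P : ∀ ⦃T' : Scheme.{u}⦄, (T' ⟶ T) → Prop)
variable {R : Type u} [CommRing R] (b₀ : Spec (CommRingCat.of R) ⟶ T)
variable (c : Set (Ideal R × Submonoid R)) (hc : IsChain (· ≤ ·) c) (hne : c.Nonempty)

/-- the diagram of schemes over `T` along a chain -/
noncomputable def D : (↥c)ᵒᵖ ⥤ Over T where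
  obj p := Over.mk (Spec.map (CommRingCat.ofHom (φA p.unop.1.1 p.unop.1.2)) ≫ b₀)
  map {p q} f := Over.homMk (Spec.map ((F c).map f.unop)) (by
    dsimp only [Over.mk_hom]
    rw [← Category.assoc, ← Spec.map_comp]
    congr 2
    change CommRingCat.ofHom _ ≫ CommRingCat.ofHom _ = _
    rw [← CommRingCat.ofHom_comp, trans_comp_φA])
  map_id p := by
    ext1
    change Spec.map ((F c).map (𝟙 p.unop)) = 𝟙 _
    rw [(F c).map_id, Spec.map_id]
  map_comp {p q r} f g := by
    ext1
    change Spec.map ((F c).map (g.unop ≫ f.unop)) =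
      Spec.map ((F c).map f.unop) ≫ Spec.map ((F c).map g.unop)
    rw [(F c).map_comp, Spec.map_comp]

/-- the cone on the supremum -/
noncomputable def cone : Cone (D b₀ c) where
  pt := Over.mk (Spec.map (CommRingCat.ofHom
    (φA (sSup (Prod.fst '' c)) (sSup (Prod.snd '' c)))) ≫ b₀)
  π :=
    { app := fun p => Over.homMk (Spec.map ((cc c).ι.app p.unop)) (by
        dsimp only [Over.mk_hom, D]
        rw [← Category.assoc, ← Spec.map_comp]
        congr 2
        change CommRingCat.ofHom _ ≫ CommRingCat.ofHom _ = _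
        rw [← CommRingCat.ofHom_comp, trans_comp_φA])
      naturality := by
        intro p q f
        ext1
        simp only [Functor.const_obj_obj, Functor.const_obj_map, Category.id_comp, Over.comp_left,
          Over.homMk_left, D]
        rw [← Spec.map_comp]
        exact congrArg Spec.map ((cc c).w f.unop).symm }

include hc hne in
lemma isLimit_cone : Nonempty (IsLimit (cone b₀ c)) := by
  obtain ⟨hcc⟩ := isColimit_cc c hc hne
  haveI : IsDirected ↥c (· ≤ ·) := ⟨fun a b => by
    obtain ⟨r, hr, h1, h2⟩ := exists_ge_of_chain c hc a.2 b.2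
    exact ⟨⟨r, hr⟩, h1, h2⟩⟩
  haveI : Nonempty ↥c := hne.to_subtype
  haveI : IsFiltered ↥c := isFiltered_of_directed_le_nonempty _
  haveI : IsConnected (↥c)ᵒᵖ := IsCofiltered.isConnected _
  have hlim : IsLimit (Scheme.Spec.mapCone (cc c).op) := isLimitOfPreserves Scheme.Spec hcc.op
  refine ⟨isLimitOfReflects (Over.forget T) ?_⟩
  exact hlim

variable (h2 : ∀ ⦃I : Type u⦄ [SmallCategory I] [IsCofiltered I] (D : I ⥤ Over T)
      (c : Limits.Cone D) (_ : Limits.IsLimit c),
      (∀ (i j : I) (m : i ⟶ j), IsAffineHom (D.map m).left) →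
      (∀ i, CompactSpace (D.obj i).left ∧ QuasiSeparatedSpace (D.obj i).left) →
      (∀ i, P (D.obj i).hom) → P c.pt.hom)

include h2 hc hne in
lemma Q4 (h : ∀ p ∈ c, Q P b₀ (A p.1 p.2) (φA p.1 p.2)) :
    Q P b₀ (A (sSup (Prod.fst '' c)) (sSup (Prod.snd '' c)))
      (φA (sSup (Prod.fst '' c)) (sSup (Prod.snd '' c))) := by
  obtain ⟨hlim⟩ := isLimit_cone b₀ c hc hne
  haveI : IsDirected ↥c (· ≤ ·) := ⟨fun a b => by
    obtain ⟨r, hr, h1, h2⟩ := exists_ge_of_chain c hc a.2 b.2
    exact ⟨⟨r, hr⟩, h1, h2⟩⟩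
  haveI : Nonempty ↥c := hne.to_subtype
  haveI : IsFiltered ↥c := isFiltered_of_directed_le_nonempty _
  refine h2 (D b₀ c) (cone b₀ c) hlim ?_ ?_ ?_
  · intro i j m
    change IsAffineHom (Spec.map _)
    infer_instance
  · intro i
    change CompactSpace (Spec _) ∧ QuasiSeparatedSpace (Spec _)
    exact ⟨inferInstance, inferInstance⟩
  · intro i
    exact h i.unop.1 i.unop.2

end

end Groth.Agent.Helper19.FieldPt
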