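import Mathlib
import Groth.Agent.Lib.Helper19.FieldPt3

universe u
open CategoryTheory AlgebraicGeometry Limits

namespace Groth.Agent.Helper19.FieldPt

open Groth.Agent.Helper19.FQ

section

variable {T : Scheme.{u}} (P : ∀ ⦃T' : Scheme.{u}⦄, (T' ⟶ T) → Prop)

variable (h1 : ∀ ⦃T' T'' : Scheme.{u}⦄ (a : T' ⟶ T) (t : T'' ⟶ T') [IsClosedImmersion t]
      [Surjective t] [CompactSpace T'] [QuasiSeparatedSpace T'] [CompactSpace T'']
      [QuasiSeparatedSpace T''], P (t ≫ a) ↔ P a)
variable (h2 : ∀ ⦃I : Type u⦄ [SmallCategory I] [IsCofiltered I] (D : I ⥤ Over T)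
      (c : Limits.Cone D) (_ : Limits.IsLimit c),
      (∀ (i j : I) (m : i ⟶ j), IsAffineHom (D.map m).left) →
      (∀ i, CompactSpace (D.obj i).left ∧ QuasiSeparatedSpace (D.obj i).left) →
      (∀ i, P (D.obj i).hom) → P c.pt.hom)
variable (h3 : ∀ ⦃T' Z V : Scheme.{u}⦄ (a : T' ⟶ T) [CompactSpace T'] [QuasiSeparatedSpace T']
      (i : Z ⟶ T') [IsClosedImmersion i] (j : V ⟶ T') [IsOpenImmersion j] [CompactSpace V],
      Set.range j = (Set.range i)ᶜ → P a → P (j ≫ a) ∨ P (i ≫ a))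

include h1 h2 h3 in
/-- the affine case -/
lemma affine_case {R : Type u} [CommRing R] [Nontrivial R] (b₀ : Spec (CommRingCat.of R) ⟶ T)
    (hb : P b₀) :
    ∃ (K : Type u) (_ : Field K) (t : Spec (CommRingCat.of K) ⟶ T), P t := by
  have h0 : Q P b₀ R (RingHom.id R) := by
    unfold Q
    rw [CommRingCat.ofHom_id, Spec.map_id, Category.id_comp]
    exact hb
  obtain ⟨B, _, φ, hF, hQ⟩ := exists_isField (Q P b₀) (Q1 P b₀ h1) (Q2 P b₀ h1) (Q3 P b₀ h3)
    (fun c hc hne h => Q4 P b₀ c hc hne h2 h) h0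
  exact ⟨B, hF.toField, Spec.map (CommRingCat.ofHom φ) ≫ b₀, hQ⟩

include h3 in
/-- reduction to a nonempty affine scheme -/
lemma exists_affine : ∀ n : ℕ, ∀ (T' : Scheme.{u}) [CompactSpace T'] [QuasiSeparatedSpace T']
    [Nonempty T'] (a : T' ⟶ T), P a →
    (∃ s : Finset T'.Opens, s.card ≤ n ∧ (∀ U ∈ s, IsAffineOpen U) ∧ ∀ x : T', ∃ U ∈ s, x ∈ U) →
    ∃ (V : Scheme.{u}) (_ : IsAffine V) (_ : Nonempty V) (b : V ⟶ T), P b := by
  classical
  intro n
  induction n with
  | zero =>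
    intro T' _ _ _ a _ ⟨s, hs, _, hcov⟩
    obtain ⟨x⟩ := (inferInstance : Nonempty T')
    obtain ⟨U, hU, _⟩ := hcov x
    rw [Nat.le_zero, Finset.card_eq_zero] at hs
    rw [hs] at hU
    exact absurd hU (Finset.notMem_empty _)
  | succ n ih =>
    intro T' _ _ _ a ha ⟨s, hs, haff, hcov⟩
    obtain ⟨x⟩ := (inferInstance : Nonempty T')
    obtain ⟨U, hU, hxU⟩ := hcov x
    let Zc : TopologicalSpace.Closeds T' := ⟨(U : Set T')ᶜ, U.isOpen.isClosed_compl⟩
    let 𝓘 := Scheme.IdealSheafData.vanishingIdeal Zc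
    have hrange : Set.range 𝓘.subschemeι = (U : Set T')ᶜ := by
      rw [𝓘.range_subschemeι, Scheme.IdealSheafData.coe_support_vanishingIdeal]
      rfl
    haveI : CompactSpace U := isCompact_iff_compactSpace.mp (haff U hU).isCompact
    rcases h3 a 𝓘.subschemeι U.ι (by
      rw [hrange, compl_compl]
      exact Scheme.Opens.range_ι U) ha with hP | hP
    · haveI : IsAffine U := haff U hU
      exact ⟨U, inferInstance, ⟨⟨x, hxU⟩⟩, U.ι ≫ a, hP⟩
    · by_cases hZ : Nonempty 𝓘.subscheme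
      · haveI := hZ
        haveI : CompactSpace 𝓘.subscheme :=
          QuasiCompact.compactSpace_of_compactSpace 𝓘.subschemeι
        haveI : QuasiSeparatedSpace 𝓘.subscheme :=
          quasiSeparatedSpace_of_quasiSeparated 𝓘.subschemeι
        refine ih 𝓘.subscheme (𝓘.subschemeι ≫ a) hP
          ⟨(s.erase U).image (fun W => 𝓘.subschemeι ⁻¹ᵁ W), ?_, ?_, ?_⟩
        · refine Finset.card_image_le.trans ?_
          rw [Finset.card_erase_of_mem hU]
          omega
        · intro W hW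
          obtain ⟨W', hW', rfl⟩ := Finset.mem_image.mp hW
          exact (haff W' (Finset.mem_of_mem_erase hW')).preimage 𝓘.subschemeι
        · intro z
          obtain ⟨W, hW, hzW⟩ := hcov (𝓘.subschemeι z)
          have hne : W ≠ U := by
            rintro rfl
            have : 𝓘.subschemeι z ∈ Set.range 𝓘.subschemeι := ⟨z, rfl⟩
            rw [hrange] at this
            exact this hzW
          exact ⟨𝓘.subschemeι ⁻¹ᵁ W,
            Finset.mem_image.mpr ⟨W, Finset.mem_erase.mpr ⟨hne, hW⟩, rfl⟩, hzW⟩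
      · -- `Z` empty: `U = ⊤`, so `T'` is affine
        have hUtop : U = ⊤ := by
          rw [eq_top_iff]
          intro y _
          by_contra hy
          have : y ∈ Set.range 𝓘.subschemeι := by rw [hrange]; exact hy
          obtain ⟨z, -⟩ := this
          exact hZ ⟨z⟩
        have hT' : IsAffineOpen (⊤ : T'.Opens) := hUtop ▸ haff U hU
        haveI : IsAffine ((⊤ : T'.Opens) : Scheme.{u}) := hT'
        haveI : IsAffine T' := .of_isIso (Scheme.topIso T').inv
        exact ⟨T', inferInstance, inferInstance, a, ha⟩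

end

end Groth.Agent.Helper19.FieldPt
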