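import Mathlib
import Groth.Agent.Lib.Helper13.QCohWeakAss2
import Groth.Prelude.Def_FlatCA

set_option autoImplicit false
universe u
open CategoryTheory CategoryTheory.Limits AlgebraicGeometry TopologicalSpace Opposite

namespace Groth.Agent.Helper19.TildeWeakAss

open Groth.Agent.Helper13.QCoh

variable (A : CommRingCat.{u}) (M : ModuleCat.{u} A)

/-- the A-module structure on global sections of `tilde M` in terms of the `Γ(Spec A, ⊤)`-structure -/
theorem smul_top_eq (a : A) (t : Γ(tilde M, (⊤ : (Spec A).Opens))) :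
    a • t = ((Scheme.ΓSpecIso A).inv.hom a) • t := by
  rw [Scheme.Modules.smul_Spec_def]
  congr 1

/-- `toOpen M ⊤` with values in `Γ(tilde M, ⊤)` -/
noncomputable def toΓ (m : M) : Γ(tilde M, (⊤ : (Spec A).Opens)) := by
  exact (tilde.toOpen M ⊤).hom m

theorem toΓ_smul (a : A) (m : M) : toΓ A M (a • m) = a • toΓ A M m := by
  exact map_smul (tilde.toOpen M ⊤).hom a m

theorem toΓ_zero : toΓ A M 0 = 0 := by
  exact map_zero (tilde.toOpen M ⊤).hom

theorem toΓ_bijective : Function.Bijective (toΓ A M) := by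
  exact (ConcreteCategory.isIso_iff_bijective (tilde.toOpen M ⊤)).mp inferInstance

theorem comap_annSec (m : M) :
    (annSec (tilde M) (toΓ A M m)).comap (Scheme.ΓSpecIso A).inv.hom =
      (Submodule.span A {m}).annihilator := by
  ext a
  rw [Ideal.mem_comap, mem_annSec, Submodule.mem_annihilator_span_singleton, ← smul_top_eq,
    ← toΓ_smul]
  constructor
  · intro h
    exact (toΓ_bijective A M).1 (h.trans (toΓ_zero A M).symm)
  · intro h
    rw [h, toΓ_zero]

theorem asIdeal_eq_comap (p : Spec A) :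
    p.asIdeal = ((isAffineOpen_top (Spec A)).primeIdealOf ⟨p, trivial⟩).asIdeal.comap
      (Scheme.ΓSpecIso A).inv.hom := by
  have h := (isAffineOpen_top (Spec A)).fromSpec_primeIdealOf ⟨p, trivial⟩
  rw [IsAffineOpen.fromSpec_top, Scheme.isoSpec_Spec_inv] at h
  have h2 := congrArg PrimeSpectrum.asIdeal h
  exact h2.symm

theorem main (p : Spec A) :
    p.asIdeal ∈ FlatCA.weakAss A M ↔ Curv2.IsWeakAssPoint (tilde M) p := by
  rw [isWeakAssPoint_iff_exists_mem_minimalPrimes (tilde M) (isAffineOpen_top (Spec A)) p trivial]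
  have hsurj : Function.Surjective (Scheme.ΓSpecIso A).inv.hom :=
    ((ConcreteCategory.isIso_iff_bijective (Scheme.ΓSpecIso A).inv).mp inferInstance).2
  have hbij := toΓ_bijective A M
  have key : ∀ m : M, p.asIdeal ∈ (Submodule.span A {m}).annihilator.minimalPrimes ↔
      ((isAffineOpen_top (Spec A)).primeIdealOf ⟨p, trivial⟩).asIdeal ∈
        (annSec (tilde M) (toΓ A M m)).minimalPrimes := by
    intro m
    rw [← comap_annSec, Ideal.comap_minimalPrimes_eq_of_surjective hsurj, asIdeal_eq_comap A p]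
    constructor
    · rintro ⟨q', hq', heq⟩
      have := Ideal.comap_injective_of_surjective _ hsurj heq
      rw [← this]
      exact hq'
    · intro h
      exact ⟨_, h, rfl⟩
  constructor
  · rintro ⟨m, hm⟩
    exact ⟨_, (key m).mp hm⟩
  · rintro ⟨t, ht⟩
    obtain ⟨m, rfl⟩ := hbij.2 t
    exact ⟨m, (key m).mpr ht⟩

end Groth.Agent.Helper19.TildeWeakAss
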