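import Mathlib
import Groth.Agent.Lib.Helper19.TildeWeakAss

set_option autoImplicit false
universe u
open CategoryTheory CategoryTheory.Limits AlgebraicGeometry TopologicalSpace Opposite

namespace Groth.Agent.Helper19.TildeWeakAss

open Groth.Agent.Helper13.QCoh

theorem colon_eq_annihilator {R N : Type*} [CommRing R] [AddCommGroup N] [Module R N] (m : N) :
    Submodule.colon (⊥ : Submodule R N) {m} = (Submodule.span R {m}).annihilator := by
  ext r
  rw [Submodule.mem_colon_singleton, Submodule.mem_bot, Submodule.mem_annihilator_span_singleton]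

theorem exists_mul_pow_mem {R : Type*} [CommRing R] (p I : Ideal R) [p.IsPrime]
    (hp : p ∈ I.minimalPrimes) (f : R) (hf : f ∈ p) : ∃ (n : ℕ) (t : R), t ∉ p ∧ t * f ^ n ∈ I := by
  have h := IsLocalization.AtPrime.radical_map_of_mem_minimalPrimes
    (A := Localization.AtPrime p) p I hp
  have h1 : algebraMap R (Localization.AtPrime p) f ∈
      (I.map (algebraMap R (Localization.AtPrime p))).radical := by
    rw [h]
    exact Ideal.mem_map_of_mem _ hf
  obtain ⟨n, hn⟩ := h1
  rw [← map_pow, IsLocalization.mem_map_algebraMap_iff p.primeCompl] at hn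
  obtain ⟨⟨i, s⟩, hs⟩ := hn
  rw [← map_mul] at hs
  obtain ⟨c, hc⟩ := (IsLocalization.eq_iff_exists p.primeCompl _).mp hs
  refine ⟨n, c * s, ?_, ?_⟩
  · exact fun h => (Ideal.IsPrime.mem_or_mem inferInstance h).elim c.2 s.2
  · have : (c : R) * (s : R) * f ^ n = c * (f ^ n * s) := by ring
    rw [this, hc]
    exact I.mul_mem_left _ i.2

theorem exists_radical_eq {R N : Type*} [CommRing R] [AddCommGroup N] [Module R N]
    (p : Ideal R) [p.IsPrime] (hfg : p.FG) (m : N)
    (hp : p ∈ (Submodule.span R {m}).annihilator.minimalPrimes) :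
    ∃ m' : N, p = ((Submodule.span R {m'}).annihilator).radical := by
  classical
  obtain ⟨s, hs⟩ := hfg
  have hsp : ∀ g ∈ s, g ∈ p := fun g hg => hs ▸ Ideal.subset_span hg
  have key : ∀ g : R, ∃ (n : ℕ) (t : R), t ∉ p ∧ (g ∈ p → t * g ^ n ∈ (Submodule.span R {m}).annihilator) := by
    intro g
    by_cases hg : g ∈ p
    · obtain ⟨n, t, ht, h⟩ := exists_mul_pow_mem p _ hp g hg
      exact ⟨n, t, ht, fun _ => h⟩
    · exact ⟨0, 1, fun h => (Ideal.IsPrime.ne_top inferInstance) ((Ideal.eq_top_iff_one p).mpr h),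
        fun h => absurd h hg⟩
  choose n t ht htn using key
  let T : R := ∏ g ∈ s, t g
  have hT : T ∉ p := by
    intro h
    obtain ⟨g, -, hg⟩ := Ideal.IsPrime.prod_mem_iff.mp h
    exact ht g hg
  refine ⟨T • m, le_antisymm ?_ ?_⟩
  · rw [← hs, Ideal.span_le]
    intro g hg
    refine ⟨n g, ?_⟩
    rw [Submodule.mem_annihilator_span_singleton]
    have h1 := htn g (hsp g hg)
    rw [Submodule.mem_annihilator_span_singleton] at h1
    have h2 : T = (∏ g' ∈ s.erase g, t g') * t g := (Finset.prod_erase_mul s t hg).symm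
    rw [smul_smul, h2]
    have : g ^ n g * ((∏ g' ∈ s.erase g, t g') * t g) = (∏ g' ∈ s.erase g, t g') * (t g * g ^ n g) := by
      ring
    rw [this, mul_smul, h1, smul_zero]
  · intro a ha
    obtain ⟨k, hk⟩ := ha
    rw [Submodule.mem_annihilator_span_singleton, smul_smul] at hk
    have h1 : a ^ k * T ∈ (Submodule.span R {m}).annihilator := by
      rw [Submodule.mem_annihilator_span_singleton]
      exact hk
    have h2 : a ^ k * T ∈ p := hp.1.2 h1
    rcases Ideal.IsPrime.mem_or_mem inferInstance h2 with h | h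
    · exact Ideal.IsPrime.mem_of_pow_mem inferInstance k h
    · exact absurd h hT

variable (A : CommRingCat.{u}) (M : ModuleCat.{u} A)

theorem s1578 (p : Spec A) :
    (p.asIdeal ∈ associatedPrimes A M → Curv2.IsAssPoint (tilde M) p) ∧
    (p.asIdeal.FG → Curv2.IsAssPoint (tilde M) p → p.asIdeal ∈ associatedPrimes A M) := by
  constructor
  · rintro ⟨hprime, m, hm⟩
    rw [isAssPoint_iff_isWeakAssPoint, ← main]
    refine ⟨m, ?_⟩
    rw [← colon_eq_annihilator, ← Ideal.radical_minimalPrimes, ← hm,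
      Ideal.minimalPrimes_eq_subsingleton_self]
    rfl
  · intro hfg h
    rw [isAssPoint_iff_isWeakAssPoint, ← main] at h
    obtain ⟨m, hm⟩ := h
    obtain ⟨m', hm'⟩ := exists_radical_eq p.asIdeal hfg m hm
    refine ⟨p.isPrime, m', ?_⟩
    rw [colon_eq_annihilator]
    exact hm'

end Groth.Agent.Helper19.TildeWeakAss
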