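import Mathlib
import Groth.Agent.Lib.Helper19.TildeAss

set_option autoImplicit false
universe u
open CategoryTheory CategoryTheory.Limits AlgebraicGeometry TopologicalSpace Opposite

namespace Groth.Agent.Helper19.FinWeakAss

open Groth.Agent.Helper19.TildeWeakAss

/-- criterion for minimality -/
theorem mem_minimalPrimes_of_forall {R : Type*} [CommRing R] (p I : Ideal R) [p.IsPrime]
    (hI : I ≤ p) (h : ∀ f ∈ p, ∃ (k : ℕ) (s : R), s ∉ p ∧ s * f ^ k ∈ I) :
    p ∈ I.minimalPrimes := by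
  refine ⟨⟨inferInstance, hI⟩, fun p' hp' hp'p f hf => ?_⟩
  obtain ⟨k, s, hs, hsf⟩ := h f hf
  haveI := hp'.1
  rcases Ideal.IsPrime.mem_or_mem hp'.1 (hp'.2 hsf) with h1 | h1
  · exact absurd (hp'p h1) hs
  · exact Ideal.IsPrime.mem_of_pow_mem hp'.1 k h1

variable {A B N : Type*} [CommRing A] [CommRing B] [Algebra A B] [Module.Finite A B]
  [AddCommGroup N] [Module B N]

theorem finite_weakAss (q : Ideal B) [q.IsPrime] (n : N)
    (hq : q ∈ (Submodule.span B {n}).annihilator.minimalPrimes) :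
    ∃ n' : N, q.comap (algebraMap A B) ∈
      ((Submodule.span B {n'}).annihilator.comap (algebraMap A B)).minimalPrimes := by
  classical
  set p : Ideal A := q.comap (algebraMap A B) with hp
  set J : Ideal B := (Submodule.span B {n}).annihilator with hJ
  have hJq : J ≤ q := hq.1.2
  have hfin : (p.primesOver B).Finite := Algebra.QuasiFinite.finite_primesOver p
  haveI : Algebra.IsIntegral A B := inferInstance
  -- data for each other prime over p
  have data : ∀ Q : Ideal B, ∃ (x y : B) (t : ℕ), y ∉ q ∧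
      (Q ∈ p.primesOver B → Q ≠ q → x ∉ Q ∧ y * x ^ t ∈ J) := by
    intro Q
    by_cases hQ : Q ∈ p.primesOver B ∧ Q ≠ q
    · obtain ⟨hQ1, hQ2⟩ := hQ
      haveI := hQ1.1
      have hnle : ¬ q ≤ Q := by
        intro hle
        have hlt : q < Q := lt_of_le_of_ne hle (Ne.symm hQ2)
        have := Ideal.IsIntegral.comap_lt_comap (R := A) hlt
        have h2 : Q.comap (algebraMap A B) = p := hQ1.2.1.symm
        rw [h2] at this
        exact lt_irrefl _ this
      obtain ⟨x, hxq, hxQ⟩ := Set.not_subset.mp hnle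
      obtain ⟨t, y, hy, hyx⟩ := exists_mul_pow_mem q J hq x hxq
      exact ⟨x, y, t, hy, fun _ _ => ⟨hxQ, hyx⟩⟩
    · refine ⟨0, 1, 0, fun h => (Ideal.IsPrime.ne_top inferInstance) ((Ideal.eq_top_iff_one q).mpr h),
        fun h1 h2 => absurd ⟨h1, h2⟩ hQ⟩
  choose x y t hy hdata using data
  let Qs : Finset (Ideal B) := hfin.toFinset.erase q
  have hQs : ∀ Q ∈ Qs, Q ∈ p.primesOver B ∧ Q ≠ q := by
    intro Q hQ
    rw [Finset.mem_erase, Set.Finite.mem_toFinset] at hQ
    exact ⟨hQ.2, hQ.1⟩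
  let Y : B := ∏ Q ∈ Qs, y Q
  have hY : Y ∉ q := by
    intro h
    obtain ⟨Q, -, hQ⟩ := Ideal.IsPrime.prod_mem_iff.mp h
    exact hy Q hQ
  have hJmem : ∀ b : B, b ∈ J ↔ b • n = 0 := fun b => Submodule.mem_annihilator_span_singleton _ _
  refine ⟨Y • n, mem_minimalPrimes_of_forall p _ ?_ ?_⟩
  · intro a ha
    rw [Ideal.mem_comap, Submodule.mem_annihilator_span_singleton, smul_smul] at ha
    have h1 : algebraMap A B a * Y ∈ q := hJq ((hJmem _).mpr ha)
    rcases Ideal.IsPrime.mem_or_mem inferInstance h1 with h | h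
    · exact h
    · exact absurd h hY
  · intro f hf
    have hfq : algebraMap A B f ∈ q := hf
    obtain ⟨k, y₁, hy₁, hy₁f⟩ := exists_mul_pow_mem q J hq _ hfq
    let K : Ideal B := (Submodule.span B {(algebraMap A B f) ^ k • (Y • n)}).annihilator
    have hKmem : ∀ b : B, b ∈ K ↔ b • ((algebraMap A B f) ^ k • (Y • n)) = 0 :=
      fun b => Submodule.mem_annihilator_span_singleton _ _
    have hy₁K : y₁ ∈ K := by
      rw [hKmem, smul_smul, smul_smul]
      have : y₁ * (algebraMap A B f) ^ k * Y = Y * (y₁ * (algebraMap A B f) ^ k) := by ring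
      rw [this, mul_smul, (hJmem _).mp hy₁f, smul_zero]
    have hxK : ∀ Q ∈ Qs, x Q ^ t Q ∈ K := by
      intro Q hQ
      obtain ⟨hQ1, hQ2⟩ := hQs Q hQ
      have h1 := (hdata Q hQ1 hQ2).2
      rw [hKmem, smul_smul, smul_smul]
      have h2 : Y = (∏ Q' ∈ Qs.erase Q, y Q') * y Q := (Finset.prod_erase_mul Qs y hQ).symm
      have : x Q ^ t Q * (algebraMap A B f) ^ k * Y =
          ((algebraMap A B f) ^ k * ∏ Q' ∈ Qs.erase Q, y Q') * (y Q * x Q ^ t Q) := by
        rw [h2]; ring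
      rw [this, mul_smul, (hJmem _).mp h1, smul_zero]
    -- find s
    have hex : ∃ s : A, s ∉ p ∧ algebraMap A B s ∈ K := by
      by_contra hcon
      push Not at hcon
      have hdisj : Disjoint (K : Set B) (Algebra.algebraMapSubmonoid B p.primeCompl : Set B) := by
        rw [Set.disjoint_left]
        rintro b hbK ⟨s, hs, rfl⟩
        exact hcon s hs hbK
      obtain ⟨Q₀, hQ₀, hKQ₀, hQ₀d⟩ := Ideal.exists_le_prime_disjoint K _ hdisj
      have hle : Q₀.comap (algebraMap A B) ≤ p := by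
        intro a ha
        by_contra hap
        exact Set.disjoint_left.mp hQ₀d ha ⟨a, hap, rfl⟩
      obtain ⟨Q', hQ'Q₀, hQ'prime, hQ'p⟩ :=
        Ideal.exists_ideal_over_prime_of_isIntegral_of_isPrime p Q₀ hle
      have hQ'over : Q' ∈ p.primesOver B := ⟨hQ'prime, ⟨hQ'p.symm⟩⟩
      by_cases hQ'q : Q' = q
      · exact hy₁ (hQ'q ▸ hQ'Q₀ (hKQ₀ hy₁K))
      · have hmem : Q' ∈ Qs := by
          rw [Finset.mem_erase, Set.Finite.mem_toFinset]
          exact ⟨hQ'q, hQ'over⟩
        have h1 : x Q' ^ t Q' ∈ Q' := hQ'Q₀ (hKQ₀ (hxK Q' hmem))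
        exact (hdata Q' hQ'over hQ'q).1 (Ideal.IsPrime.mem_of_pow_mem hQ'prime _ h1)
    obtain ⟨s, hs, hsK⟩ := hex
    refine ⟨k, s, hs, ?_⟩
    rw [Ideal.mem_comap, Submodule.mem_annihilator_span_singleton, map_mul, map_pow, mul_smul]
    exact (hKmem _).mp hsK

end Groth.Agent.Helper19.FinWeakAss
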