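import Mathlib
import Groth.Agent.Lib.Helper19.FinWeakAss
import Groth.Agent.Lib.Helper13.WeakAssPushQcqs
import Groth.Prelude.Def_Coh

set_option autoImplicit false
universe u
open CategoryTheory CategoryTheory.Limits AlgebraicGeometry TopologicalSpace Opposite

namespace Groth.Agent.Helper19.FinWeakAss

open Groth.Agent.Helper13.QCoh Groth.Agent.Helper13.Qcqs Groth.Agent.Helper13.WeakAssPush

theorem annSec_eq {X : Scheme.{u}} (F : X.Modules) {U : X.Opens} (t : Γ(F, U)) :
    annSec F t = (Submodule.span Γ(X, U) {t}).annihilator := by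
  ext a
  rw [mem_annSec, Submodule.mem_annihilator_span_singleton]

theorem s1579 {X S : Scheme.{u}} (f : X ⟶ S) [IsFinite f] (F : X.Modules) [F.IsQuasicoherent] :
    {s : S | Curv2.IsWeakAssPoint ((Scheme.Modules.pushforward f).obj F) s} =
      f.base '' {x : X | Curv2.IsWeakAssPoint F x} := by
  haveI := isQuasicoherent_pushforward_of_qcqs f F
  ext s
  constructor
  · intro h
    obtain ⟨x, hx, hfx⟩ := exists_isWeakAssPoint_of_isWeakAssPoint_pushforward f F s h
    exact ⟨x, hx, hfx⟩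
  · rintro ⟨x, hx, rfl⟩
    obtain ⟨_, ⟨V, hV, rfl⟩, hsV, -⟩ := S.isBasis_affineOpens.exists_subset_of_mem_open
      (Set.mem_univ (f x)) isOpen_univ
    have hV' : IsAffineOpen V := hV
    have hW : IsAffineOpen (f ⁻¹ᵁ V) := hV'.preimage f
    have hxW : x ∈ f ⁻¹ᵁ V := hsV
    obtain ⟨t, ht⟩ := (isWeakAssPoint_iff_exists_mem_minimalPrimes F hW x hxW).mp hx
    letI : Algebra Γ(S, V) Γ(X, f ⁻¹ᵁ V) := (f.app V).hom.toAlgebra
    haveI : Module.Finite Γ(S, V) Γ(X, f ⁻¹ᵁ V) := f.finite_app V hV'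
    rw [annSec_eq] at ht
    obtain ⟨t', ht'⟩ := finite_weakAss (A := Γ(S, V)) (hW.primeIdealOf ⟨x, hxW⟩).asIdeal t ht
    refine (isWeakAssPoint_iff_exists_mem_minimalPrimes ((Scheme.Modules.pushforward f).obj F)
      hV' (f x) hsV).mpr ⟨t', ?_⟩
    have h1 : annSec ((Scheme.Modules.pushforward f).obj F) t' =
        (annSec F (id t' : Γ(F, f ⁻¹ᵁ V))).comap (f.app V).hom := by
      ext a
      rw [mem_annSec, Ideal.mem_comap, mem_annSec]
      rfl
    rw [h1, annSec_eq]
    have h2 := IsAffineOpen.comap_primeIdealOf_appLE (f := f) V hV' (f ⁻¹ᵁ V) hW le_rfl hxW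
    have h3 : (hV'.primeIdealOf ⟨f x, hsV⟩).asIdeal =
        (hW.primeIdealOf ⟨x, hxW⟩).asIdeal.comap (f.app V).hom := by
      rw [← h2, Scheme.Hom.app_eq_appLE]
      rfl
    rw [h3]
    exact ht'

end Groth.Agent.Helper19.FinWeakAss
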