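import Mathlib

set_option autoImplicit false
universe w u
open AlgebraicGeometry CategoryTheory Limits Opposite

namespace Groth.Agent.Lib.Helper19.FpqcColim

variable {J : Type u} [SmallCategory J] (D : J ⥤ Scheme.{u}) (c : Cocone D)

/-- the base-changed diagram over `Y ⟶ c.pt`. -/
noncomputable abbrev bcDiag {Y : Scheme.{u}} (g : Y ⟶ c.pt) : J ⥤ Over Y :=
  D.toOver c.pt (fun j => c.ι.app j) (fun g => c.w g) ⋙ Over.pullback g

/-- the cocone over the base-changed diagram with vertex `T` induced by a cocone `s` on `D`. -/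
noncomputable def bcCocone {Y : Scheme.{u}} (g : Y ⟶ c.pt) (s : Cocone D) :
    Cocone (bcDiag D c g ⋙ Over.forget Y) where
  pt := s.pt
  ι :=
    { app := fun j => pullback.fst (c.ι.app j) g ≫ s.ι.app j
      naturality := by
        intro j j' e
        simp [bcDiag]
        erw [pullback.lift_fst_assoc]
        rw [Category.assoc]
        erw [s.w e]
        rfl }

/-- the canonical cocone. -/
noncomputable abbrev stdCocone {Y : Scheme.{u}} (g : Y ⟶ c.pt) :
    Cocone (bcDiag D c g ⋙ Over.forget Y) :=
  (Over.forgetCocone Y).whisker (bcDiag D c g)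

lemma stdCocone_ι {Y : Scheme.{u}} (g : Y ⟶ c.pt) (j : J) :
    (stdCocone D c g).ι.app j = pullback.snd (c.ι.app j) g := rfl

/-- Morphisms out of the colimit `Y` are determined on the legs. -/
lemma hom_ext_of_isColimit {Y : Scheme.{u}} (g : Y ⟶ c.pt)
    (h : IsColimit (stdCocone D c g)) {T : Scheme.{u}} (a b : Y ⟶ T)
    (hab : ∀ j, pullback.snd (c.ι.app j) g ≫ a = pullback.snd (c.ι.app j) g ≫ b) : a = b :=
  h.hom_ext (fun j => hab j)

/-- The induced map. -/
noncomputable def desc {Y : Scheme.{u}} (g : Y ⟶ c.pt)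
    (h : IsColimit (stdCocone D c g)) (s : Cocone D) : Y ⟶ s.pt :=
  h.desc (bcCocone D c g s)

lemma snd_desc {Y : Scheme.{u}} (g : Y ⟶ c.pt)
    (h : IsColimit (stdCocone D c g)) (s : Cocone D) (j : J) :
    pullback.snd (c.ι.app j) g ≫ desc D c g h s = pullback.fst (c.ι.app j) g ≫ s.ι.app j :=
  h.fac (bcCocone D c g s) j

theorem main (F : PreZeroHypercover.{w} c.pt) (hF : F.presieve₀ ∈ Scheme.fpqcPrecoverage c.pt)
    (h1 : ∀ a : F.I₀, Nonempty (IsColimit (stdCocone D c (F.f a))))
    (h2 : ∀ a b : F.I₀, Nonempty (IsColimit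
      (stdCocone D c (pullback.fst (F.f a) (F.f b) ≫ F.f a)))) :
    Nonempty (IsColimit c) := by
  have h1' := fun a => (h1 a).some
  have h2' := fun a b => (h2 a b).some
  have hcov : Sieve.generate F.presieve₀ ∈ Scheme.fpqcTopology c.pt :=
    Precoverage.generate_mem_toGrothendieck hF
  -- existence and uniqueness of descent for a cocone
  have key : ∀ s : Cocone D, ∃! φ : c.pt ⟶ s.pt, ∀ j, c.ι.app j ≫ φ = s.ι.app j := by
    intro s
    have hsheaf : Presieve.IsSheaf Scheme.fpqcTopology (yoneda.obj s.pt) :=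
      GrothendieckTopology.Subcanonical.isSheaf_of_isRepresentable _
    have h0 : Presieve.IsSheafFor (yoneda.obj s.pt) F.presieve₀ :=
      (Presieve.isSheafFor_iff_generate _).mpr (hsheaf _ hcov)
    rw [PreZeroHypercover.presieve₀, Presieve.isSheafFor_arrows_iff_pullbacks] at h0
    obtain ⟨φ, hφ, hφu⟩ := h0 (fun a => desc D c (F.f a) (h1' a) s) (by
      intro a b
      change pullback.fst (F.f a) (F.f b) ≫ desc D c (F.f a) (h1' a) s =
        pullback.snd (F.f a) (F.f b) ≫ desc D c (F.f b) (h1' b) s
      apply hom_ext_of_isColimit D c _ (h2' a b)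
      intro j
      -- maps to the two base changes
      have e1 : pullback.fst (c.ι.app j) (pullback.fst (F.f a) (F.f b) ≫ F.f a) ≫ c.ι.app j =
          (pullback.snd (c.ι.app j) (pullback.fst (F.f a) (F.f b) ≫ F.f a) ≫
            pullback.fst (F.f a) (F.f b)) ≫ F.f a := by
        rw [Category.assoc]; exact pullback.condition
      have e2 : pullback.fst (c.ι.app j) (pullback.fst (F.f a) (F.f b) ≫ F.f a) ≫ c.ι.app j =
          (pullback.snd (c.ι.app j) (pullback.fst (F.f a) (F.f b) ≫ F.f a) ≫
            pullback.snd (F.f a) (F.f b)) ≫ F.f b := by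
        rw [Category.assoc, ← pullback.condition (f := F.f a) (g := F.f b)]
        exact pullback.condition
      calc pullback.snd (c.ι.app j) (pullback.fst (F.f a) (F.f b) ≫ F.f a) ≫
            pullback.fst (F.f a) (F.f b) ≫ desc D c (F.f a) (h1' a) s
          = pullback.lift _ _ e1 ≫ pullback.snd (c.ι.app j) (F.f a) ≫
              desc D c (F.f a) (h1' a) s := by
            rw [pullback.lift_snd_assoc, Category.assoc]
        _ = pullback.fst (c.ι.app j) (pullback.fst (F.f a) (F.f b) ≫ F.f a) ≫ s.ι.app j := by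
            rw [snd_desc, pullback.lift_fst_assoc]
        _ = pullback.lift _ _ e2 ≫ pullback.snd (c.ι.app j) (F.f b) ≫
              desc D c (F.f b) (h1' b) s := by
            rw [snd_desc, pullback.lift_fst_assoc]
        _ = _ := by
            rw [pullback.lift_snd_assoc, Category.assoc])
    have hφ' : ∀ a, F.f a ≫ φ = desc D c (F.f a) (h1' a) s := hφ
    refine ⟨φ, ?_, ?_⟩
    · intro j
      -- check on the pulled back covering sieve
      have hcovj : (Sieve.generate F.presieve₀).pullback (c.ι.app j) ∈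
          Scheme.fpqcTopology (D.obj j) :=
        Scheme.fpqcTopology.pullback_stable _ hcov
      refine (hsheaf _ hcovj).isSeparatedFor.ext ?_
      rintro Z h ⟨W, k, l, ⟨a⟩, hkl⟩
      change h ≫ c.ι.app j ≫ φ = h ≫ s.ι.app j
      have hkl' : h ≫ c.ι.app j = k ≫ F.f a := hkl.symm
      calc h ≫ c.ι.app j ≫ φ = k ≫ F.f a ≫ φ := by rw [reassoc_of% hkl']
        _ = pullback.lift h k hkl' ≫ pullback.snd (c.ι.app j) (F.f a) ≫
              desc D c (F.f a) (h1' a) s := by
            rw [pullback.lift_snd_assoc, hφ']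
        _ = h ≫ s.ι.app j := by rw [snd_desc, pullback.lift_fst_assoc]
    · intro φ' hφ''
      apply hφu
      intro a
      change F.f a ≫ φ' = desc D c (F.f a) (h1' a) s
      apply hom_ext_of_isColimit D c _ (h1' a)
      intro j
      rw [snd_desc, ← pullback.condition_assoc, hφ'']
  choose φ hφ hφu using key
  exact ⟨{ desc := φ
           fac := fun s j => hφ s j
           uniq := fun s m hm => hφu s m hm }⟩

end Groth.Agent.Lib.Helper19.FpqcColim
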