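import Mathlib

/-!
Semilinear descent of subspaces and of Frobenius-stable radical ideals (helper19).
-/

open Module

namespace Groth.Agent.Helper19.SemiDesc

section Linear

variable {K : Type*} [Field K] {M : Type*} [AddCommGroup M] [Module K M] {J : Type*}

/-- The semilinear map fixing the basis `b` and acting by `σ` on coordinates. -/
noncomputable def twist (b : Basis J K M) (σ : K →+* K) (x : M) : M :=
  b.repr.symm ((b.repr x).mapRange σ (map_zero σ))

theorem repr_twist (b : Basis J K M) (σ : K →+* K) (x : M) (j : J) :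
    b.repr (twist b σ x) j = σ (b.repr x j) := by
  simp [twist]

/-- Descent of subspaces stable under a semilinear map fixing a basis: the subspace is spanned
by its elements with `σ`-fixed coordinates. -/
theorem mem_span_fixed (b : Basis J K M) (σ : K →+* K) (N : Submodule K M)
    (hN : ∀ x ∈ N, twist b σ x ∈ N) :
    ∀ x ∈ N, x ∈ Submodule.span K {y | y ∈ N ∧ ∀ j, σ (b.repr y j) = b.repr y j} := by
  classical
  set G : Set M := {y | y ∈ N ∧ ∀ j, σ (b.repr y j) = b.repr y j} with hG
  suffices H : ∀ n : ℕ, ∀ x ∈ N, (b.repr x).support.card = n → x ∈ Submodule.span K G by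
    intro x hx
    exact H _ x hx rfl
  intro n
  induction n using Nat.strong_induction_on with
  | _ n ih =>
    intro x hx hcard
    by_cases hx0 : x = 0
    · rw [hx0]; exact Submodule.zero_mem _
    -- candidates with support inside that of `x`
    let 𝒮 : Set M := {z | z ∈ N ∧ z ≠ 0 ∧ (b.repr z).support ⊆ (b.repr x).support}
    have h𝒮 : 𝒮.Nonempty := ⟨x, hx, hx0, subset_rfl⟩
    obtain ⟨z, hz𝒮, hzmin⟩ := WellFounded.has_min
      (measure fun z : M => (b.repr z).support.card).wf 𝒮 h𝒮
    obtain ⟨hzN, hz0, hzsub⟩ := hz𝒮
    have hrz : b.repr z ≠ 0 := fun h => hz0 (by simpa using congrArg b.repr.symm h)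
    obtain ⟨j₀, hj₀⟩ := Finsupp.support_nonempty_iff.mpr hrz
    have hzj : b.repr z j₀ ≠ 0 := Finsupp.mem_support_iff.mp hj₀
    set z' : M := (b.repr z j₀)⁻¹ • z with hz'
    have hz'N : z' ∈ N := N.smul_mem _ hzN
    have hz'r : ∀ j, b.repr z' j = (b.repr z j₀)⁻¹ * b.repr z j := by
      intro j; simp [hz']
    have hz'j : b.repr z' j₀ = 1 := by rw [hz'r, inv_mul_cancel₀ hzj]
    have hz'sub : (b.repr z').support ⊆ (b.repr z).support := by
      intro j hj
      rw [Finsupp.mem_support_iff] at hj ⊢
      intro h
      exact hj (by rw [hz'r, h, mul_zero])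
    -- `w = T z' - z'` has smaller support, so vanishes
    set w : M := twist b σ z' - z' with hw
    have hwN : w ∈ N := N.sub_mem (hN _ hz'N) hz'N
    have hwr : ∀ j, b.repr w j = σ (b.repr z' j) - b.repr z' j := by
      intro j
      rw [hw, map_sub, Finsupp.sub_apply, repr_twist]
    have hwsub : (b.repr w).support ⊆ (b.repr z).support.erase j₀ := by
      intro j hj
      rw [Finsupp.mem_support_iff, hwr] at hj
      rw [Finset.mem_erase]
      refine ⟨?_, hz'sub ?_⟩
      · rintro rfl
        exact hj (by rw [hz'j, map_one, sub_self])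
      · rw [Finsupp.mem_support_iff]
        intro h
        exact hj (by rw [h, map_zero, sub_self])
    have hw0 : w = 0 := by
      by_contra hne
      have hw𝒮 : w ∈ 𝒮 := ⟨hwN, hne, fun j hj => hzsub (Finset.mem_of_mem_erase (hwsub hj))⟩
      apply hzmin w hw𝒮
      show (b.repr w).support.card < (b.repr z).support.card
      exact lt_of_le_of_lt (Finset.card_le_card hwsub) (Finset.card_erase_lt_of_mem hj₀)
    have hz'G : z' ∈ G := by
      refine ⟨hz'N, fun j => ?_⟩
      have := hwr j
      rw [hw0, map_zero, Finsupp.zero_apply] at this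
      exact (sub_eq_zero.mp this.symm)
    -- subtract off
    set x' : M := x - b.repr x j₀ • z' with hx'
    have hx'N : x' ∈ N := N.sub_mem hx (N.smul_mem _ hz'N)
    have hx'r : ∀ j, b.repr x' j = b.repr x j - b.repr x j₀ * b.repr z' j := by
      intro j; simp [hx']
    have hx'sub : (b.repr x').support ⊆ (b.repr x).support.erase j₀ := by
      intro j hj
      rw [Finsupp.mem_support_iff, hx'r] at hj
      rw [Finset.mem_erase]
      refine ⟨?_, ?_⟩
      · rintro rfl
        exact hj (by rw [hz'j, mul_one, sub_self])
      · by_contra hjx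
        rw [Finsupp.mem_support_iff, not_not] at hjx
        have : b.repr z' j = 0 := by
          by_contra h
          have : j ∈ (b.repr x).support := hzsub (hz'sub (Finsupp.mem_support_iff.mpr h))
          exact (Finsupp.mem_support_iff.mp this) hjx
        exact hj (by rw [hjx, this, mul_zero, sub_self])
    have hj₀x : j₀ ∈ (b.repr x).support := hzsub hj₀
    have hlt : (b.repr x').support.card < n := by
      rw [← hcard]
      exact lt_of_le_of_lt (Finset.card_le_card hx'sub) (Finset.card_erase_lt_of_mem hj₀x)
    have hx'span := ih _ hlt x' hx'N rfl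
    have : x = x' + b.repr x j₀ • z' := by rw [hx']; abel
    rw [this]
    exact Submodule.add_mem _ hx'span (Submodule.smul_mem _ _ (Submodule.subset_span hz'G))

end Linear

section Ring

variable {k K A B : Type*} [Field k] [Field K] [Algebra k K] [CommRing A] [CommRing B]
  [Algebra k A] [Algebra K B] [Algebra A B] [Algebra k B] [IsScalarTower k A B]
  [IsScalarTower k K B]

/-- Descent of radical ideals stable under the partial Frobenius: if `B = A ⊗[k] K`, `ψ` is the
`p ^ e`-power on `A` and the identity on `K`, `σ` is an inverse of the `p ^ e`-power on `K` whose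
fixed field is `k`, then a radical ideal `I` of `B` with `ψ I ⊆ I` is generated by `I ∩ A`. -/
theorem ideal_le_map_comap
    (h : IsBaseChange K (IsScalarTower.toAlgHom k A B).toLinearMap)
    (p e : ℕ) (hpp : p.Prime) (hp : (p : B) = 0)
    (σ : K →+* K) (hσ : ∀ c, σ c ^ p ^ e = c)
    (hfix : ∀ c, σ c = c → c ∈ Set.range (algebraMap k K))
    (ψ : B →+* B) (hψA : ∀ a : A, ψ (algebraMap A B a) = algebraMap A B a ^ p ^ e)
    (hψK : ∀ c : K, ψ (algebraMap K B c) = algebraMap K B c)
    (I : Ideal B) (hI : I.IsRadical) (hψI : ∀ x ∈ I, ψ x ∈ I) :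
    I ≤ Ideal.map (algebraMap A B) (Ideal.comap (algebraMap A B) I) := by
  classical
  rcases subsingleton_or_nontrivial B with hs | hn
  · intro x _
    rw [Subsingleton.elim x 0]
    exact Ideal.zero_mem _
  haveI : Fact p.Prime := ⟨hpp⟩
  haveI : CharP B p := (CharP.charP_iff_prime_eq_zero hpp).mpr hp
  let b₀ := Basis.ofVectorSpace k A
  let b := h.basis b₀
  have hb : ∀ j, b j = algebraMap A B (b₀ j) := fun j => h.basis_apply b₀ j
  have hexp : ∀ (c : _ →₀ K), b.repr.symm c = c.sum fun j a => a • b j := by
    intro c
    rw [Basis.repr_symm_apply, Finsupp.linearCombination_apply]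
  have hN : ∀ x ∈ I.restrictScalars K, twist b σ x ∈ I.restrictScalars K := by
    intro x hx
    have hxI : x ∈ I := hx
    show twist b σ x ∈ I
    apply hI
    refine ⟨p ^ e, ?_⟩
    have e1 : twist b σ x = (b.repr x).sum fun j a => σ a • b j := by
      unfold twist
      rw [hexp, Finsupp.sum_mapRange_index (fun j => by simp)]
    have e2 : x = (b.repr x).sum fun j a => a • b j := by
      conv_lhs => rw [← b.repr.symm_apply_apply x, hexp]
    have e3 : (twist b σ x) ^ p ^ e = ψ x := by
      rw [e1]
      conv_rhs => rw [e2]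
      rw [Finsupp.sum, Finsupp.sum, sum_pow_char_pow, map_sum]
      refine Finset.sum_congr rfl fun j _ => ?_
      rw [smul_pow, hσ, Algebra.smul_def, Algebra.smul_def, map_mul, hψK, hb, hψA]
    rw [e3]
    exact hψI x hxI
  intro x hx
  have hspan := mem_span_fixed b σ (I.restrictScalars K) hN x hx
  have hle : Submodule.span K {y | y ∈ I.restrictScalars K ∧ ∀ j, σ (b.repr y j) = b.repr y j} ≤
      (Ideal.map (algebraMap A B) (Ideal.comap (algebraMap A B) I)).restrictScalars K := by
    rw [Submodule.span_le]
    rintro y ⟨hyI, hyfix⟩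
    choose d hd using fun j => hfix _ (hyfix j)
    have hy : y = algebraMap A B ((b.repr y).sum fun j _ => d j • b₀ j) := by
      conv_lhs => rw [← b.repr.symm_apply_apply y, hexp]
      rw [Finsupp.sum, Finsupp.sum, map_sum]
      refine Finset.sum_congr rfl fun j _ => ?_
      rw [← hd j, hb, algebraMap_smul, Algebra.smul_def, Algebra.smul_def, map_mul,
        ← IsScalarTower.algebraMap_apply]
    show y ∈ Ideal.map (algebraMap A B) (Ideal.comap (algebraMap A B) I)
    rw [hy]
    apply Ideal.mem_map_of_mem
    rw [Ideal.mem_comap, ← hy]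
    exact hyI
  exact hle hspan

end Ring

section FiniteField

open Polynomial

/-- In an extension `K` of a finite field `k` with `q` elements, the elements fixed by the `q`-th
power map are those of `k`. -/
theorem mem_range_of_pow_card_eq {k K : Type*} [Field k] [Finite k] [Field K] [Algebra k K]
    (c : K) (hc : c ^ Nat.card k = c) : c ∈ Set.range (algebraMap k K) := by
  classical
  letI := Fintype.ofFinite k
  have hq : 1 < Nat.card k := Finite.one_lt_card
  have hq' : Nat.card k = Fintype.card k := Nat.card_eq_fintype_card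
  set g : K[X] := X ^ Nat.card k - X with hg
  have hg0 : g ≠ 0 := FiniteField.X_pow_card_sub_X_ne_zero K hq
  have hdeg : g.natDegree = Nat.card k := FiniteField.X_pow_card_sub_X_natDegree_eq K hq
  let S : Finset K := Finset.univ.image (algebraMap k K)
  have hS : S ⊆ g.roots.toFinset := by
    intro y hy
    obtain ⟨a, -, rfl⟩ := Finset.mem_image.mp hy
    rw [Multiset.mem_toFinset, mem_roots hg0]
    simp only [hg, IsRoot.def, eval_sub, eval_pow, eval_X]
    rw [← map_pow, hq', FiniteField.pow_card, sub_self]
  have hScard : S.card = Nat.card k := by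
    rw [Finset.card_image_of_injective _ (algebraMap k K).injective, Finset.card_univ, hq']
  have hle : g.roots.toFinset.card ≤ S.card := by
    rw [hScard, ← hdeg]
    exact (Multiset.toFinset_card_le _).trans (card_roots' g)
  have heq : S = g.roots.toFinset := Finset.eq_of_subset_of_card_le hS hle
  have hcroot : c ∈ g.roots.toFinset := by
    rw [Multiset.mem_toFinset, mem_roots hg0]
    simp only [hg, IsRoot.def, eval_sub, eval_pow, eval_X]
    rw [hc, sub_self]
  rw [← heq] at hcroot
  obtain ⟨a, -, rfl⟩ := Finset.mem_image.mp hcroot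
  exact ⟨a, rfl⟩

end FiniteField

end Groth.Agent.Helper19.SemiDesc
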