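import Mathlib
import Groth.Agent.Lib.Helper19.SemiDesc

/-!
Closed subsets of `X ×_k K` stable under the relative Frobenius descend to `X` (helper19).
-/

open AlgebraicGeometry CategoryTheory Limits

universe u

namespace Groth.Agent.Helper19.FrobDesc

open Groth.Agent.Helper19.SemiDesc

section Chart

variable {k K : Type u} [Field k] [Field K] [Algebra k K]
  {X : Scheme.{u}} (f : X ⟶ Spec (CommRingCat.of k))

local notation "gK" => Spec.map (CommRingCat.ofHom (algebraMap k K))

/-- The coordinate ring of the preimage of an affine open `U` in `X ×_k K` is `Γ(U) ⊗[k] K`. -/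
theorem isPushout_chart (U : X.Opens) (hU : IsAffineOpen U) :
    IsPushout (CommRingCat.ofHom (algebraMap k K))
      ((Scheme.ΓSpecIso (CommRingCat.of k)).inv ≫ f.appLE ⊤ U le_top)
      ((Scheme.ΓSpecIso (CommRingCat.of K)).inv ≫
        (pullback.snd f gK).appLE ⊤ (pullback.fst f gK ⁻¹ᵁ U) le_top)
      ((pullback.fst f gK).appLE U (pullback.fst f gK ⁻¹ᵁ U) le_rfl) := by
  have H : IsPullback (pullback.fst f gK) (pullback.snd f gK) f gK := IsPullback.of_hasPullback f gK
  have hUY : (pullback.fst f gK ⁻¹ᵁ U) =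
      pullback.fst f gK ⁻¹ᵁ U ⊓ pullback.snd f gK ⁻¹ᵁ (⊤ : (Spec (CommRingCat.of K)).Opens) := by
    simp
  have h1 := (isIso_pushoutSection_iff H (US := ⊤) (UT := ⊤) (UX := U) le_top le_top hUY).mp
    (isIso_pushoutSection_of_isAffineOpen H le_top le_top hUY (isAffineOpen_top _)
      (isAffineOpen_top _) hU)
  refine h1.flip.of_iso (Scheme.ΓSpecIso (CommRingCat.of k)) (Scheme.ΓSpecIso (CommRingCat.of K))
    (Iso.refl _) (Iso.refl _) ?_ ?_ ?_ ?_
  · have : (gK : Spec (CommRingCat.of K) ⟶ Spec (CommRingCat.of k)).appLE ⊤ ⊤ le_top =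
        (gK : Spec (CommRingCat.of K) ⟶ Spec (CommRingCat.of k)).appTop := by
      simp [Scheme.Hom.appTop, Scheme.Hom.appLE]
    rw [this]
    exact Scheme.ΓSpecIso_naturality _
  · simp
  · simp
  · simp

theorem appLE_congr' {Y Z : Scheme.{u}} {m₁ m₂ : Y ⟶ Z} (h : m₁ = m₂) (U : Z.Opens) (V : Y.Opens)
    (e₁ : V ≤ m₁ ⁻¹ᵁ U) (e₂ : V ≤ m₂ ⁻¹ᵁ U) : m₁.appLE U V e₁ = m₂.appLE U V e₂ := by
  subst h; rfl

/-- On a chart `π⁻¹ U`, a closed subset stable under the relative Frobenius is saturated for the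
projection `π : X ×_k K ⟶ X`. -/
theorem chart_saturated (p e : ℕ) (hpp : p.Prime) (hpk : (p : k) = 0)
    (σ : K →+* K) (hσ : ∀ c, σ c ^ p ^ e = c)
    (hfix : ∀ c, σ c = c → c ∈ Set.range (algebraMap k K))
    (FX : X ⟶ X) (hle : ∀ U : X.Opens, U ≤ FX ⁻¹ᵁ U)
    (hFapp : ∀ (U : X.Opens) (s : Γ(X, U)), (FX.appLE U U (hle U)).hom s = s ^ p ^ e)
    (F : pullback f gK ⟶ pullback f gK)
    (hF1 : F ≫ pullback.fst f gK = pullback.fst f gK ≫ FX)
    (hF2 : F ≫ pullback.snd f gK = pullback.snd f gK)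
    (W : Set ↑(pullback f gK)) (hW : IsClosed W) (hFW : F.base '' W ⊆ W)
    (U : X.Opens) (hU : IsAffineOpen U) (v v' : ↑(pullback f gK))
    (hv : (pullback.fst f gK) v ∈ U) (hvv' : (pullback.fst f gK) v = (pullback.fst f gK) v')
    (hvW : v ∈ W) : v' ∈ W := by
  set π := pullback.fst f gK with hπ
  set str := pullback.snd f gK with hstr
  set V : (pullback f gK).Opens := π ⁻¹ᵁ U with hVdef
  haveI : IsAffineHom π := MorphismProperty.pullback_fst (P := @IsAffineHom) f gK inferInstance
  have hV : IsAffineOpen V := hU.preimage π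
  have hVV : V ≤ F ⁻¹ᵁ V := by
    intro x hx
    show π (F x) ∈ U
    have : π (F x) = FX (π x) := by
      have := congrArg (fun m : pullback f gK ⟶ X => m x) hF1
      simpa using this
    rw [this]
    exact hle U hx
  -- rings and algebra structures
  let A : Type u := Γ(X, U)
  let B : Type u := Γ(pullback f gK, V)
  let ι : Γ(X, U) ⟶ Γ(pullback f gK, V) := π.appLE U V le_rfl
  let κA : CommRingCat.of k ⟶ Γ(X, U) :=
    (Scheme.ΓSpecIso (CommRingCat.of k)).inv ≫ f.appLE ⊤ U le_top
  let κB : CommRingCat.of K ⟶ Γ(pullback f gK, V) :=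
    (Scheme.ΓSpecIso (CommRingCat.of K)).inv ≫ str.appLE ⊤ V le_top
  have hPO : IsPushout (CommRingCat.ofHom (algebraMap k K)) κA κB ι := isPushout_chart f U hU
  letI : Algebra k A := κA.hom.toAlgebra
  letI : Algebra K B := κB.hom.toAlgebra
  letI : Algebra A B := ι.hom.toAlgebra
  letI : Algebra k B := (κA ≫ ι).hom.toAlgebra
  haveI : IsScalarTower k A B := IsScalarTower.of_algebraMap_eq (fun _ => rfl)
  haveI : IsScalarTower k K B := IsScalarTower.of_algebraMap_eq (fun c => by
    have := congrArg (fun m => m.hom c) hPO.w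
    exact this.symm)
  have hAP : Algebra.IsPushout k K A B := CommRingCat.isPushout_iff_isPushout.mp hPO
  -- the Frobenius on the chart
  let ψ : B →+* B := (F.appLE V V hVV).hom
  have hψA : ∀ a : A, ψ (algebraMap A B a) = algebraMap A B a ^ p ^ e := by
    intro a
    have h1 : ι ≫ F.appLE V V hVV = FX.appLE U U (hle U) ≫ ι := by
      rw [Scheme.Hom.appLE_comp_appLE, Scheme.Hom.appLE_comp_appLE]
      exact appLE_congr' hF1 _ _ _ _
    have h2 := congrArg (fun m => m.hom a) h1
    simp only [CommRingCat.hom_comp, RingHom.coe_comp, Function.comp_apply] at h2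
    rw [hFapp, map_pow] at h2
    exact h2
  have hψK : ∀ c : K, ψ (algebraMap K B c) = algebraMap K B c := by
    intro c
    have h1 : str.appLE ⊤ V le_top ≫ F.appLE V V hVV = str.appLE ⊤ V le_top := by
      rw [Scheme.Hom.appLE_comp_appLE]
      exact appLE_congr' hF2 _ _ _ _
    have h2 : κB ≫ F.appLE V V hVV = κB := by
      show ((Scheme.ΓSpecIso (CommRingCat.of K)).inv ≫ str.appLE ⊤ V le_top) ≫ _ = _
      rw [Category.assoc, h1]
    exact congrArg (fun m => m.hom c) h2
  have hpB : (p : B) = 0 := by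
    have : (p : B) = algebraMap k B (p : k) := (map_natCast _ _).symm
    rw [this, hpk, map_zero]
  -- the ideal of `W` on the chart
  let W' : Set (PrimeSpectrum B) := {P | hV.fromSpec P ∈ W}
  have hW' : IsClosed W' := hW.preimage hV.fromSpec.continuous
  let I : Ideal B := PrimeSpectrum.vanishingIdeal W'
  have hIrad : I.IsRadical := PrimeSpectrum.isRadical_vanishingIdeal W'
  have hzl : PrimeSpectrum.zeroLocus (I : Set B) = W' := by
    rw [PrimeSpectrum.zeroLocus_vanishingIdeal_eq_closure, hW'.closure_eq]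
  have hψI : ∀ x ∈ I, ψ x ∈ I := by
    intro x hx
    rw [PrimeSpectrum.mem_vanishingIdeal] at hx ⊢
    intro P hP
    have hmem : (Spec.map (F.appLE V V hVV)) P ∈ W' := by
      show hV.fromSpec ((Spec.map (F.appLE V V hVV)) P) ∈ W
      have h3 := IsAffineOpen.SpecMap_appLE_fromSpec F hV hV hVV
      have h4 := congrArg (fun m : Spec Γ(pullback f gK, V) ⟶ pullback f gK => m P) h3
      simp only [Scheme.Hom.comp_apply] at h4
      rw [h4]
      exact hFW ⟨_, hP, rfl⟩
    exact hx _ hmem
  have hdesc := ideal_le_map_comap (k := k) (K := K) (A := A) (B := B) hAP.out p e hpp hpB σ hσ hfix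
    ψ hψA hψK I hIrad hψI
  -- points
  have hvV : v ∈ V := hv
  have hv'V : v' ∈ V := by
    show π v' ∈ U
    rw [← hvv']
    exact hv
  let P := hV.primeIdealOf ⟨v, hvV⟩
  let P' := hV.primeIdealOf ⟨v', hv'V⟩
  have hP : hV.fromSpec P = v := hV.fromSpec_primeIdealOf ⟨v, hvV⟩
  have hP' : hV.fromSpec P' = v' := hV.fromSpec_primeIdealOf ⟨v', hv'V⟩
  have hπP : ∀ Q : PrimeSpectrum B, hU.fromSpec ((Spec.map ι) Q) = π (hV.fromSpec Q) := by
    intro Q
    have h3 := IsAffineOpen.SpecMap_appLE_fromSpec π hU hV le_rfl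
    have h4 := congrArg (fun m : Spec Γ(pullback f gK, V) ⟶ X => m Q) h3
    simpa only [Scheme.Hom.comp_apply] using h4
  have heq : (Spec.map ι) P = (Spec.map ι) P' := by
    apply hU.fromSpec.isOpenEmbedding.injective
    rw [hπP, hπP, hP, hP', hvv']
  have hPW : P ∈ W' := by
    show hV.fromSpec P ∈ W
    rw [hP]; exact hvW
  have hIP : I ≤ P.asIdeal := by
    intro x hx
    exact (PrimeSpectrum.mem_vanishingIdeal _ _).mp hx P hPW
  have hcomap : Ideal.comap (algebraMap A B) P.asIdeal = Ideal.comap (algebraMap A B) P'.asIdeal := by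
    have := congrArg PrimeSpectrum.asIdeal heq
    exact this
  have hIP' : I ≤ P'.asIdeal := by
    refine hdesc.trans ?_
    rw [Ideal.map_le_iff_le_comap, ← hcomap]
    exact Ideal.comap_mono hIP
  have hP'W : P' ∈ W' := by
    rw [← hzl, PrimeSpectrum.mem_zeroLocus]
    exact hIP'
  have : hV.fromSpec P' ∈ W := hP'W
  rw [hP'] at this
  exact this

end Chart

section Main

variable {k : Type u} [Field k] [Finite k] {X : Scheme.{u}} (f : X ⟶ Spec (CommRingCat.of k))

local notation "gKbar" => Spec.map (CommRingCat.ofHom (algebraMap k (AlgebraicClosure k)))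

theorem exists_prime_pow' (k : Type u) [Field k] [Finite k] :
    ∃ p e : ℕ, p.Prime ∧ Nat.card k = p ^ e ∧ (p : k) = 0 := by
  classical
  letI := Fintype.ofFinite k
  haveI : CharP k (ringChar k) := ringChar.charP k
  obtain ⟨n, hpp, hn⟩ := FiniteField.card k (ringChar k)
  refine ⟨ringChar k, n, hpp, ?_, CharP.cast_eq_zero k (ringChar k)⟩
  rw [Nat.card_eq_fintype_card, hn]

/-- A closed subset of `X ×_k k̄` comes from a closed subset of `X` iff it is stable under the
relative Frobenius. -/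
theorem main
    (FX : X ⟶ X) (hFb : FX.base = 𝟙 _) (hle : ∀ U : X.Opens, U ≤ FX ⁻¹ᵁ U)
    (hFapp : ∀ (U : X.Opens) (s : Γ(X, U)), (FX.appLE U U (hle U)).hom s = s ^ Nat.card k)
    (F : pullback f gKbar ⟶ pullback f gKbar)
    (hF1 : F ≫ pullback.fst f gKbar = pullback.fst f gKbar ≫ FX)
    (hF2 : F ≫ pullback.snd f gKbar = pullback.snd f gKbar)
    (W : Set ↑(pullback f gKbar)) (hW : IsClosed W) :
    (∃ Y : Set X, IsClosed Y ∧ (pullback.fst f gKbar).base ⁻¹' Y = W) ↔ F.base '' W ⊆ W := by
  have hπF : ∀ w, (pullback.fst f gKbar) (F w) = (pullback.fst f gKbar) w := by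
    intro w
    have h1 := congrArg (fun m : pullback f gKbar ⟶ X => m w) hF1
    simp only [Scheme.Hom.comp_apply] at h1
    rw [h1]
    have h2 := congrArg (fun m => m ((pullback.fst f gKbar) w)) hFb
    exact h2
  constructor
  · rintro ⟨Y, -, rfl⟩
    rintro _ ⟨w, hw, rfl⟩
    show (pullback.fst f gKbar) (F w) ∈ Y
    rw [hπF]
    exact hw
  · intro hFW
    obtain ⟨p, e, hpp, hcard, hpk⟩ := exists_prime_pow' k
    haveI : Fact p.Prime := ⟨hpp⟩
    haveI : CharP k p := (CharP.charP_iff_prime_eq_zero hpp).mpr hpk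
    haveI : CharP (AlgebraicClosure k) p :=
      charP_of_injective_algebraMap (algebraMap k (AlgebraicClosure k)).injective p
    haveI : ExpChar (AlgebraicClosure k) p := ExpChar.prime hpp
    let σ : AlgebraicClosure k →+* AlgebraicClosure k :=
      ((iterateFrobeniusEquiv (AlgebraicClosure k) p e).symm : AlgebraicClosure k →+* AlgebraicClosure k)
    have hσ : ∀ c, σ c ^ p ^ e = c := by
      intro c
      have := (iterateFrobeniusEquiv (AlgebraicClosure k) p e).apply_symm_apply c
      rw [iterateFrobeniusEquiv_def] at this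
      exact this
    have hfix : ∀ c, σ c = c → c ∈ Set.range (algebraMap k (AlgebraicClosure k)) := by
      intro c hc
      apply mem_range_of_pow_card_eq
      have := hσ c
      rw [hc] at this
      rw [hcard]
      exact this
    have hFapp' : ∀ (U : X.Opens) (s : Γ(X, U)), (FX.appLE U U (hle U)).hom s = s ^ p ^ e := by
      intro U s
      rw [hFapp, hcard]
    haveI : IsIntegralHom (gKbar : Spec (CommRingCat.of (AlgebraicClosure k)) ⟶ Spec (CommRingCat.of k)) := by
      rw [IsIntegralHom.SpecMap_iff]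
      exact Algebra.IsIntegral.isIntegral
    haveI : IsIntegralHom (pullback.fst f gKbar) :=
      MorphismProperty.pullback_fst (P := @IsIntegralHom) f gKbar inferInstance
    refine ⟨(pullback.fst f gKbar) '' W, (pullback.fst f gKbar).isClosedMap W hW, ?_⟩
    apply Set.Subset.antisymm
    · rintro v' ⟨v, hvW, hvv'⟩
      obtain ⟨U, hU, hxU, -⟩ := exists_isAffineOpen_mem_and_subset
        (x := (pullback.fst f gKbar) v) (U := ⊤) trivial
      exact chart_saturated f p e hpp hpk σ hσ hfix FX hle hFapp' F hF1 hF2 W hW hFW U hU v v'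
        hxU hvv' hvW
    · intro w hw
      exact ⟨w, hw, rfl⟩

end Main

end Groth.Agent.Helper19.FrobDesc
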