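import Mathlib
import Groth.Prelude.Def_FinFr

/-!
The fixed-point scheme of the geometric Frobenius `Frob_X × id` on `X ×_k k̄` is unramified over
`k̄`, hence reduced (and finite for `X` of finite type).
-/

open AlgebraicGeometry CategoryTheory Limits

universe u

namespace Groth.Agent.Helper19.FrobFix

/-- In a ring with `p = 0`, elements congruent modulo a square-zero ideal have equal `p^e`-th
powers (`e ≥ 1`). -/
theorem pow_eq_of_sub_mem {R : Type*} [CommRing R] (p e : ℕ) (hpp : p.Prime) (he : 1 ≤ e)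
    (hp : (p : R) = 0) (J : Ideal R) (hJ : J ^ 2 = ⊥) (x y : R) (h : x - y ∈ J) :
    x ^ (p ^ e) = y ^ (p ^ e) := by
  rcases subsingleton_or_nontrivial R with hs | hn
  · exact Subsingleton.elim _ _
  · haveI : Fact p.Prime := ⟨hpp⟩
    haveI : CharP R p := (CharP.charP_iff_prime_eq_zero hpp).mpr hp
    have h1 : (x - y) ^ (p ^ e) = x ^ (p ^ e) - y ^ (p ^ e) := sub_pow_char_pow x y e
    have h2 : (x - y) ^ 2 = 0 := by
      have : (x - y) ^ 2 ∈ J ^ 2 := Ideal.pow_mem_pow h 2
      rw [hJ] at this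
      exact this
    have h3 : 2 ≤ p ^ e := by
      calc 2 ≤ p := hpp.two_le
        _ = p ^ 1 := (pow_one p).symm
        _ ≤ p ^ e := Nat.pow_le_pow_right hpp.pos he
    have h4 : (x - y) ^ (p ^ e) = 0 := pow_eq_zero_of_le h3 h2
    rw [h4] at h1
    exact (sub_eq_zero.mp h1.symm)

section

variable {X : Scheme.{u}} (FX : X ⟶ X) (hle : ∀ U : X.Opens, U ≤ FX ⁻¹ᵁ U) (q : ℕ)
  (hFapp : ∀ (U : X.Opens) (s : Γ(X, U)), (FX.appLE U U (hle U)).hom s = s ^ q)
  (p e : ℕ) (hpp : p.Prime) (he : 1 ≤ e) (hq : q = p ^ e)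

include hFapp hpp he hq in
theorem frob_comp_eq_of_affine {R : CommRingCat.{u}} (J : Ideal R) (hJ : J ^ 2 = ⊥)
    (hp : (p : R) = 0) (U : X.Opens) (hU : IsAffineOpen U) (α β : Γ(X, U) ⟶ R)
    (h : ∀ s, α.hom s - β.hom s ∈ J) :
    Spec.map α ≫ hU.fromSpec ≫ FX = Spec.map β ≫ hU.fromSpec ≫ FX := by
  rw [← IsAffineOpen.SpecMap_appLE_fromSpec FX hU hU (hle U), ← Category.assoc, ← Category.assoc,
    ← Spec.map_comp, ← Spec.map_comp]
  congr 2
  ext s
  show α.hom ((FX.appLE U U (hle U)).hom s) = β.hom ((FX.appLE U U (hle U)).hom s)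
  rw [hFapp, map_pow, map_pow, hq]
  exact pow_eq_of_sub_mem p e hpp he hp J hJ _ _ (h s)

/-- Points: a closed immersion defined by a square-zero ideal is surjective. -/
theorem surj_of_sq_zero {C : CommRingCat.{u}} (I : Ideal C) (hI : I ^ 2 = ⊥)
    (t : Spec C) : ∃ t₀ : Spec (CommRingCat.of (C ⧸ I)),
      (Spec.map (CommRingCat.ofHom (Ideal.Quotient.mk I))).base t₀ = t := by
  have hsub : I ≤ t.asIdeal := by
    intro x hx
    have h2 : x ^ 2 ∈ I ^ 2 := Ideal.pow_mem_pow hx 2
    rw [hI] at h2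
    have h3 : x ^ 2 ∈ t.asIdeal := by
      rw [Ideal.mem_bot.mp h2]; exact t.asIdeal.zero_mem
    exact t.isPrime.mem_of_pow_mem 2 h3
  have hrange : t ∈ Set.range (PrimeSpectrum.comap (Ideal.Quotient.mk I)) := by
    rw [range_comap_of_surjective _ _ Ideal.Quotient.mk_surjective,
      Ideal.mk_ker]
    exact hsub
  obtain ⟨t₀, ht₀⟩ := hrange
  exact ⟨t₀, ht₀⟩

include hFapp hpp he hq in
theorem frob_comp_eq {C : CommRingCat.{u}} (I : Ideal C) (hI : I ^ 2 = ⊥)
    (hp : (p : C) = 0) (a' b' : Spec C ⟶ X)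
    (h : Spec.map (CommRingCat.ofHom (Ideal.Quotient.mk I)) ≫ a' =
      Spec.map (CommRingCat.ofHom (Ideal.Quotient.mk I)) ≫ b') :
    a' ≫ FX = b' ≫ FX := by
  have hbase : ∀ t, a'.base t = b'.base t := by
    intro t
    obtain ⟨t₀, rfl⟩ := surj_of_sq_zero I hI t
    have := congrArg (fun m : Spec (CommRingCat.of (C ⧸ I)) ⟶ X => m.base t₀) h
    exact this
  let S : Set C := {c | ∃ U : X.Opens, IsAffineOpen U ∧
    ∀ t : Spec C, t ∈ PrimeSpectrum.basicOpen c → a'.base t ∈ U}
  have hS : Ideal.span (Set.range (Subtype.val : S → C)) = ⊤ := by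
    rw [Subtype.range_coe]
    by_contra hne
    obtain ⟨M, hM, hle'⟩ := Ideal.exists_le_maximal _ hne
    let t : Spec C := ⟨M, hM.isPrime⟩
    obtain ⟨_, ⟨U, hU, rfl⟩, htU, -⟩ :=
      X.isBasis_affineOpens.exists_subset_of_mem_open (Set.mem_univ (a'.base t)) isOpen_univ
    have hopen : IsOpen ((a' ⁻¹ᵁ U : (Spec C).Opens) : Set (Spec C)) := (a' ⁻¹ᵁ U).2
    obtain ⟨_, ⟨c, rfl⟩, htc, hcU⟩ :=
      PrimeSpectrum.isTopologicalBasis_basic_opens.exists_subset_of_mem_open
        (show t ∈ ((a' ⁻¹ᵁ U : (Spec C).Opens) : Set (Spec C)) from htU) hopen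
    have hcS : c ∈ S := ⟨U, hU, fun t' ht' => hcU ht'⟩
    exact htc (hle' (Ideal.subset_span hcS))
  refine (Scheme.affineOpenCoverOfSpanRangeEqTop (Subtype.val : S → C) hS).openCover.hom_ext
    _ _ ?_
  intro (c : S)
  obtain ⟨U, hU, hcU⟩ := c.2
  show Spec.map (CommRingCat.ofHom (algebraMap C (Localization.Away c.1))) ≫ a' ≫ FX =
    Spec.map (CommRingCat.ofHom (algebraMap C (Localization.Away c.1))) ≫ b' ≫ FX
  set ℓ := Spec.map (CommRingCat.ofHom (algebraMap C (Localization.Away c.1))) with hℓ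
  have hrange_ℓ : ∀ t', ℓ.base t' ∈ PrimeSpectrum.basicOpen c.1 := by
    intro t'
    have := PrimeSpectrum.localization_away_comap_range (Localization.Away c.1) c.1
    have h1 : ℓ.base t' ∈ Set.range (PrimeSpectrum.comap (algebraMap C (Localization.Away c.1))) :=
      ⟨t', rfl⟩
    rw [this] at h1
    exact h1
  have hra : Set.range (ℓ ≫ a').base ⊆ Set.range hU.fromSpec.base := by
    rw [hU.range_fromSpec]
    rintro _ ⟨t', rfl⟩
    exact hcU _ (hrange_ℓ t')
  have hrb : Set.range (ℓ ≫ b').base ⊆ Set.range hU.fromSpec.base := by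
    rw [hU.range_fromSpec]
    rintro _ ⟨t', rfl⟩
    show b'.base (ℓ.base t') ∈ U
    rw [← hbase]
    exact hcU _ (hrange_ℓ t')
  let α := Spec.preimage (IsOpenImmersion.lift hU.fromSpec (ℓ ≫ a') hra)
  let β := Spec.preimage (IsOpenImmersion.lift hU.fromSpec (ℓ ≫ b') hrb)
  have hα : Spec.map α ≫ hU.fromSpec = ℓ ≫ a' := by
    rw [Spec.map_preimage, IsOpenImmersion.lift_fac]
  have hβ : Spec.map β ≫ hU.fromSpec = ℓ ≫ b' := by
    rw [Spec.map_preimage, IsOpenImmersion.lift_fac]
  let J : Ideal (Localization.Away c.1) := I.map (algebraMap C (Localization.Away c.1))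
  have hJ : J ^ 2 = ⊥ := by
    show (I.map (algebraMap C (Localization.Away c.1))) ^ 2 = ⊥
    rw [← Ideal.map_pow, hI, Ideal.map_bot]
  have hpJ : (p : Localization.Away c.1) = 0 := by
    have := congrArg (algebraMap C (Localization.Away c.1)) hp
    simpa using this
  have hIJ : I ≤ J.comap (algebraMap C (Localization.Away c.1)) := Ideal.le_comap_map
  have hsq : Spec.map (CommRingCat.ofHom (Ideal.Quotient.mk J)) ≫ ℓ =
      Spec.map (CommRingCat.ofHom (Ideal.quotientMap J (algebraMap C (Localization.Away c.1)) hIJ))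
        ≫ Spec.map (CommRingCat.ofHom (Ideal.Quotient.mk I)) := by
    rw [hℓ, ← Spec.map_comp, ← Spec.map_comp]
    congr 1
  have hmk : α ≫ CommRingCat.ofHom (Ideal.Quotient.mk J) =
      β ≫ CommRingCat.ofHom (Ideal.Quotient.mk J) := by
    apply Spec.map_injective
    rw [Spec.map_comp, Spec.map_comp, ← cancel_mono hU.fromSpec, Category.assoc, Category.assoc,
      hα, hβ, ← Category.assoc, ← Category.assoc, hsq, Category.assoc, Category.assoc, h]
  have hdiff : ∀ s, α.hom s - β.hom s ∈ J := by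
    intro s
    have := congrArg (fun m => m.hom s) hmk
    exact Ideal.Quotient.eq.mp this
  have key := frob_comp_eq_of_affine FX hle q hFapp p e hpp he hq
    (R := CommRingCat.of (Localization.Away c.1)) J hJ hpJ U hU α β hdiff
  rw [← Category.assoc, ← Category.assoc, ← hα, ← hβ, Category.assoc, Category.assoc]
  exact key

end

section Fix

variable {Y S : Scheme.{u}} (p : Y ⟶ S) (F : Y ⟶ Y) (hF : F ≫ p = p)

/-- The graph of an `S`-endomorphism. -/
noncomputable abbrev gr : Y ⟶ pullback p p :=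
  pullback.lift (𝟙 Y) F (by rw [hF, Category.id_comp])

theorem fst_F : pullback.fst (gr p F hF) (pullback.diagonal p) ≫ F =
    pullback.fst (gr p F hF) (pullback.diagonal p) := by
  have hc := pullback.condition (f := gr p F hF) (g := pullback.diagonal p)
  have h1 := congrArg (fun m => m ≫ pullback.fst _ _) hc
  have h2 := congrArg (fun m => m ≫ pullback.snd _ _) hc
  simp only [Category.assoc, pullback.lift_fst, pullback.lift_snd, Category.comp_id,
    pullback.diagonal_fst, pullback.diagonal_snd] at h1 h2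
  rw [h2, ← h1]

theorem fixScheme_eq {k : Type u} [Field k] {X : Scheme.{u}} (p : X ⟶ Spec (CommRingCat.of k))
    (f : X ⟶ X) (hf : f ≫ p = p) :
    FinFr.fixScheme p f hf = pullback (gr p f hf) (pullback.diagonal p) := rfl

end Fix

section Main

variable {k : Type u} [Field k] [Finite k] {X : Scheme.{u}} (f : X ⟶ Spec (CommRingCat.of k))
  (FX : X ⟶ X) (hle : ∀ U : X.Opens, U ≤ FX ⁻¹ᵁ U)
  (hFapp : ∀ (U : X.Opens) (s : Γ(X, U)), (FX.appLE U U (hle U)).hom s = s ^ Nat.card k)
  (F : FinFr.ext (AlgebraicClosure k) f ⟶ FinFr.ext (AlgebraicClosure k) f)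
  (hF1 : F ≫ FinFr.extπ (AlgebraicClosure k) f = FinFr.extπ (AlgebraicClosure k) f ≫ FX)
  (hF2 : F ≫ FinFr.extStr (AlgebraicClosure k) f = FinFr.extStr (AlgebraicClosure k) f)

theorem exists_prime_pow (k : Type u) [Field k] [Finite k] :
    ∃ p e : ℕ, p.Prime ∧ 1 ≤ e ∧ Nat.card k = p ^ e ∧ (p : k) = 0 := by
  classical
  letI := Fintype.ofFinite k
  haveI : CharP k (ringChar k) := ringChar.charP k
  obtain ⟨n, hpp, hn⟩ := FiniteField.card k (ringChar k)
  refine ⟨ringChar k, n, hpp, n.pos, ?_, CharP.cast_eq_zero k (ringChar k)⟩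
  rw [Nat.card_eq_fintype_card, hn]

include hFapp hF1 in
theorem formallyUnramified_aux (B : CommRingCat.{u})
    (u : Spec B ⟶ pullback (gr (FinFr.extStr (AlgebraicClosure k) f) F hF2)
      (pullback.diagonal (FinFr.extStr (AlgebraicClosure k) f))) [Mono u]
    (ψ : CommRingCat.of (AlgebraicClosure k) ⟶ B)
    (hψ : Spec.map ψ = u ≫ pullback.fst (gr (FinFr.extStr (AlgebraicClosure k) f) F hF2)
      (pullback.diagonal (FinFr.extStr (AlgebraicClosure k) f)) ≫
        FinFr.extStr (AlgebraicClosure k) f) :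
    letI := ψ.hom.toAlgebra
    Algebra.FormallyUnramified (AlgebraicClosure k) B := by
  letI : Algebra (AlgebraicClosure k) B := ψ.hom.toAlgebra
  rw [Algebra.FormallyUnramified.iff_comp_injective]
  intro C _ _ I hI α β hαβ
  obtain ⟨p, e, hpp, he, hq, hpk⟩ := exists_prime_pow k
  have hpC : (p : C) = 0 := by
    have h0 : (p : AlgebraicClosure k) = 0 := by
      have := congrArg (algebraMap k (AlgebraicClosure k)) hpk
      simpa using this
    have := congrArg (algebraMap (AlgebraicClosure k) C) h0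
    simpa using this
  haveI : Mono (pullback.fst (gr (FinFr.extStr (AlgebraicClosure k) f) F hF2)
      (pullback.diagonal (FinFr.extStr (AlgebraicClosure k) f))) := inferInstance
  set ι := pullback.fst (gr (FinFr.extStr (AlgebraicClosure k) f) F hF2)
      (pullback.diagonal (FinFr.extStr (AlgebraicClosure k) f)) with hι
  have hιF : ι ≫ F = ι := fst_F _ F hF2
  obtain ⟨a, hadef⟩ : ∃ a : Spec (CommRingCat.of C) ⟶ FinFr.ext (AlgebraicClosure k) f,
      a = Spec.map (CommRingCat.ofHom α.toRingHom) ≫ u ≫ ι := ⟨_, rfl⟩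
  obtain ⟨b, hbdef⟩ : ∃ b : Spec (CommRingCat.of C) ⟶ FinFr.ext (AlgebraicClosure k) f,
      b = Spec.map (CommRingCat.ofHom β.toRingHom) ≫ u ≫ ι := ⟨_, rfl⟩
  have h1 : Spec.map (CommRingCat.ofHom (Ideal.Quotient.mk I)) ≫ a =
      Spec.map (CommRingCat.ofHom (Ideal.Quotient.mk I)) ≫ b := by
    have e1 : CommRingCat.ofHom α.toRingHom ≫ CommRingCat.ofHom (Ideal.Quotient.mk I) =
        CommRingCat.ofHom β.toRingHom ≫ CommRingCat.ofHom (Ideal.Quotient.mk I) := by
      ext x
      exact congrArg (fun m => m x) hαβ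
    have e2 := congrArg Spec.map e1
    rw [Spec.map_comp, Spec.map_comp] at e2
    rw [hadef, hbdef, reassoc_of% e2]
  have hstr : ∀ γ : B →ₐ[AlgebraicClosure k] C,
      (Spec.map (CommRingCat.ofHom γ.toRingHom) ≫ u ≫ ι) ≫ FinFr.extStr (AlgebraicClosure k) f =
        Spec.map (CommRingCat.ofHom (algebraMap (AlgebraicClosure k) C)) := by
    intro γ
    rw [Category.assoc, Category.assoc, ← hψ, ← Spec.map_comp]
    congr 1
    ext x
    exact γ.commutes x
  have h2 : a ≫ FinFr.extStr (AlgebraicClosure k) f = b ≫ FinFr.extStr (AlgebraicClosure k) f := by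
    rw [hadef, hbdef, hstr α, hstr β]
  have ha : a ≫ F = a := by
    rw [hadef, Category.assoc, Category.assoc, hιF]
  have hb : b ≫ F = b := by
    rw [hbdef, Category.assoc, Category.assoc, hιF]
  have h3 : a ≫ F = b ≫ F := by
    apply pullback.hom_ext
    · have e3 : ∀ c : Spec (CommRingCat.of C) ⟶ FinFr.ext (AlgebraicClosure k) f,
          (c ≫ F) ≫ pullback.fst f (FinFr.specι k (AlgebraicClosure k)) =
            (c ≫ FinFr.extπ (AlgebraicClosure k) f) ≫ FX := by
        intro c
        rw [Category.assoc, Category.assoc]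
        exact congrArg (fun m => c ≫ m) hF1
      rw [e3 a, e3 b]
      refine frob_comp_eq FX hle (Nat.card k) hFapp p e hpp he hq (C := CommRingCat.of C) I hI hpC
        (a ≫ FinFr.extπ (AlgebraicClosure k) f) (b ≫ FinFr.extπ (AlgebraicClosure k) f) ?_
      rw [← Category.assoc, ← Category.assoc, h1]
    · have e4 : ∀ c : Spec (CommRingCat.of C) ⟶ FinFr.ext (AlgebraicClosure k) f,
          (c ≫ F) ≫ pullback.snd f (FinFr.specι k (AlgebraicClosure k)) =
            c ≫ FinFr.extStr (AlgebraicClosure k) f := by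
        intro c
        rw [Category.assoc]
        exact congrArg (fun m => c ≫ m) hF2
      rw [e4 a, e4 b]
      exact h2
  have h4 : a = b := by rw [← ha, ← hb, h3]
  have h5 : Spec.map (CommRingCat.ofHom α.toRingHom) = Spec.map (CommRingCat.ofHom β.toRingHom) := by
    rw [← cancel_mono (u ≫ ι), ← hadef, ← hbdef]
    exact h4
  have h6 := Spec.map_injective h5
  ext x
  exact congrArg (fun m => m.hom x) h6

include hFapp hF1 in
theorem isReduced_fix [LocallyOfFiniteType f] :
    IsReduced (FinFr.fixScheme (FinFr.extStr (AlgebraicClosure k) f) F hF2) := by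
  rw [fixScheme_eq]
  set Z := pullback (gr (FinFr.extStr (AlgebraicClosure k) f) F hF2)
      (pullback.diagonal (FinFr.extStr (AlgebraicClosure k) f)) with hZ
  haveI : ∀ i, IsReduced (Z.affineOpenCover.openCover.X i) := by
    intro i
    let B : CommRingCat.{u} := Z.affineOpenCover.X i
    let u : Spec B ⟶ Z := Z.affineOpenCover.f i
    haveI : IsOpenImmersion u := Z.affineOpenCover.map_prop i
    let ψ : CommRingCat.of (AlgebraicClosure k) ⟶ B :=
      Spec.preimage (u ≫ pullback.fst (gr (FinFr.extStr (AlgebraicClosure k) f) F hF2)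
        (pullback.diagonal (FinFr.extStr (AlgebraicClosure k) f)) ≫
          FinFr.extStr (AlgebraicClosure k) f)
    have hψ : Spec.map ψ = u ≫ pullback.fst (gr (FinFr.extStr (AlgebraicClosure k) f) F hF2)
        (pullback.diagonal (FinFr.extStr (AlgebraicClosure k) f)) ≫
          FinFr.extStr (AlgebraicClosure k) f := Spec.map_preimage _
    letI : Algebra (AlgebraicClosure k) B := ψ.hom.toAlgebra
    haveI : Algebra.FormallyUnramified (AlgebraicClosure k) B :=
      formallyUnramified_aux f FX hle hFapp F hF1 hF2 B u ψ hψ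
    haveI : Algebra.FiniteType (AlgebraicClosure k) B := by
      have h1 : LocallyOfFiniteType (Spec.map ψ) := by
        rw [hψ]; infer_instance
      exact (HasRingHomProperty.Spec_iff (P := @LocallyOfFiniteType)).mp h1
    haveI : _root_.IsReduced B := Algebra.FormallyUnramified.isReduced_of_field (AlgebraicClosure k) B
    show IsReduced (Spec B)
    infer_instance
  exact IsReduced.of_openCover Z Z.affineOpenCover.openCover

end Main

end Groth.Agent.Helper19.FrobFix
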