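import Mathlib
import Groth.Agent.Lib.Helper19.FrobFix

/-!
Finiteness of the fixed-point scheme of the geometric Frobenius.
-/

open AlgebraicGeometry CategoryTheory Limits

universe u

namespace Groth.Agent.Helper19.FrobFix2

open Groth.Agent.Helper19.FrobFix

variable {k : Type u} [Field k] [Finite k] {X : Scheme.{u}} (f : X ⟶ Spec (CommRingCat.of k))
  (FX : X ⟶ X) (hle : ∀ U : X.Opens, U ≤ FX ⁻¹ᵁ U)
  (hFapp : ∀ (U : X.Opens) (s : Γ(X, U)), (FX.appLE U U (hle U)).hom s = s ^ Nat.card k)
  (F : FinFr.ext (AlgebraicClosure k) f ⟶ FinFr.ext (AlgebraicClosure k) f)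
  (hF1 : F ≫ FinFr.extπ (AlgebraicClosure k) f = FinFr.extπ (AlgebraicClosure k) f ≫ FX)
  (hF2 : F ≫ FinFr.extStr (AlgebraicClosure k) f = FinFr.extStr (AlgebraicClosure k) f)

include hFapp hF1 in
theorem finite_chart [LocallyOfFiniteType f]
    (i : (pullback (gr (FinFr.extStr (AlgebraicClosure k) f) F hF2)
      (pullback.diagonal (FinFr.extStr (AlgebraicClosure k) f))).affineOpenCover.I₀) :
    Finite ↥(Spec ((pullback (gr (FinFr.extStr (AlgebraicClosure k) f) F hF2)
      (pullback.diagonal (FinFr.extStr (AlgebraicClosure k) f))).affineOpenCover.X i)) := by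
  let Z := pullback (gr (FinFr.extStr (AlgebraicClosure k) f) F hF2)
      (pullback.diagonal (FinFr.extStr (AlgebraicClosure k) f))
  let B : CommRingCat.{u} := Z.affineOpenCover.X i
  let u : Spec B ⟶ Z := Z.affineOpenCover.f i
  haveI : IsOpenImmersion u := Z.affineOpenCover.map_prop i
  let ψ : CommRingCat.of (AlgebraicClosure k) ⟶ B :=
    Spec.preimage (u ≫ pullback.fst (gr (FinFr.extStr (AlgebraicClosure k) f) F hF2)
      (pullback.diagonal (FinFr.extStr (AlgebraicClosure k) f)) ≫
        FinFr.extStr (AlgebraicClosure k) f)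
  have hψ : Spec.map ψ = u ≫ pullback.fst (gr (FinFr.extStr (AlgebraicClosure k) f) F hF2)
      (pullback.diagonal (FinFr.extStr (AlgebraicClosure k) f)) ≫
        FinFr.extStr (AlgebraicClosure k) f := Spec.map_preimage _
  letI : Algebra (AlgebraicClosure k) B := ψ.hom.toAlgebra
  haveI : Algebra.FormallyUnramified (AlgebraicClosure k) B :=
    formallyUnramified_aux f FX hle hFapp F hF1 hF2 B u ψ hψ
  haveI : Algebra.FiniteType (AlgebraicClosure k) B := by
    have h1 : LocallyOfFiniteType (Spec.map ψ) := by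
      rw [hψ]; infer_instance
    exact (HasRingHomProperty.Spec_iff (P := @LocallyOfFiniteType)).mp h1
  haveI : Module.Finite (AlgebraicClosure k) B :=
    Algebra.FormallyUnramified.finite_of_free (AlgebraicClosure k) B
  haveI : IsArtinianRing B := IsArtinianRing.of_finite (AlgebraicClosure k) B
  show Finite (PrimeSpectrum B)
  infer_instance

include hFapp hF1 in
theorem finite_fix [LocallyOfFiniteType f] [QuasiCompact f] :
    Finite ↥(FinFr.fixScheme (FinFr.extStr (AlgebraicClosure k) f) F hF2) := by
  rw [fixScheme_eq]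
  set Z := pullback (gr (FinFr.extStr (AlgebraicClosure k) f) F hF2)
      (pullback.diagonal (FinFr.extStr (AlgebraicClosure k) f)) with hZ
  haveI : IsLocallyNoetherian (FinFr.ext (AlgebraicClosure k) f) :=
    LocallyOfFiniteType.isLocallyNoetherian (FinFr.extStr (AlgebraicClosure k) f)
  haveI : CompactSpace (FinFr.ext (AlgebraicClosure k) f) :=
    QuasiCompact.compactSpace_of_compactSpace (FinFr.extStr (AlgebraicClosure k) f)
  haveI : IsNoetherian (FinFr.ext (AlgebraicClosure k) f) := {}
  haveI : IsImmersion (pullback.fst (gr (FinFr.extStr (AlgebraicClosure k) f) F hF2)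
      (pullback.diagonal (FinFr.extStr (AlgebraicClosure k) f))) := inferInstance
  haveI : TopologicalSpace.NoetherianSpace Z :=
    (pullback.fst (gr (FinFr.extStr (AlgebraicClosure k) f) F hF2)
      (pullback.diagonal (FinFr.extStr (AlgebraicClosure k) f))).isEmbedding.isInducing.noetherianSpace
  haveI : CompactSpace Z := inferInstance
  have hfin : ∀ i, Finite ↥(Z.affineOpenCover.openCover.X i) := fun i =>
    finite_chart f FX hle hFapp F hF1 hF2 i
  let 𝒱 := Z.affineOpenCover.openCover.finiteSubcover
  haveI : ∀ j, Finite ↥(𝒱.X j) := fun j => hfin _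
  rw [← Set.finite_univ_iff, ← 𝒱.iUnion_range]
  exact Set.finite_iUnion (fun j => Set.finite_range _)

end Groth.Agent.Helper19.FrobFix2
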