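import Groth.Prelude.Def_Red2
import Groth.Agent.Lib.Helper19.AffUnits
import Mathlib

set_option autoImplicit false
universe u
open CategoryTheory AlgebraicGeometry MonObj CartesianMonoidalCategory Limits

namespace Groth.Agent.Lib.Helper19.GaGm

lemma ringHom_ulift_ext {R : Type*} [Ring R] (F G : ULift.{u} ℤ →+* R) : F = G := by
  have h : F.comp (ULift.ringEquiv.symm : ℤ ≃+* ULift.{u} ℤ).toRingHom =
      G.comp (ULift.ringEquiv.symm : ℤ ≃+* ULift.{u} ℤ).toRingHom := RingHom.ext_int _ _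
  ext r
  have hr : r = ((r.down : ℤ) : ULift.{u} ℤ) := by
    apply ULift.ext
    simp
  rw [hr, map_intCast, map_intCast]

lemma ringHom_laurent_ext {R : Type*} [Ring R]
    (F G : MonoidAlgebra (ULift.{u} ℤ) (Multiplicative ℤ) →+* R)
    (h : F (MonoidAlgebra.single (Multiplicative.ofAdd (1 : ℤ)) 1) =
      G (MonoidAlgebra.single (Multiplicative.ofAdd (1 : ℤ)) 1)) : F = G := by
  apply MonoidAlgebra.ringHom_ext
  · intro r
    have := ringHom_ulift_ext (F.comp MonoidAlgebra.singleOneRingHom)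
      (G.comp MonoidAlgebra.singleOneRingHom)
    exact congrArg (fun φ => φ r) this
  · intro m
    have : (F : _ →* R).comp (MonoidAlgebra.of (ULift.{u} ℤ) (Multiplicative ℤ)) =
        (G : _ →* R).comp (MonoidAlgebra.of (ULift.{u} ℤ) (Multiplicative ℤ)) := by
      apply MonoidHom.ext_mint
      simpa using h
    have := congrArg (fun φ => φ m) this
    simpa using this

lemma hom_Gm_ext {S : Scheme.{u}} {T : Over S} (ψ₁ ψ₂ : T ⟶ Red.Gm S)
    (h : Red.gmFn ψ₁ = Red.gmFn ψ₂) : ψ₁ = ψ₂ := by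
  apply Over.OverMorphism.ext
  apply pullback.hom_ext
  · haveI : IsAffine (Red.diag (ULift.{u} ℤ) ℤ).left := inferInstanceAs (IsAffine (Spec _))
    apply ext_of_isAffine
    have key : (Scheme.ΓSpecIso _).inv ≫ (ψ₁.left ≫ pullback.fst _ _).appTop =
        (Scheme.ΓSpecIso _).inv ≫ (ψ₂.left ≫ pullback.fst _ _).appTop := by
      ext1
      apply ringHom_laurent_ext
      exact h
    exact (cancel_epi _).mp key
  · have h1 := Over.w ψ₁
    have h2 := Over.w ψ₂
    exact h1.trans h2.symm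

lemma gmFn_comp {S : Scheme.{u}} {T T' : Over S} (ρ : T' ⟶ T) (ψ : T ⟶ Red.Gm S) :
    Red.gmFn (ρ ≫ ψ) = ρ.left.appTop (Red.gmFn ψ) := by
  simp [Red.gmFn, Scheme.Hom.comp_appTop]

lemma isUnit_gmCoord : IsUnit (Red.gmCoord.{u}) := by
  unfold Red.gmCoord
  apply IsUnit.map
  refine IsUnit.of_mul_eq_one (MonoidAlgebra.single (Multiplicative.ofAdd (-1 : ℤ)) 1) ?_
  rw [MonoidAlgebra.single_mul_single]
  simp
  exact MonoidAlgebra.one_def.symm

lemma isUnit_gmFn {S : Scheme.{u}} {T : Over S} (ψ : T ⟶ Red.Gm S) : IsUnit (Red.gmFn ψ) :=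
  isUnit_gmCoord.map _

/-- the ring iso Sym_{ℤ'}(ℤ') ≅ ℤ[PUnit] -/
noncomputable def symEquiv :
    SymmetricAlgebra (ULift.{u} ℤ) (ULift.{u} ℤ) ≃+* MvPolynomial PUnit.{u+1} (ULift.{u} ℤ) :=
  (SymmetricAlgebra.equivMvPolynomial
    (Module.Basis.singleton PUnit.{u+1} (ULift.{u} ℤ))).toRingEquiv

noncomputable def specSymIso :
    Spec (CommRingCat.of (SymmetricAlgebra (ULift.{u} ℤ) (ULift.{u} ℤ))) ≅
      Spec (CommRingCat.of (MvPolynomial PUnit.{u+1} (ULift.{u} ℤ))) :=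
  Scheme.Spec.mapIso (symEquiv.symm.toCommRingCatIso).op

lemma isPullback_ga (S : Scheme.{u}) :
    IsPullback (pullback.snd (Red.GaZ.{u}).hom (Limits.IsTerminal.from specULiftZIsTerminal S))
      (pullback.fst (Red.GaZ.{u}).hom (Limits.IsTerminal.from specULiftZIsTerminal S) ≫
        specSymIso.hom)
      (terminal.from S)
      (terminal.from (Spec (CommRingCat.of (MvPolynomial PUnit.{u+1} (ULift.{u} ℤ))))) := by
  have sq1 : IsPullback
      (pullback.snd (Red.GaZ.{u}).hom (Limits.IsTerminal.from specULiftZIsTerminal S))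
      (pullback.fst (Red.GaZ.{u}).hom (Limits.IsTerminal.from specULiftZIsTerminal S))
      (Limits.IsTerminal.from specULiftZIsTerminal S) (Red.GaZ.{u}).hom :=
    (IsPullback.of_hasPullback _ _).flip
  haveI : IsIso (terminal.from (Spec (CommRingCat.of (ULift.{u} ℤ)))) :=
    isIso_of_isTerminal specULiftZIsTerminal terminalIsTerminal (terminal.from _)
  have sq2 : IsPullback (Red.GaZ.{u}).hom specSymIso.hom
      (terminal.from (Spec (CommRingCat.of (ULift.{u} ℤ))))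
      (terminal.from (Spec (CommRingCat.of (MvPolynomial PUnit.{u+1} (ULift.{u} ℤ))))) :=
    IsPullback.of_vert_isIso ⟨terminal.hom_ext _ _⟩
  have := sq1.paste_vert sq2
  rwa [terminal.comp_from] at this

/-- `𝔾_a` over `S` is the affine line over `S`. -/
noncomputable def gaIso (S : Scheme.{u}) : (Red.Ga S).left ≅ 𝔸(PUnit.{u+1}; S) :=
  (isPullback_ga S).isoPullback

lemma gaIso_hom_over (S : Scheme.{u}) :
    (gaIso S).hom ≫ (𝔸(PUnit.{u+1}; S) ↘ S) = (Red.Ga S).hom :=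
  (isPullback_ga S).isoPullback_hom_fst

lemma exists_of_isUnit_Ga (S : Scheme.{u}) [IsReduced S] (w : Γ((Red.Ga S).left, ⊤))
    (hw : IsUnit w) : ∃ v : Γ(S, ⊤), (Red.Ga S).hom.appTop v = w := by
  obtain ⟨v, -, hv⟩ := AffUnits.main PUnit.{u+1} S ((gaIso S).inv.appTop w) (hw.map _)
  refine ⟨v, ?_⟩
  rw [← gaIso_hom_over, Scheme.Hom.comp_appTop, CommRingCat.comp_apply, hv,
    ← CommRingCat.comp_apply, ← Scheme.Hom.comp_appTop, Iso.hom_inv_id]
  simp

theorem main (S : Scheme.{u}) [IsReduced S] (φ : Red.Ga S ⟶ Red.Gm S) [IsMonHom φ] : φ = 1 := by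
  have h1 : η[Red.Ga S] ≫ φ = η[Red.Gm S] := (inferInstance : IsMonHom φ).one_hom
  rw [Hom.one_def, ← h1, ← Category.assoc]
  apply hom_Gm_ext
  rw [gmFn_comp]
  obtain ⟨v, hv⟩ := exists_of_isUnit_Ga S (Red.gmFn φ) (isUnit_gmFn φ)
  rw [← hv, ← CommRingCat.comp_apply, ← Scheme.Hom.comp_appTop]
  congr 3
  exact (Over.w (toUnit (Red.Ga S) ≫ η[Red.Ga S])).symm

end Groth.Agent.Lib.Helper19.GaGm
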