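import Mathlib
import Groth.Prelude.Def_FibCat2
import Groth.Agent.Lib.Helper19.FibLib

set_option autoImplicit false
universe v₂ u₂ v u
open CategoryTheory

namespace Groth.Agent.Helper19.RestrTop

open FibCat Groth.Agent.Helper19.FibLib

variable {C : Type u} [Category.{v} C] {𝒳 : Type u₂} [Category.{v₂} 𝒳] (p : 𝒳 ⥤ C)

/-- pullback of a pushed-forward sieve is contained in the pushforward of the pullback (fibred in groupoids). -/
theorem pullback_functorPushforward_le (hp : IsFibGrpd p) {x y : 𝒳} (S : Sieve x) (f : y ⟶ x) :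
    (S.functorPushforward p).pullback (p.map f) ≤ (S.pullback f).functorPushforward p := by
  intro W g hg
  obtain ⟨z, φ, h, hφ, hfac⟩ := hg
  -- lift `g` to `ψ : y' ⟶ y`
  obtain ⟨y', ψ, hψ⟩ := hp.exists_lift g
  -- lift `h` to `χ : z' ⟶ z`
  obtain ⟨z', χ, hχ⟩ := hp.exists_lift h
  -- both `ψ ≫ f` and `χ ≫ φ` lie over `g ≫ p f = h ≫ p φ`
  have h1 : p.IsHomLift (g ≫ p.map f) (ψ ≫ f) := inferInstance
  have h2 : p.IsHomLift (h ≫ p.map φ) (χ ≫ φ) := inferInstance
  rw [← hfac] at h2
  obtain ⟨θ, ⟨hθ, hθc⟩, -⟩ := existsUnique_fac hp (g ≫ p.map f) (χ ≫ φ) (𝟙 W) (g ≫ p.map f)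
    (Category.id_comp _).symm (ψ ≫ f)
  refine ⟨y', ψ, eqToHom (IsHomLift.domain_eq p g ψ).symm, ?_, ?_⟩
  · change S (ψ ≫ f)
    rw [← hθc]
    exact S.downward_closed (S.downward_closed hφ χ) θ
  · have := IsHomLift.fac' p g ψ
    rw [this]
    simp

theorem functorPushforward_pullback_le {x y : 𝒳} (S : Sieve x) (f : y ⟶ x) :
    (S.pullback f).functorPushforward p ≤ (S.functorPushforward p).pullback (p.map f) := by
  intro W g hg
  obtain ⟨z, φ, h, hφ, hfac⟩ := hg
  refine ⟨z, φ ≫ f, h, hφ, ?_⟩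
  rw [hfac, Category.assoc, p.map_comp]

/-- S12801. -/
theorem mem_restrictedTopology_iff (hp : IsFibGrpd p) (J : GrothendieckTopology C) {x : 𝒳} (S : Sieve x) :
    S ∈ p.restrictedTopology J x ↔ S.functorPushforward p ∈ J (p.obj x) := by
  refine ⟨fun hS => ?_, fun h => Functor.mem_restrictedTopology_of_functorPushforward_mem h⟩
  rw [Functor.restrictedTopology] at hS
  induction hS with
  | of X S hS => rwa [← Sieve.generate_map_eq_functorPushforward]
  | top X => simp
  | pullback X S _ Y f ih =>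
    exact J.superset_covering (pullback_functorPushforward_le p hp S f) (J.pullback_stable (p.map f) ih)
  | transitive X S R _ _ hS H' =>
    apply J.transitive hS
    rintro W g ⟨z, φ, h, hφ, rfl⟩
    rw [Sieve.pullback_comp]
    apply J.pullback_stable h
    exact J.superset_covering (functorPushforward_pullback_le p R φ) (H' hφ)

end Groth.Agent.Helper19.RestrTop
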