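import Mathlib
import Groth.Prelude.Def_HTop
import Groth.Agent.Lib.Helper19.PhSheaf
import Groth.Agent.Lib.Helper19.ValEx

set_option autoImplicit false
universe w u
open CategoryTheory Limits AlgebraicGeometry Opposite

namespace Groth.Agent.Lib.Helper19.VSheaf

variable {F : Scheme.{u}ᵒᵖ ⥤ Type w}

/-- the Zariski sieve of affine opens -/
abbrev affSieve (X : Scheme.{u}) : Sieve X :=
  Sieve.generate (Presieve.ofArrows (fun U : X.affineOpens => ((U : X.Opens) : Scheme.{u}))
      (fun U => (U : X.Opens).ι))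

lemma affSieve_mem (X : Scheme.{u}) : affSieve X ∈ Scheme.zariskiTopology X := by
  apply PhSheaf.ofArrows_mem_zariski
  · intro U; infer_instance
  · intro x
    obtain ⟨_, ⟨U, hU, rfl⟩, hxU, -⟩ := X.isBasis_affineOpens.exists_subset_of_mem_open
      (Set.mem_univ x) isOpen_univ
    exact ⟨⟨U, hU⟩, ⟨⟨x, hxU⟩, rfl⟩⟩

lemma map_comp_apply' {A B D : Scheme.{u}} (f : A ⟶ B) (g : B ⟶ D) (t : F.obj (op D)) :
    F.map f.op (F.map g.op t) = F.map (f ≫ g).op t := by
  rw [op_comp, Functor.map_comp_apply]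

lemma family_congr {X : Scheme.{u}} {S : Sieve X} (x : Presieve.FamilyOfElements F (S : Presieve X))
    {Z : Scheme.{u}} {f f' : Z ⟶ X} (h : f = f') (hf : S f) (hf' : S f') : x f hf = x f' hf' := by
  subst h
  rfl

/-- separatedness can be checked on affines -/
theorem sep_of_affine (hZ : Presieve.IsSheaf Scheme.zariskiTopology F) {X : Scheme.{u}}
    (S : Sieve X)
    (h : ∀ (Z : Scheme.{u}) [IsAffine Z] (k : Z ⟶ X),
      Presieve.IsSeparatedFor F (S.pullback k : Presieve Z))
    (t₁ t₂ : F.obj (op X))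
    (ht : ∀ ⦃Z : Scheme.{u}⦄ ⦃f : Z ⟶ X⦄, S f → F.map f.op t₁ = F.map f.op t₂) : t₁ = t₂ := by
  refine (hZ _ (affSieve_mem X)).isSeparatedFor.ext ?_
  rintro Z _ ⟨W', k, _, ⟨W⟩, rfl⟩
  rw [← map_comp_apply', ← map_comp_apply']
  congr 1
  haveI : IsAffine ((W : X.Opens) : Scheme.{u}) := W.2
  refine (h _ (W : X.Opens).ι).ext ?_
  intro Z' a ha
  rw [map_comp_apply', map_comp_apply']
  exact ht ha

/-- Lemma L: the sheaf condition for a sieve can be checked after pulling back to affines. -/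
theorem isSheafFor_of_affine (hZ : Presieve.IsSheaf Scheme.zariskiTopology F) {X : Scheme.{u}}
    (S : Sieve X)
    (h : ∀ (Z : Scheme.{u}) [IsAffine Z] (k : Z ⟶ X),
      Presieve.IsSheafFor F (S.pullback k : Presieve Z)) :
    Presieve.IsSheafFor F (S : Presieve X) := by
  have hsep : ∀ {X' : Scheme.{u}} (g : X' ⟶ X) (t₁ t₂ : F.obj (op X')),
      (∀ ⦃Z : Scheme.{u}⦄ ⦃f : Z ⟶ X'⦄, S.pullback g f → F.map f.op t₁ = F.map f.op t₂) →
        t₁ = t₂ := by
    intro X' g t₁ t₂ ht
    refine sep_of_affine hZ (S.pullback g) ?_ t₁ t₂ ht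
    intro Z _ k
    rw [← Sieve.pullback_comp]
    exact (h Z (k ≫ g)).isSeparatedFor
  rw [← Presieve.isSeparatedFor_and_exists_isAmalgamation_iff_isSheafFor]
  refine ⟨?_, ?_⟩
  · intro x t₁ t₂ h₁ h₂
    refine hsep (𝟙 X) t₁ t₂ ?_
    intro Z f hf
    rw [Sieve.pullback_id] at hf
    rw [h₁ f hf, h₂ f hf]
  · intro x hx
    have hxs := hx.to_sieveCompatible
    -- local amalgamations
    have hW : ∀ W : X.affineOpens, Presieve.IsSheafFor F (S.pullback (W : X.Opens).ι).arrows := by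
      intro W
      haveI : IsAffine ((W : X.Opens) : Scheme.{u}) := W.2
      exact h _ _
    let tW : ∀ W : X.affineOpens, F.obj (op ((W : X.Opens) : Scheme.{u})) := fun W =>
      (hW W).amalgamate (x.pullback (W : X.Opens).ι) (hx.pullback _)
    have htW : ∀ (W : X.affineOpens) {Z : Scheme.{u}} (a : Z ⟶ (W : X.Opens))
        (ha : S (a ≫ (W : X.Opens).ι)), F.map a.op (tW W) = x (a ≫ (W : X.Opens).ι) ha := by
      intro W Z a ha
      exact (hW W).valid_glue (hx.pullback _) a ha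
    -- glue
    have hsh : Presieve.IsSheafFor F
        (Presieve.ofArrows (fun U : X.affineOpens => ((U : X.Opens) : Scheme.{u}))
          (fun U => (U : X.Opens).ι)) := by
      rw [Presieve.isSheafFor_iff_generate]
      exact hZ _ (affSieve_mem X)
    rw [Presieve.isSheafFor_arrows_iff] at hsh
    obtain ⟨t, ht, -⟩ := hsh tW (by
      intro W W' Z g g' hgg'
      refine hsep (g ≫ (W : X.Opens).ι) _ _ ?_
      intro Z' a ha
      have ha1 : S ((a ≫ g) ≫ (W : X.Opens).ι) := by
        rw [Category.assoc]; exact ha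
      have ha2 : S ((a ≫ g') ≫ (W' : X.Opens).ι) := by
        rw [Category.assoc, ← hgg']; exact ha
      rw [map_comp_apply', map_comp_apply', htW W _ ha1, htW W' _ ha2]
      exact family_congr x (by rw [Category.assoc, Category.assoc, hgg']) _ _)
    refine ⟨t, ?_⟩
    intro Z f hf
    refine (hZ _ (Scheme.zariskiTopology.pullback_stable f (affSieve_mem X))).isSeparatedFor.ext ?_
    rintro Z' b ⟨W', c, _, ⟨W⟩, hcw⟩
    have hc : S (c ≫ (W : X.Opens).ι) := by
      rw [hcw]; exact S.downward_closed hf b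
    rw [map_comp_apply', ← hcw, ← map_comp_apply', ht W, htW W c hc, ← hxs f b hf]
    exact family_congr x hcw _ _

end Groth.Agent.Lib.Helper19.VSheaf

namespace Groth.Agent.Lib.Helper19.VSheaf

universe w' w''

section StdV

variable {T : Scheme.{u}}

lemma isStandardV_reindex (E : PreZeroHypercover.{w'} T) {ι : Type w''} (e : ι ≃ E.I₀)
    (hE : HTop.IsStandardV E) : HTop.IsStandardV (E.reindex e) := by
  refine ⟨hE.isAffine, ?_, fun j => hE.isAffine_obj (e j), ?_⟩
  · haveI := hE.finite_index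
    exact Finite.of_equiv _ e.symm
  · intro V _ _ g
    obtain ⟨W, hW1, hW2, φ, hφ, j, g', hg'⟩ := hE.lift V g
    refine ⟨W, hW1, hW2, φ, hφ, e.symm j, ?_⟩
    have : e (e.symm j) = j := e.apply_symm_apply j
    change ∃ g'' : Spec W ⟶ E.X (e (e.symm j)), g'' ≫ E.f (e (e.symm j)) = Spec.map φ ≫ g
    rw [this]
    exact ⟨g', hg'⟩

/-- reindex a standard V covering by `ULift (Fin n)` in any universe -/
lemma exists_reindex (E : PreZeroHypercover.{w'} T) (hE : HTop.IsStandardV E) :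
    ∃ E' : PreZeroHypercover.{w''} T, HTop.IsStandardV E' ∧ E'.presieve₀ = E.presieve₀ := by
  haveI := hE.finite_index
  obtain ⟨n, ⟨e⟩⟩ := Finite.exists_equiv_fin E.I₀
  let e' : ULift.{w''} (Fin n) ≃ E.I₀ := Equiv.ulift.trans e.symm
  exact ⟨E.reindex e', isStandardV_reindex E e' hE, E.presieve₀_reindex e'⟩

lemma isStandardV_pullback₂ {Z : Scheme.{u}} [IsAffine Z] (k : Z ⟶ T) (E : PreZeroHypercover.{w'} T)
    (hE : HTop.IsStandardV E) : HTop.IsStandardV (E.pullback₂ k) := by
  haveI := hE.isAffine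
  refine ⟨inferInstance, hE.finite_index, fun j => ?_, ?_⟩
  · haveI := hE.isAffine_obj j
    change IsAffine (pullback (E.f j) k)
    infer_instance
  · intro V _ _ g
    obtain ⟨W, hW1, hW2, φ, hφ, j, g', hg'⟩ := hE.lift V (g ≫ k)
    refine ⟨W, hW1, hW2, φ, hφ, j, pullback.lift g' (Spec.map φ ≫ g) (by rw [hg', Category.assoc]), ?_⟩
    exact pullback.lift_snd _ _ _

end StdV

end Groth.Agent.Lib.Helper19.VSheaf

namespace Groth.Agent.Lib.Helper19.VSheaf

universe w₁ w₂

section Main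

variable {F : Scheme.{u}ᵒᵖ ⥤ Type w}

/-- Lemma G -/
theorem generate_mem (hZ : Presieve.IsSheaf Scheme.zariskiTopology F) {T : Scheme.{u}}
    (E : PreZeroHypercover.{w₁} T)
    (h : ∀ (Z : Scheme.{u}) [IsAffine Z] (k : Z ⟶ T),
      Presieve.IsSheafFor F (E.pullback₂ k).presieve₀) :
    Sieve.generate E.presieve₀ ∈ Sheaf.finestTopologySingle F T := by
  intro Y g
  apply isSheafFor_of_affine hZ
  intro Z _ k
  rw [← Sieve.pullback_comp, ← Sieve.pullbackArrows_comm, ← Presieve.isSheafFor_iff_generate,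
    ← PreZeroHypercover.presieve₀_pullback₁]
  exact h Z (k ≫ g)

/-- the class of V-covers is covering for the finest topology as soon as standard ones are -/
theorem isVSheaf_of_std (hZ : Presieve.IsSheaf Scheme.zariskiTopology F)
    (hstd : ∀ (T : Scheme.{u}) (E : PreZeroHypercover.{0} T), HTop.IsStandardV E →
      Sieve.generate E.presieve₀ ∈ Sheaf.finestTopologySingle F T) : HTop.IsVSheaf F := by
  let J := Sheaf.finestTopologySingle F
  have hZ' : Scheme.zariskiTopology ≤ J := fun X S hS Y f =>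
    hZ _ (Scheme.zariskiTopology.pullback_stable f hS)
  intro X R hR
  rw [HTop.vPrecoverage, PreZeroHypercoverFamily.mem_precoverage_iff] at hR
  obtain ⟨E, hE, rfl⟩ := hR
  rw [Presieve.isSheafFor_iff_generate]
  suffices hmem : Sieve.generate E.presieve₀ ∈ J X by
    have := hmem X (𝟙 X)
    rwa [Sieve.pullback_id] at this
  refine J.transitive (hZ' _ (affSieve_mem X)) _ ?_
  rintro Y a ⟨W, k, _, ⟨U⟩, rfl⟩
  rw [Sieve.pullback_comp]
  apply J.pullback_stable
  obtain ⟨F', hF', href⟩ := hE U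
  have hsub : Sieve.generate F'.presieve₀ ≤ (Sieve.generate E.presieve₀).pullback (U : X.Opens).ι := by
    rw [Sieve.generate_le_iff]
    rintro _ _ ⟨j⟩
    obtain ⟨i, h, hh⟩ := href j
    exact ⟨_, h, E.f i, ⟨i⟩, hh⟩
  exact J.superset_covering hsub (hstd _ F' hF')

theorem isVSheaf_of_family (hZ : Presieve.IsSheaf Scheme.zariskiTopology F)
    (hV : ∀ (T : Scheme.{u}) (E : PreZeroHypercover.{u} T), HTop.IsStandardV E →
      Presieve.IsSheafFor F E.presieve₀) : HTop.IsVSheaf F := by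
  refine isVSheaf_of_std hZ fun T E hE => generate_mem hZ E fun Z _ k => ?_
  obtain ⟨E', hE', he⟩ := exists_reindex.{u, _, u} (E.pullback₂ k) (isStandardV_pullback₂ k E hE)
  rw [← he]
  exact hV _ E' hE'

end Main

end Groth.Agent.Lib.Helper19.VSheaf

namespace Groth.Agent.Lib.Helper19.VSheaf

universe w₃

section Singleton

variable {F : Scheme.{u}ᵒᵖ ⥤ Type w}

lemma isStandardV_singleton_pullback {T Z : Scheme.{u}} [IsAffine Z] (k : Z ⟶ T)
    (E : PreZeroHypercover.{u} T) (hE : HTop.IsStandardV E) :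
    HTop.IsStandardV (PreZeroHypercover.singleton.{w₃} (pullback.snd (Sigma.desc E.f) k)) := by
  haveI := hE.isAffine
  haveI := hE.finite_index
  haveI := hE.isAffine_obj
  refine ⟨inferInstance, ?_, fun _ => ?_, ?_⟩
  · change Finite PUnit
    infer_instance
  · change IsAffine (pullback (Sigma.desc E.f) k)
    infer_instance
  · intro V _ _ g
    obtain ⟨W, hW1, hW2, φ, hφ, j, g', hg'⟩ := hE.lift V (g ≫ k)
    refine ⟨W, hW1, hW2, φ, hφ, PUnit.unit,
      pullback.lift (g' ≫ Sigma.ι E.X j) (Spec.map φ ≫ g)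
        (by rw [Category.assoc, Sigma.ι_desc, hg', Category.assoc]), ?_⟩
    exact pullback.lift_snd _ _ _

theorem isVSheaf_of_singleton (hZ : Presieve.IsSheaf Scheme.zariskiTopology F)
    (hV : ∀ (U V : Scheme.{u}) (f : V ⟶ U),
      HTop.IsStandardV (PreZeroHypercover.singleton.{w₃} f) →
        Presieve.IsSheafFor F (Presieve.singleton f)) : HTop.IsVSheaf F := by
  let J := Sheaf.finestTopologySingle F
  have hZ' : Scheme.zariskiTopology ≤ J := fun X S hS Y f =>
    hZ _ (Scheme.zariskiTopology.pullback_stable f hS)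
  refine isVSheaf_of_std hZ fun T E₀ hE₀ => ?_
  obtain ⟨E, hE, he⟩ := exists_reindex.{u, 0, u} E₀ hE₀
  rw [← he]
  have h1 : Sieve.generate (PreZeroHypercover.singleton.{0} (Sigma.desc E.f)).presieve₀ ∈ J T := by
    refine generate_mem hZ _ fun Z _ k => ?_
    have hpres : ((PreZeroHypercover.singleton.{0} (Sigma.desc E.f)).pullback₂ k).presieve₀ =
        Presieve.singleton (pullback.snd (Sigma.desc E.f) k) :=
      PreZeroHypercover.presieve₀_singleton.{_, _, 0} (pullback.snd (Sigma.desc E.f) k)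
    rw [hpres]
    exact hV _ _ _ (isStandardV_singleton_pullback k E hE)
  rw [PreZeroHypercover.presieve₀_singleton] at h1
  refine J.transitive h1 _ ?_
  rintro Y a ⟨W, k, _, ⟨⟩, rfl⟩
  rw [Sieve.pullback_comp]
  apply J.pullback_stable
  have hsub : Sieve.generate (Presieve.ofArrows E.X (Sigma.ι E.X)) ≤
      (Sieve.generate E.presieve₀).pullback (Sigma.desc E.f) := by
    rw [Sieve.generate_le_iff]
    rintro _ _ ⟨j⟩
    exact ⟨_, 𝟙 _, E.f j, ⟨j⟩, by rw [Category.id_comp, Sigma.ι_desc]⟩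
  refine J.superset_covering hsub (hZ' _ ?_)
  apply PhSheaf.ofArrows_mem_zariski
  · intro j; infer_instance
  · intro x
    obtain ⟨j, y, hy⟩ := (sigmaOpenCover E.X).exists_eq x
    exact ⟨j, y, hy⟩

end Singleton

end Groth.Agent.Lib.Helper19.VSheaf

namespace Groth.Agent.Lib.Helper19.VSheaf

universe w₄ w₅ w₁

section Mp

lemma refinesOver_reindex {U T : Scheme.{u}} (g : U ⟶ T) (F' : PreZeroHypercover.{w₄} U)
    (E : PreZeroHypercover.{w₁} T) {ι : Type w₅} (e : ι ≃ F'.I₀) (h : HTop.RefinesOver g F' E) :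
    HTop.RefinesOver g (F'.reindex e) E := fun j => h (e j)

/-- shrink a standard V refinement to universe `0` -/
lemma exists_std_zero {U T : Scheme.{u}} (g : U ⟶ T) (F' : PreZeroHypercover.{w₄} U)
    (E : PreZeroHypercover.{w₁} T) (hF' : HTop.IsStandardV F') (h : HTop.RefinesOver g F' E) :
    ∃ F'' : PreZeroHypercover.{0} U, HTop.IsStandardV F'' ∧ HTop.RefinesOver g F'' E := by
  haveI := hF'.finite_index
  obtain ⟨n, ⟨e⟩⟩ := Finite.exists_equiv_fin F'.I₀
  exact ⟨F'.reindex e.symm, isStandardV_reindex F' e.symm hF', refinesOver_reindex g F' E e.symm h⟩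

lemma isVCover_of_isStandardV {T : Scheme.{u}} (E : PreZeroHypercover.{w₁} T)
    (hE : HTop.IsStandardV E) : HTop.IsVCover E := by
  intro U
  haveI : IsAffine ((U : T.Opens) : Scheme.{u}) := U.2
  refine exists_std_zero (U : T.Opens).ι (E.pullback₂ (U : T.Opens).ι) E
    (isStandardV_pullback₂ _ E hE) ?_
  intro j
  exact ⟨j, pullback.fst (E.f j) (U : T.Opens).ι, pullback.condition⟩

lemma isVCover_of_zariski {X : Scheme.{u}} (E : PreZeroHypercover.{w₁} X)
    (h1 : ∀ i, IsOpenImmersion (E.f i)) (h2 : ∀ x : X, ∃ i, x ∈ Set.range (E.f i)) :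
    HTop.IsVCover E := by
  intro U
  haveI : IsAffine ((U : X.Opens) : Scheme.{u}) := U.2
  have hex : ∀ x : ((U : X.Opens) : Scheme.{u}), ∃ (i : E.I₀)
      (A : ((U : X.Opens) : Scheme.{u}).Opens), IsAffineOpen A ∧ x ∈ A ∧
        A ≤ (U : X.Opens).ι ⁻¹ᵁ (E.f i).opensRange := by
    intro x
    obtain ⟨i, hi⟩ := h2 ((U : X.Opens).ι x)
    haveI := h1 i
    obtain ⟨_, ⟨A, hA, rfl⟩, hxA, hAle⟩ :=
      ((U : X.Opens) : Scheme.{u}).isBasis_affineOpens.exists_subset_of_mem_open
        (show x ∈ (((U : X.Opens).ι ⁻¹ᵁ (E.f i).opensRange : ((U : X.Opens) : Scheme.{u}).Opens) :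
          Set ((U : X.Opens) : Scheme.{u})) from hi)
        ((U : X.Opens).ι ⁻¹ᵁ (E.f i).opensRange).2
    exact ⟨i, A, hA, hxA, hAle⟩
  choose i A hA hxA hAle using hex
  obtain ⟨t, ht⟩ := isCompact_univ.elim_finite_subcover (fun x => (A x).1)
    (fun x => (A x).2) (fun x _ => Set.mem_iUnion.mpr ⟨x, hxA x⟩)
  let F' : PreZeroHypercover.{u} ((U : X.Opens) : Scheme.{u}) :=
    { I₀ := t
      X := fun x => ((A x.1 : _) : Scheme.{u})
      f := fun x => (A x.1).ι }
  refine exists_std_zero (U : X.Opens).ι F' E ⟨U.2, ?_, fun x => hA x.1, ?_⟩ ?_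
  · change Finite t
    infer_instance
  · intro V _ _ g
    have hy := ht (Set.mem_univ (g (IsLocalRing.closedPoint V)))
    simp only [Set.mem_iUnion] at hy
    obtain ⟨x, hx, hyx⟩ := hy
    have hrange : Set.range g ⊆ Set.range (A x).ι := by
      rintro _ ⟨p, rfl⟩
      have hsp : p ⤳ IsLocalRing.closedPoint V := IsLocalRing.specializes_closedPoint p
      rw [Scheme.Opens.range_ι]
      exact (hsp.map g.continuous).mem_open (A x).2 hyx
    refine ⟨V, inferInstance, inferInstance, 𝟙 V, ⟨Function.injective_id, ?_⟩, ⟨x, hx⟩,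
      IsOpenImmersion.lift (A x).ι g hrange, ?_⟩
    · change IsLocalHom (RingHom.id V)
      infer_instance
    · change IsOpenImmersion.lift (A x).ι g hrange ≫ (A x).ι = Spec.map (𝟙 V) ≫ g
      rw [IsOpenImmersion.lift_fac, Spec.map_id, Category.id_comp]
  · intro x
    haveI := h1 (i x.1)
    have hrange : Set.range ((A x.1).ι ≫ (U : X.Opens).ι) ⊆ Set.range (E.f (i x.1)) := by
      rintro _ ⟨p, rfl⟩
      exact hAle x.1 (show (A x.1).ι p ∈ A x.1 from p.2)
    exact ⟨i x.1, IsOpenImmersion.lift (E.f (i x.1)) ((A x.1).ι ≫ (U : X.Opens).ι) hrange,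
      IsOpenImmersion.lift_fac _ _ _⟩

variable {F : Scheme.{u}ᵒᵖ ⥤ Type w}

theorem zariski_of_isVSheaf (hF : HTop.IsVSheaf F) :
    Presieve.IsSheaf Scheme.zariskiTopology F := by
  rw [Scheme.zariskiTopology, Scheme.grothendieckTopology,
    Precoverage.isSheaf_toGrothendieck_iff_of_isStableUnderBaseChange]
  intro X R hR
  obtain ⟨E₀, rfl⟩ := R.exists_eq_preZeroHypercover
  rw [PreZeroHypercover.presieve₀, Scheme.ofArrows_mem_precoverage_iff] at hR
  exact hF _ ((HTop.presieve₀_mem_vPrecoverage_iff E₀).mpr (isVCover_of_zariski E₀ hR.2 hR.1))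

theorem std_of_isVSheaf (hF : HTop.IsVSheaf F) {T : Scheme.{u}} (E : PreZeroHypercover.{w₁} T)
    (hE : HTop.IsStandardV E) : Presieve.IsSheafFor F E.presieve₀ :=
  hF _ ((HTop.presieve₀_mem_vPrecoverage_iff E).mpr (isVCover_of_isStandardV E hE))

end Mp

end Groth.Agent.Lib.Helper19.VSheaf
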