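import Groth.Agent.Lib.Helper11.HTopV6
import Groth.Agent.Lib.Helper11.HTopV3
import Groth.Agent.Lib.Helper19.VSheaf

/-!
# h coverings: proper surjective morphisms
-/

universe w w' u

open CategoryTheory CategoryTheory.Limits AlgebraicGeometry Opposite IsLocalRing

namespace Groth.Agent.Helper19.HCov

open HTop Groth.Agent.Helper11.HTopV

/-- A universally closed surjective morphism has the valuation-ring lifting property. -/
theorem hasValLift_singleton_of_univClosed_surjective {X Y : Scheme.{u}} (f : Y ⟶ X)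
    [UniversallyClosed f] [Surjective f] :
    HTop.HasValLift (PreZeroHypercover.singleton.{w} f) := by
  intro V _ _ v
  have hsurj'' : Surjective (pullback.fst v f) := inferInstance
  have hsurj' : Function.Surjective (pullback.fst v f) := hsurj''.surj
  have hspec : SpecializingMap (pullback.fst v f) :=
    (pullback.fst v f).isClosedMap.specializingMap
  obtain ⟨p', hp'⟩ := hsurj' (botPt V)
  have h1 : pullback.fst v f p' ⤳ (closedPoint V : Spec V) := by
    rw [hp']
    exact specializes_closedPoint (R := V) (botPt V)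
  obtain ⟨p, hp'p, hp⟩ := hspec h1
  obtain ⟨A, hAd, hAv, a, ha, ha'⟩ := exists_valuationRing_of_specializes hp'p
  let ψ : V ⟶ A := Spec.preimage (a ≫ pullback.fst v f)
  have hψ : Spec.map ψ = a ≫ pullback.fst v f := Spec.map_preimage _
  refine ⟨A, hAd, hAv, ψ, ⟨?_, ?_⟩, PUnit.unit, a ≫ pullback.snd v f, ?_⟩
  · have h1 : PrimeSpectrum.comap ψ.hom (botPt A) = botPt V := by
      have : Spec.map ψ (botPt A) = botPt V := by
        rw [hψ, Scheme.Hom.comp_apply, ha', hp']
      exact this
    have h2 : RingHom.ker ψ.hom = ⊥ := by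
      have := congrArg PrimeSpectrum.asIdeal h1
      exact this
    exact (RingHom.injective_iff_ker_eq_bot _).2 h2
  · rw [isLocalHom_iff_comap_closedPoint]
    have : Spec.map ψ (closedPoint A) = closedPoint V := by
      rw [hψ, Scheme.Hom.comp_apply, ha, hp]
    exact this
  · show (a ≫ pullback.snd v f) ≫ f = Spec.map ψ ≫ v
    rw [hψ, Category.assoc, Category.assoc, pullback.condition]

theorem isVCover_singleton_of_univClosed_surjective {X Y : Scheme.{u}} (f : Y ⟶ X)
    [UniversallyClosed f] [Surjective f] [QuasiCompact f] :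
    HTop.IsVCover (PreZeroHypercover.singleton.{w} f) :=
  isVCover_singleton_of_hasValLift f (hasValLift_singleton_of_univClosed_surjective f)

theorem isHCover_singleton_of_proper_surjective {X Y : Scheme.{u}} (f : Y ⟶ X)
    [IsProper f] [Surjective f] [LocallyOfFinitePresentation f] :
    HTop.IsHCover (PreZeroHypercover.singleton.{w} f) :=
  ⟨fun _ => ‹_›, isVCover_singleton_of_univClosed_surjective f⟩

end Groth.Agent.Helper19.HCov

namespace Groth.Agent.Helper19.HCov

open HTop Groth.Agent.Helper11.HTopV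

universe w₁ w₂

theorem isVCover_of_hom {T : Scheme.{u}} (E : PreZeroHypercover.{w₁} T)
    (E' : PreZeroHypercover.{w₂} T) (φ : E.Hom E') (hE : HTop.IsVCover E) : HTop.IsVCover E' := by
  intro U
  obtain ⟨F, hF, hFE⟩ := hE U
  exact ⟨F, hF, hFE.of_hom φ⟩

theorem isVCover_iff_singleton_sigmaDesc {T : Scheme.{u}} (E : PreZeroHypercover.{u} T) :
    HTop.IsVCover E ↔ HTop.IsVCover (PreZeroHypercover.singleton.{w₁} (Sigma.desc E.f)) := by
  constructor
  · intro h
    refine isVCover_of_hom E _ ⟨fun _ => PUnit.unit, fun i => Sigma.ι E.X i, fun i => ?_⟩ h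
    show Sigma.ι E.X i ≫ Sigma.desc E.f = E.f i
    simp
  · intro h
    let G : ∀ i : (PreZeroHypercover.singleton.{w₁} (Sigma.desc E.f)).I₀,
        PreZeroHypercover.{u} ((PreZeroHypercover.singleton.{w₁} (Sigma.desc E.f)).X i) :=
      fun _ => ⟨E.I₀, E.X, fun i => Sigma.ι E.X i⟩
    have hG : ∀ i, HTop.IsVCover (G i) := by
      intro _
      refine Groth.Agent.Lib.Helper19.VSheaf.isVCover_of_zariski _ (fun i => ?_) (fun x => ?_)
      · show IsOpenImmersion (Sigma.ι E.X i)
        infer_instance
      · obtain ⟨i, y, rfl⟩ := Scheme.IsLocallyDirected.openCover (Discrete.functor E.X) |>.exists_eq x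
        exact ⟨i.as, y, rfl⟩
    have hb := isVCover_bind _ h G hG
    let φ : ((PreZeroHypercover.singleton.{w₁} (Sigma.desc E.f)).bind G).Hom E :=
      { s₀ := fun ij => ij.2
        h₀ := fun ij => 𝟙 _
        w₀ := fun ij => by
          show 𝟙 _ ≫ E.f ij.2 = Sigma.ι E.X ij.2 ≫ Sigma.desc E.f
          simp }
    exact isVCover_of_hom _ E φ hb

theorem isHCover_iff_singleton_sigmaDesc {T : Scheme.{u}} (E : PreZeroHypercover.{u} T)
    (hE : ∀ i, LocallyOfFinitePresentation (E.f i)) :
    HTop.IsHCover E ↔ HTop.IsHCover (PreZeroHypercover.singleton.{w₁} (Sigma.desc E.f)) := by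
  constructor
  · intro h
    exact ⟨fun _ => IsZariskiLocalAtSource.sigmaDesc hE, (isVCover_iff_singleton_sigmaDesc E).mp h.2⟩
  · intro h
    exact ⟨hE, (isVCover_iff_singleton_sigmaDesc E).mpr h.2⟩

end Groth.Agent.Helper19.HCov
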