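import Groth.Agent.Lib.Helper19.HCov
import Groth.Agent.Lib.Helper7.FinPres

/-!
# h sheaves and proper surjective morphisms which are isomorphisms away from a closed subscheme
-/

set_option autoImplicit false

universe w w' u

open CategoryTheory CategoryTheory.Limits AlgebraicGeometry Opposite

namespace Groth.Agent.Helper19.HSq

open HTop Groth.Agent.Helper19.HCov Groth.Agent.Helper11.HTopV

/-- A sheaf on the big h site has the sheaf property for every h covering family of
`S`-schemes. -/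
lemma isSheafFor_of_isHCover (S : Scheme.{u}) (F : HTop.ShH S) {P : Over S} {ι : Type w}
    (A : ι → Over S) (g : ∀ k, A k ⟶ P)
    (h : HTop.IsHCover
      (⟨ι, fun k => (A k).left, fun k => (g k).left⟩ : PreZeroHypercover.{w} P.left)) :
    Presieve.IsSheafFor F.obj (Presieve.ofArrows A g) := by
  rw [Presieve.isSheafFor_iff_generate]
  refine ((isSheaf_iff_isSheaf_of_type _ _).mp F.property) _ ?_
  show Sieve.ofArrows A g ∈ (HTop.hTopology.over S) P
  rw [GrothendieckTopology.mem_over_iff, Sieve.overEquiv_ofArrows]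
  exact Precoverage.generate_mem_toGrothendieck
    ((HTop.presieve₀_mem_hPrecoverage_iff
      (⟨ι, fun k => (A k).left, fun k => (g k).left⟩ : PreZeroHypercover.{w} P.left)).mpr h)

/-- Sheaf property for a one-member h covering. -/
lemma singleton_sheaf (S : Scheme.{u}) (F : HTop.ShH S) {A B : Over S} (g : A ⟶ B)
    (h : HTop.IsHCover (PreZeroHypercover.singleton.{0} g.left)) :
    Function.Injective (F.obj.map g.op) ∧
      ∀ x : F.obj.obj (op A),
        (∀ (W : Over S) (p₁ p₂ : W ⟶ A), p₁ ≫ g = p₂ ≫ g →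
          F.obj.map p₁.op x = F.obj.map p₂.op x) → ∃ y, F.obj.map g.op y = x := by
  have hsh : Presieve.IsSheafFor F.obj (Presieve.ofArrows (fun _ : PUnit.{1} => A) (fun _ => g)) :=
    isSheafFor_of_isHCover S F (fun _ : PUnit.{1} => A) (fun _ => g) h
  rw [Presieve.isSheafFor_arrows_iff] at hsh
  constructor
  · intro y₁ y₂ hy
    have hc : Presieve.Arrows.Compatible F.obj (fun _ : PUnit.{1} => g)
        (fun _ => F.obj.map g.op y₁) := by
      intro _ _ Z gi gj hgij
      rw [← Functor.map_comp_apply, ← Functor.map_comp_apply, ← op_comp, ← op_comp, hgij]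
    obtain ⟨y, -, hy'⟩ := hsh (fun _ => F.obj.map g.op y₁) hc
    rw [hy' y₁ (fun _ => rfl), hy' y₂ (fun _ => hy.symm)]
  · intro x hx
    have hc : Presieve.Arrows.Compatible F.obj (fun _ : PUnit.{1} => g) (fun _ => x) := by
      intro _ _ Z gi gj hgij
      exact hx Z gi gj hgij
    obtain ⟨y, hy, -⟩ := hsh (fun _ => x) hc
    exact ⟨y, hy PUnit.unit⟩

end Groth.Agent.Helper19.HSq

namespace Groth.Agent.Helper19.HSq

open HTop Groth.Agent.Helper19.HCov Groth.Agent.Helper11.HTopV

universe w₁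

/-- Two jointly surjective closed immersions form a V covering. -/
theorem isVCover_pair_of_isClosedImmersion {P : Scheme.{u}} (X₀ : Bool → Scheme.{u})
    (f₀ : ∀ k, X₀ k ⟶ P) (hcl : ∀ k, IsClosedImmersion (f₀ k))
    (hsurj : ∀ p : P, ∃ k, p ∈ Set.range (f₀ k)) :
    HTop.IsVCover (⟨Bool, X₀, f₀⟩ : PreZeroHypercover.{0} P) := by
  haveI := hcl true
  haveI := hcl false
  let c : X₀ true ⨿ X₀ false ⟶ P := coprod.desc (f₀ true) (f₀ false)
  haveI : IsFinite c := inferInstance
  haveI : Surjective c := by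
    refine ⟨fun p => ?_⟩
    obtain ⟨k, x, rfl⟩ := hsurj p
    rcases k with _ | _
    · refine ⟨(coprod.inr : X₀ false ⟶ X₀ true ⨿ X₀ false) x, ?_⟩
      rw [← Scheme.Hom.comp_apply, coprod.inr_desc]
    · refine ⟨(coprod.inl : X₀ true ⟶ X₀ true ⨿ X₀ false) x, ?_⟩
      rw [← Scheme.Hom.comp_apply, coprod.inl_desc]
  have h1 : HTop.IsVCover (PreZeroHypercover.singleton.{0} c) :=
    isVCover_singleton_of_univClosed_surjective c
  let ι₀ : ∀ k : Bool, X₀ k ⟶ X₀ true ⨿ X₀ false := fun k =>
    match k with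
    | true => coprod.inl
    | false => coprod.inr
  let G : ∀ i : (PreZeroHypercover.singleton.{0} c).I₀,
      PreZeroHypercover.{0} ((PreZeroHypercover.singleton.{0} c).X i) :=
    fun _ => ⟨Bool, X₀, ι₀⟩
  have hG : ∀ i, HTop.IsVCover (G i) := by
    intro _
    refine Groth.Agent.Lib.Helper19.VSheaf.isVCover_of_zariski _ (fun k => ?_) (fun x => ?_)
    · rcases k with _ | _
      · show IsOpenImmersion (coprod.inr : X₀ false ⟶ X₀ true ⨿ X₀ false)
        infer_instance
      · show IsOpenImmersion (coprod.inl : X₀ true ⟶ X₀ true ⨿ X₀ false)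
        infer_instance
    · have hc := (isCompl_range_inl_inr (X₀ true) (X₀ false)).codisjoint
      have hx : x ∈ Set.range (coprod.inl : X₀ true ⟶ X₀ true ⨿ X₀ false) ∪
          Set.range (coprod.inr : X₀ false ⟶ X₀ true ⨿ X₀ false) := by
        rw [codisjoint_iff] at hc
        have : Set.range (coprod.inl : X₀ true ⟶ X₀ true ⨿ X₀ false) ∪
          Set.range (coprod.inr : X₀ false ⟶ X₀ true ⨿ X₀ false) = Set.univ := hc
        rw [this]
        trivial
      rcases hx with hx | hx
      · exact ⟨true, hx⟩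
      · exact ⟨false, hx⟩
  have hb := isVCover_bind _ h1 G hG
  let φ : ((PreZeroHypercover.singleton.{0} c).bind G).Hom
      (⟨Bool, X₀, f₀⟩ : PreZeroHypercover.{0} P) :=
    { s₀ := fun ij => ij.2
      h₀ := fun ij => 𝟙 _
      w₀ := fun ij => by
        obtain ⟨_, k⟩ := ij
        rcases k with _ | _
        · show 𝟙 _ ≫ f₀ false = coprod.inr ≫ c
          rw [Category.id_comp, coprod.inr_desc]
        · show 𝟙 _ ≫ f₀ true = coprod.inl ≫ c
          rw [Category.id_comp, coprod.inl_desc] }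
  exact isVCover_of_hom _ _ φ hb

/-- If `f` is a monomorphism over the open `U`, every point of `X ×_Y X` over `U` lies on the
diagonal. -/
theorem mem_range_diag {X Y P : Scheme.{u}} (f : X ⟶ Y) (p₁ p₂ : P ⟶ X)
    (sq : IsPullback p₁ p₂ f f) (Δ : X ⟶ P) (h₁ : Δ ≫ p₁ = 𝟙 X) (h₂ : Δ ≫ p₂ = 𝟙 X)
    (U : Y.Opens) [Mono ((f ⁻¹ᵁ U).ι ≫ f)] (p : P) (hp : f (p₁ p) ∈ U) :
    p ∈ Set.range Δ := by
  let m : Spec (P.residueField p) ⟶ P := P.fromSpecResidueField p
  have hr : ∀ (q : P ⟶ X), f (q p) ∈ U → Set.range (m ≫ q) ⊆ Set.range (f ⁻¹ᵁ U).ι := by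
    intro q hq
    rintro _ ⟨z, rfl⟩
    rw [Scheme.Opens.range_ι, Scheme.Hom.comp_apply, Scheme.fromSpecResidueField_apply]
    exact hq
  have hp2 : f (p₂ p) ∈ U := by
    have : (p₁ ≫ f) p = (p₂ ≫ f) p := by rw [sq.w]
    rw [Scheme.Hom.comp_apply, Scheme.Hom.comp_apply] at this
    rw [← this]
    exact hp
  let a₁ := IsOpenImmersion.lift (f ⁻¹ᵁ U).ι (m ≫ p₁) (hr p₁ hp)
  let a₂ := IsOpenImmersion.lift (f ⁻¹ᵁ U).ι (m ≫ p₂) (hr p₂ hp2)
  have ha₁ : a₁ ≫ (f ⁻¹ᵁ U).ι = m ≫ p₁ := IsOpenImmersion.lift_fac _ _ _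
  have ha₂ : a₂ ≫ (f ⁻¹ᵁ U).ι = m ≫ p₂ := IsOpenImmersion.lift_fac _ _ _
  have h12 : a₁ = a₂ := by
    rw [← cancel_mono ((f ⁻¹ᵁ U).ι ≫ f), ← Category.assoc, ← Category.assoc, ha₁, ha₂,
      Category.assoc, Category.assoc, sq.w]
  have hm : m ≫ p₁ = m ≫ p₂ := by rw [← ha₁, ← ha₂, h12]
  have hmΔ : m = (m ≫ p₁) ≫ Δ := by
    apply sq.hom_ext
    · rw [Category.assoc, h₁, Category.comp_id]
    · rw [Category.assoc, h₂, Category.comp_id, hm]
  refine ⟨(m ≫ p₁) (IsLocalRing.closedPoint _), ?_⟩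
  rw [← Scheme.Hom.comp_apply, ← hmΔ]
  exact Scheme.fromSpecResidueField_apply p _

end Groth.Agent.Helper19.HSq

namespace Groth.Agent.Helper19.HSq

open HTop Groth.Agent.Helper19.HCov Groth.Agent.Helper11.HTopV

theorem main (S : Scheme.{u}) (F : HTop.ShH S)
    {E Z X Y : Over S} (e : E ⟶ X) (π : E ⟶ Z) (f : X ⟶ Y) (i : Z ⟶ Y)
    [IsProper f.left] [Surjective f.left] [LocallyOfFinitePresentation f.left]
    [IsClosedImmersion i.left] [LocallyOfFinitePresentation i.left]
    (hsq : IsPullback e.left π.left f.left i.left)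
    (U : Y.left.Opens) (hU : (U : Set Y.left) = (Set.range i.left.base)ᶜ)
    (hiso : IsIso (f.left ∣_ U))
    (t : F.obj.obj (op Z)) (s' : F.obj.obj (op X))
    (hts : F.obj.map π.op t = F.obj.map e.op s') :
    ∃! s : F.obj.obj (op Y), F.obj.map i.op s = t ∧ F.obj.map f.op s = s' := by
  have hw : e ≫ f = π ≫ i := Over.OverMorphism.ext hsq.w
  -- (a)
  have hf := singleton_sheaf S F f (isHCover_singleton_of_proper_surjective f.left)
  -- (b)
  haveI hπP : IsProper π.left := MorphismProperty.of_isPullback hsq inferInstance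
  haveI hπS : Surjective π.left := MorphismProperty.of_isPullback hsq inferInstance
  haveI hπL : LocallyOfFinitePresentation π.left := MorphismProperty.of_isPullback hsq inferInstance
  have hπ := singleton_sheaf S F π (isHCover_singleton_of_proper_surjective π.left)
  -- P
  let P : Over S := pullback f f
  let pr₁ : P ⟶ X := pullback.fst f f
  let pr₂ : P ⟶ X := pullback.snd f f
  have hcondP : pr₁ ≫ f = pr₂ ≫ f := pullback.condition
  have sqP : IsPullback pr₁.left pr₂.left f.left f.left :=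
    (IsPullback.of_hasPullback f f).map (Over.forget S)
  let Δ : X ⟶ P := pullback.lift (𝟙 X) (𝟙 X) rfl
  have hΔ₁ : Δ ≫ pr₁ = 𝟙 X := pullback.lift_fst _ _ _
  have hΔ₂ : Δ ≫ pr₂ = 𝟙 X := pullback.lift_snd _ _ _
  let Q : Over S := pullback (pr₁ ≫ f) i
  let j : Q ⟶ P := pullback.fst (pr₁ ≫ f) i
  let r : Q ⟶ Z := pullback.snd (pr₁ ≫ f) i
  have hcondQ : j ≫ pr₁ ≫ f = r ≫ i := pullback.condition
  have sqQ : IsPullback j.left r.left (pr₁ ≫ f).left i.left :=
    (IsPullback.of_hasPullback (pr₁ ≫ f) i).map (Over.forget S)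
  have hsqO : IsPullback e π f i := IsPullback.of_map (Over.forget S) hw hsq
  let q₁ : Q ⟶ E := hsqO.lift (j ≫ pr₁) r (by rw [Category.assoc]; exact hcondQ)
  let q₂ : Q ⟶ E := hsqO.lift (j ≫ pr₂) r (by rw [Category.assoc, ← hcondP]; exact hcondQ)
  have hq₁e : q₁ ≫ e = j ≫ pr₁ := hsqO.lift_fst _ _ _
  have hq₁π : q₁ ≫ π = r := hsqO.lift_snd _ _ _
  have hq₂e : q₂ ≫ e = j ≫ pr₂ := hsqO.lift_fst _ _ _
  have hq₂π : q₂ ≫ π = r := hsqO.lift_snd _ _ _
  -- the two-member family
  let A : Bool → Over S := fun k => match k with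
    | true => X
    | false => Q
  let g : ∀ k, A k ⟶ P := fun k => match k with
    | true => Δ
    | false => j
  have hpr₁LFT : LocallyOfFiniteType pr₁.left :=
    MorphismProperty.of_isPullback sqP.flip (inferInstance : LocallyOfFiniteType f.left)
  have hpr₁Sep : IsSeparated pr₁.left :=
    MorphismProperty.of_isPullback sqP.flip (inferInstance : IsSeparated f.left)
  have hΔl : Δ.left ≫ pr₁.left = 𝟙 X.left := by
    rw [← Over.comp_left, hΔ₁]; rfl
  have hΔl₂ : Δ.left ≫ pr₂.left = 𝟙 X.left := by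
    rw [← Over.comp_left, hΔ₂]; rfl
  have hΔLFP : LocallyOfFinitePresentation Δ.left := by
    refine Groth.Agent.Helper7.locallyOfFinitePresentation_of_comp Δ.left pr₁.left ?_ hpr₁LFT
    rw [hΔl]
    infer_instance
  have hΔCl : IsClosedImmersion Δ.left := by
    haveI : IsClosedImmersion (Δ.left ≫ pr₁.left) := by
      rw [hΔl]
      infer_instance
    exact IsClosedImmersion.of_comp Δ.left pr₁.left
  have hjLFP : LocallyOfFinitePresentation j.left :=
    MorphismProperty.of_isPullback sqQ.flip (inferInstance : LocallyOfFinitePresentation i.left)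
  have hjCl : IsClosedImmersion j.left :=
    MorphismProperty.of_isPullback sqQ.flip (inferInstance : IsClosedImmersion i.left)
  haveI hmono : Mono ((f.left ⁻¹ᵁ U).ι ≫ f.left) := by
    rw [← morphismRestrict_ι]
    infer_instance
  have hcover : HTop.IsHCover
      (⟨Bool, fun k => (A k).left, fun k => (g k).left⟩ : PreZeroHypercover.{0} P.left) := by
    refine ⟨?_, ?_⟩
    · intro k
      rcases k with _ | _
      · exact hjLFP
      · exact hΔLFP
    · refine isVCover_pair_of_isClosedImmersion (fun k => (A k).left) (fun k => (g k).left) ?_ ?_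
      · intro k
        rcases k with _ | _
        · exact hjCl
        · exact hΔCl
      · intro p
        by_cases hp : (pr₁ ≫ f).left p ∈ Set.range i.left
        · refine ⟨false, ?_⟩
          have hz : p ∈ Set.range (pullback.fst (pr₁ ≫ f).left i.left) := by
            rw [Scheme.Pullback.range_fst]
            exact hp
          obtain ⟨z, hz⟩ := hz
          refine ⟨sqQ.isoPullback.inv z, ?_⟩
          show j.left (sqQ.isoPullback.inv z) = p
          rw [← Scheme.Hom.comp_apply, sqQ.isoPullback_inv_fst]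
          exact hz
        · refine ⟨true, ?_⟩
          have hpU : f.left (pr₁.left p) ∈ U := by
            have : (pr₁ ≫ f).left p ∈ (U : Set Y.left) := by
              rw [hU]
              exact hp
            rw [Over.comp_left, Scheme.Hom.comp_apply] at this
            exact this
          exact mem_range_diag f.left pr₁.left pr₂.left sqP Δ.left hΔl hΔl₂ U p hpU
  have hshP : Presieve.IsSheafFor F.obj (Presieve.ofArrows A g) :=
    isSheafFor_of_isHCover S F A g hcover
  -- the two pullbacks of s' to P agree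
  have hpr : F.obj.map pr₁.op s' = F.obj.map pr₂.op s' := by
    refine hshP.isSeparatedFor.ext ?_
    rintro _ _ ⟨k⟩
    rcases k with _ | _
    · show F.obj.map j.op (F.obj.map pr₁.op s') = F.obj.map j.op (F.obj.map pr₂.op s')
      rw [← Functor.map_comp_apply, ← Functor.map_comp_apply, ← op_comp, ← op_comp, ← hq₁e,
        ← hq₂e, op_comp, op_comp, Functor.map_comp_apply, Functor.map_comp_apply, ← hts,
        ← Functor.map_comp_apply, ← Functor.map_comp_apply, ← op_comp, ← op_comp, hq₁π, hq₂π]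
    · show F.obj.map Δ.op (F.obj.map pr₁.op s') = F.obj.map Δ.op (F.obj.map pr₂.op s')
      rw [← Functor.map_comp_apply, ← Functor.map_comp_apply, ← op_comp, ← op_comp, hΔ₁, hΔ₂]
  -- existence
  obtain ⟨s, hs⟩ := hf.2 s' (by
    intro W p₁ p₂ h12
    have h1 : pullback.lift p₁ p₂ h12 ≫ pr₁ = p₁ := pullback.lift_fst _ _ _
    have h2 : pullback.lift p₁ p₂ h12 ≫ pr₂ = p₂ := pullback.lift_snd _ _ _
    have h3 := congrArg (fun z => F.obj.map (pullback.lift p₁ p₂ h12).op z) hpr
    simp only [← Functor.map_comp_apply, ← op_comp] at h3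
    rw [h1, h2] at h3
    exact h3)
  have hst : F.obj.map i.op s = t := by
    apply hπ.1
    rw [← Functor.map_comp_apply, ← op_comp, ← hw, op_comp, Functor.map_comp_apply, hs, hts]
  refine ⟨s, ⟨hst, hs⟩, ?_⟩
  rintro s₂ ⟨-, hs₂⟩
  exact hf.1 (hs₂.trans hs.symm)

end Groth.Agent.Helper19.HSq
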