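import Groth.Prelude.Def_HilbD
import Groth.Agent.Lib.Helper23.FpqcIdeal1
import Groth.Agent.Lib.Helper21.AffDesc
import Groth.Agent.Lib.Helper16.AlgSp.FlatDesc

/-!
# The Hilbert functor of points is an fpqc sheaf, single covers (helper19)
-/

set_option autoImplicit false
set_option linter.style.haveILetI false
universe u
open CategoryTheory CategoryTheory.Limits AlgebraicGeometry MorphismProperty

namespace Groth.Agent.Helper19.HilbFpqc

variable {X S : Scheme.{u}} (f : X ⟶ S)

theorem pull_eq_comap {T T' : Over S} (g : T' ⟶ T) (I : (PicF.XT f T).IdealSheafData) :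
    HilbD.pull f g I = I.comap (PicF.XTmap f g) := by
  unfold HilbD.pull Scheme.IdealSheafData.comap
  rw [← pullbackSymmetry_hom_comp_fst, Scheme.Hom.ker_comp_of_isIso]

theorem XTmap_comp {T T' T'' : Over S} (g : T' ⟶ T) (h : T'' ⟶ T') :
    PicF.XTmap f (h ≫ g) = PicF.XTmap f h ≫ PicF.XTmap f g := by
  apply pullback.hom_ext <;>
    simp only [PicF.XTmap, pullback.map, pullback.lift_fst, pullback.lift_snd, Category.comp_id,
      Category.assoc, pullback.lift_snd_assoc, Over.comp_left]

theorem isPullback_XTmap {T T' : Over S} (g : T' ⟶ T) :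
    IsPullback (PicF.XTmap f g) (PicF.XTproj f T') (PicF.XTproj f T) g.left := by
  have h1 : PicF.XTmap f g ≫ pullback.fst f T.hom = pullback.fst f T'.hom := by
    simp only [PicF.XTmap, pullback.map, pullback.lift_fst, Category.comp_id]
  have h2 : PicF.XTmap f g ≫ pullback.snd f T.hom = pullback.snd f T'.hom ≫ g.left := by
    simp only [PicF.XTmap, pullback.map, pullback.lift_snd]
  refine IsPullback.of_right ?_ h2 (IsPullback.of_hasPullback f T.hom)
  rw [h1]
  have e : g.left ≫ T.hom = T'.hom := Over.w g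
  rw [e]
  exact IsPullback.of_hasPullback f T'.hom

/-- The kernel of `Z ×_X X' ⟶ X' ⟶ X` is the ideal of `Z`, for `X' ⟶ X` fpqc. -/
theorem ker_comap_subschemeι_comp {X' Y : Scheme.{u}} (G : X' ⟶ Y) [Flat G] [Surjective G]
    [QuasiCompact G] (I : Y.IdealSheafData) : ((I.comap G).subschemeι ≫ G).ker = I := by
  haveI : IsSchemeTheoreticallyDominant (pullback.snd G I.subschemeι) :=
    Groth.Agent.Helper23.FpqcIdeal.isSchemeTheoreticallyDominant_of_fpqc _
  rw [← Scheme.IdealSheafData.comapIso_hom_fst, Category.assoc, pullback.condition,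
    Scheme.Hom.ker_comp_of_isIso, Scheme.Hom.ker_comp, Scheme.Hom.ker_eq_bot,
    Scheme.IdealSheafData.map_bot, Scheme.IdealSheafData.ker_subschemeι]

theorem comap_injective_of_fpqc {X' Y : Scheme.{u}} (G : X' ⟶ Y) [Flat G] [Surjective G]
    [QuasiCompact G] {I₁ I₂ : Y.IdealSheafData} (h : I₁.comap G = I₂.comap G) : I₁ = I₂ := by
  rw [← ker_comap_subschemeι_comp G I₁, ← ker_comap_subschemeι_comp G I₂, h]

/-- fpqc descent of "finite locally free of degree `d`". -/
theorem isFinLocFreeOfDeg_of_isPullback {A X' Y Z : Scheme.{u}} {fst : A ⟶ X'} {snd : A ⟶ Y}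
    {p : X' ⟶ Z} {q : Y ⟶ Z} (h : IsPullback fst snd p q) [Flat p] [Surjective p] [QuasiCompact p]
    (d : ℕ) (hfst : Mor2.IsFinLocFreeOfDeg d fst) : Mor2.IsFinLocFreeOfDeg d q := by
  obtain ⟨⟨h1, h2, h3⟩, h4⟩ := hfst
  have hp : (@Surjective ⊓ @Flat ⊓ @QuasiCompact : MorphismProperty Scheme.{u}) p :=
    ⟨⟨inferInstance, inferInstance⟩, inferInstance⟩
  haveI := h1
  have hint : IsIntegralHom q :=
    (Groth.Agent.Helper21.AffDesc.integral.{u}).of_isPullback h hp inferInstance
  have hlft : LocallyOfFiniteType q :=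
    MorphismProperty.of_isPullback_of_descendsAlong (P := @LocallyOfFiniteType)
      (Q := (@Surjective ⊓ @Flat ⊓ @QuasiCompact : MorphismProperty Scheme.{u})) h hp inferInstance
  haveI hfin : IsFinite q := by
    rw [IsFinite.iff_isIntegralHom_and_locallyOfFiniteType]
    exact ⟨hint, hlft⟩
  haveI hflat : Flat q :=
    MorphismProperty.of_isPullback_of_descendsAlong (P := @Flat)
      (Q := (@Surjective ⊓ @Flat ⊓ @QuasiCompact : MorphismProperty Scheme.{u})) h hp h2
  have hlfp : LocallyOfFinitePresentation q :=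
    MorphismProperty.of_isPullback_of_descendsAlong (P := @LocallyOfFinitePresentation)
      (Q := (@Surjective ⊓ @Flat ⊓ @QuasiCompact : MorphismProperty Scheme.{u})) h hp h3
  refine ⟨⟨hfin, hflat, hlfp⟩, fun z => ?_⟩
  obtain ⟨x, rfl⟩ := p.surjective z
  rw [← Scheme.Hom.finrank_of_isPullback snd fst q p h.flip x]
  exact h4 x

/-- **S1181**: `Hilb^d_{X/S}` satisfies the sheaf condition for a single fpqc cover. -/
theorem main (d : ℕ) (T : Over S) {T' : Scheme.{u}} (g : T' ⟶ T.left)
    [QuasiCompact g] [Flat g] [Surjective g] (Z' : HilbD.Obj f d (HilbD.coverOver T g))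
    (hZ' : HilbD.pull f (HilbD.overlapFst T g) Z'.1 = HilbD.pull f (HilbD.overlapSnd T g) Z'.1) :
    ∃! I : (PicF.XT f T).IdealSheafData, Mor2.IsFinLocFreeOfDeg d (I.subschemeι ≫ PicF.XTproj f T) ∧
      HilbD.pull f (HilbD.coverHom T g) I = Z'.1 := by
  obtain ⟨G, hG⟩ : ∃ G, G = PicF.XTmap f (HilbD.coverHom T g) := ⟨_, rfl⟩
  have sqG : IsPullback G (PicF.XTproj f (HilbD.coverOver T g)) (PicF.XTproj f T) g := by
    rw [hG]
    exact isPullback_XTmap f (HilbD.coverHom T g)
  haveI : Flat G := MorphismProperty.of_isPullback (P := @Flat) sqG.flip inferInstance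
  haveI : Surjective G := MorphismProperty.of_isPullback (P := @Surjective) sqG.flip inferInstance
  haveI : QuasiCompact G :=
    MorphismProperty.of_isPullback (P := @QuasiCompact) sqG.flip inferInstance
  obtain ⟨P1, hP1⟩ : ∃ P1, P1 = PicF.XTmap f (HilbD.overlapFst T g) := ⟨_, rfl⟩
  obtain ⟨P2, hP2⟩ : ∃ P2, P2 = PicF.XTmap f (HilbD.overlapSnd T g) := ⟨_, rfl⟩
  have hZ'' : Z'.1.comap P1 = Z'.1.comap P2 := by
    rw [hP1, hP2, ← pull_eq_comap, ← pull_eq_comap]
    exact hZ'
  -- the comparison map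
  have hτ : (pullback.fst G G ≫ PicF.XTproj f (HilbD.coverOver T g)) ≫ g =
      (pullback.snd G G ≫ PicF.XTproj f (HilbD.coverOver T g)) ≫ g := by
    rw [Category.assoc, Category.assoc, ← sqG.w, ← Category.assoc, ← Category.assoc,
      pullback.condition]
  obtain ⟨τ, hτ1, hτ2⟩ : ∃ τ : pullback G G ⟶ pullback g g,
      τ ≫ pullback.fst g g = pullback.fst G G ≫ PicF.XTproj f (HilbD.coverOver T g) ∧
      τ ≫ pullback.snd g g = pullback.snd G G ≫ PicF.XTproj f (HilbD.coverOver T g) :=
    ⟨pullback.lift _ _ hτ, pullback.lift_fst _ _ _, pullback.lift_snd _ _ _⟩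
  have hσ : (pullback.fst G G ≫ pullback.fst f (g ≫ T.hom)) ≫ f =
      τ ≫ (pullback.fst g g ≫ g) ≫ T.hom := by
    rw [Category.assoc, pullback.condition, ← Category.assoc τ, ← Category.assoc τ, hτ1]
    simp only [Category.assoc]
    rfl
  obtain ⟨σ, hσa, hσb⟩ : ∃ σ : pullback G G ⟶ PicF.XT f (HilbD.overlapOver T g),
      σ ≫ pullback.fst f ((pullback.fst g g ≫ g) ≫ T.hom) =
        pullback.fst G G ≫ pullback.fst f (g ≫ T.hom) ∧
      σ ≫ pullback.snd f ((pullback.fst g g ≫ g) ≫ T.hom) = τ :=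
    ⟨pullback.lift _ _ hσ, pullback.lift_fst _ _ _, pullback.lift_snd _ _ _⟩
  have hGfst : G ≫ pullback.fst f T.hom = pullback.fst f (g ≫ T.hom) := by
    rw [hG]
    simp only [PicF.XTmap, pullback.map, pullback.lift_fst, Category.comp_id]
    rfl
  have hσ1 : σ ≫ P1 = pullback.fst G G := by
    rw [hP1]
    apply pullback.hom_ext
    · simp only [PicF.XTmap, pullback.map, Category.assoc, pullback.lift_fst, Category.comp_id]
      exact hσa
    · simp only [PicF.XTmap, pullback.map, Category.assoc, pullback.lift_snd]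
      rw [← Category.assoc]
      erw [hσb]
      exact hτ1
  have hσ2 : σ ≫ P2 = pullback.snd G G := by
    rw [hP2]
    apply pullback.hom_ext
    · simp only [PicF.XTmap, pullback.map, Category.assoc, pullback.lift_fst, Category.comp_id]
      erw [hσa]
      rw [← hGfst, ← Category.assoc, pullback.condition, Category.assoc, hGfst]
      rfl
    · simp only [PicF.XTmap, pullback.map, Category.assoc, pullback.lift_snd]
      rw [← Category.assoc]
      erw [hσb]
      exact hτ2
  have h : Z'.1.comap (pullback.fst G G) = Z'.1.comap (pullback.snd G G) := by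
    rw [← hσ1, ← hσ2, Scheme.IdealSheafData.comap_comp, Scheme.IdealSheafData.comap_comp, hZ'']
  obtain ⟨J, hJ⟩ := Groth.Agent.Helper23.FpqcIdeal.exists_comap_eq G Z'.1 h
  refine ⟨J, ⟨?_, ?_⟩, ?_⟩
  · have sqZ : IsPullback ((J.comapIso G).hom ≫ pullback.snd G J.subschemeι)
        (J.comap G).subschemeι J.subschemeι G :=
      (IsPullback.of_hasPullback G J.subschemeι).flip.of_iso (J.comapIso G).symm (Iso.refl _)
        (Iso.refl _) (Iso.refl _)
        (by rw [Iso.refl_hom, Category.comp_id, Iso.symm_hom, Iso.inv_hom_id_assoc])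
        (by rw [Iso.refl_hom, Category.comp_id, Iso.symm_hom,
          Scheme.IdealSheafData.comapIso_inv_subschemeι]) (by simp) (by simp)
    have big := sqZ.paste_vert sqG
    refine isFinLocFreeOfDeg_of_isPullback big.flip d ?_
    rw [hJ]
    exact Z'.2
  · rw [pull_eq_comap, ← hG]
    exact hJ
  · rintro I ⟨-, hI⟩
    rw [pull_eq_comap, ← hG] at hI
    exact comap_injective_of_fpqc G (hI.trans hJ.symm)

end Groth.Agent.Helper19.HilbFpqc
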