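import Mathlib
import Groth.Prelude.Def_Flatn
import Groth.Prelude.Def_Mor2
import Groth.Agent.Lib.Helper14.MorGlueDef

/-!
# `morS` restricted over an open of the base (helper19, for helper14's S7194)
-/

set_option autoImplicit false
set_option linter.style.haveILetI false
set_option linter.unusedSectionVars false
set_option linter.unusedVariables false

universe u
open CategoryTheory CategoryTheory.Limits AlgebraicGeometry Opposite

namespace Groth.Agent.Helper19.MorSRestrict

variable {Z X S U : Scheme.{u}}

/-- Sections of `morS gU fU` to sections of `morS g f` over `T' → U → S`. -/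
noncomputable def toS (g : Z ⟶ S) (f : X ⟶ S) (i : U ⟶ S) (T' : Over U)
    (c : (Flatn.morS (pullback.fst i g) (pullback.fst i f)).obj (op T')) :
    (Flatn.morS g f).obj (op ((Over.map i).obj T')) :=
  Over.homMk ((pullbackRightPullbackFstIso i g T'.hom).inv ≫ c.left ≫ pullback.snd i f) (by
    have hc : c.left ≫ pullback.fst i f =
        pullback.snd T'.hom (pullback.fst i g) ≫ pullback.fst i g := Over.w c
    change ((pullbackRightPullbackFstIso i g T'.hom).inv ≫ c.left ≫ pullback.snd i f) ≫ f =
      pullback.snd (T'.hom ≫ i) g ≫ g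
    rw [Category.assoc, Category.assoc, ← pullback.condition, reassoc_of% hc,
      pullback.condition, pullbackRightPullbackFstIso_inv_snd_snd_assoc])

/-- Sections of `morS g f` over `T' → U → S` to sections of `morS gU fU`. -/
noncomputable def ofS (g : Z ⟶ S) (f : X ⟶ S) (i : U ⟶ S) (T' : Over U)
    (b : (Flatn.morS g f).obj (op ((Over.map i).obj T'))) :
    (Flatn.morS (pullback.fst i g) (pullback.fst i f)).obj (op T') :=
  Over.homMk (pullback.lift (pullback.snd T'.hom (pullback.fst i g) ≫ pullback.fst i g)
      ((pullbackRightPullbackFstIso i g T'.hom).hom ≫ b.left) (by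
        have hb : b.left ≫ f = pullback.snd (T'.hom ≫ i) g ≫ g := Over.w b
        rw [Category.assoc, Category.assoc, hb, pullbackRightPullbackFstIso_hom_snd_assoc,
          pullback.condition])) (by
    change pullback.lift _ _ _ ≫ pullback.fst i f = _
    rw [pullback.lift_fst]; rfl)

theorem ofS_toS (g : Z ⟶ S) (f : X ⟶ S) (i : U ⟶ S) (T' : Over U)
    (c : (Flatn.morS (pullback.fst i g) (pullback.fst i f)).obj (op T')) :
    ofS g f i T' (toS g f i T' c) = c := by
  have hc : c.left ≫ pullback.fst i f =
      pullback.snd T'.hom (pullback.fst i g) ≫ pullback.fst i g := Over.w c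
  apply Over.OverMorphism.ext
  change pullback.lift _ _ _ = c.left
  apply pullback.hom_ext
  · rw [pullback.lift_fst, hc]
  · rw [pullback.lift_snd]
    change _ ≫ (pullbackRightPullbackFstIso i g T'.hom).inv ≫ c.left ≫ pullback.snd i f = _
    rw [Iso.hom_inv_id_assoc]

theorem toS_ofS (g : Z ⟶ S) (f : X ⟶ S) (i : U ⟶ S) (T' : Over U)
    (b : (Flatn.morS g f).obj (op ((Over.map i).obj T'))) :
    toS g f i T' (ofS g f i T' b) = b := by
  apply Over.OverMorphism.ext
  change (pullbackRightPullbackFstIso i g T'.hom).inv ≫ pullback.lift _ _ _ ≫ pullback.snd i f =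
    b.left
  rw [pullback.lift_snd, Iso.inv_hom_id_assoc]

theorem pasting_natural_aux (g : Z ⟶ S) (i : U ⟶ S) {A B : Scheme.{u}} (a : A ⟶ U) (b : B ⟶ U)
    (k : B ⟶ A) (hk : k ≫ a = b) :
    (pullbackRightPullbackFstIso i g b).inv ≫
        pullback.lift (pullback.fst b (pullback.fst i g) ≫ k) (pullback.snd b (pullback.fst i g))
          (by rw [Category.assoc, hk, pullback.condition]) =
      pullback.lift (pullback.fst (b ≫ i) g ≫ k) (pullback.snd (b ≫ i) g)
          (by rw [Category.assoc, reassoc_of% hk, pullback.condition]) ≫
        (pullbackRightPullbackFstIso i g a).inv := by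
  have key : pullback.lift (pullback.fst b (pullback.fst i g) ≫ k)
        (pullback.snd b (pullback.fst i g))
          (by rw [Category.assoc, hk, pullback.condition]) ≫
        (pullbackRightPullbackFstIso i g a).hom =
      (pullbackRightPullbackFstIso i g b).hom ≫
        pullback.lift (pullback.fst (b ≫ i) g ≫ k) (pullback.snd (b ≫ i) g)
          (by rw [Category.assoc, reassoc_of% hk, pullback.condition]) := by
    apply pullback.hom_ext
    · simp only [Category.assoc, pullbackRightPullbackFstIso_hom_fst,
        pullback.lift_fst, pullbackRightPullbackFstIso_hom_fst_assoc]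
    · simp only [Category.assoc, pullbackRightPullbackFstIso_hom_snd,
        pullback.lift_snd, pullback.lift_snd_assoc]
  simp only [Iso.inv_comp_eq, ← reassoc_of% key, Iso.hom_inv_id, Category.comp_id]

theorem pasting_natural (g : Z ⟶ S) (i : U ⟶ S) {T' T'' : Over U} (ψ : T'' ⟶ T') :
    (pullbackRightPullbackFstIso i g T''.hom).inv ≫
        ((Over.pullback (pullback.fst i g)).map ψ).left =
      ((Over.pullback g).map ((Over.map i).map ψ)).left ≫
        (pullbackRightPullbackFstIso i g T'.hom).inv :=
  pasting_natural_aux g i T'.hom T''.hom ψ.left (Over.w ψ)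

/-- The natural isomorphism. -/
noncomputable def iso (g : Z ⟶ S) (f : X ⟶ S) (i : U ⟶ S) :
    Flatn.morS (pullback.fst i g) (pullback.fst i f) ≅ (Over.map i).op ⋙ Flatn.morS g f :=
  NatIso.ofComponents
    (fun T' => Equiv.toIso
      { toFun := toS g f i T'.unop
        invFun := ofS g f i T'.unop
        left_inv := ofS_toS g f i T'.unop
        right_inv := toS_ofS g f i T'.unop })
    (by
      intro T' T'' φ
      ext c
      apply Over.OverMorphism.ext
      change (pullbackRightPullbackFstIso i g T''.unop.hom).inv ≫
          (((Over.pullback (pullback.fst i g)).map φ.unop).left ≫ c.left) ≫ pullback.snd i f =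
        ((Over.pullback g).map ((Over.map i).map φ.unop)).left ≫
          (pullbackRightPullbackFstIso i g T'.unop.hom).inv ≫ c.left ≫ pullback.snd i f
      rw [Category.assoc, ← Category.assoc, pasting_natural, Category.assoc])

/-- Lemma (C): a representing object of the restricted functor `morS gU fU` over `U` represents
the restriction of `morS g f` to schemes over `U`. -/
theorem morS_restrict_representableBy {Z X S : Scheme.{u}} (g : Z ⟶ S) (f : X ⟶ S) (U : S.Opens)
    (W' : Over U.toScheme)
    (h : Nonempty ((Flatn.morS (pullback.fst U.ι g) (pullback.fst U.ι f)).RepresentableBy W')) :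
    Nonempty (((Over.map U.ι).op ⋙ Flatn.morS g f).RepresentableBy W') :=
  ⟨h.some.ofIso (iso g f U.ι)⟩

/-- The same for an arbitrary morphism `i : U ⟶ S` in place of an open immersion. -/
theorem morS_restrict_representableBy' (g : Z ⟶ S) (f : X ⟶ S) (i : U ⟶ S)
    (W' : Over U)
    (h : Nonempty ((Flatn.morS (pullback.fst i g) (pullback.fst i f)).RepresentableBy W')) :
    Nonempty (((Over.map i).op ⋙ Flatn.morS g f).RepresentableBy W') :=
  ⟨h.some.ofIso (iso g f i)⟩

end Groth.Agent.Helper19.MorSRestrict
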