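import Mathlib
import Groth.Prelude.Def_W4c1tameactTame

/-!
# Hopf-algebraic toolkit: antipode anti-comultiplicativity, Reynolds operator of a total integral (helper19)
-/

set_option autoImplicit false

namespace Groth.Agent.Helper19.HopfLib

open TensorProduct HopfAlgebra Coalgebra WithConv HopfRep

universe u v w w' w''

section antipode

variable (k : Type u) [CommRing k] (A : Type v) [CommRing A] [HopfAlgebra k A]

/-- `Δ ∘ S = (S ⊗ S) ∘ τ ∘ Δ` for a commutative Hopf algebra. -/
theorem comul_antipode (a : A) :
    Coalgebra.comul (R := k) (antipode k a) =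
      TensorProduct.map (antipode k) (antipode k)
        (TensorProduct.comm k A A (Coalgebra.comul (R := k) a)) := by
  let G := WithConv (A →ₐ[k] A ⊗[k] A)
  let i₁ : G := toConv (Algebra.TensorProduct.includeLeft : A →ₐ[k] A ⊗[k] A)
  let i₂ : G := toConv (Algebra.TensorProduct.includeRight : A →ₐ[k] A ⊗[k] A)
  let δ : G := toConv (Bialgebra.comulAlgHom k A)
  have h12 : i₁ * i₂ = δ := by
    apply WithConv.ofConv_injective
    apply AlgHom.ext
    intro c
    have := AlgHom.convMul_apply i₁ i₂ c
    change (i₁ * i₂).ofConv c = _ at this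
    rw [this]
    simp only [i₁, i₂, δ]
    rw [Algebra.TensorProduct.lift_includeLeft_includeRight]
    rfl
  have hinv : δ⁻¹ = i₂⁻¹ * i₁⁻¹ := by rw [← h12]; exact mul_inv_rev i₁ i₂
  have h1 := congrArg (fun f : G => f.ofConv a) hinv
  have h2 : (δ⁻¹).ofConv a = Coalgebra.comul (R := k) (antipode k a) := rfl
  rw [h2] at h1
  rw [h1]
  have h3 := AlgHom.convMul_apply (i₂⁻¹) (i₁⁻¹) a
  change (i₂⁻¹ * i₁⁻¹).ofConv a = _ at h3
  rw [h3]
  generalize Coalgebra.comul (R := k) a = s
  induction s using TensorProduct.induction_on with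
  | zero => simp
  | tmul x y =>
    rw [Algebra.TensorProduct.lift_tmul]
    change (1 ⊗ₜ[k] antipode k x : A ⊗[k] A) * (antipode k y ⊗ₜ[k] 1) = _
    simp
  | add x y hx hy => simp only [map_add, hx, hy]

end antipode

section comod

variable {k : Type u} [CommRing k] {A : Type v} [CommRing A] [Bialgebra k A]
  {V : Type w} [AddCommGroup V] [Module k V] [Comod k A V]

theorem coassoc_apply (m : V) :
    (Comod.coact (k := k) (A := A) (V := V)).rTensor A (Comod.coact (k := k) (A := A) m) =
      (TensorProduct.assoc k V A A).symm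
        ((Coalgebra.comul (R := k) (A := A)).lTensor V (Comod.coact (k := k) (A := A) m)) := by
  have := LinearMap.congr_fun (Comod.coassoc (k := k) (A := A) (V := V)) m
  simp only [LinearMap.comp_apply, LinearEquiv.coe_coe] at this
  rw [← this, LinearEquiv.symm_apply_apply]

theorem counit_apply (m : V) :
    (Coalgebra.counit (R := k) (A := A)).lTensor V (Comod.coact (k := k) (A := A) m) =
      m ⊗ₜ[k] (1 : k) := by
  have := LinearMap.congr_fun (Comod.counit_comp (k := k) (A := A) (V := V)) m
  simpa using this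

theorem rid_counit_apply (m : V) :
    TensorProduct.rid k V ((Coalgebra.counit (R := k) (A := A)).lTensor V
      (Comod.coact (k := k) (A := A) m)) = m := by
  rw [counit_apply, TensorProduct.rid_tmul, one_smul]

end comod

section reynolds

variable (k : Type u) [CommRing k] (A : Type v) [CommRing A] [HopfAlgebra k A]
  (B : Type w) [CommRing B] [Algebra k B] [Comod k A B] [GLin.IsCoactAlg k A B]
  (M : Type w') [AddCommGroup M] [Module k M] [Module B M] [IsScalarTower k B M]
  [Comod k A M] [TameAct.IsHopfMod k A B M]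

/-- `P c (t ⊗ b) = (c ⊗ S b) · t`. -/
noncomputable def P (c : B) : (M ⊗[k] A) ⊗[k] A →ₗ[k] M ⊗[k] A :=
  TensorProduct.lift
    ((TameAct.hmSMul k A B M ∘ₗ TensorProduct.mk k B A c ∘ₗ antipode k).flip)

@[simp] theorem P_tmul (c : B) (t : M ⊗[k] A) (b : A) :
    P k A B M c (t ⊗ₜ[k] b) = TameAct.hmSMul k A B M (c ⊗ₜ[k] antipode k b) t := by
  simp [P]

/-- the key 3-fold identity: `Σ (c • x₀₀) ⊗ S(x₁) x₀₁ = (c • x) ⊗ 1`. -/
theorem P_coact (c : B) (x : M) :
    P k A B M c ((Comod.coact (k := k) (A := A) (V := M)).rTensor A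
      (Comod.coact (k := k) (A := A) x)) = (c • x) ⊗ₜ[k] (1 : A) := by
  rw [coassoc_apply]
  have key : ∀ t : M ⊗[k] A, P k A B M c ((TensorProduct.assoc k M A A).symm
      ((Coalgebra.comul (R := k) (A := A)).lTensor M t)) =
      (c • TensorProduct.rid k M ((Coalgebra.counit (R := k) (A := A)).lTensor M t)) ⊗ₜ[k] (1 : A) := by
    intro t
    induction t using TensorProduct.induction_on with
    | zero => simp
    | tmul y a =>
      rw [LinearMap.lTensor_tmul, LinearMap.lTensor_tmul, TensorProduct.rid_tmul]
      have h2 : ∀ s : A ⊗[k] A, P k A B M c ((TensorProduct.assoc k M A A).symm (y ⊗ₜ[k] s)) =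
          (c • y) ⊗ₜ[k] (LinearMap.mul' k A ((antipode k).lTensor A s)) := by
        intro s
        induction s using TensorProduct.induction_on with
        | zero => simp
        | tmul a₁ a₂ =>
          rw [TensorProduct.assoc_symm_tmul, P_tmul, TameAct.hmSMul_tmul, LinearMap.lTensor_tmul,
            LinearMap.mul'_apply, mul_comm]
        | add x y hx hy => simp only [TensorProduct.tmul_add, map_add, hx, hy]
      rw [h2, HopfAlgebra.mul_antipode_lTensor_comul_apply, Algebra.algebraMap_eq_smul_one,
        TensorProduct.tmul_smul, smul_comm c, TensorProduct.smul_tmul']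
    | add x y hx hy => simp only [map_add, hx, hy, smul_add, TensorProduct.add_tmul]
  rw [key, rid_counit_apply]

variable (α : A →ₗ[k] B)

/-- `L (x ⊗ a) = α (S a) • x`, so that `reynolds α = L ∘ ρ`. -/
noncomputable def L : M ⊗[k] A →ₗ[k] M :=
  TensorProduct.lift
      ((Algebra.lsmul k k M : B →ₐ[k] Module.End k M).toLinearMap ∘ₗ α ∘ₗ
        (HopfAlgebraStruct.antipode (R := k) (A := A))).flip

@[simp] theorem L_tmul (x : M) (a : A) : L k A B M α (x ⊗ₜ[k] a) = α (antipode k a) • x := by
  simp [L]

theorem reynolds_eq (m : M) :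
    TameAct.reynolds k A B M α m = L k A B M α (Comod.coact (k := k) (A := A) m) := rfl

variable {α} in
theorem coact_alpha_antipode (hα : Hoch.IsComodHom A α) (a : A) :
    Comod.coact (k := k) (A := A) (α (antipode k a)) =
      TensorProduct.map (α ∘ₗ antipode k) (antipode k)
        (TensorProduct.comm k A A (Coalgebra.comul (R := k) a)) := by
  have h1 := LinearMap.congr_fun hα (antipode k a)
  simp only [LinearMap.comp_apply] at h1
  rw [h1]
  change (α.rTensor A) (Coalgebra.comul (R := k) (antipode k a)) = _
  rw [comul_antipode]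
  generalize (TensorProduct.comm k A A) (Coalgebra.comul (R := k) a) = s
  induction s using TensorProduct.induction_on with
  | zero => simp
  | tmul x y => simp
  | add x y hx hy => simp only [map_add, hx, hy]

/-- the bilinear map `Γ β t (b ⊗ d) = (β (S d) ⊗ S b) · t`. -/
noncomputable def Gam (β : A →ₗ[k] B) : M ⊗[k] A →ₗ[k] (A ⊗[k] A →ₗ[k] M ⊗[k] A) :=
  (TameAct.hmSMul k A B M ∘ₗ TensorProduct.map (β ∘ₗ antipode k) (antipode k) ∘ₗ
    (TensorProduct.comm k A A).toLinearMap).flip

theorem Gam_tmul (β : A →ₗ[k] B) (t : M ⊗[k] A) (b d : A) :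
    Gam k A B M β t (b ⊗ₜ[k] d) =
      TameAct.hmSMul k A B M (β (antipode k d) ⊗ₜ[k] antipode k b) t := by
  simp [Gam]

/-- the 4-fold contraction: `Σ β(S m₁₂) m₀₀ ⊗ S(m₁₁) m₀₁ = Σ β(S m₁) m₀ ⊗ 1`, for any linear `β`. -/
theorem lift_Gam_coact (β : A →ₗ[k] B) (m : M) :
    TensorProduct.lift (Gam k A B M β)
      (TensorProduct.map (Comod.coact (k := k) (A := A) (V := M)) (Coalgebra.comul (R := k) (A := A))
        (Comod.coact (k := k) (A := A) m)) =
      (L k A B M β (Comod.coact (k := k) (A := A) m)) ⊗ₜ[k] (1 : A) := by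
  set ρ := Comod.coact (k := k) (A := A) (V := M) with hρ
  have he1 : ∀ (v : M ⊗[k] A) (d : A),
      TensorProduct.lift (Gam k A B M β)
        ((ρ.rTensor (A ⊗[k] A)) (TensorProduct.assoc k M A A (v ⊗ₜ[k] d))) =
        P k A B M (β (antipode k d)) ((ρ.rTensor A) v) := by
    intro v d
    induction v using TensorProduct.induction_on with
    | zero => simp
    | tmul x b =>
      rw [TensorProduct.assoc_tmul, LinearMap.rTensor_tmul, TensorProduct.lift.tmul, Gam_tmul,
        LinearMap.rTensor_tmul, P_tmul]
    | add x y hx hy => simp only [TensorProduct.add_tmul, map_add, hx, hy]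
  have he : ∀ t : M ⊗[k] A,
      TensorProduct.lift (Gam k A B M β)
        ((ρ.rTensor (A ⊗[k] A)) (TensorProduct.assoc k M A A ((ρ.rTensor A) t))) =
        (L k A B M β t) ⊗ₜ[k] (1 : A) := by
    intro t
    induction t using TensorProduct.induction_on with
    | zero => simp
    | tmul y d =>
      rw [LinearMap.rTensor_tmul, he1, P_coact, L_tmul]
    | add x y hx hy => simp only [map_add, hx, hy, TensorProduct.add_tmul]
  have hd : TensorProduct.map ρ (Coalgebra.comul (R := k) (A := A)) (ρ m) =
      (ρ.rTensor (A ⊗[k] A)) (TensorProduct.assoc k M A A ((ρ.rTensor A) (ρ m))) := by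
    have hmap : TensorProduct.map ρ (Coalgebra.comul (R := k) (A := A)) =
        (ρ.rTensor (A ⊗[k] A)) ∘ₗ ((Coalgebra.comul (R := k) (A := A)).lTensor M) :=
      (LinearMap.rTensor_comp_lTensor _ _ _).symm
    rw [hmap, LinearMap.comp_apply, coassoc_apply, LinearEquiv.apply_symm_apply]
  rw [hd, he]

variable {α} in
/-- the Reynolds operator of a total integral lands in the invariants. -/
theorem reynolds_mem_fixedPts (hα : Hoch.IsComodHom A α) (m : M) :
    TameAct.reynolds k A B M α m ∈ fixedPts k A M := by
  change Comod.coact (k := k) (A := A) (TameAct.reynolds k A B M α m) =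
    (TameAct.reynolds k A B M α m) ⊗ₜ[k] (1 : A)
  set ρ := Comod.coact (k := k) (A := A) (V := M) with hρ
  have hc : ∀ t : M ⊗[k] A, ρ (L k A B M α t) =
      TensorProduct.lift (Gam k A B M α)
        (TensorProduct.map ρ (Coalgebra.comul (R := k) (A := A)) t) := by
    intro t
    induction t using TensorProduct.induction_on with
    | zero => simp
    | tmul x a =>
      rw [L_tmul, TensorProduct.map_tmul, TensorProduct.lift.tmul,
        TameAct.IsHopfMod.coact_smul (k := k) (A := A), coact_alpha_antipode k A B hα]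
      rfl
    | add x y hx hy => simp only [map_add, hx, hy]
  rw [reynolds_eq, hc, lift_Gam_coact]

theorem reynolds_of_mem_fixedPts (hα1 : α 1 = 1) (m : M) (hm : m ∈ fixedPts k A M) :
    TameAct.reynolds k A B M α m = m := by
  have hm' : Comod.coact (k := k) (A := A) m = m ⊗ₜ[k] (1 : A) := hm
  rw [TameAct.reynolds_apply_of_coact_eq k A B M α m m 1 hm', HopfAlgebra.antipode_one, hα1,
    one_smul]

theorem reynolds_comm (N : Type w'') [AddCommGroup N] [Module k N] [Module B N]
    [IsScalarTower k B N] [Comod k A N] [TameAct.IsHopfMod k A B N]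
    (f : M →ₗ[B] N) (hf : Hoch.IsComodHom A (f.restrictScalars k)) (m : M) :
    f (TameAct.reynolds k A B M α m) = TameAct.reynolds k A B N α (f m) := by
  rw [reynolds_eq, reynolds_eq]
  have h1 := LinearMap.congr_fun hf m
  simp only [LinearMap.comp_apply, LinearMap.restrictScalars_apply] at h1
  rw [h1]
  generalize Comod.coact (k := k) (A := A) m = t
  induction t using TensorProduct.induction_on with
  | zero => simp
  | tmul x a =>
    rw [L_tmul, LinearMap.rTensor_tmul, L_tmul, map_smul]
    rfl
  | add x y hx hy => simp only [map_add, hx, hy]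

end reynolds

section self

variable (k : Type u) [CommRing k] (A : Type v) [CommRing A] [HopfAlgebra k A]
  (B : Type w) [CommRing B] [Algebra k B] [Comod k A B] [GLin.IsCoactAlg k A B]

theorem hmSMul_self (x y : B ⊗[k] A) : TameAct.hmSMul k A B B x y = x * y := by
  induction x using TensorProduct.induction_on with
  | zero => simp
  | tmul b a =>
    induction y using TensorProduct.induction_on with
    | zero => simp
    | tmul b' a' => simp
    | add y₁ y₂ h₁ h₂ => rw [map_add, h₁, h₂, mul_add]
  | add x₁ x₂ h₁ h₂ => rw [map_add, LinearMap.add_apply, h₁, h₂, add_mul]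

theorem isHopfMod_self : TameAct.IsHopfMod k A B B where
  coact_smul b m := by
    rw [hmSMul_self, smul_eq_mul, GLin.IsCoactAlg.coact_mul]

variable (α : A →ₗ[k] B)

theorem reynolds_mul_invariant (c : B) (hc : c ∈ GLin.invariants k A B) (b : B) :
    TameAct.reynolds k A B B α (c * b) = c * TameAct.reynolds k A B B α b := by
  haveI := isHopfMod_self k A B
  rw [reynolds_eq, reynolds_eq, GLin.IsCoactAlg.coact_mul, (GLin.mem_invariants_iff k A B c).1 hc]
  generalize Comod.coact (k := k) (A := A) b = t
  induction t using TensorProduct.induction_on with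
  | zero => simp
  | tmul x a =>
    rw [Algebra.TensorProduct.tmul_mul_tmul, one_mul, L_tmul, L_tmul, smul_eq_mul, smul_eq_mul,
      mul_left_comm]
  | add x y hx hy => simp only [mul_add, map_add, hx, hy]

end self

end Groth.Agent.Helper19.HopfLib
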