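import Mathlib
import Groth.Prelude.Def_GLin

/-!
# Localising a coaction at an invariant element: invariants of `B_c` are `C_c` (helper19)
-/

set_option autoImplicit false

universe u

open TensorProduct HopfRep

namespace Groth.Agent.Helper19.HopfLoc

variable (k : Type u) [CommRing k] (A : Type u) [CommRing A] [Bialgebra k A]
  (B : Type u) [CommRing B] [Algebra k B] [HopfRep.Comod k A B] [GLin.IsCoactAlg k A B]
  (c : GLin.invariants k A B)

/-- `ι : B → B ⊗ A`. -/
abbrev incl : B →+* B ⊗[k] A := Algebra.TensorProduct.includeLeftRingHom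

/-- `ρ : B → B ⊗ A`. -/
abbrev coac : B →+* B ⊗[k] A := (GLin.coactAlgHom k A B).toRingHom

theorem coac_inv : coac k A B (c : B) = incl k A B (c : B) := by
  change HopfRep.Comod.coact (k := k) (A := A) (c : B) = (c : B) ⊗ₜ[k] (1 : A)
  exact (GLin.mem_invariants_iff k A B _).1 c.2

/-- `C_c → B_c`. -/
noncomputable def locInv : Localization.Away c →+* Localization.Away (c : B) :=
  IsLocalization.Away.lift (S := Localization.Away c) c
    (g := (algebraMap B (Localization.Away (c : B))).comp (algebraMap (GLin.invariants k A B) B))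
    (IsLocalization.Away.algebraMap_isUnit (c : B))

/-- `ι_c : B_c → (B ⊗ A)_{c ⊗ 1}`. -/
noncomputable def locIncl : Localization.Away (c : B) →+* Localization.Away (incl k A B (c : B)) :=
  IsLocalization.Away.lift (S := Localization.Away (c : B)) (c : B)
    (g := (algebraMap (B ⊗[k] A) (Localization.Away (incl k A B (c : B)))).comp (incl k A B))
    (IsLocalization.Away.algebraMap_isUnit (incl k A B (c : B)))

/-- `ρ_c : B_c → (B ⊗ A)_{c ⊗ 1}`. -/
noncomputable def locCoac : Localization.Away (c : B) →+* Localization.Away (incl k A B (c : B)) :=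
  IsLocalization.Away.lift (S := Localization.Away (c : B)) (c : B)
    (g := (algebraMap (B ⊗[k] A) (Localization.Away (incl k A B (c : B)))).comp (coac k A B))
    (by
      rw [RingHom.comp_apply, coac_inv]
      exact IsLocalization.Away.algebraMap_isUnit (incl k A B (c : B)))

@[simp] theorem locInv_algebraMap (z : GLin.invariants k A B) :
    locInv k A B c (algebraMap _ _ z) = algebraMap B (Localization.Away (c : B)) (z : B) :=
  IsLocalization.Away.lift_eq _ _ _

@[simp] theorem locIncl_algebraMap (y : B) :
    locIncl k A B c (algebraMap _ _ y) =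
      algebraMap (B ⊗[k] A) (Localization.Away (incl k A B (c : B))) (incl k A B y) :=
  IsLocalization.Away.lift_eq _ _ _

@[simp] theorem locCoac_algebraMap (y : B) :
    locCoac k A B c (algebraMap _ _ y) =
      algebraMap (B ⊗[k] A) (Localization.Away (incl k A B (c : B))) (coac k A B y) :=
  IsLocalization.Away.lift_eq _ _ _

theorem locInv_injective : Function.Injective (locInv k A B c) := by
  rw [injective_iff_map_eq_zero]
  intro w hw
  obtain ⟨n, z, hz⟩ := IsLocalization.Away.surj c w
  have h1 : algebraMap B (Localization.Away (c : B)) (z : B) = 0 := by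
    rw [← locInv_algebraMap, ← hz, map_mul, hw, zero_mul]
  obtain ⟨⟨_, m, rfl⟩, hm⟩ :=
    (IsLocalization.map_eq_zero_iff (Submonoid.powers (c : B)) (Localization.Away (c : B)) _).1 h1
  have h2 : c ^ m * z = 0 := Subtype.ext (by simpa using hm)
  have hu : IsUnit (algebraMap (GLin.invariants k A B) (Localization.Away c) c) :=
    IsLocalization.Away.algebraMap_isUnit c
  have h3 : algebraMap (GLin.invariants k A B) (Localization.Away c) z = 0 := by
    have := congrArg (algebraMap (GLin.invariants k A B) (Localization.Away c)) h2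
    rw [map_mul, map_pow, map_zero] at this
    exact (hu.pow m).mul_right_eq_zero.1 this
  rw [h3] at hz
  exact (hu.pow n).mul_left_eq_zero.1 hz

/-- Step A: an element of `B_c` equalised by `ρ_c` and `ι_c` comes from `C_c`. -/
theorem mem_range_locInv (x : Localization.Away (c : B))
    (hx : locCoac k A B c x = locIncl k A B c x) : x ∈ Set.range (locInv k A B c) := by
  obtain ⟨n, y, hy⟩ := IsLocalization.Away.surj (c : B) x
  have hc1 : locCoac k A B c (algebraMap _ _ (c : B)) = locIncl k A B c (algebraMap _ _ (c : B)) := by
    rw [locCoac_algebraMap, locIncl_algebraMap, coac_inv]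
  have h1 : algebraMap (B ⊗[k] A) (Localization.Away (incl k A B (c : B))) (coac k A B y) =
      algebraMap (B ⊗[k] A) (Localization.Away (incl k A B (c : B))) (incl k A B y) := by
    rw [← locCoac_algebraMap, ← locIncl_algebraMap, ← hy, map_mul, map_mul, map_pow, map_pow,
      hx, hc1]
  obtain ⟨⟨_, m, rfl⟩, hm⟩ := (IsLocalization.eq_iff_exists
    (Submonoid.powers (incl k A B (c : B))) (Localization.Away (incl k A B (c : B)))).1 h1
  have hinvz : (c : B) ^ m * y ∈ GLin.invariants k A B := by
    rw [GLin.mem_invariants_iff]
    change coac k A B ((c : B) ^ m * y) = incl k A B ((c : B) ^ m * y)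
    rw [map_mul, map_pow, coac_inv, map_mul, map_pow]
    exact hm
  set z : GLin.invariants k A B := ⟨(c : B) ^ m * y, hinvz⟩ with hzdef
  obtain ⟨u, hu⟩ : IsUnit (algebraMap (GLin.invariants k A B) (Localization.Away c) c) :=
    IsLocalization.Away.algebraMap_isUnit c
  refine ⟨algebraMap _ _ z * ((u⁻¹ : (Localization.Away c)ˣ) : Localization.Away c) ^ (n + m), ?_⟩
  have hv : locInv k A B c (u : Localization.Away c) =
      algebraMap B (Localization.Away (c : B)) (c : B) := by
    rw [hu, locInv_algebraMap]
  have hunit : IsUnit (algebraMap B (Localization.Away (c : B)) (c : B)) :=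
    IsLocalization.Away.algebraMap_isUnit (c : B)
  apply (hunit.pow (n + m)).mul_left_injective
  change _ * _ = _ * _
  rw [map_mul, map_pow, mul_assoc, ← hv, ← mul_pow, ← map_mul, Units.inv_mul, map_one, one_pow,
    mul_one, locInv_algebraMap, hv, pow_add, ← mul_assoc, hy, hzdef]
  simp only [map_mul, map_pow]
  ring

end Groth.Agent.Helper19.HopfLoc
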