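import Mathlib
import Groth.Agent.Lib.Helper19.HopfLib

/-!
# Ring-level ingredients for the categorical quotient `Spec B → Spec B^A` (helper19)
-/

set_option autoImplicit false

universe u

open TensorProduct HopfRep

namespace Groth.Agent.Helper19.HopfQuot

open Groth.Agent.Helper19.HopfLib

variable (k : Type u) [CommRing k] (A : Type u) [CommRing A] [HopfAlgebra k A]
  (B : Type u) [CommRing B] [Algebra k B] [HopfRep.Comod k A B] [GLin.IsCoactAlg k A B]

theorem exists_reynolds (htame : ∃ α : A →ₗ[k] B, Hoch.IsComodHom A α ∧ α 1 = 1) :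
    ∃ E : B →ₗ[k] B, (∀ x, E x ∈ GLin.invariants k A B) ∧
      (∀ x ∈ GLin.invariants k A B, E x = x) ∧
      (∀ (b : Ideal B) (x : B), HopfRep.Comod.coact (k := k) (A := A) x ∈
          LinearMap.range ((b.restrictScalars k).subtype.rTensor A) → E x ∈ b) := by
  obtain ⟨α, hα, hα1⟩ := htame
  have hHM := isHopfMod_self k A B
  refine ⟨TameAct.reynolds k A B B α, fun b => reynolds_mem_fixedPts k A B B hα b,
      fun x hx => reynolds_of_mem_fixedPts k A B B α hα1 _ hx, ?_⟩
  rintro b x ⟨t, ht⟩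
  rw [reynolds_eq, ← ht]
  clear ht
  induction t using TensorProduct.induction_on with
  | zero => simp
  | tmul w a =>
    rw [LinearMap.rTensor_tmul, L_tmul]
    exact b.mul_mem_left _ w.2
  | add t₁ t₂ h₁ h₂ =>
    rw [map_add, map_add]
    exact b.add_mem h₁ h₂

/-- the ring map `B → (B ⧸ b) ⊗ A`, `x ↦ (mk ⊗ id)(ρ x)`. -/
noncomputable def quotCoact (b : Ideal B) : B →+* (B ⧸ b) ⊗[k] A :=
  (Algebra.TensorProduct.map (Ideal.Quotient.mkₐ k b) (AlgHom.id k A)).toRingHom.comp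
    (GLin.coactAlgHom k A B).toRingHom

theorem coact_mem_range_of_mem_ker (b : Ideal B) (x : B)
    (hx : x ∈ RingHom.ker (quotCoact k A B b)) :
    HopfRep.Comod.coact (k := k) (A := A) x ∈
      LinearMap.range ((b.restrictScalars k).subtype.rTensor A) := by
  have hex : Function.Exact ((b.restrictScalars k).subtype)
      ((Ideal.Quotient.mkₐ k b).toLinearMap) := by
    intro y
    simp [Ideal.Quotient.eq_zero_iff_mem]
  have hsurj : Function.Surjective (Ideal.Quotient.mkₐ k b).toLinearMap :=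
    Ideal.Quotient.mkₐ_surjective k b
  have h := rTensor_exact A hex hsurj
  refine (h _).1 ?_
  have h0 : (quotCoact k A B b) x = 0 := hx
  rw [← h0]
  rfl

theorem zeroLocus_ker_quotCoact_subset (F : Set (PrimeSpectrum B)) (hF : IsClosed F)
    (hinv : ∀ P : PrimeSpectrum (B ⊗[k] A),
      PrimeSpectrum.comap (Algebra.TensorProduct.includeLeftRingHom : B →+* B ⊗[k] A) P ∈ F →
      PrimeSpectrum.comap (GLin.coactAlgHom k A B).toRingHom P ∈ F) :
    PrimeSpectrum.zeroLocus
      (RingHom.ker (quotCoact k A B (PrimeSpectrum.vanishingIdeal F)) : Set B) ⊆ F := by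
  rw [← PrimeSpectrum.closure_range_comap]
  apply closure_minimal _ hF
  rintro _ ⟨Q, rfl⟩
  let m : B ⊗[k] A →+* (B ⧸ PrimeSpectrum.vanishingIdeal F) ⊗[k] A :=
    (Algebra.TensorProduct.map (Ideal.Quotient.mkₐ k (PrimeSpectrum.vanishingIdeal F))
      (AlgHom.id k A)).toRingHom
  have h1 : PrimeSpectrum.comap (quotCoact k A B (PrimeSpectrum.vanishingIdeal F)) Q =
      PrimeSpectrum.comap (GLin.coactAlgHom k A B).toRingHom (PrimeSpectrum.comap m Q) := rfl
  rw [h1]
  apply hinv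
  have hmem : ∀ x : PrimeSpectrum B,
      x ∈ PrimeSpectrum.zeroLocus (PrimeSpectrum.vanishingIdeal F : Set B) → x ∈ F := by
    intro x hx
    rw [PrimeSpectrum.zeroLocus_vanishingIdeal_eq_closure, hF.closure_eq] at hx
    exact hx
  apply hmem
  rw [PrimeSpectrum.mem_zeroLocus]
  intro y hy
  change m (Algebra.TensorProduct.includeLeftRingHom y) ∈ Q.asIdeal
  have h2 : m (Algebra.TensorProduct.includeLeftRingHom y) = 0 := by
    change (Algebra.TensorProduct.map (Ideal.Quotient.mkₐ k (PrimeSpectrum.vanishingIdeal F))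
      (AlgHom.id k A)) (y ⊗ₜ[k] (1 : A)) = 0
    rw [Algebra.TensorProduct.map_tmul]
    have : (Ideal.Quotient.mkₐ k (PrimeSpectrum.vanishingIdeal F)) y = 0 :=
      Ideal.Quotient.eq_zero_iff_mem.2 hy
    rw [this, TensorProduct.zero_tmul]
  rw [h2]
  exact Q.asIdeal.zero_mem

theorem span_invariants_eq_top (htame : ∃ α : A →ₗ[k] B, Hoch.IsComodHom A α ∧ α 1 = 1)
    {ι : Type*} (F : ι → Set (PrimeSpectrum B)) (hF : ∀ i, IsClosed (F i))
    (hinv : ∀ (i : ι) (P : PrimeSpectrum (B ⊗[k] A)),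
      PrimeSpectrum.comap (Algebra.TensorProduct.includeLeftRingHom : B →+* B ⊗[k] A) P ∈ F i →
      PrimeSpectrum.comap (GLin.coactAlgHom k A B).toRingHom P ∈ F i)
    (hempty : ⋂ i, F i = ∅) :
    Ideal.span {c : GLin.invariants k A B |
      ∃ i, (c : B) ∈ PrimeSpectrum.vanishingIdeal (F i)} = ⊤ := by
  obtain ⟨E, hEmem, hEfix, hEb⟩ := exists_reynolds k A B htame
  set S : Set (GLin.invariants k A B) :=
    {c : GLin.invariants k A B | ∃ i, (c : B) ∈ PrimeSpectrum.vanishingIdeal (F i)} with hS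
  let I : ι → Ideal B := fun i => RingHom.ker (quotCoact k A B (PrimeSpectrum.vanishingIdeal (F i)))
  have htop : (⨆ i, I i) = ⊤ := by
    rw [← PrimeSpectrum.zeroLocus_empty_iff_eq_top, PrimeSpectrum.zeroLocus_iSup]
    apply Set.eq_empty_of_subset_empty
    rw [← hempty]
    exact Set.iInter_mono fun i => zeroLocus_ker_quotCoact_subset k A B (F i) (hF i) (hinv i)
  have h1 : (1 : B) ∈ ⨆ i, I i := by rw [htop]; trivial
  have key : ∃ c ∈ Ideal.span S, ((c : GLin.invariants k A B) : B) = E 1 := by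
    refine Submodule.iSup_induction I (motive := fun x => ∃ c ∈ Ideal.span S,
      ((c : GLin.invariants k A B) : B) = E x) h1 ?_ ?_ ?_
    · intro i x hx
      refine ⟨⟨E x, hEmem x⟩, Ideal.subset_span ⟨i, ?_⟩, rfl⟩
      exact hEb _ x (coact_mem_range_of_mem_ker k A B _ x hx)
    · exact ⟨0, Ideal.zero_mem _, by simp⟩
    · rintro x y ⟨c₁, hc₁, e₁⟩ ⟨c₂, hc₂, e₂⟩
      exact ⟨c₁ + c₂, Ideal.add_mem _ hc₁ hc₂, by rw [map_add, ← e₁, ← e₂]; rfl⟩
  obtain ⟨c, hc, hc1⟩ := key
  rw [hEfix 1 (one_mem _)] at hc1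
  have : c = 1 := Subtype.ext hc1
  rw [Ideal.eq_top_iff_one, ← this]
  exact hc

end Groth.Agent.Helper19.HopfQuot
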