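import Mathlib
import Groth.Agent.Lib.Helper19.HopfQuot
import Groth.Agent.Lib.Helper19.HopfLoc
import Groth.Agent.Lib.Helper19.EpiSTD
import Groth.Agent.S12922

/-!
# `Spec B → Spec B^A` is a categorical quotient (scheme-level part) (helper19)
-/

set_option autoImplicit false

universe u

open CategoryTheory AlgebraicGeometry TensorProduct HopfRep Limits

namespace Groth.Agent.Helper19.HopfQuotSch

open Groth.Agent.Helper19.HopfQuot Groth.Agent.Helper19.HopfLoc Groth.Agent.Helper19.EpiSTD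

variable (k : Type u) [CommRing k] (A : Type u) [CommRing A] [HopfAlgebra k A] [Module.Flat k A]
  (B : Type u) [CommRing B] [Algebra k B] [HopfRep.Comod k A B] [GLin.IsCoactAlg k A B]

/-- the quotient map `Spec B → Spec B^A`. -/
noncomputable abbrev quotMap : Spec (CommRingCat.of B) ⟶ Spec (CommRingCat.of (GLin.invariants k A B)) :=
  Spec.map (CommRingCat.ofHom (algebraMap (GLin.invariants k A B) B))

theorem surjective_quotMap (htame : ∃ α : A →ₗ[k] B, Hoch.IsComodHom A α ∧ α 1 = 1) :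
    Surjective (quotMap k A B) :=
  ⟨fun q => by
    obtain ⟨p, hp⟩ := Groth.Agent.S12922.result k A B htame q
    exact ⟨p, hp⟩⟩

theorem std_quotMap : IsSchemeTheoreticallyDominant (quotMap k A B) :=
  std_SpecMap _ Subtype.val_injective

theorem exists_factor {R S T : Type u} [CommRing R] [CommRing S] [CommRing T] (j : S →+* T)
    (hj : Function.Injective j) (φ : R →+* T) (h : ∀ r, φ r ∈ Set.range j) :
    ∃ φ' : R →+* S, j.comp φ' = φ := by
  choose g hg using h
  refine ⟨{ toFun := g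
            map_one' := hj (by rw [hg, map_one, map_one])
            map_mul' := fun x y => hj (by rw [hg, map_mul, map_mul, hg, hg])
            map_zero' := hj (by rw [hg, map_zero, map_zero])
            map_add' := fun x y => hj (by rw [hg, map_add, map_add, hg, hg]) }, ?_⟩
  ext r
  exact hg r

variable (c : GLin.invariants k A B)

/-- `Spec B_c → Spec B`. -/
noncomputable abbrev iB : Spec (CommRingCat.of (Localization.Away (c : B))) ⟶ Spec (CommRingCat.of B) :=
  Spec.map (CommRingCat.ofHom (algebraMap B (Localization.Away (c : B))))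

/-- `Spec C_c → Spec C`. -/
noncomputable abbrev iC : Spec (CommRingCat.of (Localization.Away c)) ⟶
    Spec (CommRingCat.of (GLin.invariants k A B)) :=
  Spec.map (CommRingCat.ofHom (algebraMap (GLin.invariants k A B) (Localization.Away c)))

/-- `Spec B_c → Spec C_c`. -/
noncomputable abbrev πc : Spec (CommRingCat.of (Localization.Away (c : B))) ⟶
    Spec (CommRingCat.of (Localization.Away c)) :=
  Spec.map (CommRingCat.ofHom (locInv k A B c))

theorem iB_quotMap : iB k A B c ≫ quotMap k A B = πc k A B c ≫ iC k A B c := by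
  rw [← Spec.map_comp, ← Spec.map_comp]
  congr 1
  ext z
  exact (locInv_algebraMap k A B c z).symm

theorem isPullback_loc : IsPullback (πc k A B c) (iB k A B c) (iC k A B c) (quotMap k A B) := by
  refine IsOpenImmersion.isPullback _ _ _ _ (iB_quotMap k A B c) ?_
  have h1 : (iC k A B c).opensRange = PrimeSpectrum.basicOpen c :=
    Scheme.Hom.opensRange_localizationAway (R := CommRingCat.of (GLin.invariants k A B)) c
  have h2 : (iB k A B c).opensRange = PrimeSpectrum.basicOpen (c : B) :=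
    Scheme.Hom.opensRange_localizationAway (R := CommRingCat.of B) (c : B)
  rw [h1, h2]
  ext p
  rfl

theorem coac_sq : Spec.map (CommRingCat.ofHom (locCoac k A B c)) ≫ iB k A B c =
    Spec.map (CommRingCat.ofHom (algebraMap (B ⊗[k] A) (Localization.Away (incl k A B (c : B))))) ≫
      Spec.map (CommRingCat.ofHom (coac k A B)) := by
  rw [← Spec.map_comp, ← Spec.map_comp]
  congr 1
  ext y
  exact locCoac_algebraMap k A B c y

theorem incl_sq : Spec.map (CommRingCat.ofHom (locIncl k A B c)) ≫ iB k A B c =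
    Spec.map (CommRingCat.ofHom (algebraMap (B ⊗[k] A) (Localization.Away (incl k A B (c : B))))) ≫
      Spec.map (CommRingCat.ofHom (incl k A B)) := by
  rw [← Spec.map_comp, ← Spec.map_comp]
  congr 1
  ext y
  exact locIncl_algebraMap k A B c y

theorem exists_local {Z : Scheme.{u}} (ψ : Spec (CommRingCat.of B) ⟶ Z)
    (hψ : Spec.map (CommRingCat.ofHom (coac k A B)) ≫ ψ =
      Spec.map (CommRingCat.ofHom (incl k A B)) ≫ ψ)
    (W : Z.Opens) (hW : IsAffineOpen W)
    (hc : ∀ p : PrimeSpectrum B, (c : B) ∉ p.asIdeal → ψ.base p ∈ W) :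
    ∃ χ : Spec (CommRingCat.of (Localization.Away c)) ⟶ Z,
      πc k A B c ≫ χ = iB k A B c ≫ ψ := by
  have hrange : Set.range (iB k A B c ≫ ψ).base ⊆ Set.range W.ι.base := by
    rintro _ ⟨p', rfl⟩
    rw [Scheme.Opens.range_ι]
    refine hc ((iB k A B c).base p') ?_
    intro hmem
    have hu : IsUnit (algebraMap B (Localization.Away (c : B)) (c : B)) :=
      IsLocalization.Away.algebraMap_isUnit (c : B)
    exact p'.2.ne_top (Ideal.eq_top_of_isUnit_mem _ hmem hu)
  let ψ' := IsOpenImmersion.lift W.ι (iB k A B c ≫ ψ) hrange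
  have hψ' : ψ' ≫ W.ι = iB k A B c ≫ ψ := IsOpenImmersion.lift_fac _ _ _
  haveI : IsAffine W.toScheme := hW
  let e := W.toScheme.isoSpec
  let φ : Γ(W.toScheme, ⊤) ⟶ CommRingCat.of (Localization.Away (c : B)) :=
    Spec.preimage (ψ' ≫ e.hom)
  have hφ : Spec.map φ = ψ' ≫ e.hom := Spec.map_preimage _
  have heq : Spec.map (CommRingCat.ofHom (locCoac k A B c)) ≫ ψ' =
      Spec.map (CommRingCat.ofHom (locIncl k A B c)) ≫ ψ' := by
    rw [← cancel_mono W.ι, Category.assoc, Category.assoc, hψ', ← Category.assoc,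
      ← Category.assoc, coac_sq, incl_sq, Category.assoc, Category.assoc, hψ]
  have heq2 : φ ≫ CommRingCat.ofHom (locCoac k A B c) =
      φ ≫ CommRingCat.ofHom (locIncl k A B c) := by
    apply Spec.map_injective
    rw [Spec.map_comp, Spec.map_comp, hφ, ← Category.assoc, ← Category.assoc, heq]
  have hmem : ∀ r, φ.hom r ∈ Set.range (locInv k A B c) := by
    intro r
    apply mem_range_locInv
    exact congrArg (fun f => f.hom r) heq2
  obtain ⟨φ', hφ'⟩ := exists_factor (locInv k A B c) (locInv_injective k A B c) φ.hom hmem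
  refine ⟨Spec.map (CommRingCat.ofHom φ') ≫ e.inv ≫ W.ι, ?_⟩
  have h3 : CommRingCat.ofHom φ' ≫ CommRingCat.ofHom (locInv k A B c) = φ := by
    ext r
    exact congrArg (fun f => f r) hφ'
  rw [← Category.assoc, ← Spec.map_comp, h3, hφ, Category.assoc, Iso.hom_inv_id_assoc, hψ']

theorem main (htame : ∃ α : A →ₗ[k] B, Hoch.IsComodHom A α ∧ α 1 = 1)
    {Z : Scheme.{u}} (ψ : Spec (CommRingCat.of B) ⟶ Z)
    (hψ : Spec.map (CommRingCat.ofHom (coac k A B)) ≫ ψ =
      Spec.map (CommRingCat.ofHom (incl k A B)) ≫ ψ) :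
    ∃! χ : Spec (CommRingCat.of (GLin.invariants k A B)) ⟶ Z, quotMap k A B ≫ χ = ψ := by
  haveI := surjective_quotMap k A B htame
  haveI := std_quotMap k A B
  haveI hepi : Epi (quotMap k A B) := epi_of_surjective_of_std _
  -- the invariant closed sets
  let F : Z.affineOpens → Set (PrimeSpectrum B) := fun W => ((ψ ⁻¹ᵁ W.1 : Set (Spec (CommRingCat.of B))))ᶜ
  have hF : ∀ W, IsClosed (F W) := fun W => (ψ ⁻¹ᵁ W.1).isOpen.isClosed_compl
  have hbase : ∀ P : PrimeSpectrum (B ⊗[k] A),
      ψ.base (PrimeSpectrum.comap (coac k A B) P) = ψ.base (PrimeSpectrum.comap (incl k A B) P) := by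
    intro P
    exact congrArg (fun g : Spec (CommRingCat.of (B ⊗[k] A)) ⟶ Z => g.base P) hψ
  have hinv : ∀ (W : Z.affineOpens) (P : PrimeSpectrum (B ⊗[k] A)),
      PrimeSpectrum.comap (Algebra.TensorProduct.includeLeftRingHom : B →+* B ⊗[k] A) P ∈ F W →
      PrimeSpectrum.comap (GLin.coactAlgHom k A B).toRingHom P ∈ F W := by
    intro W P hP hP'
    apply hP
    change ψ.base _ ∈ W.1
    rw [← hbase P]
    exact hP'
  have hempty : ⋂ W, F W = ∅ := by
    apply Set.eq_empty_of_forall_notMem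
    intro x hx
    rw [Set.mem_iInter] at hx
    obtain ⟨_, ⟨W, hW, rfl⟩, hxW, -⟩ :=
      Z.isBasis_affineOpens.exists_subset_of_mem_open (Set.mem_univ (ψ.base x)) isOpen_univ
    exact hx ⟨W, hW⟩ hxW
  have hs := span_invariants_eq_top k A B htame F hF hinv hempty
  let I := {c : GLin.invariants k A B // ∃ W : Z.affineOpens, (c : B) ∈ PrimeSpectrum.vanishingIdeal (F W)}
  let s : I → (CommRingCat.of (GLin.invariants k A B)) := fun i => i.1
  have hs' : Ideal.span (Set.range s) = ⊤ := by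
    rw [← hs]
    congr 1
    exact Subtype.range_val
  let 𝒰 := (Scheme.affineOpenCoverOfSpanRangeEqTop s hs').openCover
  have hloc : ∀ i : I, ∃ χ : Spec (CommRingCat.of (Localization.Away i.1)) ⟶ Z,
      πc k A B i.1 ≫ χ = iB k A B i.1 ≫ ψ := by
    rintro ⟨c, W, hcW⟩
    refine exists_local k A B c ψ hψ W.1 W.2 ?_
    intro p hp
    by_contra hpW
    exact hp ((PrimeSpectrum.mem_vanishingIdeal _ _).1 hcW p hpW)
  choose χ hχ using hloc
  have compat : ∀ i j : I, pullback.fst (𝒰.f i) (𝒰.f j) ≫ χ i =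
      pullback.snd (𝒰.f i) (𝒰.f j) ≫ χ j := by
    intro (i : I) (j : I)
    let g : pullback (𝒰.f i) (𝒰.f j) ⟶ Spec (CommRingCat.of (GLin.invariants k A B)) :=
      pullback.fst (𝒰.f i) (𝒰.f j) ≫ 𝒰.f i
    haveI : Flat g := inferInstance
    let e := pullback.snd (quotMap k A B) g
    haveI : Surjective e := MorphismProperty.pullback_snd (P := @Surjective) _ _ inferInstance
    haveI : IsSchemeTheoreticallyDominant e := inferInstance
    haveI : QuasiCompact e := inferInstance
    haveI : Epi e := epi_of_surjective_of_std e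
    rw [← cancel_epi e]
    let h := pullback.fst (quotMap k A B) g
    have hcond : h ≫ quotMap k A B = e ≫ g := pullback.condition
    have hfi : 𝒰.f i = iC k A B i.1 := rfl
    have hfj : 𝒰.f j = iC k A B j.1 := rfl
    have wi : (e ≫ pullback.fst (𝒰.f i) (𝒰.f j)) ≫ iC k A B i.1 = h ≫ quotMap k A B := by
      rw [Category.assoc, ← hfi]; exact hcond.symm
    have wj : (e ≫ pullback.snd (𝒰.f i) (𝒰.f j)) ≫ iC k A B j.1 = h ≫ quotMap k A B := by
      rw [Category.assoc, ← hfj, ← pullback.condition]; exact hcond.symm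
    let li := (isPullback_loc k A B i.1).lift _ _ wi
    let lj := (isPullback_loc k A B j.1).lift _ _ wj
    have hi1 : li ≫ πc k A B i.1 = e ≫ pullback.fst (𝒰.f i) (𝒰.f j) := IsPullback.lift_fst _ _ _ _
    have hi2 : li ≫ iB k A B i.1 = h := IsPullback.lift_snd _ _ _ _
    have hj1 : lj ≫ πc k A B j.1 = e ≫ pullback.snd (𝒰.f i) (𝒰.f j) := IsPullback.lift_fst _ _ _ _
    have hj2 : lj ≫ iB k A B j.1 = h := IsPullback.lift_snd _ _ _ _
    have Li : e ≫ pullback.fst (𝒰.f i) (𝒰.f j) ≫ χ i = h ≫ ψ :=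
      calc e ≫ pullback.fst (𝒰.f i) (𝒰.f j) ≫ χ i
          = (e ≫ pullback.fst (𝒰.f i) (𝒰.f j)) ≫ χ i := (Category.assoc _ _ _).symm
        _ = (li ≫ πc k A B i.1) ≫ χ i := congrArg (· ≫ χ i) hi1.symm
        _ = li ≫ (πc k A B i.1 ≫ χ i) := Category.assoc _ _ _
        _ = li ≫ (iB k A B i.1 ≫ ψ) := congrArg (li ≫ ·) (hχ i)
        _ = (li ≫ iB k A B i.1) ≫ ψ := (Category.assoc _ _ _).symm
        _ = h ≫ ψ := congrArg (· ≫ ψ) hi2
    have Lj : e ≫ pullback.snd (𝒰.f i) (𝒰.f j) ≫ χ j = h ≫ ψ :=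
      calc e ≫ pullback.snd (𝒰.f i) (𝒰.f j) ≫ χ j
          = (e ≫ pullback.snd (𝒰.f i) (𝒰.f j)) ≫ χ j := (Category.assoc _ _ _).symm
        _ = (lj ≫ πc k A B j.1) ≫ χ j := congrArg (· ≫ χ j) hj1.symm
        _ = lj ≫ (πc k A B j.1 ≫ χ j) := Category.assoc _ _ _
        _ = lj ≫ (iB k A B j.1 ≫ ψ) := congrArg (lj ≫ ·) (hχ j)
        _ = (lj ≫ iB k A B j.1) ≫ ψ := (Category.assoc _ _ _).symm
        _ = h ≫ ψ := congrArg (· ≫ ψ) hj2
    exact Li.trans Lj.symm
  have hfac : quotMap k A B ≫ 𝒰.glueMorphisms χ compat = ψ := by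
    have hsB : Ideal.span (Set.range fun i : I => ((i.1 : GLin.invariants k A B) : B)) = ⊤ := by
      have := congrArg (Ideal.map (algebraMap (GLin.invariants k A B) B)) hs'
      rw [Ideal.map_top, Ideal.map_span] at this
      rw [← this]
      congr 1
      ext x
      simp [s]
    let 𝒱 := (Scheme.affineOpenCoverOfSpanRangeEqTop (R := CommRingCat.of B)
      (fun i : I => ((i.1 : GLin.invariants k A B) : B)) hsB).openCover
    apply 𝒱.hom_ext
    intro (i : I)
    have hgl : iC k A B i.1 ≫ 𝒰.glueMorphisms χ compat = χ i := 𝒰.ι_glueMorphisms χ compat i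
    change iB k A B i.1 ≫ quotMap k A B ≫ 𝒰.glueMorphisms χ compat = iB k A B i.1 ≫ ψ
    calc iB k A B i.1 ≫ quotMap k A B ≫ 𝒰.glueMorphisms χ compat
        = (iB k A B i.1 ≫ quotMap k A B) ≫ 𝒰.glueMorphisms χ compat := (Category.assoc _ _ _).symm
      _ = (πc k A B i.1 ≫ iC k A B i.1) ≫ 𝒰.glueMorphisms χ compat :=
          congrArg (· ≫ 𝒰.glueMorphisms χ compat) (iB_quotMap k A B i.1)
      _ = πc k A B i.1 ≫ (iC k A B i.1 ≫ 𝒰.glueMorphisms χ compat) := Category.assoc _ _ _
      _ = πc k A B i.1 ≫ χ i := congrArg (πc k A B i.1 ≫ ·) hgl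
      _ = iB k A B i.1 ≫ ψ := hχ i
  refine ⟨𝒰.glueMorphisms χ compat, hfac, ?_⟩
  intro χ' hχ'
  rw [← cancel_epi (quotMap k A B), hχ', hfac]

end Groth.Agent.Helper19.HopfQuotSch
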