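import Mathlib
import Groth.Agent.Lib.Helper19.ImmLib
import Groth.Agent.Lib.Helper15.AlgSpLocP

/-!
# Properties read on one chart square (helper19)
-/

set_option autoImplicit false
set_option backward.isDefEq.respectTransparency false

universe w₄ v₄ w₃ v₃ w' v' w v u

open CategoryTheory CategoryTheory.Limits Functor AlgebraicGeometry Opposite

namespace Groth.Agent.Helper19.LocQLib

open FibCat AlgSt Stk Groth.Agent.Helper19.FibLib Groth.Agent.Helper19.StLib Groth.Agent.Helper19.ImmLib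

variable {S : Scheme.{u}}

/-- a functor representable by schemes with `P'` has `LocP P` on a chart square, for `P' ≤ P`. -/
theorem locQ_of_repWith {P P' : MorphismProperty Scheme.{u}} [P'.IsStableUnderBaseChange]
    [P.IsStableUnderBaseChange] [P.IsStableUnderComposition]
    (hEt : (@Etale : MorphismProperty Scheme.{u}) ≤ P) (hP'P : P' ≤ P)
    {𝒳 𝒴 : AlgSt.Cat S} (h𝒴 : HasAtlas (AlgSp.LocP @Smooth) 𝒴) (f : 𝒳 ⥤ᵇ 𝒴)
    (hf : RepByAlgSpWith (AlgSp.RepWith P') f) : LocQ (AlgSp.LocP P) f := by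
  obtain ⟨V, y, hys, hysurj⟩ := h𝒴
  obtain ⟨T', τ, e', he', ⟨θ⟩, hτ⟩ := exists_scheme_of_repOver_repWith P' (fpFst y f) (hf V y)
  refine ⟨T', V, BasedFunctor.comp e' (fpSnd y f), y, τ, ?_, ?_, ?_, hys, ?_⟩
  · exact whiskerLeftIso e' (fpIso y f).symm ≪≫ whiskerRightIso θ y
  · exact (repByAlgSpWith_equiv_comp e' he' _).2 (repByAlgSpWith_fpSnd y f hys)
  · exact (repByAlgSpWith_equiv_comp e' he' _).2 (repByAlgSpWith_fpSnd y f hysurj)
  · exact Groth.Agent.Helper15.locP_of_repWith hEt _ ((AlgSp.repWith_yon_map_iff P τ).2 (hP'P _ hτ))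

end Groth.Agent.Helper19.LocQLib
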