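import Mathlib
import Groth.Agent.Lib.Helper19.LocQNoeth
import Groth.Agent.Lib.Helper19.LocQLib
import Groth.Agent.Lib.Helper19.QcPts2
import Groth.Agent.S12996
import Groth.Agent.S12955
import Groth.Agent.S12945

/-!
# Immersions into locally Noetherian algebraic stacks (helper19)
-/

set_option autoImplicit false
set_option backward.isDefEq.respectTransparency false

universe w₃ v₃ w' v' w v u

open CategoryTheory CategoryTheory.Limits Functor AlgebraicGeometry Opposite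

namespace Groth.Agent.Helper19.LocQGen

open FibCat AlgSt Stk Groth.Agent.Helper19.FibLib Groth.Agent.Helper19.StLib
  Groth.Agent.Helper19.AlgP Groth.Agent.Helper19.SpProps Groth.Agent.Helper19.ChartOver
  Groth.Agent.Helper19.ProdAlg Groth.Agent.Helper19.SpDict Groth.Agent.Helper19.PshSt
  Groth.Agent.Helper19.ImmLib Groth.Agent.Helper16.AS Groth.Agent.Helper19.DiagAlgSp
  Groth.Agent.Helper19.LocQCore Groth.Agent.Helper19.FlatST Groth.Agent.Helper19.StPts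

variable {S : Scheme.{u}} {𝒳 𝒴 : AlgSt.Cat S}

/-- an immersion into a locally Noetherian scheme is quasi-compact. -/
theorem quasiCompact_of_isImmersion_noetherian {Z X : Scheme.{u}} (f : Z ⟶ X) [IsImmersion f]
    [IsLocallyNoetherian X] : QuasiCompact f := by
  rw [← f.liftCoborder_ι]
  have h1 : QuasiCompact f.liftCoborder := inferInstance
  have h2 : QuasiCompact f.coborderRange.ι := inferInstance
  infer_instance

/-- an immersion into a locally Noetherian algebraic stack is quasi-compact. -/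
theorem isQuasiCompactMor_of_isImm_noetherian (h𝒳 : IsAlgStack Scheme.fppfPrecoverage 𝒳)
    (h𝒴 : IsAlgStack Scheme.fppfPrecoverage 𝒴) (j : 𝒳 ⥤ᵇ 𝒴) (hj : IsImm j)
    (hY : SmoothLocally (fun T => IsLocallyNoetherian T) 𝒴) :
    IsQuasiCompactMor Scheme.fppfPrecoverage j := by
  obtain ⟨V, y, hy, hys⟩ := h𝒴.atlas
  have hV : IsLocallyNoetherian V.left := hY V y hy
  have hy1 : LocQ (AlgSp.LocP @Flat) y :=
    locQ_of_repByAlgSpWith' smStable_flat h𝒴 y (repByAlgSpWith_flat_of_smooth y hy)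
  have hy2 : LocQ (AlgSp.LocP @LocallyOfFinitePresentation) y :=
    locQ_of_repByAlgSpWith' smStable_lfp h𝒴 y (repByAlgSpWith_lfp_of_smooth y hy)
  have hy3 : IsSurjective y := isSurjective_of_repByAlgSpWith h𝒴.isStack.1 y hys
  refine isQuasiCompactMor_of_fpFst_fppf h𝒳 h𝒴 (isAlgStack_overCat V) j y hy1 hy2 hy3 ?_
  obtain ⟨V', τ, e', he', ⟨η⟩, hτ⟩ := exists_scheme_of_repOver_repWith @IsImmersion (fpFst y j) (hj V y)
  have hτ' : IsImmersion τ.left := hτ
  have hqc : QuasiCompact τ.left := quasiCompact_of_isImmersion_noetherian τ.left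
  have hfp : IsAlgStack Scheme.fppfPrecoverage (fp y j) :=
    isAlgStack_fp h𝒴.isStack h𝒴.diag (isAlgStack_overCat V) h𝒳 y j
  refine Groth.Agent.Helper19.QcPts.isQuasiCompactMor_of_repByAlgSpWith hfp (isAlgStack_overCat V)
    (fpFst y j) ?_
  have h1 : RepByAlgSpWith AlgSp.IsQuasiCompactMor (overMap τ) :=
    (Pres.repByAlgSpWith_iff_map stableAlg_isQuasiCompactMor descAtlas_isQuasiCompactMor (Pres.ov V')
      (Pres.ov V) (AlgSp.IsAlgSpace.yon_obj V') (AlgSp.IsAlgSpace.yon_obj V) (overMap τ)).2 (by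
        rw [Pres.map_overMap]
        exact Groth.Agent.Helper15.isQuasiCompactMor_of_repWith _ ((AlgSp.repWith_yon_map_iff _ τ).2 hqc))
  have h2 : RepByAlgSpWith AlgSp.IsQuasiCompactMor (BasedFunctor.comp e' (fpFst y j)) :=
    repByAlgSpWith_of_iso η h1
  exact (repByAlgSpWith_equiv_comp e' he' _).1 h2

/-- S13017. -/
theorem noetherian_of_isImm (h𝒳 : IsAlgStack Scheme.fppfPrecoverage 𝒳)
    (h𝒴 : IsAlgStack Scheme.fppfPrecoverage 𝒴) (j : 𝒳 ⥤ᵇ 𝒴) (hj : IsImm j)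
    (hY : SmoothLocally (fun T => IsLocallyNoetherian T) 𝒴) :
    SmoothLocally (fun T => IsLocallyNoetherian T) 𝒳 ∧ IsQuasiCompactMor Scheme.fppfPrecoverage j :=
  ⟨smoothLocally_noetherian_of_lft h𝒳 h𝒴 j (Groth.Agent.S12996.result S 𝒳 𝒴 h𝒳 h𝒴 j hj) hY,
    isQuasiCompactMor_of_isImm_noetherian h𝒳 h𝒴 j hj hY⟩

theorem basedFunctor_ext' {C : Type*} [Category C] {𝒜 : BasedCategory.{v', w'} C}
    {ℬ : BasedCategory.{v₃, w₃} C} (F G : 𝒜 ⥤ᵇ ℬ) (h : F.toFunctor = G.toFunctor) : F = G := by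
  cases F; cases G
  simp only at h
  subst h
  rfl

theorem comp_toSelf {C : Type*} [Category C] {𝒜 : BasedCategory.{v', w'} C}
    {ℬ : BasedCategory.{v₃, w₃} C} (j : 𝒜 ⥤ᵇ ℬ) : BasedFunctor.comp j (toSelf ℬ) = toSelf 𝒜 :=
  basedFunctor_ext' _ _ j.w

/-- an immersion is quasi-separated. -/
theorem isQuasiSeparatedMor_of_isImm (h𝒳 : IsAlgStack Scheme.fppfPrecoverage 𝒳)
    (h𝒴 : IsAlgStack Scheme.fppfPrecoverage 𝒴) (j : 𝒳 ⥤ᵇ 𝒴) (hj : IsImm j) :
    IsQuasiSeparatedMor j := by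
  have hrep : RepByAlgSp1 j := Groth.Agent.Helper19.PshSt.RepByAlgSpWith.repByAlgSp1 hj
  rw [Groth.Agent.S12945.result S 𝒳 𝒴 h𝒳 h𝒴 j hrep]
  refine Groth.Agent.Helper19.CancelLib.repByAlgSpWith_mono (fun A T a ha => ?_) hj
  have : Mono a := Groth.Agent.Helper15.mono_of_repWith (P := @IsImmersion)
    (fun X Y f hf => by
      have : IsImmersion f := hf
      exact (inferInstance : Mono f)) a ha
  exact Groth.Agent.Helper15.isQuasiSeparatedMor_of_mono a

/-- S13018. -/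
theorem noetherian_stack_of_isImm (h𝒳 : IsAlgStack Scheme.fppfPrecoverage 𝒳)
    (h𝒴 : IsAlgStack Scheme.fppfPrecoverage 𝒴) (j : 𝒳 ⥤ᵇ 𝒴) (hj : IsImm j)
    (hqc : IsQuasiCompact 𝒴) (hqs : IsQuasiSeparatedOver 𝒴)
    (hY : SmoothLocally (fun T => IsLocallyNoetherian T) 𝒴) :
    IsQuasiCompact 𝒳 ∧ IsQuasiSeparatedOver 𝒳 ∧ SmoothLocally (fun T => IsLocallyNoetherian T) 𝒳 := by
  obtain ⟨h1, h2⟩ := noetherian_of_isImm h𝒳 h𝒴 j hj hY
  refine ⟨?_, ?_, h1⟩
  · have h3 : IsQuasiCompact (fp (BasedFunctor.id 𝒴) j) := h2 𝒴 h𝒴 hqc (BasedFunctor.id 𝒴)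
    exact Groth.Agent.Helper19.QcMor.isQuasiCompact_of_equiv (fpSnd (BasedFunctor.id 𝒴) j)
      (isEquivOver_fpSnd_id j) h3
  · have h4 := Groth.Agent.S12955.result S 𝒳 𝒴 (selfOver (Over S)) h𝒳 h𝒴
      (Groth.Agent.Helper19.QcPts.isAlgStack_selfOver S) j (toSelf 𝒴)
      (isQuasiSeparatedMor_of_isImm h𝒳 h𝒴 j hj) hqs
    rw [comp_toSelf] at h4
    exact h4

end Groth.Agent.Helper19.LocQGen
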