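import Mathlib
import Groth.Agent.Lib.Helper19.IsoNatLib
import Groth.Agent.Lib.Helper19.StPtsQc
import Groth.Agent.Lib.Helper19.StPts3
import Groth.Agent.Lib.Helper19.YonLib

/-!
# Quasi-compactness via the presheaf of isomorphism classes (helper19)
-/

set_option autoImplicit false
set_option backward.isDefEq.respectTransparency false

universe u

open CategoryTheory CategoryTheory.Limits AlgebraicGeometry

namespace Groth.Agent.Helper19.IsoNatLib

open FibCat AlgSt IsoNat Groth.Agent.Helper19.FibLib Groth.Agent.Helper19.StPts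
  Groth.Agent.Helper19.YonLib

variable {S : Scheme.{u}} {𝒳 𝒴 : AlgSt.Cat S}

/-- the field-valued point of an object of the fibre over the spectrum of a field. -/
noncomputable def fpt {K : Type u} [Field K] (str : Spec (CommRingCat.of K) ⟶ S) (x : 𝒳.p.Fiber (Over.mk str)) :
    FPt 𝒳 := { K := K, str := str, obj := x.1, lies := x.2 }

/-- morphisms transfer along an isomorphism of presheaves of isomorphism classes. -/
theorem transfer_hom (φ : FIso 𝒳 𝒴) {T' T : Over S} (g : T' ⟶ T) (x' : 𝒳.p.Fiber T')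
    (x : 𝒳.p.Fiber T) (a : x'.1 ⟶ x.1) (ha : 𝒳.p.IsHomLift g a) (y' : 𝒴.p.Fiber T')
    (y : 𝒴.p.Fiber T) (hy' : φ.toEquiv T' (cls x') = cls y') (hy : φ.toEquiv T (cls x) = cls y) :
    ∃ b : y'.1 ⟶ y.1, 𝒴.p.IsHomLift g b := by
  obtain ⟨y₁', y₁, b, hb, h1, h2⟩ := φ.natural g x' x a ha
  obtain ⟨e'⟩ := (cls_eq_iff _ _).1 (hy'.symm.trans h1)
  obtain ⟨e⟩ := (cls_eq_iff _ _).1 (h2.symm.trans hy)
  have he' : 𝒴.p.IsHomLift (𝟙 T') e'.hom.1 := e'.hom.2
  have he : 𝒴.p.IsHomLift (𝟙 T) e.hom.1 := e.hom.2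
  refine ⟨e'.hom.1 ≫ b ≫ e.hom.1, ?_⟩
  have h3 : 𝒴.p.IsHomLift (g ≫ 𝟙 T) (b ≫ e.hom.1) := inferInstance
  have h4 : 𝒴.p.IsHomLift (𝟙 T' ≫ g ≫ 𝟙 T) (e'.hom.1 ≫ b ≫ e.hom.1) := inferInstance
  simpa using h4

/-- the relation defining points transfers. -/
theorem rel_transfer (φ : FIso 𝒳 𝒴) {K L : Type u} [Field K] [Field L]
    (sK : Spec (CommRingCat.of K) ⟶ S) (sL : Spec (CommRingCat.of L) ⟶ S)
    (x : 𝒳.p.Fiber (Over.mk sK)) (x' : 𝒳.p.Fiber (Over.mk sL))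
    (y : 𝒴.p.Fiber (Over.mk sK)) (y' : 𝒴.p.Fiber (Over.mk sL))
    (hy : φ.toEquiv _ (cls x) = cls y) (hy' : φ.toEquiv _ (cls x') = cls y')
    (h : FPt.Rel (fpt sK x) (fpt sL x')) : FPt.Rel (fpt sK y) (fpt sL y') := by
  obtain ⟨r, α, β, -⟩ := h
  let rF : 𝒳.p.Fiber (Over.mk r.str) := ⟨r.obj, r.lies⟩
  obtain ⟨yr, hyr⟩ := exists_cls (φ.toEquiv _ (cls rF))
  have hα : 𝒳.p.IsHomLift (baseHom (p := r) (q := fpt sK x) α) α := inferInstance
  have hβ : 𝒳.p.IsHomLift (baseHom (p := r) (q := fpt sL x') β) β := inferInstance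
  obtain ⟨b₁, -⟩ := transfer_hom φ (baseHom (p := r) (q := fpt sK x) α) rF x α hα yr y hyr.symm hy
  obtain ⟨b₂, -⟩ := transfer_hom φ (baseHom (p := r) (q := fpt sL x') β) rF x' β hβ yr y' hyr.symm hy'
  exact ⟨fpt r.str yr, b₁, b₂, trivial⟩

/-- the object of a chart over a point of the scheme, as an object of the fibre. -/
noncomputable def chartFib {U : Over S} (x : overCat U ⥤ᵇ 𝒳) (t : ↥U.left) :
    𝒳.p.Fiber (Over.mk (U.left.fromSpecResidueField t ≫ U.hom)) :=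
  ⟨x.obj (Over.mk (Over.homMk (U.left.fromSpecResidueField t) rfl :
      Over.mk (U.left.fromSpecResidueField t ≫ U.hom) ⟶ U)), x.w_obj _⟩

theorem ofChart_eq_mk_fpt {U : Over S} (x : overCat U ⥤ᵇ 𝒳) (t : ↥U.left) :
    Points.ofChart x t = Points.mk (fpt _ (chartFib x t)) := rfl

/-- charts whose classes correspond have corresponding classes at every point. -/
theorem chartFib_corr (h𝒴 : IsFibGrpd 𝒴.p) (φ : FIso 𝒳 𝒴) {U : Over S} (x : overCat U ⥤ᵇ 𝒳)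
    (y : overCat U ⥤ᵇ 𝒴) (hxy : φ.toEquiv U (objCls x) = objCls y) (t : ↥U.left) :
    φ.toEquiv _ (cls (chartFib x t)) = cls (chartFib y t) := by
  let T : Over S := Over.mk (U.left.fromSpecResidueField t ≫ U.hom)
  let g : T ⟶ U := Over.homMk (U.left.fromSpecResidueField t) rfl
  let m : (Over.mk g : Over U) ⟶ Over.mk (𝟙 U) := Over.homMk g (by simp)
  let xU : 𝒳.p.Fiber U := ⟨x.obj (Over.mk (𝟙 U)), x.w_obj (Over.mk (𝟙 U))⟩
  let yU : 𝒴.p.Fiber U := ⟨y.obj (Over.mk (𝟙 U)), y.w_obj (Over.mk (𝟙 U))⟩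
  have hm : (overCat U).p.IsHomLift g m := IsHomLift.of_fac (overCat U).p g m rfl rfl (by simp [m]; rfl)
  have hxm : 𝒳.p.IsHomLift g (x.map m) := inferInstance
  have hym : 𝒴.p.IsHomLift g (y.map m) := inferInstance
  obtain ⟨y₁, hy₁⟩ := exists_cls (φ.toEquiv _ (cls (chartFib x t)))
  obtain ⟨b, hb⟩ := transfer_hom φ g (chartFib x t) xU (x.map m) hxm y₁ yU hy₁.symm hxy
  obtain ⟨χ, hχ, -, -⟩ := exists_iso_of_lifts h𝒴 g (y.map m) b
  rw [← hy₁]
  exact cls_eq_of_hom h𝒴 y₁ (chartFib y t) χ hχ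

/-- a chart corresponding to a chart surjective on points is surjective on points. -/
theorem surjective_ofChart_of_corr (h𝒳 : IsFibGrpd 𝒳.p) (h𝒴 : IsFibGrpd 𝒴.p) (φ : FIso 𝒳 𝒴)
    {U : Over S} (x : overCat U ⥤ᵇ 𝒳) (y : overCat U ⥤ᵇ 𝒴)
    (hxy : φ.toEquiv U (objCls x) = objCls y) (hx : Function.Surjective (Points.ofChart x)) :
    Function.Surjective (Points.ofChart y) := by
  intro w'
  obtain ⟨q', rfl⟩ := Points.mk_surjective w'
  let y' : 𝒴.p.Fiber (Over.mk q'.str) := ⟨q'.obj, q'.lies⟩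
  obtain ⟨x', hx'⟩ : ∃ x' : 𝒳.p.Fiber (Over.mk q'.str), φ.toEquiv _ (cls x') = cls y' := by
    obtain ⟨x', hx'⟩ := exists_cls ((φ.toEquiv _).symm (cls y'))
    exact ⟨x', by rw [hx']; simp⟩
  obtain ⟨t, ht⟩ := hx (Points.mk (fpt q'.str x'))
  rw [ofChart_eq_mk_fpt] at ht
  have hrel := (mk_eq_mk_iff h𝒳).1 ht
  have hrel' := rel_transfer φ _ _ (chartFib x t) x' (chartFib y t) y'
    (chartFib_corr h𝒴 φ x y hxy t) hx' hrel
  exact ⟨t, Points.sound hrel'⟩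

/-- S15472. -/
theorem isQuasiCompact_of_fIso (h𝒳 : IsAlgStack Scheme.fppfPrecoverage 𝒳)
    (h𝒴 : IsAlgStack Scheme.fppfPrecoverage 𝒴) (φ : FIso 𝒳 𝒴) (hqc : IsQuasiCompact 𝒳) :
    IsQuasiCompact 𝒴 := by
  obtain ⟨U, x, hU, hx₁, hx₂⟩ := hqc
  have hs := surjective_ofChart_of_surjective h𝒳.isStack.1 U x hx₂
  let xU : 𝒳.p.Fiber U := ⟨x.obj (Over.mk (𝟙 U)), x.w_obj (Over.mk (𝟙 U))⟩
  obtain ⟨y₀, hy₀⟩ := exists_cls (φ.toEquiv U (cls xU))
  obtain ⟨y, θ, hθ⟩ := exists_chart_of_obj h𝒴.isStack.1 y₀.1 y₀.2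
  have hxy : φ.toEquiv U (objCls x) = objCls y := by
    change φ.toEquiv U (cls xU) = _
    rw [← hy₀]
    symm
    exact cls_eq_of_hom h𝒴.isStack.1 _ y₀ θ.hom hθ
  have hsy := surjective_ofChart_of_corr h𝒳.isStack.1 h𝒴.isStack.1 φ x y hxy hs
  have hcont : Continuous (Points.ofChart y) := by
    have h1 : Points.ofChart y = Points.map y ∘ chartPt U := funext fun t => ofChart_eq y t
    rw [h1]
    exact (continuous_points_map h𝒴 y).comp (chartPt U).continuous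
  have hc : CompactSpace ↥U.left := inferInstance
  have : CompactSpace (Points 𝒴) := by
    constructor
    rw [← Set.range_eq_univ.2 hsy]
    exact isCompact_range hcont
  exact isQuasiCompact_of_compactSpace_points h𝒴

end Groth.Agent.Helper19.IsoNatLib
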