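import Mathlib
import Groth.Agent.Lib.Helper19.QcPts2
import Groth.Agent.Lib.Helper19.OpenSub2
import Groth.Agent.Lib.Helper19.SubSt
import Groth.Agent.Lib.Helper19.StPtsInj
import Groth.Agent.Lib.Helper19.StPtsUniv

/-!
# Quasi-compact morphisms of algebraic stacks are detected on quasi-compact open substacks (helper19)
-/

set_option autoImplicit false
set_option backward.isDefEq.respectTransparency false

universe u

open CategoryTheory CategoryTheory.Limits AlgebraicGeometry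

namespace Groth.Agent.Helper19.IsoNatQcMor

open FibCat AlgSt Groth.Agent.Helper19.FibLib Groth.Agent.Helper19.StPts
  Groth.Agent.Helper19.OpenSub Groth.Agent.Helper19.QcPts Groth.Agent.Helper19.SubSt
  Groth.Agent.Helper19.ProdAlg

variable {S : Scheme.{u}}

/-- a compact set of points of an algebraic stack lies in a compact open set of points. -/
theorem exists_isOpen_isCompact_superset {𝒴 : AlgSt.Cat S}
    (h𝒴 : IsAlgStack Scheme.fppfPrecoverage 𝒴) (C : Set (Points 𝒴)) (hC : IsCompact C) :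
    ∃ T : Set (Points 𝒴), IsOpen T ∧ IsCompact T ∧ C ⊆ T := by
  obtain ⟨V, y, hy₁, hy₂⟩ := h𝒴.atlas
  have hs := surjective_ofChart_of_surjective h𝒴.isStack.1 V y hy₂
  have ho := isOpenMap_ofChart_of_smooth h𝒴 V y hy₁
  have hc := continuous_ofChart h𝒴 y
  -- for each point of `V` an affine open neighbourhood
  have hex : ∀ v : ↥V.left, ∃ O : V.left.Opens, IsAffineOpen O ∧ v ∈ O := by
    intro v
    obtain ⟨_, ⟨O, hO, rfl⟩, hvO, -⟩ :=
      (V.left.isBasis_affineOpens).exists_subset_of_mem_open (Set.mem_univ v) isOpen_univ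
    exact ⟨O, hO, hvO⟩
  choose O hO hvO using hex
  have hcov : C ⊆ ⋃ v : ↥V.left, Points.ofChart y '' (O v : Set V.left) := by
    intro c _
    obtain ⟨v, rfl⟩ := hs c
    exact Set.mem_iUnion.2 ⟨v, v, hvO v, rfl⟩
  obtain ⟨F, hF⟩ := hC.elim_finite_subcover (fun v => Points.ofChart y '' (O v : Set V.left))
    (fun v => ho _ (O v).isOpen) hcov
  refine ⟨⋃ v ∈ F, Points.ofChart y '' (O v : Set V.left), ?_, ?_, hF⟩
  · exact isOpen_biUnion (fun v _ => ho _ (O v).isOpen)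
  · exact F.isCompact_biUnion (fun v _ => ((hO v).isCompact).image hc)

/-- the open substack on a compact open set of points is quasi-compact. -/
theorem isQuasiCompact_fullSub_ofSet {𝒴 : AlgSt.Cat S}
    (h𝒴 : IsAlgStack Scheme.fppfPrecoverage 𝒴) (T : Set (Points 𝒴)) (hT : IsOpen T)
    (hTc : IsCompact T) : IsQuasiCompact (fullSub 𝒴 (ofSet T)) := by
  have hA : IsAlgStack Scheme.fppfPrecoverage (fullSub 𝒴 (ofSet T)) :=
    isAlgStack_fullSub_ofSet h𝒴 T hT
  have hj : IsOpenImm (subIncl 𝒴 (ofSet T)) := isOpenImm_subIncl_ofSet h𝒴 T hT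
  have hinj : Function.Injective (Points.map (subIncl 𝒴 (ofSet T))) :=
    injective_map_of_full hA.isStack.1 h𝒴.isStack.1 _
  have hcont : Continuous (Points.map (subIncl 𝒴 (ofSet T))) := continuous_points_map h𝒴 _
  have hopen : IsOpenMap (Points.map (subIncl 𝒴 (ofSet T))) :=
    isOpenMap_map_of_isOpenImm hA h𝒴.isStack.1 _ hj
  have hemb : Topology.IsOpenEmbedding (Points.map (subIncl 𝒴 (ofSet T))) :=
    Topology.IsOpenEmbedding.of_continuous_injective_isOpenMap hcont hinj hopen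
  have : CompactSpace (Points (fullSub 𝒴 (ofSet T))) := by
    constructor
    rw [hemb.isInducing.isCompact_iff, Set.image_univ, range_ofSet]
    exact hTc
  exact isQuasiCompact_of_compactSpace_points hA

/-- a morphism to a quasi-separated algebraic stack is quasi-compact as soon as the preimages of the
quasi-compact open substacks are quasi-compact. -/
theorem isQuasiCompactMor_of_forall_isOpen_isCompact [QuasiSeparatedSpace S] {𝒳 𝒴 : AlgSt.Cat S}
    (h𝒳 : IsAlgStack Scheme.fppfPrecoverage 𝒳) (h𝒴 : IsAlgStack Scheme.fppfPrecoverage 𝒴)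
    (hqs : IsQuasiSeparatedOver 𝒴) (f : 𝒳 ⥤ᵇ 𝒴)
    (H : ∀ T : Set (Points 𝒴), IsOpen T → IsCompact T →
      IsQuasiCompact (fp (subIncl 𝒴 (ofSet T)) f)) :
    IsQuasiCompactMor Scheme.fppfPrecoverage f := by
  intro 𝒵 h𝒵 hqc g
  have hc : CompactSpace (Points 𝒵) := compactSpace_points_of_isQuasiCompact h𝒵 hqc
  have hC : IsCompact (Set.range (Points.map g)) := isCompact_range (continuous_points_map h𝒴 g)
  obtain ⟨T, hTo, hTc, hCT⟩ := exists_isOpen_isCompact_superset h𝒴 _ hC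
  have h𝒴'' : IsAlgStack Scheme.fppfPrecoverage (fullSub 𝒴 (ofSet T)) :=
    isAlgStack_fullSub_ofSet h𝒴 T hTo
  have h𝒲 : IsAlgStack Scheme.fppfPrecoverage (fp (subIncl 𝒴 (ofSet T)) f) :=
    isAlgStack_fp h𝒴.isStack h𝒴.diag h𝒴'' h𝒳 _ f
  have hW : IsQuasiCompact (fp (subIncl 𝒴 (ofSet T)) f) := H T hTo hTc
  have hqf : IsQuasiCompactMor Scheme.fppfPrecoverage
      (BasedFunctor.comp (fpSnd (subIncl 𝒴 (ofSet T)) f) f) :=
    isQuasiCompactMor_of_isQuasiCompact_of_isQuasiSeparatedOver h𝒲 h𝒴 _ hW hqs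
  have h1 : IsQuasiCompact (fp g (BasedFunctor.comp (fpSnd (subIncl 𝒴 (ofSet T)) f) f)) :=
    hqf 𝒵 h𝒵 hqc g
  have h2 : IsQuasiCompact (fp (fpSnd g f) (fpSnd (subIncl 𝒴 (ofSet T)) f)) :=
    QcMor.isQuasiCompact_of_equiv (pasteR g f _) (isEquivOver_pasteR g f _) h1
  have hA : IsAlgStack Scheme.fppfPrecoverage (fp g f) :=
    isAlgStack_fp h𝒴.isStack h𝒴.diag h𝒵 h𝒳 g f
  have hB : IsAlgStack Scheme.fppfPrecoverage
      (fp (fpSnd g f) (fpSnd (subIncl 𝒴 (ofSet T)) f)) :=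
    isAlgStack_fp h𝒳.isStack h𝒳.diag hA h𝒲 _ _
  refine isQuasiCompact_of_isSurjective hB hA (fpFst (fpSnd g f) (fpSnd (subIncl 𝒴 (ofSet T)) f))
    ?_ h2
  intro ξ
  have hx : Points.map f (Points.map (fpSnd g f) ξ) ∈ T := by
    rw [map_fpSnd_eq]
    exact hCT ⟨_, rfl⟩
  rw [← range_ofSet T] at hx
  obtain ⟨y'', hy''⟩ := hx
  obtain ⟨w, -, hw⟩ := exists_points_fp_of_map_eq h𝒳.isStack.1 h𝒴.isStack.1 h𝒴''.isStack.1 f
    (subIncl 𝒴 (ofSet T)) y'' (Points.map (fpSnd g f) ξ) hy''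
  obtain ⟨ζ, hζ, -⟩ := exists_points_fp_of_map_eq h𝒲.isStack.1 h𝒳.isStack.1 hA.isStack.1
    (fpSnd (subIncl 𝒴 (ofSet T)) f) (fpSnd g f) ξ w hw.symm
  exact ⟨ζ, hζ⟩

end Groth.Agent.Helper19.IsoNatQcMor
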