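import Mathlib
import Groth.Agent.Lib.Helper19.IsoNatQc
import Groth.Agent.Lib.Helper19.IsoNatQcMor

/-!
# An isomorphism of presheaves of isomorphism classes induces a homeomorphism on points (helper19)
-/

set_option autoImplicit false
set_option backward.isDefEq.respectTransparency false

universe u

open CategoryTheory CategoryTheory.Limits AlgebraicGeometry

namespace Groth.Agent.Helper19.IsoNatLib

open FibCat AlgSt IsoNat Groth.Agent.Helper19.FibLib Groth.Agent.Helper19.StPts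
  Groth.Agent.Helper19.YonLib

variable {S : Scheme.{u}} {𝒳 𝒴 𝒳' 𝒴' : AlgSt.Cat S}

/-- pulling back an object of a fibre along a morphism of the base. -/
theorem exists_lift_fiber (h𝒳 : IsFibGrpd 𝒳.p) {T' T : Over S} (g : T' ⟶ T) (x : 𝒳.p.Fiber T) :
    ∃ (x' : 𝒳.p.Fiber T') (a : x'.1 ⟶ x.1), 𝒳.p.IsHomLift g a := by
  obtain ⟨y, φ, hφ⟩ := h𝒳.exists_lift (g ≫ eqToHom x.2.symm)
  have h1 : 𝒳.p.IsHomLift g φ := (IsHomLift.lift_comp_eqToHom_iff 𝒳.p g φ x.2.symm).1 hφ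
  exact ⟨⟨y, IsHomLift.domain_eq 𝒳.p g φ⟩, φ, h1⟩

/-- the inverse of an isomorphism of presheaves of isomorphism classes. -/
noncomputable def symmFIso (h𝒳 : IsFibGrpd 𝒳.p) (h𝒴 : IsFibGrpd 𝒴.p) (φ : FIso 𝒳 𝒴) : FIso 𝒴 𝒳 where
  toEquiv T := (φ.toEquiv T).symm
  natural := by
    intro T' T g y' y b hb
    obtain ⟨x, hx⟩ := exists_cls ((φ.toEquiv T).symm (cls y))
    obtain ⟨x', a, ha⟩ := exists_lift_fiber h𝒳 g x
    obtain ⟨y₁', y₁, b₁, hb₁, h1, h2⟩ := φ.natural g x' x a ha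
    have h3 : cls y₁ = cls y := by rw [← h2, hx]; simp
    obtain ⟨e⟩ := (cls_eq_iff _ _).1 h3
    have he : 𝒴.p.IsHomLift (𝟙 T) e.hom.1 := e.hom.2
    have h4 : 𝒴.p.IsHomLift g (b₁ ≫ e.hom.1) := by
      have : 𝒴.p.IsHomLift (g ≫ 𝟙 T) (b₁ ≫ e.hom.1) := inferInstance
      simpa using this
    obtain ⟨χ, hχ, -, -⟩ := exists_iso_of_lifts h𝒴 g b (b₁ ≫ e.hom.1)
    have h5 : cls y₁' = cls y' := cls_eq_of_hom h𝒴 y₁' y' χ hχ
    refine ⟨x', x, a, ha, ?_, hx.symm⟩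
    rw [← h5, ← h1]
    simp

@[simp] theorem symmFIso_toEquiv (h𝒳 : IsFibGrpd 𝒳.p) (h𝒴 : IsFibGrpd 𝒴.p) (φ : FIso 𝒳 𝒴)
    (T : Over S) : (symmFIso h𝒳 h𝒴 φ).toEquiv T = (φ.toEquiv T).symm := rfl

/-- the object of the fibre under a field-valued point. -/
abbrev fibOf (q : FPt 𝒳) : 𝒳.p.Fiber (Over.mk q.str) := ⟨q.obj, q.lies⟩

/-- a chosen field-valued point in the corresponding class. -/
noncomputable def ptsFun (φ : FIso 𝒳 𝒴) (q : FPt 𝒳) : FPt 𝒴 :=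
  fpt q.str (Classical.choose (exists_cls (φ.toEquiv _ (cls (fibOf q)))))

theorem ptsFun_spec (φ : FIso 𝒳 𝒴) (q : FPt 𝒳) :
    φ.toEquiv _ (cls (fibOf q)) =
      cls (Classical.choose (exists_cls (φ.toEquiv _ (cls (fibOf q))))) :=
  (Classical.choose_spec (exists_cls (φ.toEquiv _ (cls (fibOf q))))).symm

/-- the map on points induced by an isomorphism of presheaves of isomorphism classes. -/
noncomputable def ptsMap (φ : FIso 𝒳 𝒴) : Points 𝒳 → Points 𝒴 :=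
  Quot.lift (fun q => Points.mk (ptsFun φ q)) (fun p q h => by
    refine Points.sound ?_
    exact rel_transfer φ p.str q.str (fibOf p) (fibOf q) _ _ (ptsFun_spec φ p) (ptsFun_spec φ q) h)

theorem ptsMap_mk_fpt (φ : FIso 𝒳 𝒴) {K : Type u} [Field K] (s : Spec (CommRingCat.of K) ⟶ S)
    (x : 𝒳.p.Fiber (Over.mk s)) (y : 𝒴.p.Fiber (Over.mk s)) (hxy : φ.toEquiv _ (cls x) = cls y) :
    ptsMap φ (Points.mk (fpt s x)) = Points.mk (fpt s y) := by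
  change Points.mk (ptsFun φ (fpt s x)) = _
  have h1 := ptsFun_spec φ (fpt s x)
  have h2 : cls (Classical.choose (exists_cls (φ.toEquiv _ (cls (fibOf (fpt s x)))))) = cls y := by
    rw [← h1]
    exact hxy
  obtain ⟨e⟩ := (cls_eq_iff _ _).1 h2
  exact Points.sound (rel_of_hom (p := ptsFun φ (fpt s x)) (q := fpt s y) e.hom.1)

theorem ptsMap_mk (φ : FIso 𝒳 𝒴) (q : FPt 𝒳) (y : 𝒴.p.Fiber (Over.mk q.str))
    (hxy : φ.toEquiv _ (cls (fibOf q)) = cls y) :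
    ptsMap φ (Points.mk q) = Points.mk (fpt q.str y) :=
  ptsMap_mk_fpt φ q.str (fibOf q) y hxy

theorem ptsMap_ofChart (h𝒴 : IsFibGrpd 𝒴.p) (φ : FIso 𝒳 𝒴) {U : Over S} (x : overCat U ⥤ᵇ 𝒳)
    (y : overCat U ⥤ᵇ 𝒴) (hxy : φ.toEquiv U (objCls x) = objCls y) (t : ↥U.left) :
    ptsMap φ (Points.ofChart x t) = Points.ofChart y t := by
  rw [ofChart_eq_mk_fpt, ofChart_eq_mk_fpt]
  exact ptsMap_mk_fpt φ _ _ _ (chartFib_corr h𝒴 φ x y hxy t)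

/-- every chart has a corresponding chart. -/
theorem exists_chart_corr (h𝒴 : IsFibGrpd 𝒴.p) (φ : FIso 𝒳 𝒴) {U : Over S} (x : overCat U ⥤ᵇ 𝒳) :
    ∃ y : overCat U ⥤ᵇ 𝒴, φ.toEquiv U (objCls x) = objCls y := by
  let xU : 𝒳.p.Fiber U := ⟨x.obj (Over.mk (𝟙 U)), x.w_obj (Over.mk (𝟙 U))⟩
  obtain ⟨y₀, hy₀⟩ := exists_cls (φ.toEquiv U (cls xU))
  obtain ⟨y, θ, hθ⟩ := exists_chart_of_obj h𝒴 y₀.1 y₀.2
  refine ⟨y, ?_⟩
  change φ.toEquiv U (cls xU) = _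
  rw [← hy₀]
  symm
  exact cls_eq_of_hom h𝒴 _ y₀ θ.hom hθ

theorem continuous_ptsMap (h𝒴 : IsAlgStack Scheme.fppfPrecoverage 𝒴) (φ : FIso 𝒳 𝒴) :
    Continuous (ptsMap φ) := by
  rw [continuous_def]
  intro V hV
  rw [Points.isOpen_iff]
  intro U x _
  obtain ⟨y, hxy⟩ := exists_chart_corr h𝒴.isStack.1 φ x
  have : Points.ofChart x ⁻¹' (ptsMap φ ⁻¹' V) = Points.ofChart y ⁻¹' V := by
    ext t
    simp only [Set.mem_preimage]
    rw [ptsMap_ofChart h𝒴.isStack.1 φ x y hxy t]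
  rw [this]
  exact hV.preimage (continuous_ofChart h𝒴 y)

theorem ptsMap_symm_ptsMap (h𝒳 : IsFibGrpd 𝒳.p) (h𝒴 : IsFibGrpd 𝒴.p) (φ : FIso 𝒳 𝒴)
    (w : Points 𝒳) : ptsMap (symmFIso h𝒳 h𝒴 φ) (ptsMap φ w) = w := by
  obtain ⟨q, rfl⟩ := Points.mk_surjective w
  obtain ⟨y, hy⟩ := exists_cls (φ.toEquiv _ (cls (fibOf q)))
  rw [ptsMap_mk φ q y hy.symm]
  have := ptsMap_mk_fpt (symmFIso h𝒳 h𝒴 φ) q.str y (fibOf q) (by
    rw [symmFIso_toEquiv, hy]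
    simp)
  exact this

theorem ptsMap_ptsMap_symm (h𝒳 : IsFibGrpd 𝒳.p) (h𝒴 : IsFibGrpd 𝒴.p) (φ : FIso 𝒳 𝒴)
    (w : Points 𝒴) : ptsMap φ (ptsMap (symmFIso h𝒳 h𝒴 φ) w) = w := by
  obtain ⟨q, rfl⟩ := Points.mk_surjective w
  obtain ⟨x, hx⟩ := exists_cls ((symmFIso h𝒳 h𝒴 φ).toEquiv _ (cls (fibOf q)))
  rw [ptsMap_mk (symmFIso h𝒳 h𝒴 φ) q x hx.symm]
  have := ptsMap_mk_fpt φ q.str x (fibOf q) (by
    rw [hx, symmFIso_toEquiv]
    simp)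
  exact this

/-- the homeomorphism on points induced by an isomorphism of presheaves of isomorphism classes. -/
noncomputable def ptsHomeo (h𝒳 : IsAlgStack Scheme.fppfPrecoverage 𝒳)
    (h𝒴 : IsAlgStack Scheme.fppfPrecoverage 𝒴) (φ : FIso 𝒳 𝒴) : Points 𝒳 ≃ₜ Points 𝒴 where
  toFun := ptsMap φ
  invFun := ptsMap (symmFIso h𝒳.isStack.1 h𝒴.isStack.1 φ)
  left_inv := ptsMap_symm_ptsMap h𝒳.isStack.1 h𝒴.isStack.1 φ
  right_inv := ptsMap_ptsMap_symm h𝒳.isStack.1 h𝒴.isStack.1 φ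
  continuous_toFun := continuous_ptsMap h𝒴 φ
  continuous_invFun := continuous_ptsMap h𝒳 _

@[simp] theorem ptsHomeo_apply (h𝒳 : IsAlgStack Scheme.fppfPrecoverage 𝒳)
    (h𝒴 : IsAlgStack Scheme.fppfPrecoverage 𝒴) (φ : FIso 𝒳 𝒴) (w : Points 𝒳) :
    ptsHomeo h𝒳 h𝒴 φ w = ptsMap φ w := rfl

/-- the maps on points of corresponding functors correspond. -/
theorem ptsMap_map (f : 𝒳 ⥤ᵇ 𝒴) (f' : 𝒳' ⥤ᵇ 𝒴') (φ : FIsoSq f f') (w : Points 𝒳) :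
    ptsMap φ.tgt (Points.map f w) = Points.map f' (ptsMap φ.src w) := by
  obtain ⟨q, rfl⟩ := Points.mk_surjective w
  obtain ⟨x', hx'⟩ := exists_cls (φ.src.toEquiv _ (cls (fibOf q)))
  rw [ptsMap_mk φ.src q x' hx'.symm, Points.map_mk, Points.map_mk]
  have h1 : φ.tgt.toEquiv _ (cls (fibOf (q.map f))) = cls ((fibFun f' _).obj x') := by
    have := φ.comm _ (cls (fibOf q))
    rw [← hx', mapCls_cls, mapCls_cls] at this
    exact this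
  exact ptsMap_mk φ.tgt (q.map f) _ h1

end Groth.Agent.Helper19.IsoNatLib
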