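import Mathlib
import Groth.Agent.Lib.Helper19.IsoNatQc
import Groth.Agent.Lib.Helper19.OpenSub

/-!
# Open subfunctors of the presheaf of isomorphism classes give open substacks (helper19)
-/

set_option autoImplicit false
set_option backward.isDefEq.respectTransparency false

universe u

open CategoryTheory CategoryTheory.Limits AlgebraicGeometry

namespace Groth.Agent.Helper19.IsoNatLib

open FibCat AlgSt IsoNat Groth.Agent.Helper19.FibLib Groth.Agent.Helper19.StPts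
  Groth.Agent.Helper19.YonLib Groth.Agent.Helper19.OpenSub

variable {S : Scheme.{u}} {𝒴 : AlgSt.Cat S}

/-- a morphism from the spectrum of a residue field factors through an open iff the point lies in it. -/
theorem exists_fac_fromSpecResidueField_iff {X : Scheme.{u}} (V : X.Opens) (t : ↥X) :
    (∃ g' : Spec (X.residueField t) ⟶ ↑V, g' ≫ V.ι = X.fromSpecResidueField t) ↔ t ∈ V := by
  constructor
  · rintro ⟨g', hg'⟩
    have h1 : t ∈ Set.range (X.fromSpecResidueField t) := by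
      rw [Scheme.range_fromSpecResidueField]
      exact Set.mem_singleton t
    obtain ⟨z, hz⟩ := h1
    rw [← hz, ← hg']
    exact (g' z).2
  · intro ht
    refine ⟨IsOpenImmersion.lift V.ι (X.fromSpecResidueField t) ?_, IsOpenImmersion.lift_fac _ _ _⟩
    rw [Scheme.range_fromSpecResidueField, Scheme.Opens.range_ι]
    exact Set.singleton_subset_iff.2 ht

/-- the identity factors through an open containing every point. -/
theorem exists_fac_id_of_forall_mem {X : Scheme.{u}} (V : X.Opens) (h : ∀ t : ↥X, t ∈ V) :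
    ∃ g' : X ⟶ ↑V, g' ≫ V.ι = 𝟙 X := by
  refine ⟨IsOpenImmersion.lift V.ι (𝟙 X) ?_, IsOpenImmersion.lift_fac _ _ _⟩
  rw [Scheme.Opens.range_ι]
  rintro _ ⟨z, rfl⟩
  exact h _

section

variable (W : ∀ T : Over S, Set (IsoCl 𝒴 T))
  (hWpull : ∀ (T' T : Over S) (g : T' ⟶ T) (x' : 𝒴.p.Fiber T') (x : 𝒴.p.Fiber T) (a : x'.1 ⟶ x.1),
      𝒴.p.IsHomLift g a → cls x ∈ W T → cls x' ∈ W T')
  (hWopen : ∀ (T : Over S) (x : 𝒴.p.Fiber T), ∃ V : T.left.Opens,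
      ∀ (T' : Over S) (g : T' ⟶ T) (x' : 𝒴.p.Fiber T') (a : x'.1 ⟶ x.1), 𝒴.p.IsHomLift g a →
        (cls x' ∈ W T' ↔ ∃ g' : T'.left ⟶ ↑V, g' ≫ V.ι = g.left))

/-- membership of a field-valued point in the subfunctor. -/
def memW (q : FPt 𝒴) : Prop := cls (⟨q.obj, q.lies⟩ : 𝒴.p.Fiber (pt q)) ∈ W (pt q)

include hWpull hWopen in
theorem memW_iff_of_hom {r q : FPt 𝒴} (α : r.obj ⟶ q.obj) : memW W r ↔ memW W q := by
  have hα : 𝒴.p.IsHomLift (baseHom α) α := inferInstance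
  constructor
  · intro hr
    obtain ⟨V, hV⟩ := hWopen (pt q) ⟨q.obj, q.lies⟩
    obtain ⟨g', hg'⟩ := (hV (pt r) (baseHom α) ⟨r.obj, r.lies⟩ α hα).1 hr
    have hsub : Subsingleton ↥(pt q).left := inferInstanceAs (Subsingleton (PrimeSpectrum q.K))
    have hne : Nonempty ↥(pt r).left := inferInstanceAs (Nonempty (PrimeSpectrum r.K))
    obtain ⟨z⟩ := hne
    have hz : (baseHom α).left z ∈ V := by
      rw [← hg']
      exact (g' z).2
    obtain ⟨g'', hg''⟩ := exists_fac_id_of_forall_mem V (fun t => by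
      rw [Subsingleton.elim t ((baseHom α).left z)]
      exact hz)
    have hid : 𝒴.p.IsHomLift (𝟙 (pt q)) (𝟙 q.obj) := IsHomLift.id q.lies
    exact (hV (pt q) (𝟙 _) ⟨q.obj, q.lies⟩ (𝟙 q.obj) hid).2 ⟨g'', hg''⟩
  · intro hq
    exact hWpull (pt r) (pt q) (baseHom α) ⟨r.obj, r.lies⟩ ⟨q.obj, q.lies⟩ α hα hq

include hWpull hWopen in
theorem memW_iff_of_rel {p q : FPt 𝒴} (h : FPt.Rel p q) : memW W p ↔ memW W q := by
  obtain ⟨r, α, β, -⟩ := h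
  rw [← memW_iff_of_hom W hWpull hWopen α, memW_iff_of_hom W hWpull hWopen β]

/-- the set of points of the subfunctor. -/
def ptsW : Set (Points 𝒴) := {w | ∃ q : FPt 𝒴, Points.mk q = w ∧ memW W q}

include hWpull hWopen in
theorem mk_mem_ptsW_iff (h𝒴 : IsFibGrpd 𝒴.p) (q : FPt 𝒴) : Points.mk q ∈ ptsW W ↔ memW W q := by
  constructor
  · rintro ⟨q₀, hq₀, hm⟩
    exact (memW_iff_of_rel W hWpull hWopen ((mk_eq_mk_iff h𝒴).1 hq₀)).1 hm
  · intro h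
    exact ⟨q, rfl, h⟩

include hWpull hWopen in
/-- the points of a chart lying in the subfunctor form the open attached to the object of the chart. -/
theorem ofChart_mem_ptsW_iff (h𝒴 : IsFibGrpd 𝒴.p) {U : Over S} (ξ : 𝒴.p.Fiber U) (V : U.left.Opens)
    (hV : ∀ (T' : Over S) (g : T' ⟶ U) (x' : 𝒴.p.Fiber T') (a : x'.1 ⟶ ξ.1), 𝒴.p.IsHomLift g a →
        (cls x' ∈ W T' ↔ ∃ g' : T'.left ⟶ ↑V, g' ≫ V.ι = g.left))
    (y : overCat U ⥤ᵇ 𝒴) (θ : y.obj (Over.mk (𝟙 U)) ⟶ ξ.1) (hθ : 𝒴.p.IsHomLift (𝟙 U) θ) (t : ↥U.left) :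
    Points.ofChart y t ∈ ptsW W ↔ t ∈ V := by
  rw [ofChart_eq_mk_fpt, mk_mem_ptsW_iff W hWpull hWopen h𝒴]
  let T : Over S := Over.mk (U.left.fromSpecResidueField t ≫ U.hom)
  let g : T ⟶ U := Over.homMk (U.left.fromSpecResidueField t) rfl
  let m : (Over.mk g : Over U) ⟶ Over.mk (𝟙 U) := Over.homMk g (by simp)
  have hm : (overCat U).p.IsHomLift g m := IsHomLift.of_fac (overCat U).p g m rfl rfl (by simp [m]; rfl)
  have hym : 𝒴.p.IsHomLift g (y.map m) := inferInstance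
  have hcomp : 𝒴.p.IsHomLift g (y.map m ≫ θ) := by
    have : 𝒴.p.IsHomLift (g ≫ 𝟙 U) (y.map m ≫ θ) := inferInstance
    simpa using this
  have h1 := hV T g (chartFib y t) (y.map m ≫ θ) hcomp
  change cls (chartFib y t) ∈ W T ↔ _
  rw [h1]
  exact exists_fac_fromSpecResidueField_iff V t

include hWpull hWopen in
theorem isOpen_ptsW (h𝒴 : IsFibGrpd 𝒴.p) : IsOpen (ptsW W) := by
  rw [Points.isOpen_iff]
  intro U x _
  let ξ : 𝒴.p.Fiber U := ⟨x.obj (Over.mk (𝟙 U)), x.w_obj (Over.mk (𝟙 U))⟩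
  obtain ⟨V, hV⟩ := hWopen U ξ
  have hid : 𝒴.p.IsHomLift (𝟙 U) (𝟙 ξ.1) := IsHomLift.id ξ.2
  have : Points.ofChart x ⁻¹' ptsW W = (V : Set ↥U.left) := by
    ext t
    exact ofChart_mem_ptsW_iff W hWpull hWopen h𝒴 ξ V hV x (𝟙 _) hid t
  rw [this]
  exact V.2

include hWpull hWopen in
theorem pred_iff_ofSet (h𝒴 : IsFibGrpd 𝒴.p) (η : 𝒴.obj) :
    cls (⟨η, rfl⟩ : 𝒴.p.Fiber (𝒴.p.obj η)) ∈ W (𝒴.p.obj η) ↔ ofSet (ptsW W) η := by
  constructor
  · intro h q ⟨ψ⟩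
    rw [mk_mem_ptsW_iff W hWpull hWopen h𝒴]
    let g : pt q ⟶ 𝒴.p.obj η := eqToHom q.lies.symm ≫ 𝒴.p.map ψ
    have hψ : 𝒴.p.IsHomLift g ψ := IsHomLift.of_fac 𝒴.p g ψ q.lies rfl (by simp [g])
    exact hWpull (pt q) (𝒴.p.obj η) g ⟨q.obj, q.lies⟩ ⟨η, rfl⟩ ψ hψ h
  · intro h
    obtain ⟨V, hV⟩ := hWopen (𝒴.p.obj η) ⟨η, rfl⟩
    obtain ⟨y, θ, hθ⟩ := exists_chart_of_obj h𝒴 η rfl
    have h1 : ofSet (ptsW W) (y.obj (Over.mk (𝟙 (𝒴.p.obj η)))) := ofSet_of_hom θ.hom h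
    rw [ofSet_chart_iff h𝒴] at h1
    have hall : ∀ t : ↥(𝒴.p.obj η).left, t ∈ V := fun t =>
      (ofChart_mem_ptsW_iff W hWpull hWopen h𝒴 ⟨η, rfl⟩ V hV y θ.hom hθ t).1 (h1 t)
    obtain ⟨g'', hg''⟩ := exists_fac_id_of_forall_mem V hall
    have hid : 𝒴.p.IsHomLift (𝟙 (𝒴.p.obj η)) (𝟙 η) := IsHomLift.id rfl
    exact (hV (𝒴.p.obj η) (𝟙 _) ⟨η, rfl⟩ (𝟙 η) hid).2 ⟨g'', hg''⟩

include hWpull hWopen in
/-- S15492. -/
theorem isOpenSubstack_of_open_subfunctor (h𝒴 : IsAlgStack Scheme.fppfPrecoverage 𝒴) :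
    IsOpenSubstack 𝒴 (fun η => cls (⟨η, rfl⟩ : 𝒴.p.Fiber (𝒴.p.obj η)) ∈ W (𝒴.p.obj η))
      Scheme.fppfPrecoverage := by
  have h1 : (fun η => cls (⟨η, rfl⟩ : 𝒴.p.Fiber (𝒴.p.obj η)) ∈ W (𝒴.p.obj η)) = ofSet (ptsW W) := by
    funext η
    exact propext (pred_iff_ofSet W hWpull hWopen h𝒴.isStack.1 η)
  rw [h1]
  exact isOpenSubstack_ofSet h𝒴 _ (isOpen_ptsW W hWpull hWopen h𝒴.isStack.1)

end

end Groth.Agent.Helper19.IsoNatLib
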