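import Mathlib
import Groth.Agent.Lib.Helper19.IsoNatHomeo

/-!
# Quasi-compact morphisms of algebraic stacks and presheaves of isomorphism classes (helper19)
-/

set_option autoImplicit false
set_option backward.isDefEq.respectTransparency false

universe u

open CategoryTheory CategoryTheory.Limits AlgebraicGeometry

namespace Groth.Agent.Helper19.IsoNatQcMor

open FibCat AlgSt IsoNat Groth.Agent.Helper19.FibLib Groth.Agent.Helper19.StPts
  Groth.Agent.Helper19.OpenSub Groth.Agent.Helper19.QcPts Groth.Agent.Helper19.SubSt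
  Groth.Agent.Helper19.ProdAlg Groth.Agent.Helper19.IsoNatLib Groth.Agent.Helper19.StLib

variable {S : Scheme.{u}}

/-- the second projection of a 2-fibre product along a full functor is full. -/
theorem full_fpSnd {𝒳 𝒴 𝒮 : AlgSt.Cat S} (F : 𝒳 ⥤ᵇ 𝒮) (G : 𝒴 ⥤ᵇ 𝒮) [F.toFunctor.Full] :
    (fpSnd F G).toFunctor.Full := by
  constructor
  intro x y β
  obtain ⟨a, ha⟩ := F.toFunctor.map_surjective (x.obj.iso.hom ≫ G.map β ≫ y.obj.iso.inv)
  refine ⟨fpHomMk a β ?_, rfl⟩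
  change F.toFunctor.map a ≫ _ = _
  rw [ha]
  simp

/-- the points of the preimage of an open substack. -/
theorem range_map_fpSnd_subIncl {𝒳 𝒴 : AlgSt.Cat S} (h𝒳 : IsAlgStack Scheme.fppfPrecoverage 𝒳)
    (h𝒴 : IsAlgStack Scheme.fppfPrecoverage 𝒴) (f : 𝒳 ⥤ᵇ 𝒴) (T : Set (Points 𝒴)) (hT : IsOpen T) :
    Set.range (Points.map (fpSnd (subIncl 𝒴 (ofSet T)) f)) = Points.map f ⁻¹' T := by
  have hA : IsAlgStack Scheme.fppfPrecoverage (fullSub 𝒴 (ofSet T)) :=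
    isAlgStack_fullSub_ofSet h𝒴 T hT
  ext x
  constructor
  · rintro ⟨w, rfl⟩
    change Points.map f _ ∈ T
    rw [Groth.Agent.Helper19.StPts.map_fpSnd_eq]
    have : Points.map (subIncl 𝒴 (ofSet T)) (Points.map (fpFst (subIncl 𝒴 (ofSet T)) f) w) ∈
        Set.range (Points.map (subIncl 𝒴 (ofSet T))) := ⟨_, rfl⟩
    rwa [range_ofSet] at this
  · intro hx
    change Points.map f x ∈ T at hx
    rw [← range_ofSet T] at hx
    obtain ⟨y'', hy''⟩ := hx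
    obtain ⟨w, -, hw⟩ := exists_points_fp_of_map_eq h𝒳.isStack.1 h𝒴.isStack.1 hA.isStack.1 f
      (subIncl 𝒴 (ofSet T)) y'' x hy''
    exact ⟨w, hw⟩

/-- the preimage of an open substack is quasi-compact iff its set of points is compact. -/
theorem isQuasiCompact_fp_subIncl_iff {𝒳 𝒴 : AlgSt.Cat S} (h𝒳 : IsAlgStack Scheme.fppfPrecoverage 𝒳)
    (h𝒴 : IsAlgStack Scheme.fppfPrecoverage 𝒴) (f : 𝒳 ⥤ᵇ 𝒴) (T : Set (Points 𝒴)) (hT : IsOpen T) :
    IsQuasiCompact (fp (subIncl 𝒴 (ofSet T)) f) ↔ IsCompact (Points.map f ⁻¹' T) := by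
  have hA : IsAlgStack Scheme.fppfPrecoverage (fullSub 𝒴 (ofSet T)) :=
    isAlgStack_fullSub_ofSet h𝒴 T hT
  have hj : IsOpenImm (subIncl 𝒴 (ofSet T)) := isOpenImm_subIncl_ofSet h𝒴 T hT
  have hW : IsAlgStack Scheme.fppfPrecoverage (fp (subIncl 𝒴 (ofSet T)) f) :=
    isAlgStack_fp h𝒴.isStack h𝒴.diag hA h𝒳 _ f
  have hcont : Continuous (Points.map (fpSnd (subIncl 𝒴 (ofSet T)) f)) := continuous_points_map h𝒳 _
  constructor
  · intro hqc
    have : CompactSpace (Points (fp (subIncl 𝒴 (ofSet T)) f)) :=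
      compactSpace_points_of_isQuasiCompact hW hqc
    rw [← range_map_fpSnd_subIncl h𝒳 h𝒴 f T hT]
    exact isCompact_range hcont
  · intro hc
    have : (fpSnd (subIncl 𝒴 (ofSet T)) f).toFunctor.Full := full_fpSnd _ _
    have hinj : Function.Injective (Points.map (fpSnd (subIncl 𝒴 (ofSet T)) f)) :=
      injective_map_of_full hW.isStack.1 h𝒳.isStack.1 _
    have hoi : IsOpenImm (fpSnd (subIncl 𝒴 (ofSet T)) f) := repByAlgSpWith_fpSnd _ f hj
    have hopen : IsOpenMap (Points.map (fpSnd (subIncl 𝒴 (ofSet T)) f)) :=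
      isOpenMap_map_of_isOpenImm hW h𝒳.isStack.1 _ hoi
    have hemb : Topology.IsOpenEmbedding (Points.map (fpSnd (subIncl 𝒴 (ofSet T)) f)) :=
      Topology.IsOpenEmbedding.of_continuous_injective_isOpenMap hcont hinj hopen
    have : CompactSpace (Points (fp (subIncl 𝒴 (ofSet T)) f)) := by
      constructor
      rw [hemb.isInducing.isCompact_iff, Set.image_univ, range_map_fpSnd_subIncl h𝒳 h𝒴 f T hT]
      exact hc
    exact isQuasiCompact_of_compactSpace_points hW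

/-- S15480. -/
theorem isQuasiCompactMor_of_fIsoSq [QuasiSeparatedSpace S] {𝒳 𝒴 𝒳' 𝒴' : AlgSt.Cat S}
    (h𝒳 : IsAlgStack Scheme.fppfPrecoverage 𝒳) (h𝒴 : IsAlgStack Scheme.fppfPrecoverage 𝒴)
    (h𝒳' : IsAlgStack Scheme.fppfPrecoverage 𝒳') (h𝒴' : IsAlgStack Scheme.fppfPrecoverage 𝒴')
    (hqs' : IsQuasiSeparatedOver 𝒴') (f : 𝒳 ⥤ᵇ 𝒴) (f' : 𝒳' ⥤ᵇ 𝒴') (φ : FIsoSq f f')
    (hf : IsQuasiCompactMor Scheme.fppfPrecoverage f) :
    IsQuasiCompactMor Scheme.fppfPrecoverage f' := by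
  refine isQuasiCompactMor_of_forall_isOpen_isCompact h𝒳' h𝒴' hqs' f' (fun T' hT'o hT'c => ?_)
  rw [isQuasiCompact_fp_subIncl_iff h𝒳' h𝒴' f' T' hT'o]
  let eY := ptsHomeo h𝒴 h𝒴' φ.tgt
  let eX := ptsHomeo h𝒳 h𝒳' φ.src
  have hT₀o : IsOpen (eY ⁻¹' T') := hT'o.preimage eY.continuous
  have hT₀c : IsCompact (eY ⁻¹' T') := eY.isCompact_preimage.2 hT'c
  have h1 : IsQuasiCompact (fp (subIncl 𝒴 (ofSet (eY ⁻¹' T'))) f) :=
    hf _ (isAlgStack_fullSub_ofSet h𝒴 _ hT₀o) (isQuasiCompact_fullSub_ofSet h𝒴 _ hT₀o hT₀c) _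
  rw [isQuasiCompact_fp_subIncl_iff h𝒳 h𝒴 f _ hT₀o] at h1
  have h2 : Points.map f ⁻¹' (eY ⁻¹' T') = eX ⁻¹' (Points.map f' ⁻¹' T') := by
    ext w
    simp only [Set.mem_preimage]
    change ptsMap φ.tgt (Points.map f w) ∈ T' ↔ Points.map f' (ptsMap φ.src w) ∈ T'
    rw [ptsMap_map f f' φ w]
  rw [h2] at h1
  exact eX.isCompact_preimage.1 h1

end Groth.Agent.Helper19.IsoNatQcMor
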