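import Mathlib
import Groth.Prelude.Def_W4bk4goldsch45p2

/-!
# Jump indices of a sequence of vectors (helper19)

`FunFld.IsJump K c j` says `c j ∉ span (c '' Iio j)`.  The dimension of the span of the first `m`
vectors is the number of jumps below `m`.
-/

set_option autoImplicit false

namespace Groth.Agent.Helper19.Jumps

open FunFld Module

variable {K V : Type*} [Field K] [AddCommGroup V] [Module K V]

/-- span of the first `m` vectors. -/
def S (K : Type*) {V : Type*} [Field K] [AddCommGroup V] [Module K V] (c : ℕ → V) (m : ℕ) :
    Submodule K V := Submodule.span K (c '' Set.Iio m)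

theorem isJump_iff (c : ℕ → V) (j : ℕ) : IsJump K c j ↔ c j ∉ S K c j := Iff.rfl

theorem S_zero (c : ℕ → V) : S K c 0 = ⊥ := by
  unfold S
  have : Set.Iio (0 : ℕ) = ∅ := by ext; simp
  rw [this, Set.image_empty, Submodule.span_empty]

theorem S_succ (c : ℕ → V) (m : ℕ) : S K c (m + 1) = S K c m ⊔ Submodule.span K {c m} := by
  unfold S
  have : Set.Iio (m + 1) = insert m (Set.Iio m) := by
    ext j; simp only [Set.mem_Iio, Set.mem_insert_iff]; omega
  rw [this, Set.image_insert_eq, Submodule.span_insert, sup_comm]

theorem S_mono (c : ℕ → V) : Monotone (S K c) := by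
  intro a b hab
  exact Submodule.span_mono (Set.image_mono (Set.Iio_subset_Iio hab))

theorem mem_S (c : ℕ → V) {i m : ℕ} (h : i < m) : c i ∈ S K c m :=
  Submodule.subset_span ⟨i, h, rfl⟩

open Classical in
theorem finrank_S [FiniteDimensional K V] (c : ℕ → V) (m : ℕ) :
    finrank K (S K c m) = ((Finset.range m).filter (fun j => IsJump K c j)).card := by
  induction m with
  | zero =>
    rw [S_zero]
    simp
  | succ m ih =>
    rw [Finset.range_add_one, Finset.filter_insert]
    by_cases hj : IsJump K c m
    · rw [if_pos hj, Finset.card_insert_of_notMem (by simp), ← ih, S_succ]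
      have hcm : c m ∉ S K c m := hj
      have hne : c m ≠ 0 := by
        intro h0
        apply hcm
        rw [h0]
        exact Submodule.zero_mem _
      have hdis : S K c m ⊓ Submodule.span K {c m} = ⊥ := by
        rw [← disjoint_iff, Submodule.disjoint_span_singleton]
        intro h
        exact absurd h hcm
      have := Submodule.finrank_sup_add_finrank_inf_eq (S K c m) (Submodule.span K {c m})
      rw [hdis, finrank_bot, add_zero, finrank_span_singleton hne] at this
      exact this
    · rw [if_neg hj, ← ih, S_succ]
      have hcm : c m ∈ S K c m := by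
        by_contra h
        exact hj h
      rw [sup_eq_left.2 ((Submodule.span_singleton_le_iff_mem _ _).2 hcm)]


/-- the jump vectors below `m` already span. -/
theorem S_eq_span_jumps (c : ℕ → V) (m : ℕ) :
    S K c m = Submodule.span K (c '' {j | j < m ∧ IsJump K c j}) := by
  induction m with
  | zero =>
    rw [S_zero]
    have : {j : ℕ | j < 0 ∧ IsJump K c j} = ∅ := by ext; simp
    rw [this, Set.image_empty, Submodule.span_empty]
  | succ m ih =>
    rw [S_succ]
    by_cases hj : IsJump K c m
    · have : {j | j < m + 1 ∧ IsJump K c j} = insert m {j | j < m ∧ IsJump K c j} := by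
        ext j
        simp only [Set.mem_ofPred_eq, Set.mem_insert_iff]
        constructor
        · rintro ⟨h1, h2⟩
          by_cases h : j = m
          · left; exact h
          · right; exact ⟨by omega, h2⟩
        · rintro (rfl | ⟨h1, h2⟩)
          · exact ⟨by omega, hj⟩
          · exact ⟨by omega, h2⟩
      rw [this, Set.image_insert_eq, Submodule.span_insert, ← ih, sup_comm]
    · have hcm : c m ∈ S K c m := by
        by_contra h
        exact hj h
      rw [sup_eq_left.2 ((Submodule.span_singleton_le_iff_mem _ _).2 hcm), ih]
      congr 2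
      ext j
      simp only [Set.mem_ofPred_eq]
      constructor
      · rintro ⟨h1, h2⟩; exact ⟨by omega, h2⟩
      · rintro ⟨h1, h2⟩
        refine ⟨?_, h2⟩
        by_contra h
        have : j = m := by omega
        rw [this] at h2
        exact hj h2

theorem sup_span_singleton_smul_add (W : Submodule K V) {a : K} (ha : a ≠ 0) {v w : V} (hw : w ∈ W) :
    W ⊔ Submodule.span K {a • v + w} = W ⊔ Submodule.span K {v} := by
  apply le_antisymm
  · refine sup_le le_sup_left ?_
    rw [Submodule.span_singleton_le_iff_mem]
    refine Submodule.add_mem _ ?_ (Submodule.mem_sup_left hw)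
    exact Submodule.mem_sup_right (Submodule.smul_mem _ _ (Submodule.mem_span_singleton_self v))
  · refine sup_le le_sup_left ?_
    rw [Submodule.span_singleton_le_iff_mem]
    have h1 : a • v + w ∈ W ⊔ Submodule.span K {a • v + w} :=
      Submodule.mem_sup_right (Submodule.mem_span_singleton_self _)
    have h2 : a • v ∈ W ⊔ Submodule.span K {a • v + w} := by
      have h2' := Submodule.sub_mem _ h1 (Submodule.mem_sup_left (T := Submodule.span K {a • v + w}) hw)
      simpa using h2'
    have h3 := Submodule.smul_mem _ a⁻¹ h2
    rwa [smul_smul, inv_mul_cancel₀ ha, one_smul] at h3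

/-- A triangular change of the sequence with nonzero diagonal keeps the spans and the jumps. -/
theorem triangular_change (c c' : ℕ → V) (a : ℕ → K) (ha : ∀ j, a j ≠ 0)
    (h : ∀ j, c' j - a j • c j ∈ S K c j) :
    (∀ m, S K c' m = S K c m) ∧ ∀ j, IsJump K c' j ↔ IsJump K c j := by
  have hS : ∀ m, S K c' m = S K c m := by
    intro m
    induction m with
    | zero => rw [S_zero, S_zero]
    | succ m ih =>
      rw [S_succ, S_succ, ih]
      have : c' m = a m • c m + (c' m - a m • c m) := by abel
      rw [this]
      exact sup_span_singleton_smul_add _ (ha m) (h m)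
  refine ⟨hS, fun j => ?_⟩
  rw [isJump_iff, isJump_iff, hS j, not_iff_not]
  have h1 : c' j = a j • c j + (c' j - a j • c j) := by abel
  constructor
  · intro hc'
    have h2 : a j • c j ∈ S K c j := by
      have : a j • c j = c' j - (c' j - a j • c j) := by abel
      rw [this]
      exact Submodule.sub_mem _ hc' (h j)
    have h3 : c j = (a j)⁻¹ • (a j • c j) := by rw [smul_smul, inv_mul_cancel₀ (ha j), one_smul]
    rw [h3]
    exact Submodule.smul_mem _ _ h2
  · intro hc
    rw [h1]
    exact Submodule.add_mem _ (Submodule.smul_mem _ _ hc) (h j)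

/-- Determinant of a column-triangular change. -/
theorem det_of_cols_triangular {N : ℕ} (A B : Matrix (Fin N) (Fin N) K) (a : Fin N → K)
    (h : ∀ l, B.col l - a l • A.col l ∈ Submodule.span K (A.col '' Set.Iio l)) :
    B.det = (∏ l, a l) * A.det := by
  classical
  have hex : ∀ l, ∃ β : Fin N →₀ K, β ∈ Finsupp.supported K K (Set.Iio l) ∧
      Finsupp.linearCombination K A.col β = B.col l - a l • A.col l := fun l =>
    (Finsupp.mem_span_image_iff_linearCombination K).1 (h l)
  choose β hβs hβ using hex
  let T : Matrix (Fin N) (Fin N) K := fun t l => (if t = l then a l else 0) + β l t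
  have hβ0 : ∀ l t, ¬ t < l → β l t = 0 := by
    intro l t htl
    exact (Finsupp.mem_supported' _ (β l)).1 (hβs l) t (by simpa using htl)
  have hBAT : B = A * T := by
    ext i l
    rw [Matrix.mul_apply]
    have h1 := congrFun (hβ l) i
    rw [Finsupp.linearCombination_apply, Finsupp.sum_fintype _ _ (by simp)] at h1
    simp only [Finset.sum_apply, Pi.smul_apply, Pi.sub_apply, smul_eq_mul, Matrix.col_apply] at h1
    simp only [T, mul_add, Finset.sum_add_distrib, mul_ite, mul_zero, Finset.sum_ite_eq',
      Finset.mem_univ, if_true]
    have h2 : ∑ t, A i t * β l t = ∑ t, β l t * A i t := Finset.sum_congr rfl fun t _ => mul_comm _ _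
    rw [h2, h1]
    ring
  have hT : T.BlockTriangular id := by
    intro t l hlt
    simp only [id] at hlt
    simp only [T]
    rw [if_neg (ne_of_gt hlt), zero_add]
    exact hβ0 l t (by omega)
  rw [hBAT, Matrix.det_mul, Matrix.det_of_isUpperTriangular hT, mul_comm]
  congr 1
  refine Finset.prod_congr rfl fun l _ => ?_
  simp only [T, if_true]
  rw [hβ0 l l (lt_irrefl _), add_zero]

/-- the sequence of vectors agrees from index `a` on and the earlier spans are comparable. -/
theorem S_le_S_of_forall_mem (c c' : ℕ → V) (m : ℕ) (h : ∀ i < m, c i ∈ S K c' m) :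
    S K c m ≤ S K c' m := by
  unfold S
  rw [Submodule.span_le]
  rintro _ ⟨i, hi, rfl⟩
  exact h i hi

end Groth.Agent.Helper19.Jumps
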