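import Groth.Agent.Lib.Helper19.KumLib

/-! S13120: derivation kernel on the cuspidal chart. -/

set_option autoImplicit false
universe u

namespace Groth.Agent.Lib.Helper19.Kum20

open MvPolynomial Groth.Agent.Lib.Helper19.KumLib

variable {R : Type u} [CommRing R]

/-- Elements of `R[u²,u³,v²,v³]` decompose along `1, u³, v³, u³v³` over `R[u²,v²]`. -/
theorem exists_cusp_decomp {a : MvPolynomial (Fin 2) R}
    (ha : a ∈ Algebra.adjoin R
      ({X 0 ^ 2, X 0 ^ 3, X 1 ^ 2, X 1 ^ 3} : Set (MvPolynomial (Fin 2) R))) :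
    ∃ a₀ b c d : MvPolynomial (Fin 2) R,
      a = sqm a₀ + sqm b * X 0 ^ 3 + sqm c * X 1 ^ 3 + sqm d * (X 0 ^ 3 * X 1 ^ 3) := by
  induction ha using Algebra.adjoin_induction with
  | mem x hx =>
    simp only [Set.mem_insert_iff, Set.mem_singleton_iff] at hx
    rcases hx with rfl | rfl | rfl | rfl
    · exact ⟨X 0, 0, 0, 0, by simp [KumLib.sq_X]⟩
    · exact ⟨0, 1, 0, 0, by simp⟩
    · exact ⟨X 1, 0, 0, 0, by simp [KumLib.sq_X]⟩
    · exact ⟨0, 0, 1, 0, by simp⟩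
  | algebraMap r =>
    refine ⟨C r, 0, 0, 0, ?_⟩
    simp [sqm, MvPolynomial.algebraMap_eq]
  | add x y _ _ hx hy =>
    obtain ⟨a, b, c, d, rfl⟩ := hx
    obtain ⟨a', b', c', d', rfl⟩ := hy
    refine ⟨a + a', b + b', c + c', d + d', ?_⟩
    simp only [map_add]
    ring
  | mul x y _ _ hx hy =>
    obtain ⟨a, b, c, d, rfl⟩ := hx
    obtain ⟨a', b', c', d', rfl⟩ := hy
    refine ⟨a * a' + b * b' * X 0 ^ 3 + c * c' * X 1 ^ 3 + d * d' * (X 0 ^ 3 * X 1 ^ 3),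
      a * b' + b * a' + (c * d' + d * c') * X 1 ^ 3,
      a * c' + c * a' + (b * d' + d * b') * X 0 ^ 3,
      a * d' + d * a' + b * c' + c * b', ?_⟩
    simp only [map_add, map_mul, map_pow, KumLib.sq_X]
    ring

variable [CharP R 2]

theorem cuspDer (l0 l2 l4 s0 s2 s4 τ : R) (hτ : IsUnit τ) (a : MvPolynomial (Fin 2) R)
    (ha : a ∈ Algebra.adjoin R
      ({X 0 ^ 2, X 0 ^ 3, X 1 ^ 2, X 1 ^ 3} : Set (MvPolynomial (Fin 2) R))) :
    MvPolynomial.mkDerivation R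
        (![X 1 ^ 2 * (C l0 * X 0 ^ 4 + C τ * X 0 ^ 3 + C l2 * X 0 ^ 2 + C l4),
          X 0 ^ 2 * (C s0 * X 1 ^ 4 + C τ * X 1 ^ 3 + C s2 * X 1 ^ 2 + C s4)] :
          Fin 2 → MvPolynomial (Fin 2) R) a = 0 ↔
      a ∈ Algebra.adjoin R
        ({X 0 ^ 2, X 1 ^ 2,
          (C s0 * X 1 ^ 4 + C s2 * X 1 ^ 2 + C s4) * X 0 ^ 3 +
            (C l0 * X 0 ^ 4 + C l2 * X 0 ^ 2 + C l4) * X 1 ^ 3 +
            C τ * X 0 ^ 3 * X 1 ^ 3} : Set (MvPolynomial (Fin 2) R)) := by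
  obtain ⟨τ', hττ'⟩ := hτ.exists_right_inv
  have h2 : (2 : MvPolynomial (Fin 2) R) = 0 := CharTwo.two_eq_zero
  set D := MvPolynomial.mkDerivation R
        (![X 1 ^ 2 * (C l0 * X 0 ^ 4 + C τ * X 0 ^ 3 + C l2 * X 0 ^ 2 + C l4),
          X 0 ^ 2 * (C s0 * X 1 ^ 4 + C τ * X 1 ^ 3 + C s2 * X 1 ^ 2 + C s4)] :
          Fin 2 → MvPolynomial (Fin 2) R) with hD
  obtain ⟨L, hL⟩ : ∃ L : MvPolynomial (Fin 2) R, L = C l0 * X 0 ^ 2 + C l2 * X 0 + C l4 :=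
    ⟨_, rfl⟩
  obtain ⟨S, hS⟩ : ∃ S : MvPolynomial (Fin 2) R, S = C s0 * X 1 ^ 2 + C s2 * X 1 + C s4 :=
    ⟨_, rfl⟩
  have hsqC : ∀ r : R, sqm (C r : MvPolynomial (Fin 2) R) = C r := fun r => by simp [sqm]
  have hsL : sqm L = C l0 * X 0 ^ 4 + C l2 * X 0 ^ 2 + C l4 := by
    simp only [hL, map_add, map_mul, map_pow, KumLib.sq_X, hsqC]; ring
  have hsS : sqm S = C s0 * X 1 ^ 4 + C s2 * X 1 ^ 2 + C s4 := by
    simp only [hS, map_add, map_mul, map_pow, KumLib.sq_X, hsqC]; ring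
  have hα₁ : sqm (X 1 * L) = X 1 ^ 2 * (C l0 * X 0 ^ 4 + C l2 * X 0 ^ 2 + C l4) := by
    rw [map_mul, KumLib.sq_X, hsL]
  have hα₂ : sqm (X 0 * S) = X 0 ^ 2 * (C s0 * X 1 ^ 4 + C s2 * X 1 ^ 2 + C s4) := by
    rw [map_mul, KumLib.sq_X, hsS]
  have hst : sqm (C τ * X 0 * X 1 : MvPolynomial (Fin 2) R) = C τ * X 0 ^ 2 * X 1 ^ 2 := by
    simp only [map_mul, KumLib.sq_X, hsqC]
  have hD0 : D (X 0) = sqm (X 1 * L) + sqm (C τ * X 0 * X 1) * X 0 := by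
    rw [hD, mkDerivation_X, hα₁, hst]
    simp only [Matrix.cons_val_zero]
    ring
  have hD1 : D (X 1) = sqm (X 0 * S) + sqm (C τ * X 0 * X 1) * X 1 := by
    rw [hD, mkDerivation_X, hα₂, hst]
    simp only [Matrix.cons_val_one, Matrix.cons_val_zero]
    ring
  have hg : (C s0 * X 1 ^ 4 + C s2 * X 1 ^ 2 + C s4) * X 0 ^ 3 +
            (C l0 * X 0 ^ 4 + C l2 * X 0 ^ 2 + C l4) * X 1 ^ 3 +
            C τ * X 0 ^ 3 * X 1 ^ 3 =
      sqm (X 0 * S) * X 0 + sqm (X 1 * L) * X 1 +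
        sqm (C τ * X 0 * X 1 : MvPolynomial (Fin 2) R) * (X 0 * X 1) := by
    rw [hα₁, hα₂, hst]; ring
  have hCτ : (C τ : MvPolynomial (Fin 2) R) * C τ' = 1 := by
    rw [← C_mul, hττ', C_1]
  constructor
  · intro hp
    obtain ⟨a₀, b, c, d, rfl⟩ := exists_cusp_decomp ha
    have e : sqm a₀ + sqm b * X 0 ^ 3 + sqm c * X 1 ^ 3 + sqm d * (X 0 ^ 3 * X 1 ^ 3) =
        sqm a₀ + sqm (X 0 * b) * X 0 + sqm (X 1 * c) * X 1 +
          sqm (X 0 * X 1 * d) * (X 0 * X 1) := by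
      simp only [map_mul, KumLib.sq_X]; ring
    rw [e] at hp
    obtain ⟨e1, e2⟩ := eqs_of_derivation_eq_zero D (X 1 * L) (X 0 * S) (C τ * X 0 * X 1)
      hD0 hD1 a₀ (X 0 * b) (X 1 * c) (X 0 * X 1 * d) hp
    have e1' : C τ * b + d * S = 0 := by
      have h1 : X 0 * (X 0 * (X 1 * (C τ * b + d * S))) = X 0 * (X 0 * (X 1 * 0)) := by
        rw [mul_zero, mul_zero, mul_zero]; linear_combination e1
      exact X_mul_cancel_left_iff.mp (X_mul_cancel_left_iff.mp (X_mul_cancel_left_iff.mp h1))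
    have e2' : C τ * c + d * L = 0 := by
      have h1 : X 0 * (X 1 * (X 1 * (C τ * c + d * L))) = X 0 * (X 1 * (X 1 * 0)) := by
        rw [mul_zero, mul_zero, mul_zero]; linear_combination e2
      exact X_mul_cancel_left_iff.mp (X_mul_cancel_left_iff.mp (X_mul_cancel_left_iff.mp h1))
    have hb : b = C τ' * d * S := by
      have : b + C τ' * d * S = 0 := by linear_combination (C τ') * e1' - b * hCτ
      exact CharTwo.add_eq_zero.mp this
    have hc : c = C τ' * d * L := by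
      have : c + C τ' * d * L = 0 := by linear_combination (C τ') * e2' - c * hCτ
      exact CharTwo.add_eq_zero.mp this
    have hd : sqm d = sqm (C τ' * d) * C τ := by
      rw [← hsqC τ, ← map_mul]
      congr 1
      linear_combination (-d) * hCτ
    have hfin : sqm a₀ + sqm b * X 0 ^ 3 + sqm c * X 1 ^ 3 + sqm d * (X 0 ^ 3 * X 1 ^ 3) =
        sqm a₀ + sqm (C τ' * d) * ((C s0 * X 1 ^ 4 + C s2 * X 1 ^ 2 + C s4) * X 0 ^ 3 +
            (C l0 * X 0 ^ 4 + C l2 * X 0 ^ 2 + C l4) * X 1 ^ 3 +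
            C τ * X 0 ^ 3 * X 1 ^ 3) := by
      rw [hb, hc, ← hsL, ← hsS]
      simp only [map_mul] at hd ⊢
      linear_combination (X 0 ^ 3 * X 1 ^ 3) * hd
    rw [hfin]
    refine Subalgebra.add_mem _ (KumLib.sq_mem_adjoin _ (by simp) (by simp) _)
      (Subalgebra.mul_mem _ (KumLib.sq_mem_adjoin _ (by simp) (by simp) _)
        (Algebra.subset_adjoin (by simp)))
  · intro hp
    refine derivation_eq_zero_of_mem_adjoin D _ ?_ hp
    intro s hs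
    simp only [Set.mem_insert_iff, Set.mem_singleton_iff] at hs
    rcases hs with rfl | rfl | rfl
    · rw [← KumLib.sq_X]; exact derivation_sq D _
    · rw [← KumLib.sq_X]; exact derivation_sq D _
    · rw [hg]
      exact derivation_gen_eq_zero D (X 1 * L) (X 0 * S) (C τ * X 0 * X 1) hD0 hD1

end Groth.Agent.Lib.Helper19.Kum20
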