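import Groth.Agent.Lib.Helper19.KumLib

/-! S13121: kernel for the cuspidal chart. -/

set_option autoImplicit false
universe u

namespace Groth.Agent.Lib.Helper19.Kum21

open MvPolynomial Groth.Agent.Lib.Helper19.KumLib

variable {R : Type u} [CommRing R] [CharP R 2]

theorem cuspKer (l0 l2 l4 s0 s2 s4 τ : R) (hτ : IsUnit τ) :
    RingHom.ker (MvPolynomial.aeval (R := R) (S₁ := MvPolynomial (Fin 2) R)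
        ![X 0 ^ 2, X 1 ^ 2,
          (C s0 * X 1 ^ 4 + C s2 * X 1 ^ 2 + C s4) * X 0 ^ 3 +
            (C l0 * X 0 ^ 4 + C l2 * X 0 ^ 2 + C l4) * X 1 ^ 3 +
            C τ * X 0 ^ 3 * X 1 ^ 3]) =
      Ideal.span {(X 2 ^ 2 + C (s0 ^ 2) * X 0 ^ 3 * X 1 ^ 4 + C (s2 ^ 2) * X 0 ^ 3 * X 1 ^ 2 +
        C (s4 ^ 2) * X 0 ^ 3 + C (l0 ^ 2) * X 0 ^ 4 * X 1 ^ 3 + C (l2 ^ 2) * X 0 ^ 2 * X 1 ^ 3 +
        C (l4 ^ 2) * X 1 ^ 3 + C (τ ^ 2) * X 0 ^ 3 * X 1 ^ 3 : MvPolynomial (Fin 3) R)} := by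
  obtain ⟨τ', hττ'⟩ := hτ.exists_right_inv
  have h2 : (2 : MvPolynomial (Fin 2) R) = 0 := CharTwo.two_eq_zero
  set f : Fin 3 → MvPolynomial (Fin 2) R := ![X 0 ^ 2, X 1 ^ 2,
          (C s0 * X 1 ^ 4 + C s2 * X 1 ^ 2 + C s4) * X 0 ^ 3 +
            (C l0 * X 0 ^ 4 + C l2 * X 0 ^ 2 + C l4) * X 1 ^ 3 +
            C τ * X 0 ^ 3 * X 1 ^ 3] with hf
  obtain ⟨β₁, hβ₁⟩ : ∃ β₁ : MvPolynomial (Fin 2) R,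
    β₁ = (C s0 * X 1 ^ 2 + C s2 * X 1 + C s4) * X 0 := ⟨_, rfl⟩
  obtain ⟨β₂, hβ₂⟩ : ∃ β₂ : MvPolynomial (Fin 2) R,
    β₂ = (C l0 * X 0 ^ 2 + C l2 * X 0 + C l4) * X 1 := ⟨_, rfl⟩
  have hsqC : ∀ r : R, sqm (C r : MvPolynomial (Fin 2) R) = C r := fun r => by simp [sqm]
  have hsβ₁ : sqm β₁ = (C s0 * X 1 ^ 4 + C s2 * X 1 ^ 2 + C s4) * X 0 ^ 2 := by
    simp only [hβ₁, map_add, map_mul, map_pow, KumLib.sq_X, hsqC]; ring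
  have hsβ₂ : sqm β₂ = (C l0 * X 0 ^ 4 + C l2 * X 0 ^ 2 + C l4) * X 1 ^ 2 := by
    simp only [hβ₂, map_add, map_mul, map_pow, KumLib.sq_X, hsqC]; ring
  have hsβ₃ : sqm (C τ * X 0 * X 1 : MvPolynomial (Fin 2) R) = C τ * X 0 ^ 2 * X 1 ^ 2 := by
    simp only [map_mul, KumLib.sq_X, hsqC]
  have hf0 : f 0 = X 0 ^ 2 := rfl
  have hf1 : f 1 = X 1 ^ 2 := rfl
  have hf2 : f 2 = sqm 0 + sqm β₁ * X 0 + sqm β₂ * X 1 + sqm (C τ * X 0 * X 1) * (X 0 * X 1) := by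
    rw [hsβ₁, hsβ₂, hsβ₃, map_zero, zero_add]
    show (C s0 * X 1 ^ 4 + C s2 * X 1 ^ 2 + C s4) * X 0 ^ 3 +
            (C l0 * X 0 ^ 4 + C l2 * X 0 ^ 2 + C l4) * X 1 ^ 3 +
            C τ * X 0 ^ 3 * X 1 ^ 3 = _
    ring
  have hCτ : (C τ : MvPolynomial (Fin 2) R) * C τ' = 1 := by
    rw [← C_mul, hττ', C_1]
  set E : MvPolynomial (Fin 2) R := C (s0 ^ 2) * X 0 ^ 3 * X 1 ^ 4 + C (s2 ^ 2) * X 0 ^ 3 * X 1 ^ 2 +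
        C (s4 ^ 2) * X 0 ^ 3 + C (l0 ^ 2) * X 0 ^ 4 * X 1 ^ 3 + C (l2 ^ 2) * X 0 ^ 2 * X 1 ^ 3 +
        C (l4 ^ 2) * X 1 ^ 3 + C (τ ^ 2) * X 0 ^ 3 * X 1 ^ 3 with hE
  have hF : (X 2 ^ 2 + C (s0 ^ 2) * X 0 ^ 3 * X 1 ^ 4 + C (s2 ^ 2) * X 0 ^ 3 * X 1 ^ 2 +
        C (s4 ^ 2) * X 0 ^ 3 + C (l0 ^ 2) * X 0 ^ 4 * X 1 ^ 3 + C (l2 ^ 2) * X 0 ^ 2 * X 1 ^ 3 +
        C (l4 ^ 2) * X 1 ^ 3 + C (τ ^ 2) * X 0 ^ 3 * X 1 ^ 3 : MvPolynomial (Fin 3) R) =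
        X 2 ^ 2 + incl E := by
    simp only [hE, map_add, map_mul, map_pow, incl_X0, incl_X1]
    simp only [incl, rename_C]
    ring
  rw [hF]
  refine ker_aeval_eq_span f hf0 hf1 0 β₁ β₂ (C τ * X 0 * X 1) hf2 ?_ E ?_
  · intro q hq
    have e1 : (q * C τ * X 0) * X 1 = 0 * X 1 := by rw [zero_mul]; linear_combination hq
    have e2 : (q * C τ) * X 0 = 0 * X 0 := by
      rw [zero_mul]; exact X_mul_cancel_right_iff.mp e1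
    have e3 : q * C τ = 0 := X_mul_cancel_right_iff.mp e2
    have : q = q * C τ * C τ' := by rw [mul_assoc, hCτ, mul_one]
    rw [this, e3, zero_mul]
  · rw [map_add, map_pow, aeval_X, aeval_incl f hf0 hf1, hf2, hsβ₁, hsβ₂, hsβ₃]
    simp only [hE, map_add, map_mul, map_pow, KumLib.sq_X, hsqC, map_zero]
    linear_combination
      ((C s0 * X 1 ^ 4 + C s2 * X 1 ^ 2 + C s4) * (C l0 * X 0 ^ 4 + C l2 * X 0 ^ 2 + C l4) *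
          X 0 ^ 3 * X 1 ^ 3 +
        (C s0 * X 1 ^ 4 + C s2 * X 1 ^ 2 + C s4) * C τ * X 0 ^ 6 * X 1 ^ 3 +
        (C l0 * X 0 ^ 4 + C l2 * X 0 ^ 2 + C l4) * C τ * X 0 ^ 3 * X 1 ^ 6 +
        X 0 ^ 6 * (C s0 * C s2 * X 1 ^ 6 + C s0 * C s4 * X 1 ^ 4 + C s2 * C s4 * X 1 ^ 2) +
        X 1 ^ 6 * (C l0 * C l2 * X 0 ^ 6 + C l0 * C l4 * X 0 ^ 4 + C l2 * C l4 * X 0 ^ 2) +
        (C s0 ^ 2 * X 0 ^ 6 * X 1 ^ 8 + C s2 ^ 2 * X 0 ^ 6 * X 1 ^ 4 + C s4 ^ 2 * X 0 ^ 6 +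
          C l0 ^ 2 * X 0 ^ 8 * X 1 ^ 6 + C l2 ^ 2 * X 0 ^ 4 * X 1 ^ 6 + C l4 ^ 2 * X 1 ^ 6 +
          C τ ^ 2 * X 0 ^ 6 * X 1 ^ 6)) * h2

end Groth.Agent.Lib.Helper19.Kum21
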