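import Groth.Agent.Lib.Helper19.KumLib

/-! S13122: smooth chart. -/

set_option autoImplicit false
universe u

namespace Groth.Agent.Lib.Helper19.Kum22

open MvPolynomial Groth.Agent.Lib.Helper19.KumLib

variable {R : Type u} [CommRing R] [CharP R 2]

theorem smoothChart (l0 l2 l4 s0 s2 s4 τ : R) (hτ : IsUnit τ) :
    (∀ p : MvPolynomial (Fin 2) R,
      MvPolynomial.mkDerivation R
          (![C l4 * X 0 ^ 4 + C l2 * X 0 ^ 2 + C τ * X 0 + C l0,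
            C s4 * X 1 ^ 4 + C s2 * X 1 ^ 2 + C τ * X 1 + C s0] :
            Fin 2 → MvPolynomial (Fin 2) R) p = 0 ↔
        p ∈ (MvPolynomial.aeval (R := R) (S₁ := MvPolynomial (Fin 2) R)
          ![X 0 ^ 2, X 1 ^ 2,
            (C s4 * X 1 ^ 4 + C s2 * X 1 ^ 2 + C s0) * X 0 +
              (C l4 * X 0 ^ 4 + C l2 * X 0 ^ 2 + C l0) * X 1 + C τ * X 0 * X 1]).range) ∧
    RingHom.ker (MvPolynomial.aeval (R := R) (S₁ := MvPolynomial (Fin 2) R)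
        ![X 0 ^ 2, X 1 ^ 2,
          (C s4 * X 1 ^ 4 + C s2 * X 1 ^ 2 + C s0) * X 0 +
            (C l4 * X 0 ^ 4 + C l2 * X 0 ^ 2 + C l0) * X 1 + C τ * X 0 * X 1]) =
      Ideal.span {(X 2 ^ 2 + C (τ ^ 2) * X 0 * X 1 +
        (C (s4 ^ 2) * X 1 ^ 4 + C (s2 ^ 2) * X 1 ^ 2 + C (s0 ^ 2)) * X 0 +
        (C (l4 ^ 2) * X 0 ^ 4 + C (l2 ^ 2) * X 0 ^ 2 + C (l0 ^ 2)) * X 1 :
          MvPolynomial (Fin 3) R)} := by
  obtain ⟨τ', hττ'⟩ := hτ.exists_right_inv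
  have h2 : (2 : MvPolynomial (Fin 2) R) = 0 := CharTwo.two_eq_zero
  obtain ⟨α₁, hα₁⟩ : ∃ α₁ : MvPolynomial (Fin 2) R, α₁ = C l4 * X 0 ^ 2 + C l2 * X 0 + C l0 :=
    ⟨_, rfl⟩
  obtain ⟨α₂, hα₂⟩ : ∃ α₂ : MvPolynomial (Fin 2) R, α₂ = C s4 * X 1 ^ 2 + C s2 * X 1 + C s0 :=
    ⟨_, rfl⟩
  have hsqC : ∀ r : R, sqm (C r : MvPolynomial (Fin 2) R) = C r := fun r => by simp [sqm]
  have hsα₁ : sqm α₁ = C l4 * X 0 ^ 4 + C l2 * X 0 ^ 2 + C l0 := by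
    simp only [hα₁, map_add, map_mul, map_pow, sq_X, hsqC]; ring
  have hsα₂ : sqm α₂ = C s4 * X 1 ^ 4 + C s2 * X 1 ^ 2 + C s0 := by
    simp only [hα₂, map_add, map_mul, map_pow, sq_X, hsqC]; ring
  have hst : sqm (C τ) = C τ := hsqC τ
  set D := MvPolynomial.mkDerivation R
          (![C l4 * X 0 ^ 4 + C l2 * X 0 ^ 2 + C τ * X 0 + C l0,
            C s4 * X 1 ^ 4 + C s2 * X 1 ^ 2 + C τ * X 1 + C s0] :
            Fin 2 → MvPolynomial (Fin 2) R) with hD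
  set f : Fin 3 → MvPolynomial (Fin 2) R := ![X 0 ^ 2, X 1 ^ 2,
            (C s4 * X 1 ^ 4 + C s2 * X 1 ^ 2 + C s0) * X 0 +
              (C l4 * X 0 ^ 4 + C l2 * X 0 ^ 2 + C l0) * X 1 + C τ * X 0 * X 1] with hf
  have hD0 : D (X 0) = sqm α₁ + sqm (C τ) * X 0 := by
    rw [hD, mkDerivation_X, hsα₁, hst]
    simp only [Matrix.cons_val_zero]
    ring
  have hD1 : D (X 1) = sqm α₂ + sqm (C τ) * X 1 := by
    rw [hD, mkDerivation_X, hsα₂, hst]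
    simp only [Matrix.cons_val_one, Matrix.cons_val_zero]
    ring
  have hf0 : f 0 = X 0 ^ 2 := rfl
  have hf1 : f 1 = X 1 ^ 2 := rfl
  have hf2 : f 2 = sqm α₂ * X 0 + sqm α₁ * X 1 + sqm (C τ) * (X 0 * X 1) := by
    rw [hsα₁, hsα₂, hst]
    show (C s4 * X 1 ^ 4 + C s2 * X 1 ^ 2 + C s0) * X 0 +
              (C l4 * X 0 ^ 4 + C l2 * X 0 ^ 2 + C l0) * X 1 + C τ * X 0 * X 1 = _
    ring
  have hCτ : (C τ : MvPolynomial (Fin 2) R) * C τ' = 1 := by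
    rw [← C_mul, hττ', C_1]
  refine ⟨?_, ?_⟩
  · intro p
    constructor
    · intro hp
      obtain ⟨a, b, c, d, rfl⟩ := exists_decomp p
      obtain ⟨e1, e2⟩ := eqs_of_derivation_eq_zero D α₁ α₂ (C τ) hD0 hD1 a b c d hp
      have hb : b = C τ' * d * α₂ := by
        have : b + C τ' * d * α₂ = 0 := by linear_combination (C τ') * e1 - b * hCτ
        have h3 := CharTwo.add_eq_zero.mp this
        exact h3
      have hc : c = C τ' * d * α₁ := by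
        have : c + C τ' * d * α₁ = 0 := by linear_combination (C τ') * e2 - c * hCτ
        exact CharTwo.add_eq_zero.mp this
      have hd : sqm d = sqm (C τ' * d) * sqm (C τ) := by
        rw [← map_mul]
        congr 1
        linear_combination (-d) * hCτ
      refine ⟨incl a + incl (C τ' * d) * X 2, ?_⟩
      show aeval f (incl a + incl (C τ' * d) * X 2) = _
      rw [map_add, map_mul, aeval_incl f hf0 hf1, aeval_incl f hf0 hf1, aeval_X, hf2, hb, hc]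
      simp only [map_mul] at hd ⊢
      linear_combination (-(X 0 * X 1)) * hd
    · intro hp
      rw [← Algebra.adjoin_range_eq_range_aeval] at hp
      refine derivation_eq_zero_of_mem_adjoin D _ ?_ hp
      rintro _ ⟨i, rfl⟩
      fin_cases i
      · show D (X 0 ^ 2) = 0
        rw [← sq_X]; exact derivation_sq D _
      · show D (X 1 ^ 2) = 0
        rw [← sq_X]; exact derivation_sq D _
      · show D (f 2) = 0
        rw [hf2]
        exact derivation_gen_eq_zero D α₁ α₂ (C τ) hD0 hD1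
  · set E : MvPolynomial (Fin 2) R := C (τ ^ 2) * X 0 * X 1 +
        (C (s4 ^ 2) * X 1 ^ 4 + C (s2 ^ 2) * X 1 ^ 2 + C (s0 ^ 2)) * X 0 +
        (C (l4 ^ 2) * X 0 ^ 4 + C (l2 ^ 2) * X 0 ^ 2 + C (l0 ^ 2)) * X 1 with hE
    have hF : (X 2 ^ 2 + C (τ ^ 2) * X 0 * X 1 +
        (C (s4 ^ 2) * X 1 ^ 4 + C (s2 ^ 2) * X 1 ^ 2 + C (s0 ^ 2)) * X 0 +
        (C (l4 ^ 2) * X 0 ^ 4 + C (l2 ^ 2) * X 0 ^ 2 + C (l0 ^ 2)) * X 1 :
          MvPolynomial (Fin 3) R) = X 2 ^ 2 + incl E := by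
      simp only [hE, map_add, map_mul, map_pow, incl_X0, incl_X1]
      simp only [incl, rename_C]
      ring
    rw [hF]
    have hf2' : f 2 = sqm 0 + sqm α₂ * X 0 + sqm α₁ * X 1 + sqm (C τ) * (X 0 * X 1) := by
      rw [hf2, map_zero, zero_add]
    refine ker_aeval_eq_span f hf0 hf1 0 α₂ α₁ (C τ) hf2' ?_ E ?_
    · intro q hq
      have : q = q * C τ * C τ' := by rw [mul_assoc, hCτ, mul_one]
      rw [this, hq, zero_mul]
    · rw [map_add, map_pow, aeval_X, aeval_incl f hf0 hf1, hf2, hsα₁, hsα₂, hst]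
      simp only [hE, map_add, map_mul, map_pow, sq_X, hsqC]
      linear_combination
        ((C s4 * X 1 ^ 4 + C s2 * X 1 ^ 2 + C s0) * (C l4 * X 0 ^ 4 + C l2 * X 0 ^ 2 + C l0) *
            X 0 * X 1 +
          (C s4 * X 1 ^ 4 + C s2 * X 1 ^ 2 + C s0) * C τ * X 0 ^ 2 * X 1 +
          (C l4 * X 0 ^ 4 + C l2 * X 0 ^ 2 + C l0) * C τ * X 0 * X 1 ^ 2 +
          X 0 ^ 2 * (C s4 * C s2 * X 1 ^ 6 + C s4 * C s0 * X 1 ^ 4 + C s2 * C s0 * X 1 ^ 2) +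
          X 1 ^ 2 * (C l4 * C l2 * X 0 ^ 6 + C l4 * C l0 * X 0 ^ 4 + C l2 * C l0 * X 0 ^ 2) +
          (C τ ^ 2 * X 0 ^ 2 * X 1 ^ 2 +
            (C s4 ^ 2 * X 1 ^ 8 + C s2 ^ 2 * X 1 ^ 4 + C s0 ^ 2) * X 0 ^ 2 +
            (C l4 ^ 2 * X 0 ^ 8 + C l2 ^ 2 * X 0 ^ 4 + C l0 ^ 2) * X 1 ^ 2)) * h2

end Groth.Agent.Lib.Helper19.Kum22
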