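import Mathlib

/-! Char-2 computations in `R[x,y]`: decomposition over `R[x²,y²]`, kernels of derivations. -/

set_option autoImplicit false
universe u

namespace Groth.Agent.Lib.Helper19.KumLib

open MvPolynomial

variable {R : Type u} [CommRing R]

/-- The squaring substitution `x ↦ x², y ↦ y²`. -/
noncomputable abbrev sqm : MvPolynomial (Fin 2) R →ₐ[R] MvPolynomial (Fin 2) R := expand 2

theorem sq_injective : Function.Injective (sqm (R := R)) := expand_injective (by norm_num)

theorem sq_X (i : Fin 2) : sqm (X i : MvPolynomial (Fin 2) R) = X i ^ 2 := expand_X _ _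

/-- Every polynomial decomposes over `R[x²,y²]` along `1, x, y, xy`. -/
theorem exists_decomp (p : MvPolynomial (Fin 2) R) :
    ∃ a b c d : MvPolynomial (Fin 2) R,
      p = sqm a + sqm b * X 0 + sqm c * X 1 + sqm d * (X 0 * X 1) := by
  induction p using MvPolynomial.induction_on with
  | C r =>
    refine ⟨C r, 0, 0, 0, ?_⟩
    simp [sqm]
  | add p q hp hq =>
    obtain ⟨a, b, c, d, rfl⟩ := hp
    obtain ⟨a', b', c', d', rfl⟩ := hq
    refine ⟨a + a', b + b', c + c', d + d', ?_⟩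
    simp only [map_add]
    ring
  | mul_X p i hp =>
    obtain ⟨a, b, c, d, rfl⟩ := hp
    fin_cases i
    · refine ⟨X 0 * b, a, X 0 * d, c, ?_⟩
      simp only [map_mul, sq_X, Fin.zero_eta]
      ring
    · refine ⟨X 1 * c, X 1 * d, a, b, ?_⟩
      simp only [map_mul, sq_X, Fin.mk_one]
      ring

variable [CharP R 2]

/-- In characteristic 2 every derivation kills the image of `sqm`. -/
theorem derivation_sq (D : Derivation R (MvPolynomial (Fin 2) R) (MvPolynomial (Fin 2) R))
    (q : MvPolynomial (Fin 2) R) : D (sqm q) = 0 := by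
  induction q using MvPolynomial.induction_on with
  | C r =>
    have : sqm (C r : MvPolynomial (Fin 2) R) = algebraMap R (MvPolynomial (Fin 2) R) r := by
      simp [sqm, MvPolynomial.algebraMap_eq]
    rw [this, Derivation.map_algebraMap]
  | add p q hp hq => rw [map_add, map_add, hp, hq, add_zero]
  | mul_X p i hp =>
    rw [map_mul, Derivation.leibniz, hp, smul_zero, add_zero, sq_X, Derivation.leibniz_pow]
    have h2 : (2 : MvPolynomial (Fin 2) R) = 0 := CharTwo.two_eq_zero
    have : (2 : ℕ) • (((X i : MvPolynomial (Fin 2) R) ^ (2 - 1)) • D (X i) :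
        MvPolynomial (Fin 2) R) = 0 := by
      rw [two_nsmul, ← two_smul (MvPolynomial (Fin 2) R), h2, zero_smul]
    rw [this, smul_zero]

/-- Value of a derivation with `D x = A₁ + T x`, `D y = A₂ + T y` on a decomposed polynomial. -/
theorem derivation_decomp (D : Derivation R (MvPolynomial (Fin 2) R) (MvPolynomial (Fin 2) R))
    (α₁ α₂ t : MvPolynomial (Fin 2) R)
    (hD0 : D (X 0) = sqm α₁ + sqm t * X 0) (hD1 : D (X 1) = sqm α₂ + sqm t * X 1)
    (a b c d : MvPolynomial (Fin 2) R) :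
    D (sqm a + sqm b * X 0 + sqm c * X 1 + sqm d * (X 0 * X 1)) =
      sqm (b * α₁ + c * α₂) + sqm (t * b + d * α₂) * X 0 + sqm (t * c + d * α₁) * X 1 +
        sqm 0 * (X 0 * X 1) := by
  have h2 : (2 : MvPolynomial (Fin 2) R) = 0 := CharTwo.two_eq_zero
  simp only [map_add, Derivation.leibniz, derivation_sq, hD0, hD1, smul_eq_mul, map_mul, map_zero]
  linear_combination (sqm d * sqm t * X 0 * X 1) * h2

/-- Linear independence of `1, x, y, xy` over `R[x²,y²]` in characteristic 2. -/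
theorem decomp_eq_zero {a b c d : MvPolynomial (Fin 2) R}
    (h : sqm a + sqm b * X 0 + sqm c * X 1 + sqm d * (X 0 * X 1) = 0) :
    a = 0 ∧ b = 0 ∧ c = 0 ∧ d = 0 := by
  have e0 := congrArg (pderiv (0 : Fin 2)) h
  have e1 := congrArg (pderiv (1 : Fin 2)) h
  have hx00 : pderiv (0 : Fin 2) (X 0 : MvPolynomial (Fin 2) R) = 1 := pderiv_X_self _
  have hx11 : pderiv (1 : Fin 2) (X 1 : MvPolynomial (Fin 2) R) = 1 := pderiv_X_self _
  have hx01 : pderiv (0 : Fin 2) (X 1 : MvPolynomial (Fin 2) R) = 0 :=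
    pderiv_X_of_ne (by decide)
  have hx10 : pderiv (1 : Fin 2) (X 0 : MvPolynomial (Fin 2) R) = 0 :=
    pderiv_X_of_ne (by decide)
  simp only [map_add, Derivation.leibniz, derivation_sq, hx00, hx01, smul_eq_mul, map_zero,
    mul_zero, mul_one, add_zero, zero_add] at e0
  simp only [map_add, Derivation.leibniz, derivation_sq, hx11, hx10, smul_eq_mul, map_zero,
    mul_zero, mul_one, add_zero, zero_add] at e1
  have e01 := congrArg (pderiv (1 : Fin 2)) e0
  simp only [map_add, Derivation.leibniz, derivation_sq, hx11, hx10, smul_eq_mul, map_zero,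
    mul_zero, mul_one, add_zero, zero_add] at e01
  have hd : d = 0 := sq_injective (by rw [map_zero]; simpa using e01)
  subst hd
  simp only [map_zero, zero_mul, mul_zero, add_zero] at e0 e1 h
  have hb : b = 0 := sq_injective (by rw [map_zero]; simpa using e0)
  have hc : c = 0 := sq_injective (by rw [map_zero]; simpa using e1)
  subst hb hc
  simp only [map_zero, zero_mul, add_zero] at h
  exact ⟨sq_injective (by rw [map_zero]; exact h), rfl, rfl, rfl⟩

theorem decomp_ext {a b c d a' b' c' d' : MvPolynomial (Fin 2) R}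
    (h : sqm a + sqm b * X 0 + sqm c * X 1 + sqm d * (X 0 * X 1) =
      sqm a' + sqm b' * X 0 + sqm c' * X 1 + sqm d' * (X 0 * X 1)) :
    a = a' ∧ b = b' ∧ c = c' ∧ d = d' := by
  have h' : sqm (a - a') + sqm (b - b') * X 0 + sqm (c - c') * X 1 +
      sqm (d - d') * (X 0 * X 1) = 0 := by
    simp only [map_sub]
    linear_combination h
  obtain ⟨h1, h2, h3, h4⟩ := decomp_eq_zero h'
  exact ⟨sub_eq_zero.mp h1, sub_eq_zero.mp h2, sub_eq_zero.mp h3, sub_eq_zero.mp h4⟩

/-- The distinguished invariant `sqm α₂ x + sqm α₁ y + sqm t xy` is killed by `D`. -/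
theorem derivation_gen_eq_zero
    (D : Derivation R (MvPolynomial (Fin 2) R) (MvPolynomial (Fin 2) R))
    (α₁ α₂ t : MvPolynomial (Fin 2) R)
    (hD0 : D (X 0) = sqm α₁ + sqm t * X 0) (hD1 : D (X 1) = sqm α₂ + sqm t * X 1) :
    D (sqm α₂ * X 0 + sqm α₁ * X 1 + sqm t * (X 0 * X 1)) = 0 := by
  have h := derivation_decomp D α₁ α₂ t hD0 hD1 0 α₂ α₁ t
  have e : sqm α₂ * X 0 + sqm α₁ * X 1 + sqm t * (X 0 * X 1) =
      sqm 0 + sqm α₂ * X 0 + sqm α₁ * X 1 + sqm t * (X 0 * X 1) := by
    rw [map_zero, zero_add]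
  rw [e, h]
  have h1 : α₂ * α₁ + α₁ * α₂ = 0 := by
    rw [mul_comm α₁ α₂]; exact CharTwo.add_self_eq_zero _
  have h2 : t * α₂ + t * α₂ = 0 := CharTwo.add_self_eq_zero _
  have h3 : t * α₁ + t * α₁ = 0 := CharTwo.add_self_eq_zero _
  rw [h1, h2, h3]
  simp

/-- The equations expressing `D p = 0` on a decomposed polynomial. -/
theorem eqs_of_derivation_eq_zero
    (D : Derivation R (MvPolynomial (Fin 2) R) (MvPolynomial (Fin 2) R))
    (α₁ α₂ t : MvPolynomial (Fin 2) R)
    (hD0 : D (X 0) = sqm α₁ + sqm t * X 0) (hD1 : D (X 1) = sqm α₂ + sqm t * X 1)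
    (a b c d : MvPolynomial (Fin 2) R)
    (h : D (sqm a + sqm b * X 0 + sqm c * X 1 + sqm d * (X 0 * X 1)) = 0) :
    t * b + d * α₂ = 0 ∧ t * c + d * α₁ = 0 := by
  rw [derivation_decomp D α₁ α₂ t hD0 hD1] at h
  obtain ⟨-, h2, h3, -⟩ := decomp_eq_zero h
  exact ⟨h2, h3⟩

omit [CharP R 2] in
theorem sq_mem_adjoin (S : Set (MvPolynomial (Fin 2) R))
    (h0 : (X 0 : MvPolynomial (Fin 2) R) ^ 2 ∈ S) (h1 : (X 1 : MvPolynomial (Fin 2) R) ^ 2 ∈ S)
    (q : MvPolynomial (Fin 2) R) : sqm q ∈ Algebra.adjoin R S := by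
  induction q using MvPolynomial.induction_on with
  | C r =>
    have : sqm (C r : MvPolynomial (Fin 2) R) = algebraMap R (MvPolynomial (Fin 2) R) r := by
      simp [sqm, MvPolynomial.algebraMap_eq]
    rw [this]
    exact Subalgebra.algebraMap_mem _ _
  | add p q hp hq => rw [map_add]; exact Subalgebra.add_mem _ hp hq
  | mul_X p i hp =>
    rw [map_mul, sq_X]
    refine Subalgebra.mul_mem _ hp (Algebra.subset_adjoin ?_)
    fin_cases i
    · exact h0
    · exact h1

omit [CharP R 2] in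
theorem derivation_eq_zero_of_mem_adjoin
    (D : Derivation R (MvPolynomial (Fin 2) R) (MvPolynomial (Fin 2) R))
    (S : Set (MvPolynomial (Fin 2) R)) (hS : ∀ s ∈ S, D s = 0)
    {p : MvPolynomial (Fin 2) R} (hp : p ∈ Algebra.adjoin R S) : D p = 0 := by
  induction hp using Algebra.adjoin_induction with
  | mem x hx => exact hS x hx
  | algebraMap r => exact Derivation.map_algebraMap D r
  | add x y _ _ hx hy => rw [map_add, hx, hy, add_zero]
  | mul x y _ _ hx hy => rw [Derivation.leibniz, hx, hy, smul_zero, smul_zero, add_zero]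

/-- Inclusion `R[a,b] → R[a,b,c]`. -/
noncomputable abbrev incl : MvPolynomial (Fin 2) R →ₐ[R] MvPolynomial (Fin 3) R :=
  rename (Fin.castSucc : Fin 2 → Fin 3)

omit [CharP R 2] in
theorem incl_X0 : incl (X 0 : MvPolynomial (Fin 2) R) = X 0 := by
  simp [incl]

omit [CharP R 2] in
theorem incl_X1 : incl (X 1 : MvPolynomial (Fin 2) R) = X 1 := by
  simp [incl]

omit [CharP R 2] in
/-- Division with remainder by the monic quadratic `c² + E(a,b)`. -/
theorem exists_div (E : MvPolynomial (Fin 2) R) (G : MvPolynomial (Fin 3) R) :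
    ∃ (q : MvPolynomial (Fin 3) R) (G₀ G₁ : MvPolynomial (Fin 2) R),
      G = q * (X 2 ^ 2 + incl E) + incl G₀ + incl G₁ * X 2 := by
  induction G using MvPolynomial.induction_on with
  | C r =>
    refine ⟨0, C r, 0, ?_⟩
    simp [incl]
  | add p q hp hq =>
    obtain ⟨q₁, a, b, rfl⟩ := hp
    obtain ⟨q₂, a', b', rfl⟩ := hq
    refine ⟨q₁ + q₂, a + a', b + b', ?_⟩
    simp only [map_add]
    ring
  | mul_X p i hp =>
    obtain ⟨q, a, b, rfl⟩ := hp
    fin_cases i
    · refine ⟨q * X 0, X 0 * a, X 0 * b, ?_⟩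
      simp only [map_mul, incl_X0, Fin.zero_eta]
      ring
    · refine ⟨q * X 1, X 1 * a, X 1 * b, ?_⟩
      simp only [map_mul, incl_X1, Fin.mk_one]
      ring
    · refine ⟨q * X 2 + incl b, - (b * E), a, ?_⟩
      simp only [map_mul, map_neg, Fin.reduceFinMk]
      ring

omit [CharP R 2] in
theorem aeval_incl (f : Fin 3 → MvPolynomial (Fin 2) R)
    (h0 : f 0 = X 0 ^ 2) (h1 : f 1 = X 1 ^ 2) (q : MvPolynomial (Fin 2) R) :
    aeval f (incl q) = sqm q := by
  have : (aeval f).comp (incl (R := R)) = sqm := by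
    apply MvPolynomial.algHom_ext
    intro i
    fin_cases i
    · simp [incl, sqm, h0]
    · simp [incl, sqm, h1]
  exact congrArg (fun φ : MvPolynomial (Fin 2) R →ₐ[R] MvPolynomial (Fin 2) R => φ q) this

/-- Kernel of `a ↦ x², b ↦ y², c ↦ h` where `h = sqm β₀ + sqm β₁ x + sqm β₂ y + sqm β₃ xy` with
`β₃` regular: generated by any monic quadratic `c² + E` in the kernel. -/
theorem ker_aeval_eq_span (f : Fin 3 → MvPolynomial (Fin 2) R)
    (h0 : f 0 = X 0 ^ 2) (h1 : f 1 = X 1 ^ 2)
    (β₀ β₁ β₂ β₃ : MvPolynomial (Fin 2) R)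
    (h2 : f 2 = sqm β₀ + sqm β₁ * X 0 + sqm β₂ * X 1 + sqm β₃ * (X 0 * X 1))
    (hβ : ∀ q : MvPolynomial (Fin 2) R, q * β₃ = 0 → q = 0)
    (E : MvPolynomial (Fin 2) R)
    (hE : aeval f (X 2 ^ 2 + incl E : MvPolynomial (Fin 3) R) = 0) :
    RingHom.ker (aeval f) = Ideal.span {(X 2 ^ 2 + incl E : MvPolynomial (Fin 3) R)} := by
  apply le_antisymm
  · intro G hG
    rw [RingHom.mem_ker] at hG
    obtain ⟨q, G₀, G₁, rfl⟩ := exists_div E G
    rw [map_add, map_add, map_mul, hE, mul_zero, zero_add, map_mul, aeval_incl f h0 h1,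
      aeval_incl f h0 h1, aeval_X, h2] at hG
    have hG' : sqm (G₀ + G₁ * β₀) + sqm (G₁ * β₁) * X 0 + sqm (G₁ * β₂) * X 1 +
        sqm (G₁ * β₃) * (X 0 * X 1) = 0 := by
      simp only [map_add, map_mul]
      linear_combination hG
    obtain ⟨e0, -, -, e3⟩ := decomp_eq_zero hG'
    have hG₁ : G₁ = 0 := hβ _ e3
    subst hG₁
    rw [zero_mul, add_zero] at e0
    subst e0
    rw [map_zero, zero_mul, add_zero, add_zero]
    exact Ideal.mul_mem_left _ _ (Ideal.subset_span (Set.mem_singleton _))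
  · rw [Ideal.span_le]
    intro G hG
    rw [Set.mem_singleton_iff] at hG
    subst hG
    exact hE

end Groth.Agent.Lib.Helper19.KumLib
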