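import Mathlib
import Groth.Agent.Lib.Helper19.LargestOpenSt2
import Groth.Agent.Lib.Helper19.EssImg
import Groth.Agent.Lib.Helper19.QcPts

/-!
# Largest open substacks and base change: the preimage substack (helper19)
-/

set_option autoImplicit false
set_option backward.isDefEq.respectTransparency false

universe u

open CategoryTheory CategoryTheory.Limits AlgebraicGeometry

namespace Groth.Agent.Helper19.LargestBC

open FibCat AlgSt Stk Groth.Agent.Helper19.FibLib Groth.Agent.Helper19.StLib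
  Groth.Agent.Helper19.StPts Groth.Agent.Helper19.OpenSub Groth.Agent.Helper19.EssImg

variable {S : Scheme.{u}} {𝒳 𝒴 𝒵 : AlgSt.Cat S}

section sub

variable (z : 𝒵 ⥤ᵇ 𝒴) (f : 𝒳 ⥤ᵇ 𝒴) (Q₀ : 𝒳.obj → Prop)

/-- the natural map `𝒵 ×_𝒴 𝒳' ⟶ 𝒵 ×_𝒴 𝒳`. -/
def subM : fp z (BasedFunctor.comp (subIncl 𝒳 Q₀) f) ⥤ᵇ fp z f :=
  fpMap (F := z) (G := BasedFunctor.comp (subIncl 𝒳 Q₀) f) (F' := z) (G' := f)
    (BasedFunctor.id 𝒵) (subIncl 𝒳 Q₀) (BasedFunctor.id 𝒴) (Iso.refl _) (Iso.refl _)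

/-- `𝒵 ×_𝒴 𝒳' ⟶` the preimage of `𝒳'` in `𝒵 ×_𝒴 𝒳`. -/
def subE : fp z (BasedFunctor.comp (subIncl 𝒳 Q₀) f) ⥤ᵇ
    fullSub (fp z f) (fun b => Q₀ b.obj.snd) :=
  liftSub (subM z f Q₀) (fun b => Q₀ b.obj.snd) (fun a => a.obj.snd.property)

@[simp] theorem subM_obj_iso_hom (a : (fp z (BasedFunctor.comp (subIncl 𝒳 Q₀) f)).obj) :
    ((subM z f Q₀).obj a).obj.iso.hom = a.obj.iso.hom := by
  simp [subM]

theorem subE_comp :
    BasedFunctor.comp (subE z f Q₀)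
      (BasedFunctor.comp (subIncl (fp z f) (fun b => Q₀ b.obj.snd)) (fpFst z f)) =
    fpFst z (BasedFunctor.comp (subIncl 𝒳 Q₀) f) := rfl

instance faithful_subE : (subE z f Q₀).toFunctor.Faithful := by
  refine ⟨fun {a b} m m' h => ?_⟩
  have h0 : (subM z f Q₀).map m = (subM z f Q₀).map m' := congrArg (fun k => k.hom) h
  have h1 : m.hom.fst = m'.hom.fst := congrArg (fun k => k.hom.fst) h0
  have h2 : (subIncl 𝒳 Q₀).map m.hom.snd = (subIncl 𝒳 Q₀).map m'.hom.snd :=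
    congrArg (fun k => k.hom.snd) h0
  exact fp_hom_ext h1 (ObjectProperty.hom_ext _ h2)

instance full_subE : (subE z f Q₀).toFunctor.Full := by
  refine ⟨fun {a b} k => ?_⟩
  have hw := fp_w k.hom
  refine ⟨fpHomMk k.hom.hom.fst (ObjectProperty.homMk k.hom.hom.snd) ?_, ?_⟩
  · have h3 : z.map k.hom.hom.fst ≫ ((subM z f Q₀).obj b).obj.iso.hom =
        ((subM z f Q₀).obj a).obj.iso.hom ≫ f.map k.hom.hom.snd := hw
    rw [subM_obj_iso_hom, subM_obj_iso_hom] at h3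
    exact h3
  · apply ObjectProperty.hom_ext
    exact fp_hom_ext rfl rfl

theorem isEquivOver_subE : IsEquivOver (subE z f Q₀) := by
  refine isEquivOver_of_fullyFaithful (subE z f Q₀) (fun w => ?_)
  let a : (fp z (BasedFunctor.comp (subIncl 𝒳 Q₀) f)).obj :=
    ⟨⟨w.obj.obj.fst, ⟨w.obj.obj.snd, w.property⟩, w.obj.obj.iso⟩, w.obj.property⟩
  refine ⟨a, ObjectProperty.isoMk _ (fpIsoMk (F := z) (G := f) (x := ((subE z f Q₀).obj a).obj)
    (y := w.obj) (Iso.refl _) (Iso.refl _) ?_), ?_⟩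
  · show z.map (𝟙 _) ≫ w.obj.obj.iso.hom = ((subM z f Q₀).obj a).obj.iso.hom ≫ f.map (𝟙 _)
    rw [subM_obj_iso_hom]
    simp [a]
  · apply IsHomLift.of_fac _ _ _ rfl rfl
    simp
    exact (CategoryTheory.Functor.map_id _ _).symm

/-- (2): the base change of the restriction to `Q₀` has `P`. -/
theorem repByAlgSpWith_preimage {P : MorphismProperty (AlgSp.Sp S)}
    (hP₀ : RepByAlgSpWith P (BasedFunctor.comp (subIncl 𝒳 Q₀) f)) :
    RepByAlgSpWith P (BasedFunctor.comp (subIncl (fp z f) (fun b => Q₀ b.obj.snd)) (fpFst z f)) := by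
  have h1 : RepByAlgSpWith P (fpFst z (BasedFunctor.comp (subIncl 𝒳 Q₀) f)) :=
    repByAlgSpWith_fpFst _ z hP₀
  rw [← subE_comp] at h1
  exact (repByAlgSpWith_equiv_comp (subE z f Q₀) (isEquivOver_subE z f Q₀) _).1 h1

end sub

section lift

variable {𝒜 ℬ : AlgSt.Cat S}

/-- field-valued points mapping to an image object lift. -/
theorem exists_fpt_lift (h𝒜 : IsFibGrpd 𝒜.p) (hℬ : IsFibGrpd ℬ.p) (g : 𝒜 ⥤ᵇ ℬ) (a : 𝒜.obj)
    (q' : FPt ℬ) (φ : q'.obj ⟶ g.obj a) :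
    ∃ q : FPt 𝒜, Nonempty (q.obj ⟶ a) ∧ Points.map g (Points.mk q) = Points.mk q' := by
  let b : pt q' ⟶ 𝒜.p.obj a := eqToHom q'.lies.symm ≫ ℬ.p.map φ ≫ eqToHom (g.w_obj a)
  have hφ : ℬ.p.IsHomLift b φ := IsHomLift.of_fac ℬ.p _ φ q'.lies (g.w_obj a) (by simp [b])
  obtain ⟨a', ψ, hψ⟩ := h𝒜.exists_lift b
  have hψ' : ℬ.p.IsHomLift b (g.map ψ) := inferInstance
  obtain ⟨χ, -, -, -⟩ := exists_iso_of_lifts hℬ b φ (g.map ψ)
  let p : FPt 𝒜 := { K := q'.K, str := q'.str, obj := a', lies := IsHomLift.domain_eq 𝒜.p b ψ }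
  refine ⟨p, ⟨ψ⟩, ?_⟩
  rw [Points.map_mk]
  exact Points.sound (rel_of_hom (p := p.map g) (q := q') χ)

end lift

section preimage

variable (z : 𝒵 ⥤ᵇ 𝒴) (f : 𝒳 ⥤ᵇ 𝒴) (Q₀ : 𝒳.obj → Prop)

/-- (1): the preimage of an open substack under the second projection, as a set of points. -/
theorem ofSet_preimage (h𝒳 : IsAlgStack Scheme.fppfPrecoverage 𝒳)
    (h𝒴 : IsAlgStack Scheme.fppfPrecoverage 𝒴) (h𝒵 : IsAlgStack Scheme.fppfPrecoverage 𝒵)
    (hQ₀ : IsOpenSubstack 𝒳 Q₀ Scheme.fppfPrecoverage) :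
    ofSet (Points.map (fpSnd z f) ⁻¹' Set.range (Points.map (subIncl 𝒳 Q₀))) =
      fun b => Q₀ b.obj.snd := by
  have h𝒫 : IsFibGrpd (fp z f).p :=
    Groth.Agent.S6401.result z f h𝒵.isStack.1 h𝒳.isStack.1 h𝒴.isStack.1
  funext b
  apply propext
  constructor
  · intro hb
    show Q₀ b.obj.snd
    rw [← ofSet_range_eq h𝒳 Q₀ hQ₀]
    rintro q' ⟨φ⟩
    obtain ⟨q, hq, hmap⟩ := exists_fpt_lift h𝒫 h𝒳.isStack.1 (fpSnd z f) b q' φ
    have h1 := hb q hq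
    rw [Set.mem_preimage, hmap] at h1
    exact h1
  · intro hQ
    rintro q ⟨ψ⟩
    rw [Set.mem_preimage, Points.map_mk]
    exact le_ofSet_range h𝒳.isStack.1 Q₀ hQ₀.1 hQ₀.2.1.isStack.1 b.obj.snd hQ
      (q.map (fpSnd z f)) ⟨(fpSnd z f).map ψ⟩

theorem isOpenSubstack_preimage (h𝒳 : IsAlgStack Scheme.fppfPrecoverage 𝒳)
    (h𝒴 : IsAlgStack Scheme.fppfPrecoverage 𝒴) (h𝒵 : IsAlgStack Scheme.fppfPrecoverage 𝒵)
    (hQ₀ : IsOpenSubstack 𝒳 Q₀ Scheme.fppfPrecoverage) :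
    IsOpenSubstack (fp z f) (fun b => Q₀ b.obj.snd) Scheme.fppfPrecoverage := by
  have h𝒫 : IsAlgStack Scheme.fppfPrecoverage (fp z f) :=
    Groth.Agent.Helper19.ProdAlg.isAlgStack_fp h𝒴.isStack h𝒴.diag h𝒵 h𝒳 z f
  have hopen : IsOpen (Points.map (fpSnd z f) ⁻¹' Set.range (Points.map (subIncl 𝒳 Q₀))) :=
    (Groth.Agent.Helper19.SubSt.isOpen_range_of_isOpenSubstack h𝒳 Q₀ hQ₀).preimage
      (continuous_points_map h𝒳 (fpSnd z f))
  have h := isOpenSubstack_ofSet h𝒫 _ hopen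
  rw [ofSet_preimage z f Q₀ h𝒳 h𝒴 h𝒵 hQ₀] at h
  exact h

end preimage

end Groth.Agent.Helper19.LargestBC
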