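import Mathlib
import Groth.Agent.Lib.Helper19.LargestBC1

/-!
# Largest open substacks and base change: charts (helper19)
-/

set_option autoImplicit false
set_option backward.isDefEq.respectTransparency false

universe u

open CategoryTheory CategoryTheory.Limits AlgebraicGeometry

namespace Groth.Agent.Helper19.LargestBC

open FibCat AlgSt Stk Groth.Agent.Helper19.FibLib Groth.Agent.Helper19.StLib
  Groth.Agent.Helper19.AlgP Groth.Agent.Helper19.SpProps Groth.Agent.Helper19.SpDict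
  Groth.Agent.Helper19.PshSt Groth.Agent.Helper19.LocQCore Groth.Agent.Helper16.AS
  Groth.Agent.Helper15 Groth.Agent.Helper19.StPts Groth.Agent.Helper19.OpenSub
  Groth.Agent.Helper19.SrcLoc Groth.Agent.Helper19.LargestOpenSt

variable {S : Scheme.{u}} {𝒳 𝒴 : AlgSt.Cat S}

section pieceB

variable {𝒳' 𝒱 : AlgSt.Cat S} (v : 𝒱 ⥤ᵇ 𝒴) (pV : Pres 𝒱) (f : 𝒳 ⥤ᵇ 𝒴)
  (X₀ : AlgSp.Space S) (e₀ : ofSp X₀.obj ⥤ᵇ fp v f) (he₀ : IsEquivOver e₀) (i : 𝒳' ⥤ᵇ 𝒳)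
  (W' : AlgSp.Space S) (eB : ofSp W'.obj ⥤ᵇ fp (BasedFunctor.comp e₀ (fpSnd v f)) i)
  (heB : IsEquivOver eB) (β : W'.obj ⟶ X₀.obj)
  (θ : BasedFunctor.comp eB (fpFst (BasedFunctor.comp e₀ (fpSnd v f)) i) ≅ ofSpMap β)

/-- the equivalence presenting `𝒱 ×_𝒴 𝒳'` by the preimage. -/
noncomputable def restrG : ofSp W'.obj ⥤ᵇ fp v (BasedFunctor.comp i f) :=
  BasedFunctor.comp eB (BasedFunctor.comp (fpPre e₀ (fpSnd v f) i) (pasteRInv v f i))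

include he₀ heB in
theorem isEquivOver_restrG : IsEquivOver (restrG v f X₀ e₀ i W' eB) :=
  IsEquivOver.comp heB (IsEquivOver.comp (isEquivOver_fpPre e₀ he₀ (fpSnd v f) i)
    (isEquivOver_pasteRInv v f i))

include θ in
theorem map_restrG :
    Pres.map (Pres.ofEquiv W'.obj (restrG v f X₀ e₀ i W' eB)
        (isEquivOver_restrG v f X₀ e₀ he₀ i W' eB heB)) pV
        (fpFst v (BasedFunctor.comp i f)) =
      β ≫ Pres.map (Pres.ofEquiv X₀.obj e₀ he₀) pV (fpFst v f) := by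
  apply Pres.map_unique
  exact whiskerRightIso θ (BasedFunctor.comp e₀ (fpFst v f)) ≪≫
    whiskerLeftIso (ofSpMap β) (Pres.mapIso (Pres.ofEquiv X₀.obj e₀ he₀) pV (fpFst v f)) ≪≫
    whiskerRightIso (Groth.Agent.Helper19.PshLib.ofPshMapComp β.hom
      (Pres.map (Pres.ofEquiv X₀.obj e₀ he₀) pV (fpFst v f)).hom) pV.e

include heB θ in
/-- B: the restricted morphism has `P` after base change to the atlas iff the preimage has. -/
theorem repByAlgSpWith_restrG_iff {P : MorphismProperty (AlgSp.Sp S)} (hPb : StableAlg P)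
    (hPd : DescAtlas P) (hpV : AlgSp.IsAlgSpace pV.sp) :
    RepByAlgSpWith P (fpFst v (BasedFunctor.comp i f)) ↔
      P (β ≫ Pres.map (Pres.ofEquiv X₀.obj e₀ he₀) pV (fpFst v f)) := by
  rw [Pres.repByAlgSpWith_iff_map hPb hPd (Pres.ofEquiv W'.obj (restrG v f X₀ e₀ i W' eB)
    (isEquivOver_restrG v f X₀ e₀ he₀ i W' eB heB)) pV W'.property hpV,
    map_restrG v pV f X₀ e₀ he₀ i W' eB heB β θ]

end pieceB


section claimA

/-- Claim A with the atlas exposed: the image of the largest open of the chart is an open substack on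
which `f` has `P`. -/
theorem claimA
    (h𝒳 : AlgSt.IsAlgStack Scheme.fppfPrecoverage 𝒳) (h𝒴 : AlgSt.IsAlgStack Scheme.fppfPrecoverage 𝒴)
    (P Q R : MorphismProperty (AlgSp.Sp S))
    (hPb : StableAlg P)
    (hP : AlgSp.IsLocalOnBase AlgSp.IsFppfCover P)
    (h₂ : ∀ (X Y : AlgSp.Space S) (g : X ⟶ Y), AlgSp.LocP @Smooth g.hom → R g.hom)
    (h₄ : ∀ (X Y X' Y' : AlgSp.Space S) (f : X ⟶ Y) (g : Y' ⟶ Y) (f' : X' ⟶ Y') (g' : X' ⟶ X),
      IsPullback g'.hom f'.hom f.hom g.hom → Q f.hom → R g.hom →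
      ∀ (W : AlgSp.Space S) (w : W ⟶ X), Largest P f W w →
        ∀ (W' : AlgSp.Space S) (w' : W' ⟶ X') (k : W' ⟶ W), IsPullback k.hom w'.hom w.hom g'.hom →
          Largest P f' W' w')
    (f : 𝒳 ⥤ᵇ 𝒴) (hf : AlgSt.RepByAlgSpWith Q f)
    {V₀ : Over S} (v : overCat V₀ ⥤ᵇ 𝒴) (hv : RepByAlgSpWith (AlgSp.LocP @Smooth) v)
    (hvs : RepByAlgSpWith AlgSp.IsSurjectiveMor v)
    (X₀ : AlgSp.Space S) (e₀ : ofSp X₀.obj ⥤ᵇ fp v f) (he₀ : IsEquivOver e₀)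
    (hQ₀ : Q (Pres.map (Pres.ofEquiv X₀.obj e₀ he₀) (Pres.ov V₀) (fpFst v f)))
    (W₀ : AlgSp.Space S) (w₀ : W₀ ⟶ X₀)
    (hW₀ : Largest P (Y := ⟨(AlgSp.yon S).obj V₀, AlgSp.IsAlgSpace.yon_obj V₀⟩)
      (ObjectProperty.homMk (Pres.map (Pres.ofEquiv X₀.obj e₀ he₀) (Pres.ov V₀) (fpFst v f))) W₀ w₀) :
    IsOpenSubstack 𝒳 (ofSet (Set.range (Points.map (BasedFunctor.comp (ofSpMap w₀.hom)
        (BasedFunctor.comp e₀ (fpSnd v f)))))) Scheme.fppfPrecoverage ∧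
      RepByAlgSpWith P (BasedFunctor.comp (subIncl 𝒳 (ofSet (Set.range (Points.map
        (BasedFunctor.comp (ofSpMap w₀.hom) (BasedFunctor.comp e₀ (fpSnd v f))))))) f) := by
  have hPd : DescAtlas P := descAtlas_of_isLocalOnBase hP
  let Y₀ : AlgSp.Space S := ⟨(AlgSp.yon S).obj V₀, AlgSp.IsAlgSpace.yon_obj V₀⟩
  let a₀ : X₀ ⟶ Y₀ :=
    ObjectProperty.homMk (Pres.map (Pres.ofEquiv X₀.obj e₀ he₀) (Pres.ov V₀) (fpFst v f))
  -- the chart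
  let U : ofSp X₀.obj ⥤ᵇ 𝒳 := BasedFunctor.comp e₀ (fpSnd v f)
  have hu₀ : RepByAlgSpWith (AlgSp.LocP @Smooth) (fpSnd v f) := repByAlgSpWith_fpSnd v f hv
  have hu₀s : RepByAlgSpWith AlgSp.IsSurjectiveMor (fpSnd v f) := repByAlgSpWith_fpSnd v f hvs
  have hU : RepByAlgSpWith (AlgSp.LocP @Smooth) U :=
    (repByAlgSpWith_equiv_comp e₀ he₀ (fpSnd v f)).2 hu₀
  have hUs : RepByAlgSpWith AlgSp.IsSurjectiveMor U :=
    (repByAlgSpWith_equiv_comp e₀ he₀ (fpSnd v f)).2 hu₀s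
  have hUsurj : IsSurjective U := isSurjective_of_repByAlgSpWith h𝒳.isStack.1 U hUs
  -- the open substack
  let T : Set (Points 𝒳) := Set.range (Points.map (BasedFunctor.comp (ofSpMap w₀.hom) U))
  have hopen : IsOpen T := isOpen_range_open_chart h𝒳 X₀ U hU W₀ w₀ hW₀.1
  have hsub := isOpenSubstack_ofSet h𝒳 T hopen
  -- auxiliary presentations for the saturation argument
  have h𝒫 : IsFibGrpd (fp v f).p :=
    Groth.Agent.S6401.result v f (Groth.Agent.Helper19.ChartOver.isFibGrpd_overCat V₀)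
      h𝒳.isStack.1 h𝒴.isStack.1
  obtain ⟨A₂, e₂, he₂, -⟩ := hv V₀ v
  obtain ⟨B, eB, -, heB, -, -⟩ := exists_rep_fp_of_space hPb_smooth hPd_smooth h𝒫 h𝒳.isStack.1
    (fpSnd v f) hu₀ X₀ U
  let e₁ : ofSp B.obj ⥤ᵇ fp (fpSnd v f) (fpSnd v f) :=
    BasedFunctor.comp eB (fpPre e₀ (fpSnd v f) (fpSnd v f))
  have he₁ : IsEquivOver e₁ := IsEquivOver.comp heB (isEquivOver_fpPre e₀ he₀ _ _)
  have hg₁ : R (Pres.map (Pres.ofEquiv A₂.obj e₂ he₂) (Pres.ov V₀) (fpFst v v)) := by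
    have h1 : RepByAlgSpWith (AlgSp.LocP @Smooth) (fpFst v v) := repByAlgSpWith_fpFst v v hv
    have h2 := (Pres.repByAlgSpWith_iff_map hPb_smooth hPd_smooth (Pres.ofEquiv A₂.obj e₂ he₂)
      (Pres.ov V₀) A₂.property (AlgSp.IsAlgSpace.yon_obj V₀) (fpFst v v)).1 h1
    exact h₂ A₂ Y₀ (ObjectProperty.homMk _) h2
  have hg₂ : R (Pres.map (Pres.ofEquiv A₂.obj e₂ he₂) (Pres.ov V₀) (fpSnd v v)) := by
    have h1 : RepByAlgSpWith (AlgSp.LocP @Smooth) (fpSnd v v) := repByAlgSpWith_fpSnd v v hv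
    have h2 := (Pres.repByAlgSpWith_iff_map hPb_smooth hPd_smooth (Pres.ofEquiv A₂.obj e₂ he₂)
      (Pres.ov V₀) A₂.property (AlgSp.IsAlgSpace.yon_obj V₀) (fpSnd v v)).1 h1
    exact h₂ A₂ Y₀ (ObjectProperty.homMk _) h2
  have hsat : ∀ x₀ x : AlgSp.Points X₀.obj, x₀ ∈ Set.range (AlgSp.Points.map w₀.hom) →
      Points.map U (ptsMap X₀.obj x₀) = Points.map U (ptsMap X₀.obj x) →
      x ∈ Set.range (AlgSp.Points.map w₀.hom) :=
    fun x₀ x hx₀ h => saturation h𝒳 h𝒴 P Q R h₄ v f X₀ e₀ he₀ A₂ e₂ he₂ B e₁ he₁ hQ₀ hg₁ hg₂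
      W₀ w₀ hW₀ x₀ x hx₀ h
  -- points of `T` seen on the chart
  have hT : ∀ x : AlgSp.Points X₀.obj, Points.map U (ptsMap X₀.obj x) ∈ T ↔
      x ∈ Set.range (AlgSp.Points.map w₀.hom) := by
    intro x
    constructor
    · rintro ⟨y, hy⟩
      obtain ⟨y', rfl⟩ := (ptsMap_bijective W₀.obj).2 y
      rw [StPts.map_comp, ← ptsMap_map] at hy
      exact hsat _ x ⟨y', rfl⟩ hy
    · rintro ⟨y', rfl⟩
      refine ⟨ptsMap W₀.obj y', ?_⟩
      rw [StPts.map_comp, ← ptsMap_map]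
  refine ⟨hsub, ?_⟩
  have h1i : RepByAlgSp1 (subIncl 𝒳 (ofSet T)) :=
    Groth.Agent.Helper19.PshSt.RepByAlgSpWith.repByAlgSp1 hsub.2.2
  have h1f : RepByAlgSp1 f := Groth.Agent.Helper19.PshSt.RepByAlgSpWith.repByAlgSp1 hf
  have h1 : RepByAlgSp1 (BasedFunctor.comp (subIncl 𝒳 (ofSet T)) f) :=
    repByAlgSp1_comp hsub.2.1.isStack.1 h𝒳.isStack.1 _ _ h1i h1f
  refine Groth.Agent.Helper19.DescCover.repByAlgSpWith_of_cover hPb hP hsub.2.1.isStack.1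
    h𝒴.isStack.1 (Groth.Agent.Helper19.ChartOver.isFibGrpd_overCat V₀) _ h1 v
    (Groth.Agent.Helper19.DescCover.repByAlgSpWith_fppfP v (repByAlgSpWith_flat_of_smooth v hv)
      (repByAlgSpWith_lfp_of_smooth v hv) hvs) ?_
  obtain ⟨W', eW, β, heW, ⟨θ⟩, hβ⟩ := exists_preimage_open h𝒳 (ofSet T) hsub X₀ U
  rw [repByAlgSpWith_restr_iff v f X₀ e₀ he₀ (subIncl 𝒳 (ofSet T)) W' eW heW β θ hPb hPd]
  -- `W'` and `W₀` are the same open subspace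
  have hmem : ∀ x : AlgSp.Points X₀.obj, x ∈ Set.range (AlgSp.Points.map β) ↔
      x ∈ Set.range (AlgSp.Points.map w₀.hom) := by
    intro x
    rw [mem_range_preimage_iff h𝒳 (ofSet T) hsub X₀ U W' eW β heW θ x, range_ofSet, hT]
  obtain ⟨k₂, hk₂⟩ := (factors_through_open_iff w₀.hom hW₀.1 β).2 (by
    rintro x hx
    exact (hmem x).1 hx)
  obtain ⟨k₁, hk₁⟩ := (factors_through_open_iff β hβ w₀.hom).2 (by
    rintro x hx
    exact (hmem x).2 hx)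
  haveI : Mono β := mono_of_repWith isOpenImmersion_le_mono β hβ
  haveI : Mono w₀.hom := mono_of_repWith isOpenImmersion_le_mono w₀.hom hW₀.1
  have hiso : IsIso k₂ := by
    refine ⟨k₁, ?_, ?_⟩
    · rw [← cancel_mono β, Category.assoc, hk₁, hk₂, Category.id_comp]
    · rw [← cancel_mono w₀.hom, Category.assoc, hk₂, hk₁, Category.id_comp]
  have sq : IsPullback k₂ (β ≫ a₀.hom) (w₀.hom ≫ a₀.hom) (𝟙 _) :=
    IsPullback.of_horiz_isIso ⟨by rw [Category.comp_id, ← Category.assoc, hk₂]⟩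
  exact hPb W₀.property Y₀.property W'.property Y₀.property _ _ _ _ sq hW₀.2.1

end claimA


section psi

variable {𝒱 𝒵 : AlgSt.Cat S} (v : 𝒱 ⥤ᵇ 𝒴) (z : 𝒵 ⥤ᵇ 𝒴) (f : 𝒳 ⥤ᵇ 𝒴)

/-- `(𝒱 ×_𝒴 𝒵) ×_𝒱 (𝒱 ×_𝒴 𝒳) ⟶ (𝒱 ×_𝒴 𝒵) ×_𝒵 (𝒵 ×_𝒴 𝒳)`. -/
def PsiBC : fp (fpFst v z) (fpFst v f) ⥤ᵇ fp (fpSnd v z) (fpFst z f) :=
  BasedFunctor.comp (pasteLInv (fpFst v z) v f)
    (BasedFunctor.comp (fpCongrLeft f (fpIso v z)) (pasteL (fpSnd v z) z f))

theorem isEquivOver_PsiBC : IsEquivOver (PsiBC v z f) :=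
  IsEquivOver.comp (isEquivOver_pasteLInv _ _ _)
    (IsEquivOver.comp (isEquivOver_fpCongrLeft _ _) (isEquivOver_pasteL _ _ _))

theorem PsiBC_comp_fpFst :
    BasedFunctor.comp (PsiBC v z f) (fpFst (fpSnd v z) (fpFst z f)) =
      fpFst (fpFst v z) (fpFst v f) := rfl

theorem PsiBC_comp_fpSnd_fpSnd :
    BasedFunctor.comp (PsiBC v z f)
        (BasedFunctor.comp (fpSnd (fpSnd v z) (fpFst z f)) (fpSnd z f)) =
      BasedFunctor.comp (fpSnd (fpFst v z) (fpFst v f)) (fpSnd v f) := rfl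

end psi

end Groth.Agent.Helper19.LargestBC
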