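import Mathlib
import Groth.Agent.Lib.Helper19.LargestBC2

/-!
# Largest open substacks and base change: the main comparison (helper19)
-/

set_option autoImplicit false
set_option backward.isDefEq.respectTransparency false

universe u

open CategoryTheory CategoryTheory.Limits AlgebraicGeometry

namespace Groth.Agent.Helper19.LargestBC

open FibCat AlgSt Stk Groth.Agent.Helper19.FibLib Groth.Agent.Helper19.StLib
  Groth.Agent.Helper19.AlgP Groth.Agent.Helper19.SpProps Groth.Agent.Helper19.SpDict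
  Groth.Agent.Helper19.PshSt Groth.Agent.Helper19.LocQCore Groth.Agent.Helper16.AS
  Groth.Agent.Helper15 Groth.Agent.Helper19.StPts Groth.Agent.Helper19.OpenSub
  Groth.Agent.Helper19.SrcLoc Groth.Agent.Helper19.LargestOpenSt

variable {S : Scheme.{u}} {𝒳 𝒴 𝒵 : AlgSt.Cat S}

theorem isSurjective_comp' {𝒜 ℬ 𝒞 : AlgSt.Cat S} (f : 𝒜 ⥤ᵇ ℬ) (g : ℬ ⥤ᵇ 𝒞) (hf : IsSurjective f)
    (hg : IsSurjective g) : IsSurjective (BasedFunctor.comp f g) := by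
  intro z
  obtain ⟨y, rfl⟩ := hg z
  obtain ⟨x, rfl⟩ := hf y
  exact ⟨x, StPts.map_comp f g x⟩

theorem range_subset_preimage
    (h𝒳 : AlgSt.IsAlgStack Scheme.fppfPrecoverage 𝒳) (h𝒴 : AlgSt.IsAlgStack Scheme.fppfPrecoverage 𝒴)
    (h𝒵 : AlgSt.IsAlgStack Scheme.fppfPrecoverage 𝒵)
    (P Q R : MorphismProperty (AlgSp.Sp S))
    (hPb : StableAlg P)
    (hP : AlgSp.IsLocalOnBase AlgSp.IsFppfCover P)
    (h₂ : ∀ (X Y : AlgSp.Space S) (g : X ⟶ Y), AlgSp.LocP @Smooth g.hom → R g.hom)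
    (h₃ : ∀ (X Y : AlgSp.Space S) (f : X ⟶ Y), Q f.hom →
      ∃ (W : AlgSp.Space S) (w : W ⟶ X), Largest P f W w)
    (h₄ : ∀ (X Y X' Y' : AlgSp.Space S) (f : X ⟶ Y) (g : Y' ⟶ Y) (f' : X' ⟶ Y') (g' : X' ⟶ X),
      IsPullback g'.hom f'.hom f.hom g.hom → Q f.hom → R g.hom →
      ∀ (W : AlgSp.Space S) (w : W ⟶ X), Largest P f W w →
        ∀ (W' : AlgSp.Space S) (w' : W' ⟶ X') (k : W' ⟶ W), IsPullback k.hom w'.hom w.hom g'.hom →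
          Largest P f' W' w')
    (f : 𝒳 ⥤ᵇ 𝒴) (hf : AlgSt.RepByAlgSpWith Q f)
    (Q₀ : 𝒳.obj → Prop) (hQ₀ : AlgSt.IsOpenSubstack 𝒳 Q₀ Scheme.fppfPrecoverage)
    (hQ₀max : ∀ Q₁ : 𝒳.obj → Prop, AlgSt.IsOpenSubstack 𝒳 Q₁ Scheme.fppfPrecoverage →
      AlgSt.RepByAlgSpWith P (BasedFunctor.comp (AlgSt.subIncl 𝒳 Q₁) f) → ∀ y, Q₁ y → Q₀ y)
    (z : 𝒵 ⥤ᵇ 𝒴) (hz : AlgSt.RepByAlgSpWith R z)
    (Q₁ : (fp z f).obj → Prop) (hQ₁ : AlgSt.IsOpenSubstack (fp z f) Q₁ Scheme.fppfPrecoverage)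
    (hP₁ : AlgSt.RepByAlgSpWith P (BasedFunctor.comp (AlgSt.subIncl (fp z f) Q₁) (fpFst z f))) :
    Set.range (Points.map (subIncl (fp z f) Q₁)) ⊆
      Points.map (fpSnd z f) ⁻¹' Set.range (Points.map (subIncl 𝒳 Q₀)) := by
  have hPd : DescAtlas P := descAtlas_of_isLocalOnBase hP
  have h𝒫 : IsAlgStack Scheme.fppfPrecoverage (fp z f) :=
    Groth.Agent.Helper19.ProdAlg.isAlgStack_fp h𝒴.isStack h𝒴.diag h𝒵 h𝒳 z f
  obtain ⟨V₀, v, hv, hvs⟩ := h𝒴.atlas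
  obtain ⟨X₀, e₀, he₀, hQX⟩ := hf V₀ v
  rw [← map_ofEquiv_ov X₀.obj e₀ he₀] at hQX
  obtain ⟨Z₀, eZ, heZ, hRZ⟩ := hz V₀ v
  rw [← map_ofEquiv_ov Z₀.obj eZ heZ] at hRZ
  let pV := Pres.ov V₀
  let pX := Pres.ofEquiv X₀.obj e₀ he₀
  let pZ := Pres.ofEquiv Z₀.obj eZ heZ
  let Y₀ : AlgSp.Space S := ⟨(AlgSp.yon S).obj V₀, AlgSp.IsAlgSpace.yon_obj V₀⟩
  let a₀ : X₀ ⟶ Y₀ := ObjectProperty.homMk (Pres.map pX pV (fpFst v f))
  let g₀ : Z₀ ⟶ Y₀ := ObjectProperty.homMk (Pres.map pZ pV (fpFst v z))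
  obtain ⟨W₀, w₀, hW₀⟩ := h₃ X₀ Y₀ a₀ hQX
  -- Claim A for `𝒳`
  obtain ⟨hTsub, hTP⟩ := claimA h𝒳 h𝒴 P Q R hPb hP h₂ h₄ f hf v hv hvs X₀ e₀ he₀ hQX W₀ w₀ hW₀
  have hT₀ : Set.range (Points.map (BasedFunctor.comp (ofSpMap w₀.hom)
      (BasedFunctor.comp e₀ (fpSnd v f)))) ⊆ Set.range (Points.map (subIncl 𝒳 Q₀)) := by
    have h1 := hQ₀max _ hTsub hTP
    have h2 := ((bijOn_isOpen_points h𝒳).2 _ Q₀ hTsub hQ₀).1 h1
    rwa [range_ofSet] at h2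
  -- the chart of `𝒫 = 𝒵 ×_𝒴 𝒳`
  let c' : Pres (fp (fpFst v z) (fpFst v f)) := Pres.fpPres pZ pX pV (fpFst v z) (fpFst v f)
  have hc'sp : AlgSp.IsAlgSpace c'.sp :=
    isAlgSpace_pullback Z₀.property Y₀.property X₀.property g₀.hom a₀.hom
  let X₀' : AlgSp.Space S := ⟨c'.sp, hc'sp⟩
  let fst' : X₀' ⟶ Z₀ := ObjectProperty.homMk
    (pullback.fst (Pres.map pZ pV (fpFst v z)) (Pres.map pX pV (fpFst v f)))
  let snd' : X₀' ⟶ X₀ := ObjectProperty.homMk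
    (pullback.snd (Pres.map pZ pV (fpFst v z)) (Pres.map pX pV (fpFst v f)))
  have sq' : IsPullback snd'.hom fst'.hom a₀.hom g₀.hom :=
    (IsPullback.of_hasPullback (Pres.map pZ pV (fpFst v z)) (Pres.map pX pV (fpFst v f))).flip
  let W₀' : AlgSp.Space S := ⟨pullback w₀.hom snd'.hom,
    isAlgSpace_pullback W₀.property X₀.property X₀'.property _ _⟩
  let w₀' : W₀' ⟶ X₀' := ObjectProperty.homMk (pullback.snd w₀.hom snd'.hom)
  let k₀ : W₀' ⟶ W₀ := ObjectProperty.homMk (pullback.fst w₀.hom snd'.hom)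
  have sqW : IsPullback k₀.hom w₀'.hom w₀.hom snd'.hom := IsPullback.of_hasPullback _ _
  have hL' : Largest P fst' W₀' w₀' :=
    h₄ X₀ Y₀ X₀' Z₀ a₀ g₀ fst' snd' sq' hQX hRZ W₀ w₀ hW₀ W₀' w₀' k₀ sqW
  -- the chart as a presentation of the base change to the atlas `𝒱 ×_𝒴 𝒵 ⟶ 𝒵`
  let e₀' : ofSp X₀'.obj ⥤ᵇ fp (fpSnd v z) (fpFst z f) := BasedFunctor.comp c'.e (PsiBC v z f)
  have he₀' : IsEquivOver e₀' := IsEquivOver.comp c'.isEquivOver_e (isEquivOver_PsiBC v z f)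
  let U' : ofSp X₀'.obj ⥤ᵇ fp z f := BasedFunctor.comp e₀' (fpSnd (fpSnd v z) (fpFst z f))
  obtain ⟨W₁, eW, β, heW, ⟨θ⟩, hβ⟩ := exists_preimage_open h𝒫 Q₁ hQ₁ X₀' U'
  have hP₂ : RepByAlgSpWith P (fpFst (fpSnd v z)
      (BasedFunctor.comp (subIncl (fp z f) Q₁) (fpFst z f))) := repByAlgSpWith_fpFst _ (fpSnd v z) hP₁
  rw [repByAlgSpWith_restrG_iff (fpSnd v z) pZ (fpFst z f) X₀' e₀' he₀' (subIncl (fp z f) Q₁) W₁ eW heW
    β θ hPb hPd Z₀.property] at hP₂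
  have hmap : Pres.map (Pres.ofEquiv X₀'.obj e₀' he₀') pZ (fpFst (fpSnd v z) (fpFst z f)) =
      fst'.hom := by
    rw [map_ofEquiv_comp c' (PsiBC v z f) he₀' pZ (fpFst (fpSnd v z) (fpFst z f))]
    exact Pres.map_fpPres_fpFst pZ pX pV (fpFst v z) (fpFst v f)
  rw [hmap] at hP₂
  obtain ⟨k, hk⟩ := hL'.2.2 W₁ (ObjectProperty.homMk β) hβ hP₂
  have hk' : k.hom ≫ w₀'.hom = β := congrArg (fun m : W₁ ⟶ X₀' => m.hom) hk
  -- surjectivity of the chart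
  have hfibV := Groth.Agent.Helper19.ChartOver.isFibGrpd_overCat V₀
  have hfibB : IsFibGrpd (fp v z).p :=
    Groth.Agent.S6401.result v z hfibV h𝒵.isStack.1 h𝒴.isStack.1
  have hvsurj : IsSurjective v := isSurjective_of_repByAlgSpWith h𝒴.isStack.1 v hvs
  have hv'surj : IsSurjective (fpSnd v z) :=
    Groth.Agent.Helper19.QcPts.isSurjective_fpSnd h𝒵.isStack.1 h𝒴.isStack.1 hfibV z v hvsurj
  have hU'surj : IsSurjective U' :=
    isSurjective_comp' e₀' _ (mapHomeo e₀' he₀').surjective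
      (Groth.Agent.Helper19.QcPts.isSurjective_fpSnd h𝒫.isStack.1 h𝒵.isStack.1 hfibB (fpFst z f)
        (fpSnd v z) hv'surj)
  -- the comparison of the two charts
  have hsnd : Pres.map c' pX (fpSnd (fpFst v z) (fpFst v f)) = snd'.hom :=
    Pres.map_fpPres_fpSnd pZ pX pV (fpFst v z) (fpFst v f)
  have ι := whiskerRightIso (Pres.mapIso c' pX (fpSnd (fpFst v z) (fpFst v f))) (fpSnd v f)
  rw [hsnd] at ι
  -- points
  rintro w ⟨w₁, rfl⟩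
  rw [Set.mem_preimage]
  obtain ⟨x'', hx''⟩ := hU'surj (Points.map (subIncl (fp z f) Q₁) w₁)
  obtain ⟨x', rfl⟩ := (ptsMap_bijective X₀'.obj).2 x''
  have hx'β : x' ∈ Set.range (AlgSp.Points.map β) := by
    rw [mem_range_preimage_iff h𝒫 Q₁ hQ₁ X₀' U' W₁ eW β heW θ x', hx'']
    exact ⟨w₁, rfl⟩
  obtain ⟨y', rfl⟩ := hx'β
  have hx₀ : AlgSp.Points.map snd'.hom (AlgSp.Points.map β y') =
      AlgSp.Points.map w₀.hom (AlgSp.Points.map k₀.hom (AlgSp.Points.map k.hom y')) := by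
    have e1 : w₀'.hom ≫ snd'.hom = k₀.hom ≫ w₀.hom := sqW.w.symm
    calc AlgSp.Points.map snd'.hom (AlgSp.Points.map β y')
        = AlgSp.Points.map (k.hom ≫ k₀.hom ≫ w₀.hom) y' := by
          rw [← hk', ← AlgSp.Points.map_comp, Category.assoc, e1]
      _ = _ := by rw [AlgSp.Points.map_comp, AlgSp.Points.map_comp]
  rw [← hx'']
  apply hT₀
  refine ⟨ptsMap W₀.obj (AlgSp.Points.map k₀.hom (AlgSp.Points.map k.hom y')), ?_⟩
  rw [StPts.map_comp, ← ptsMap_map, ← hx₀, ptsMap_map, ← StPts.map_comp, ← StPts.map_comp]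
  exact (congrFun (StPts.map_congr ι) _).symm

end Groth.Agent.Helper19.LargestBC
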