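import Groth.Prelude.Def_W4c1bouilletffgsL3
import Mathlib.RingTheory.MvPolynomial.MonomialOrder
import Mathlib.Data.Finsupp.MonomialOrder
import Mathlib.Algebra.MvPolynomial.Eval
import Mathlib.Tactic.Ring
import Mathlib.Tactic.LinearCombination
import Mathlib.Tactic.FinCases

set_option autoImplicit false

namespace Groth.Agent.Helper19.Lie3

open MvPolynomial Lie3Mod

variable (A : Type*) [CommRing A]

theorem Q1_eq : Q1 A = vh * L1 A + (-vg) * L2 A + vi * L3 A := by
  simp only [Q1, L1, L2, L3]; ring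

theorem Q2_eq : Q2 A = (-ve) * L1 A + (-vh) * L2 A + vb * L3 A := by
  simp only [Q2, L1, L2, L3]; ring

theorem Q3_eq : Q3 A = (-vf) * L1 A + (-vi) * L2 A + vc * L3 A := by
  simp only [Q3, L1, L2, L3]; ring

theorem det_L1 : detM A * L1 A =
    (-(vh * vc) + vb * vi) * Q1 A + (vg * vc - vi ^ 2) * Q2 A + (-(vg * vb) + vi * vh) * Q3 A := by
  simp only [detM, Q1, Q2, Q3, L1]; ring

theorem det_L2 : detM A * L2 A =
    (ve * vc - vb * vf) * Q1 A + (vh * vc + vi * vf) * Q2 A + (-(vh * vb) - vi * ve) * Q3 A := by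
  simp only [detM, Q1, Q2, Q3, L2]; ring

theorem det_L3 : detM A * L3 A =
    (ve * vi - vh * vf) * Q1 A + (vh * vi + vg * vf) * Q2 A + (-(vh ^ 2) - vg * ve) * Q3 A := by
  simp only [detM, Q1, Q2, Q3, L3]; ring


theorem Q1_mem_idI : Q1 A ∈ idI A := Ideal.subset_span (by simp)
theorem Q2_mem_idI : Q2 A ∈ idI A := Ideal.subset_span (by simp)
theorem Q3_mem_idI : Q3 A ∈ idI A := Ideal.subset_span (by simp)
theorem L1_mem_idL : L1 A ∈ idL A := Ideal.subset_span (by simp)
theorem L2_mem_idL : L2 A ∈ idL A := Ideal.subset_span (by simp)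
theorem L3_mem_idL : L3 A ∈ idL A := Ideal.subset_span (by simp)
theorem detM_mem_idJ : detM A ∈ idJ A := Ideal.subset_span (by simp)

theorem idI_le_idL : idI A ≤ idL A := by
  rw [idI, Ideal.span_le]
  intro x hx
  simp only [Set.mem_insert_iff, Set.mem_singleton_iff] at hx
  have h1 := L1_mem_idL A
  have h2 := L2_mem_idL A
  have h3 := L3_mem_idL A
  rcases hx with rfl | rfl | rfl
  · rw [Q1_eq]
    exact add_mem (add_mem (Ideal.mul_mem_left _ _ h1) (Ideal.mul_mem_left _ _ h2))
      (Ideal.mul_mem_left _ _ h3)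
  · rw [Q2_eq]
    exact add_mem (add_mem (Ideal.mul_mem_left _ _ h1) (Ideal.mul_mem_left _ _ h2))
      (Ideal.mul_mem_left _ _ h3)
  · rw [Q3_eq]
    exact add_mem (add_mem (Ideal.mul_mem_left _ _ h1) (Ideal.mul_mem_left _ _ h2))
      (Ideal.mul_mem_left _ _ h3)

theorem idI_le_idJ : idI A ≤ idJ A := by
  rw [idI, idJ]
  apply Ideal.span_mono
  intro x hx
  simp only [Set.mem_insert_iff, Set.mem_singleton_iff] at hx ⊢
  tauto

theorem mul_detM_mem_idI {r : D A} (hr : r ∈ idL A) : r * detM A ∈ idI A := by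
  have h1 := Q1_mem_idI A
  have h2 := Q2_mem_idI A
  have h3 := Q3_mem_idI A
  have hcomb : ∀ c1 c2 c3 : D A, c1 * Q1 A + c2 * Q2 A + c3 * Q3 A ∈ idI A := fun c1 c2 c3 =>
    add_mem (add_mem (Ideal.mul_mem_left _ _ h1) (Ideal.mul_mem_left _ _ h2))
      (Ideal.mul_mem_left _ _ h3)
  rw [idL] at hr
  induction hr using Submodule.span_induction with
  | mem x hx =>
    simp only [Set.mem_insert_iff, Set.mem_singleton_iff] at hx
    rcases hx with rfl | rfl | rfl
    · rw [mul_comm, det_L1]; exact hcomb _ _ _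
    · rw [mul_comm, det_L2]; exact hcomb _ _ _
    · rw [mul_comm, det_L3]; exact hcomb _ _ _
  | zero => rw [zero_mul]; exact zero_mem _
  | add x y _ _ hx hy => rw [add_mul]; exact add_mem hx hy
  | smul a x _ hx => rw [smul_eq_mul, mul_assoc]; exact Ideal.mul_mem_left _ _ hx

theorem mem_idJ_iff {x : D A} : x ∈ idJ A ↔ ∃ q ∈ idI A, ∃ r : D A, x = q + r * detM A := by
  constructor
  · intro hx
    rw [idJ] at hx
    induction hx using Submodule.span_induction with
    | mem x hx =>
      simp only [Set.mem_insert_iff, Set.mem_singleton_iff] at hx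
      rcases hx with rfl | rfl | rfl | rfl
      · exact ⟨_, Q1_mem_idI A, 0, by ring⟩
      · exact ⟨_, Q2_mem_idI A, 0, by ring⟩
      · exact ⟨_, Q3_mem_idI A, 0, by ring⟩
      · exact ⟨0, zero_mem _, 1, by ring⟩
    | zero => exact ⟨0, zero_mem _, 0, by ring⟩
    | add x y _ _ hx hy =>
      obtain ⟨q1, hq1, r1, rfl⟩ := hx
      obtain ⟨q2, hq2, r2, rfl⟩ := hy
      exact ⟨q1 + q2, add_mem hq1 hq2, r1 + r2, by ring⟩
    | smul a x _ hx =>
      obtain ⟨q1, hq1, r1, rfl⟩ := hx
      exact ⟨a * q1, Ideal.mul_mem_left _ _ hq1, a * r1, by rw [smul_eq_mul]; ring⟩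
  · rintro ⟨q, hq, r, rfl⟩
    exact add_mem (idI_le_idJ A hq) (Ideal.mul_mem_left _ _ (detM_mem_idJ A))

/-- The retraction onto the locus `a = i, b = -f, d = -h`. -/
noncomputable def ρ : D A →ₐ[A] D A :=
  aeval ![X 8, -X 5, X 2, -X 7, X 4, X 5, X 6, X 7, X 8]

theorem ρ_L1 : ρ A (L1 A) = 0 := by simp [ρ, L1]
theorem ρ_L2 : ρ A (L2 A) = 0 := by simp [ρ, L2]
theorem ρ_L3 : ρ A (L3 A) = 0 := by simp [ρ, L3]

theorem sub_ρ_mem (x : D A) : x - ρ A x ∈ idL A := by
  have h1 := L1_mem_idL A
  have h2 := L2_mem_idL A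
  have h3 := L3_mem_idL A
  induction x using MvPolynomial.induction_on with
  | C a => simp [ρ]
  | add p q hp hq =>
    rw [map_add]
    have := add_mem hp hq
    convert this using 1
    ring
  | mul_X p j hp =>
    rw [map_mul]
    have hX : (X j : D A) - ρ A (X j) ∈ idL A := by
      fin_cases j
      · have : (X 0 : D A) - ρ A (X 0) = L1 A := by simp [ρ, L1]
        simpa [this] using h1
      · have : (X 1 : D A) - ρ A (X 1) = L2 A := by simp [ρ, L2]
        simpa [this] using h2
      · simp [ρ]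
      · have : (X 3 : D A) - ρ A (X 3) = L3 A := by simp [ρ, L3]
        simpa [this] using h3
      · simp [ρ]
      · simp [ρ]
      · simp [ρ]
      · simp [ρ]
      · simp [ρ]
    have : p * X j - ρ A p * ρ A (X j) = (p - ρ A p) * X j + ρ A p * (X j - ρ A (X j)) := by ring
    rw [this]
    exact add_mem (Ideal.mul_mem_right _ _ hp) (Ideal.mul_mem_left _ _ hX)

theorem mem_idL_iff {x : D A} : x ∈ idL A ↔ ρ A x = 0 := by
  constructor
  · intro hx
    rw [idL] at hx
    induction hx using Submodule.span_induction with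
    | mem x hx =>
      simp only [Set.mem_insert_iff, Set.mem_singleton_iff] at hx
      rcases hx with rfl | rfl | rfl
      · exact ρ_L1 A
      · exact ρ_L2 A
      · exact ρ_L3 A
    | zero => exact map_zero _
    | add x y _ _ hx hy => rw [map_add, hx, hy, add_zero]
    | smul a x _ hx => rw [smul_eq_mul, map_mul, hx, mul_zero]
  · intro hx
    have := sub_ρ_mem A x
    rwa [hx, sub_zero] at this

noncomputable def d0 : Fin 9 →₀ ℕ := Finsupp.single 2 1 + Finsupp.single 4 1 + Finsupp.single 6 1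
noncomputable def d1 : Fin 9 →₀ ℕ := Finsupp.single 2 1 + Finsupp.single 7 2
noncomputable def d2 : Fin 9 →₀ ℕ := Finsupp.single 5 2 + Finsupp.single 6 1
noncomputable def d3 : Fin 9 →₀ ℕ := Finsupp.single 4 1 + Finsupp.single 8 2
noncomputable def d4 : Fin 9 →₀ ℕ := Finsupp.single 5 1 + Finsupp.single 7 1 + Finsupp.single 8 1

theorem ρ_detM : ρ A (detM A) = monomial d0 (-1 : A) +
    (monomial d1 (-1 : A) + monomial d2 (-1 : A) + monomial d3 (1 : A) + monomial d4 (-2 : A)) := by
  simp only [monomial_eq, d0, d1, d2, d3, d4]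
  rw [Finsupp.prod_add_index' (by simp) (by intros; rw [pow_add]),
    Finsupp.prod_add_index' (by simp) (by intros; rw [pow_add]),
    Finsupp.prod_add_index' (by simp) (by intros; rw [pow_add]),
    Finsupp.prod_add_index' (by simp) (by intros; rw [pow_add]),
    Finsupp.prod_add_index' (by simp) (by intros; rw [pow_add]),
    Finsupp.prod_add_index' (by simp) (by intros; rw [pow_add]),
    Finsupp.prod_add_index' (by simp) (by intros; rw [pow_add])]
  simp only [Finsupp.prod_single_index, pow_zero, pow_one]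
  simp only [ρ, detM, map_add, map_sub, map_neg, map_mul, map_pow, aeval_X]
  simp only [Matrix.cons_val]
  simp only [map_one, map_ofNat]
  ring


open MonomialOrder in
theorem lt_d0 {d : Fin 9 →₀ ℕ} (h01 : d 0 = 0) (h1 : d 1 = 0) (h2 : d 2 = 0) :
    d ≺[MonomialOrder.lex] d0 := by
  rw [MonomialOrder.lex_lt_iff, Finsupp.Lex.lt_iff]
  refine ⟨2, ?_, ?_⟩
  · intro j hj
    fin_cases j
    · simp [d0, h01]
    · simp [d0, h1]
    · simp at hj
    · simp at hj
    · simp at hj
    · simp at hj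
    · simp at hj
    · simp at hj
    · simp at hj
  · simp [d0, h2]

open MonomialOrder in
theorem d1_lt_d0 : d1 ≺[MonomialOrder.lex] d0 := by
  rw [MonomialOrder.lex_lt_iff, Finsupp.Lex.lt_iff]
  refine ⟨4, ?_, ?_⟩
  · intro j hj
    fin_cases j
    · simp [d0, d1]
    · simp [d0, d1]
    · simp [d0, d1]
    · simp [d0, d1]
    · simp at hj
    · simp at hj
    · simp at hj
    · simp at hj
    · simp at hj
  · simp [d0, d1]


open MonomialOrder in
theorem ρ_detM_mem_nonZeroDivisors : ρ A (detM A) ∈ nonZeroDivisors (D A) := by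
  rcases subsingleton_or_nontrivial A with hA | hA
  · have : Subsingleton (D A) := inferInstance
    rw [Subsingleton.elim (ρ A (detM A)) 1]
    exact one_mem _
  classical
  apply (MonomialOrder.lex (σ := Fin 9)).mem_nonZeroDivisors_of_leadingCoeff_mem_nonZeroDivisors
  rw [ρ_detM]
  have hneg : (-1 : A) ≠ 0 := neg_ne_zero.mpr one_ne_zero
  have hdeg0 : (MonomialOrder.lex (σ := Fin 9)).degree (monomial d0 (-1 : A)) = d0 := by
    rw [degree_monomial, if_neg hneg]
  have hlt : (MonomialOrder.lex (σ := Fin 9)).degree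
      (monomial d1 (-1 : A) + monomial d2 (-1 : A) + monomial d3 (1 : A) + monomial d4 (-2 : A))
      ≺[MonomialOrder.lex] (MonomialOrder.lex (σ := Fin 9)).degree (monomial d0 (-1 : A)) := by
    rw [hdeg0]
    have e1 : (MonomialOrder.lex (σ := Fin 9)).toSyn ((MonomialOrder.lex (σ := Fin 9)).degree
        (monomial d1 (-1 : A))) < (MonomialOrder.lex (σ := Fin 9)).toSyn d0 :=
      lt_of_le_of_lt (degree_monomial_le _) d1_lt_d0
    have e2 : (MonomialOrder.lex (σ := Fin 9)).toSyn ((MonomialOrder.lex (σ := Fin 9)).degree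
        (monomial d2 (-1 : A))) < (MonomialOrder.lex (σ := Fin 9)).toSyn d0 :=
      lt_of_le_of_lt (degree_monomial_le _) (lt_d0 (by simp [d2]) (by simp [d2]) (by simp [d2]))
    have e3 : (MonomialOrder.lex (σ := Fin 9)).toSyn ((MonomialOrder.lex (σ := Fin 9)).degree
        (monomial d3 (1 : A))) < (MonomialOrder.lex (σ := Fin 9)).toSyn d0 :=
      lt_of_le_of_lt (degree_monomial_le _) (lt_d0 (by simp [d3]) (by simp [d3]) (by simp [d3]))
    have e4 : (MonomialOrder.lex (σ := Fin 9)).toSyn ((MonomialOrder.lex (σ := Fin 9)).degree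
        (monomial d4 (-2 : A))) < (MonomialOrder.lex (σ := Fin 9)).toSyn d0 :=
      lt_of_le_of_lt (degree_monomial_le _) (lt_d0 (by simp [d4]) (by simp [d4]) (by simp [d4]))
    refine lt_of_le_of_lt degree_add_le (max_lt (lt_of_le_of_lt degree_add_le (max_lt
      (lt_of_le_of_lt degree_add_le (max_lt e1 e2)) e3)) e4)
  rw [leadingCoeff_add_of_lt hlt, leadingCoeff_monomial]
  exact (isUnit_one.neg).mem_nonZeroDivisors

theorem detM_regular_mod_idL {r : D A} (h : r * detM A ∈ idL A) : r ∈ idL A := by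
  rw [mem_idL_iff] at h ⊢
  rw [map_mul] at h
  exact (mem_nonZeroDivisors_iff_right.mp (ρ_detM_mem_nonZeroDivisors A)) _ h

end Groth.Agent.Helper19.Lie3
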