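import Mathlib

/-!
# The underlying space of a cofiltered limit of schemes with affine transition maps (helper19)

`exists_point_of_isAffine`: in a cofiltered limit of affine schemes, every compatible family of
points comes from a point of the limit.
-/

set_option autoImplicit false

universe u

open CategoryTheory CategoryTheory.Limits AlgebraicGeometry

namespace Groth.Agent.Helper19.LimTop

section affine

variable {J : Type u} [Category.{u} J] [IsCofiltered J] (G : J ⥤ Scheme.{u})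
  [∀ j, IsAffine (G.obj j)] (c : Cone G) (hc : IsLimit c)

include hc in
theorem exists_point_of_isAffine (s : ∀ j, G.obj j)
    (hs : ∀ {j k : J} (f : j ⟶ k), G.map f (s j) = s k) :
    ∃ x : c.pt, ∀ j, c.π.app j x = s j := by
  classical
  haveI : IsAffine c.pt := Scheme.isAffine_of_isLimit c hc
  -- notation
  let ι : ∀ j, Γ(G.obj j, ⊤) →+* Γ(c.pt, ⊤) := fun j => (c.π.app j).appTop.hom
  let r : ∀ {j k : J} (_ : j ⟶ k), Γ(G.obj k, ⊤) →+* Γ(G.obj j, ⊤) :=
    fun f => (G.map f).appTop.hom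
  have hιr : ∀ {j k : J} (f : j ⟶ k) (a : Γ(G.obj k, ⊤)), ι j (r f a) = ι k a := by
    intro j k f a
    have h := c.w f
    have h2 : (G.map f).appTop ≫ (c.π.app j).appTop = (c.π.app k).appTop := by
      rw [← Scheme.Hom.comp_appTop, h]
    exact congr($h2 a)
  have hrr : ∀ {j k l : J} (g : j ⟶ k) (f : k ⟶ l) (a : Γ(G.obj l, ⊤)),
      r g (r f a) = r (g ≫ f) a := by
    intro j k l g f a
    have h2 : (G.map f).appTop ≫ (G.map g).appTop = (G.map (g ≫ f)).appTop := by
      rw [← Scheme.Hom.comp_appTop, G.map_comp]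
    exact congr($h2 a)
  let P : ∀ j, Ideal Γ(G.obj j, ⊤) := fun j => ((G.obj j).isoSpec.hom (s j)).asIdeal
  haveI hPprime : ∀ j, (P j).IsPrime := fun j => ((G.obj j).isoSpec.hom (s j)).isPrime
  have hP : ∀ {j k : J} (f : j ⟶ k), (P j).comap (r f) = P k := by
    intro j k f
    have h := Scheme.isoSpec_hom_naturality (G.map f)
    have h2 := congr($h (s j))
    simp only [Scheme.Hom.comp_apply] at h2
    rw [hs f] at h2
    have h3 := congrArg PrimeSpectrum.asIdeal h2
    exact h3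
  have K1 : ∀ {j k : J} (f : j ⟶ k) (a : Γ(G.obj k, ⊤)), a ∈ P k → r f a ∈ P j := by
    intro j k f a ha
    rw [← hP f] at ha
    exact ha
  have K1' : ∀ {j k : J} (f : j ⟶ k) (a : Γ(G.obj k, ⊤)), r f a ∈ P j → a ∈ P k := by
    intro j k f a ha
    rw [← hP f]
    exact ha
  have F1 : ∀ α : Γ(c.pt, ⊤), ∃ j a, ι j a = α := by
    intro α
    obtain ⟨j, a, ha⟩ := exists_appTop_π_eq_of_isAffine_of_isLimit G c hc α
    exact ⟨j, a, ha⟩
  have F2 : ∀ j (a b : Γ(G.obj j, ⊤)), ι j a = ι j b → ∃ (k : J) (f : k ⟶ j), r f a = r f b := by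
    intro j a b hab
    obtain ⟨k, f, hf⟩ := exists_appTop_map_eq_zero_of_isAffine_of_isLimit G c hc j (a - b) (by
      change ι j (a - b) = 0
      rw [map_sub, hab, sub_self])
    refine ⟨k, f, ?_⟩
    have : r f (a - b) = 0 := hf
    rw [map_sub, sub_eq_zero] at this
    exact this
  -- the prime ideal
  let p : Ideal Γ(c.pt, ⊤) :=
    { carrier := {α | ∃ j a, a ∈ P j ∧ ι j a = α}
      zero_mem' := by
        obtain ⟨j⟩ := IsCofiltered.nonempty (C := J)
        exact ⟨j, 0, (P j).zero_mem, map_zero _⟩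
      add_mem' := by
        rintro α β ⟨j, a, ha, rfl⟩ ⟨k, b, hb, rfl⟩
        refine ⟨IsCofiltered.min j k, r (IsCofiltered.minToLeft j k) a +
          r (IsCofiltered.minToRight j k) b, (P _).add_mem (K1 _ _ ha) (K1 _ _ hb), ?_⟩
        rw [map_add, hιr, hιr]
      smul_mem' := by
        rintro ρ β ⟨k, b, hb, rfl⟩
        obtain ⟨j, a, rfl⟩ := F1 ρ
        refine ⟨IsCofiltered.min j k, r (IsCofiltered.minToLeft j k) a *
          r (IsCofiltered.minToRight j k) b, (P _).mul_mem_left _ (K1 _ _ hb), ?_⟩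
        rw [map_mul, hιr, hιr, smul_eq_mul] }
  have hp_mem : ∀ α, α ∈ p ↔ ∃ j a, a ∈ P j ∧ ι j a = α := fun α => Iff.rfl
  have K3 : ∀ j, p.comap (ι j) = P j := by
    intro j
    ext a
    rw [Ideal.mem_comap, hp_mem]
    constructor
    · rintro ⟨k, b, hb, hab⟩
      let l := IsCofiltered.min j k
      have h1 : ι l (r (IsCofiltered.minToRight j k) b) = ι l (r (IsCofiltered.minToLeft j k) a) := by
        rw [hιr, hιr, hab]
      obtain ⟨m, g, hg⟩ := F2 l _ _ h1
      have h2 : r g (r (IsCofiltered.minToRight j k) b) ∈ P m := K1 _ _ (K1 _ _ hb)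
      rw [hg, hrr] at h2
      exact K1' _ _ h2
    · intro ha
      exact ⟨j, a, ha, rfl⟩
  have hpprime : p.IsPrime := by
    refine ⟨?_, ?_⟩
    · intro htop
      obtain ⟨j⟩ := IsCofiltered.nonempty (C := J)
      have h1 : (1 : Γ(G.obj j, ⊤)) ∈ p.comap (ι j) := by
        rw [Ideal.mem_comap, map_one, htop]; trivial
      rw [K3 j] at h1
      exact (hPprime j).ne_top ((Ideal.eq_top_iff_one _).2 h1)
    · intro α β hαβ
      obtain ⟨j, a, rfl⟩ := F1 α
      obtain ⟨k, b, rfl⟩ := F1 β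
      let l := IsCofiltered.min j k
      have h1 : r (IsCofiltered.minToLeft j k) a * r (IsCofiltered.minToRight j k) b ∈
          p.comap (ι l) := by
        rw [Ideal.mem_comap, map_mul, hιr, hιr]; exact hαβ
      rw [K3 l] at h1
      rcases (hPprime l).mem_or_mem h1 with h | h
      · left
        exact ⟨l, _, h, hιr _ _⟩
      · right
        exact ⟨l, _, h, hιr _ _⟩
  refine ⟨c.pt.isoSpec.inv ⟨p, hpprime⟩, fun j => ?_⟩
  have hinj : Function.Injective (G.obj j).isoSpec.hom := by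
    intro x y hxy
    have := congrArg (G.obj j).isoSpec.inv hxy
    simpa using this
  apply hinj
  have h := Scheme.isoSpec_hom_naturality (X := c.pt) (Y := G.obj j) (c.π.app j)
  have h2 := congr($h (c.pt.isoSpec.inv ⟨p, hpprime⟩))
  simp only [Scheme.Hom.comp_apply] at h2
  rw [← h2]
  have h3 : c.pt.isoSpec.hom (c.pt.isoSpec.inv ⟨p, hpprime⟩) = ⟨p, hpprime⟩ := by
    simp
  rw [h3]
  apply PrimeSpectrum.ext
  exact K3 j

end affine

theorem resLE_val {X Y : Scheme.{u}} (f : X ⟶ Y) (U : Y.Opens) (V : X.Opens) (e : V ≤ f ⁻¹ᵁ U)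
    (x : V) : ((f.resLE U V e) x).1 = f x.1 := by
  have h := congr($(Scheme.Hom.resLE_comp_ι f e) x)
  simpa using h

section general

variable {I : Type u} [Category.{u} I] [IsCofiltered I] (D : I ⥤ Scheme.{u})
  [∀ {i j : I} (f : i ⟶ j), IsAffineHom (D.map f)] (c : Cone D) (hc : IsLimit c)

include hc in
theorem exists_point (s : ∀ j, D.obj j)
    (hs : ∀ {j k : I} (f : j ⟶ k), D.map f (s j) = s k) :
    ∃ x : c.pt, ∀ j, c.π.app j x = s j := by
  obtain ⟨i₀⟩ := IsCofiltered.nonempty (C := I)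
  obtain ⟨_, ⟨U, hU : IsAffineOpen U, rfl⟩, hxU, -⟩ :=
    (D.obj i₀).isBasis_affineOpens.exists_subset_of_mem_open (Set.mem_univ (s i₀)) isOpen_univ
  haveI : ∀ j : Over i₀, IsAffine ((opensDiagram D i₀ U).obj j) := fun j => hU.preimage (D.map _)
  let s' : ∀ j : Over i₀, (opensDiagram D i₀ U).obj j := fun j => ⟨s j.left, by
    show D.map j.hom (s j.left) ∈ U
    rw [hs j.hom]; exact hxU⟩
  have hs' : ∀ {j k : Over i₀} (f : j ⟶ k), (opensDiagram D i₀ U).map f (s' j) = s' k := by
    intro j k f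
    apply Subtype.ext
    refine (resLE_val (D.map f.left) _ _ _ (s' j)).trans ?_
    exact hs f.left
  obtain ⟨x', hx'⟩ := exists_point_of_isAffine (opensDiagram D i₀ U) (opensCone D c i₀ U)
    (isLimitOpensCone D c hc i₀ U) s' hs'
  refine ⟨x'.1, fun k => ?_⟩
  have h1 := hx' (Over.mk (IsCofiltered.minToRight k i₀))
  have h2 : c.π.app (IsCofiltered.min k i₀) x'.1 = s (IsCofiltered.min k i₀) := by
    have h3 := congrArg Subtype.val h1
    exact (resLE_val (c.π.app (IsCofiltered.min k i₀)) _ _ _ x').symm.trans h3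
  rw [← c.w (IsCofiltered.minToLeft k i₀), Scheme.Hom.comp_apply, h2, hs]

include hc in
theorem basis_nbhd (W : Set c.pt) (hW : IsOpen W) (x : c.pt) (hx : x ∈ W) :
    ∃ (i : I) (V : (D.obj i).Opens), c.π.app i x ∈ V ∧ ((c.π.app i) ⁻¹' (V : Set (D.obj i))) ⊆ W := by
  have hx' : x ∈ (⟨W, hW⟩ : c.pt.Opens) := hx
  obtain ⟨_, ⟨i, V, -, rfl⟩, hxV, hVW⟩ :=
    (TopologicalSpace.Opens.isBasis_iff_nbhd.1 (isBasis_preimage_isAffineOpen D c hc)) hx'
  exact ⟨i, V, hxV, hVW⟩

include hc in
theorem eq_of_forall_π_eq (x y : c.pt) (h : ∀ j, c.π.app j x = c.π.app j y) : x = y := by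
  apply Inseparable.eq
  rw [inseparable_iff_forall_isOpen]
  intro W hW
  constructor
  · intro hx
    obtain ⟨i, V, hxV, hVW⟩ := basis_nbhd D c hc W hW x hx
    apply hVW
    show c.π.app i y ∈ V
    rw [← h i]
    exact hxV
  · intro hy
    obtain ⟨i, V, hyV, hVW⟩ := basis_nbhd D c hc W hW y hy
    apply hVW
    show c.π.app i x ∈ V
    rw [h i]
    exact hyV

include hc in
theorem nonempty_isLimit_forgetToTop :
    Nonempty (IsLimit (Scheme.forgetToTop.mapCone c)) := by
  have hty : Nonempty (IsLimit ((forget TopCat).mapCone (Scheme.forgetToTop.mapCone c))) := by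
    rw [Types.isLimit_iff]
    intro s hs
    obtain ⟨x, hx⟩ := exists_point D c hc s (fun f => hs f)
    refine ⟨x, hx, fun y hy => ?_⟩
    apply eq_of_forall_π_eq D c hc
    intro j
    exact (hy j).trans (hx j).symm
  refine (TopCat.nonempty_isLimit_iff_eq_induced _ hty.some).2 ?_
  apply le_antisymm
  · refine le_iInf fun j => ?_
    exact continuous_iff_le_induced.1 ((Scheme.forgetToTop.mapCone c).π.app j).hom.continuous
  · intro W hW
    refine (@isOpen_iff_forall_mem_open _ (_) W).2 ?_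
    intro x hx
    obtain ⟨i, V, hxV, hVW⟩ := basis_nbhd D c hc W hW x hx
    refine ⟨_, hVW, ?_, hxV⟩
    refine IsOpen.mono (t₂ := TopologicalSpace.induced
      (⇑(ConcreteCategory.hom ((Scheme.forgetToTop.mapCone c).π.app i)))
      ((D ⋙ Scheme.forgetToTop).obj i).str) (isOpen_induced V.2) ?_
    exact iInf_le _ i

end general

end Groth.Agent.Helper19.LimTop
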