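import Mathlib
import Groth.Agent.Lib.Helper19.LimTop

/-!
# Maximal points of cofiltered limits of schemes with affine transition maps (helper19)
-/

set_option autoImplicit false

universe u

open CategoryTheory CategoryTheory.Limits AlgebraicGeometry

namespace Groth.Agent.Helper19.LimMax

section top

variable {X : Type*} [TopologicalSpace X]

/-- a point without proper generizations -/
def IsMax (m : X) : Prop := ∀ z : X, z ⤳ m → z = m

/-- every point of a quasi-sober `T0` space has a maximal generization -/
theorem exists_isMax_specializes [QuasiSober X] [T0Space X] (x : X) :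
    ∃ m : X, IsMax m ∧ m ⤳ x := by
  have hirr : IsIrreducible (irreducibleComponent x) := isIrreducible_irreducibleComponent
  have hcl : IsClosed (irreducibleComponent x) := isClosed_irreducibleComponent
  have hgen := hirr.isGenericPoint_genericPoint hcl
  refine ⟨hirr.genericPoint, ?_, ?_⟩
  · intro z hz
    have h1 : closure {hirr.genericPoint} ⊆ closure {z} :=
      (specializes_iff_closure_subset.1 hz)
    have h2 : irreducibleComponent x ⊆ closure {z} := by
      rw [← hgen.def]; exact h1
    have h3 : closure {z} = irreducibleComponent x :=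
      eq_irreducibleComponent (isIrreducible_singleton.closure).isPreirreducible h2
    have h4 : closure {z} = closure {hirr.genericPoint} := by rw [h3, hgen.def]
    exact ((inseparable_iff_closure_eq).2 h4).eq
  · rw [specializes_iff_mem_closure, hgen.def]
    exact mem_irreducibleComponent

/-- an open set containing all maximal points is dense -/
theorem dense_of_forall_isMax_mem [QuasiSober X] [T0Space X] (V : Set X)
    (hV : ∀ m : X, IsMax m → m ∈ V) : Dense V := by
  rw [dense_iff_inter_open]
  intro U hU ⟨x, hx⟩
  obtain ⟨m, hm, hmx⟩ := exists_isMax_specializes x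
  exact ⟨m, hmx.mem_open hU hx, hV m hm⟩

/-- if there are only finitely many maximal points, a dense open set contains all of them -/
theorem isMax_mem_of_dense [QuasiSober X] [T0Space X] (hfin : {m : X | IsMax m}.Finite)
    (V : Set X) (hVo : IsOpen V) (hV : Dense V) (m : X) (hm : IsMax m) : m ∈ V := by
  classical
  let C : Set X := ⋃ m' ∈ {m' : X | IsMax m' ∧ m' ≠ m}, closure {m'}
  have hCcl : IsClosed C := by
    apply Set.Finite.isClosed_biUnion
    · exact hfin.subset (fun m' hm' => hm'.1)
    · intro _ _; exact isClosed_closure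
  have hmC : m ∉ C := by
    intro h
    simp only [C, Set.mem_iUnion] at h
    obtain ⟨m', ⟨hm', hne⟩, hmem⟩ := h
    exact hne (hm m' (specializes_iff_mem_closure.2 hmem))
  obtain ⟨v, hvC, hvV⟩ := (dense_iff_inter_open.1 hV) Cᶜ hCcl.isOpen_compl ⟨m, hmC⟩
  obtain ⟨m'', hm'', hm''v⟩ := exists_isMax_specializes v
  have : m'' = m := by
    by_contra hne
    apply hvC
    simp only [C, Set.mem_iUnion]
    exact ⟨m'', ⟨hm'', hne⟩, specializes_iff_mem_closure.1 hm''v⟩
  subst this
  exact hm''v.mem_open hVo hvV

end top

section lim

variable {I : Type u} [Category.{u} I] [IsCofiltered I] (D : I ⥤ Scheme.{u})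
  [∀ {i j : I} (f : i ⟶ j), IsAffineHom (D.map f)] (c : Cone D) (hc : IsLimit c)

include hc in
/-- specialization in the limit is tested on the stages -/
theorem specializes_of_forall (z s : c.pt) (h : ∀ j, c.π.app j z ⤳ c.π.app j s) : z ⤳ s := by
  rw [specializes_iff_forall_open]
  intro W hW hs
  obtain ⟨i, V, hsV, hVW⟩ := LimTop.basis_nbhd D c hc W hW s hs
  apply hVW
  exact (h i).mem_open V.2 hsV

include hc in
theorem isMax_of_forall (s : c.pt) (h : ∀ j, IsMax (c.π.app j s)) : IsMax s := by
  intro z hz
  apply LimTop.eq_of_forall_π_eq D c hc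
  intro j
  exact h j _ (hz.map (c.π.app j).continuous)

include hc in
theorem isMax_π_of_isMax (hfin : ∀ i : I, {m : D.obj i | IsMax m}.Finite)
    (hsys : ∀ (i j : I) (g : i ⟶ j) (m : D.obj i), IsMax m → IsMax (D.map g m))
    (s : c.pt) (hs : IsMax s) (j : I) : IsMax (c.π.app j s) := by
  classical
  let F : I ⥤ Type u :=
    { obj := fun j => {m : D.obj j // IsMax m ∧ m ⤳ c.π.app j s}
      map := fun {j k} f => TypeCat.ofHom (fun m => ⟨D.map f m.1, hsys _ _ f _ m.2.1, by
        have h := m.2.2.map (D.map f).continuous
        have h2 : D.map f (c.π.app j s) = c.π.app k s := by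
          rw [← Scheme.Hom.comp_apply, c.w]
        rw [← h2]
        exact h⟩)
      map_id := by
        intro j
        ext m
        simp
      map_comp := by
        intro j k l f g
        ext m
        simp }
  haveI : ∀ j, Finite (F.obj j) := by
    intro j
    haveI : Finite {m : D.obj j | IsMax m} := (hfin j).to_subtype
    exact Finite.of_injective (fun m : F.obj j => (⟨m.1, m.2.1⟩ : {m : D.obj j | IsMax m}))
      (fun a b hab => Subtype.ext (congrArg (fun t : {m : D.obj j | IsMax m} => t.1) hab))
  haveI : ∀ j, Nonempty (F.obj j) := by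
    intro j
    obtain ⟨m, hm, hms⟩ := exists_isMax_specializes (c.π.app j s)
    exact ⟨⟨m, hm, hms⟩⟩
  obtain ⟨u, hu⟩ := nonempty_sections_of_finite_cofiltered_system F
  obtain ⟨z, hz⟩ := LimTop.exists_point D c hc (fun j => (u j).1)
    (fun {j k} f => congrArg Subtype.val (hu f))
  have hzs : z ⤳ s := by
    apply specializes_of_forall D c hc
    intro j
    rw [hz j]
    exact (u j).2.2
  have hzs' : z = s := hs z hzs
  rw [← hzs', hz j]
  exact (u j).2.1

end lim

end Groth.Agent.Helper19.LimMax
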