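import Mathlib
import Groth.Agent.Lib.Helper19.LimMax

/-!
# Density of preimages of an open set in a cofiltered limit (helper19)
-/

set_option autoImplicit false

universe u

open CategoryTheory CategoryTheory.Limits AlgebraicGeometry

namespace Groth.Agent.Helper19.LimMax

section lim

variable {I : Type u} [Category.{u} I] [IsCofiltered I] (D : I ⥤ Scheme.{u})
  [∀ {i j : I} (f : i ⟶ j), IsAffineHom (D.map f)] (c : Cone D) (hc : IsLimit c)

include hc in
theorem dense_preimages (hfin : ∀ i : I, {m : D.obj i | IsMax m}.Finite)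
    (hsys : ∀ (i j : I) (g : i ⟶ j) (m : D.obj i), IsMax m → IsMax (D.map g m))
    (i₀ : I) (V₀ : (D.obj i₀).Opens) (hV : Dense (V₀ : Set (D.obj i₀))) :
    (∀ (i : I) (g : i ⟶ i₀), Dense (((D.map g) ⁻¹ᵁ V₀ : (D.obj i).Opens) : Set (D.obj i))) ∧
      Dense (((c.π.app i₀) ⁻¹ᵁ V₀ : c.pt.Opens) : Set c.pt) := by
  constructor
  · intro i g
    apply dense_of_forall_isMax_mem
    intro m hm
    exact isMax_mem_of_dense (hfin i₀) _ V₀.2 hV _ (hsys _ _ g m hm)
  · apply dense_of_forall_isMax_mem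
    intro m hm
    exact isMax_mem_of_dense (hfin i₀) _ V₀.2 hV _ (isMax_π_of_isMax D c hc hfin hsys m hm i₀)

include hc in
theorem exists_dense_stage (hfin : ∀ i : I, {m : D.obj i | IsMax m}.Finite)
    (hsys : ∀ (i j : I) (g : i ⟶ j) (m : D.obj i), IsMax m → IsMax (D.map g m))
    (i₀ : I) (V₀ : (D.obj i₀).Opens)
    (hV : Dense (((c.π.app i₀) ⁻¹ᵁ V₀ : c.pt.Opens) : Set c.pt))
    (hfinS : {s : c.pt | IsMax s}.Finite) :
    ∃ (i : I) (g : i ⟶ i₀), Dense (((D.map g) ⁻¹ᵁ V₀ : (D.obj i).Opens) : Set (D.obj i)) := by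
  classical
  by_contra hcon
  push Not at hcon
  have hex : ∀ (i : I) (g : i ⟶ i₀), ∃ m : D.obj i, IsMax m ∧ D.map g m ∉ V₀ := by
    intro i g
    by_contra h
    push Not at h
    exact hcon i g (dense_of_forall_isMax_mem _ (fun m hm => h m hm))
  let F : Over i₀ ⥤ Type u :=
    { obj := fun j => {m : D.obj j.left // IsMax m ∧ D.map j.hom m ∉ V₀}
      map := fun {j k} f => TypeCat.ofHom (fun m => ⟨D.map f.left m.1, hsys _ _ f.left _ m.2.1, by
        rw [← Scheme.Hom.comp_apply, ← D.map_comp, Over.w f]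
        exact m.2.2⟩)
      map_id := by
        intro j
        ext m
        simp
      map_comp := by
        intro j k l f g
        ext m
        simp }
  haveI : ∀ j, Finite (F.obj j) := by
    intro j
    haveI : Finite {m : D.obj j.left | IsMax m} := (hfin j.left).to_subtype
    exact Finite.of_injective
      (fun m : F.obj j => (⟨m.1, m.2.1⟩ : {m : D.obj j.left | IsMax m}))
      (fun a b hab => Subtype.ext (congrArg (fun t : {m : D.obj j.left | IsMax m} => t.1) hab))
  haveI : ∀ j, Nonempty (F.obj j) := by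
    intro j
    obtain ⟨m, hm, hms⟩ := hex j.left j.hom
    exact ⟨⟨m, hm, hms⟩⟩
  obtain ⟨u, hu⟩ := nonempty_sections_of_finite_cofiltered_system F
  haveI : ∀ {j k : Over i₀} (f : j ⟶ k), IsAffineHom ((Over.forget i₀ ⋙ D).map f) := by
    intro j k f
    dsimp
    infer_instance
  have hc' : IsLimit (c.whisker (Over.forget i₀)) :=
    (Functor.Initial.isLimitWhiskerEquiv (Over.forget i₀) c).symm hc
  obtain ⟨z, hz⟩ := LimTop.exists_point (Over.forget i₀ ⋙ D) (c.whisker (Over.forget i₀)) hc'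
    (fun j => (u j).1) (fun {j k} f => congrArg Subtype.val (hu f))
  have hzmax : IsMax (X := c.pt) z := by
    apply isMax_of_forall (Over.forget i₀ ⋙ D) (c.whisker (Over.forget i₀)) hc'
    intro j
    rw [hz j]
    exact (u j).2.1
  have hzV := isMax_mem_of_dense hfinS _ ((c.π.app i₀) ⁻¹ᵁ V₀).2 hV z hzmax
  have h1 := hz (Over.mk (𝟙 i₀))
  have h2 := (u (Over.mk (𝟙 i₀))).2.2
  apply h2
  have h3 : D.map (Over.mk (𝟙 i₀)).hom (u (Over.mk (𝟙 i₀))).1 = c.π.app i₀ z := by
    rw [← h1]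
    simp
    rfl
  rw [h3]
  exact hzV

end lim

end Groth.Agent.Helper19.LimMax
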