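import Mathlib

/-!
# Strongly cartesian morphisms in a localisation with a right calculus of fractions (helper19)
-/

set_option autoImplicit false
set_option backward.isDefEq.respectTransparency false

universe v₂ u₂ v u

open CategoryTheory

namespace Groth.Agent.Helper19.LocCart

variable {𝒜 : Type u} [Category.{v} 𝒜] {D : Type u₂} [Category.{v₂} D] (W : MorphismProperty 𝒜)
  (G : 𝒜 ⥤ D) (hG : W.IsInvertedBy G)

/-- `m` is cartesian for `G` in the strict sense. -/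
structure IsGCart {a' a : 𝒜} (m : a' ⟶ a) : Prop where
  exists_lift : ∀ {c : 𝒜} (f : c ⟶ a) (k : G.obj c ⟶ G.obj a'), k ≫ G.map m = G.map f →
    ∃ f' : c ⟶ a', f' ≫ m = f ∧ G.map f' = k
  uniq : ∀ {c : 𝒜} (f₁ f₂ : c ⟶ a'), f₁ ≫ m = f₂ ≫ m → G.map f₁ = G.map f₂ → f₁ = f₂

/-- the induced functor on the localisation. -/
noncomputable abbrev P : W.Localization ⥤ D := Localization.Construction.lift G hG

theorem P_map_Q {a b : 𝒜} (f : a ⟶ b) : (P W G hG).map (W.Q.map f) = G.map f := by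
  have := Functor.congr_hom (Localization.Construction.fac G hG) f
  simpa using this

theorem exists_obj (Z : W.Localization) : ∃ c : 𝒜, Z = W.Q.obj c :=
  ⟨(Localization.Construction.objEquiv W).symm Z,
    ((Localization.Construction.objEquiv W).apply_symm_apply Z).symm⟩

variable [W.HasRightCalculusOfFractions]

theorem uniq_aux {c a' a : 𝒜} (m : a' ⟶ a) (hm : IsGCart G m) (χ₁ χ₂ : W.Q.obj c ⟶ W.Q.obj a')
    (h1 : χ₁ ≫ W.Q.map m = χ₂ ≫ W.Q.map m) (h2 : (P W G hG).map χ₁ = (P W G hG).map χ₂) : χ₁ = χ₂ := by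
  obtain ⟨φ₁, hφ₁⟩ := Localization.exists_rightFraction W.Q W χ₁
  obtain ⟨φ₂, hφ₂⟩ := Localization.exists_rightFraction W.Q W χ₂
  have i1 : IsIso (W.Q.map φ₁.s) := Localization.inverts W.Q W φ₁.s φ₁.hs
  have i2 : IsIso (W.Q.map φ₂.s) := Localization.inverts W.Q W φ₂.s φ₂.hs
  have e1 : W.Q.map φ₁.s ≫ χ₁ = W.Q.map φ₁.f := by
    rw [hφ₁]; simp [MorphismProperty.RightFraction.map]
  have e2 : W.Q.map φ₂.s ≫ χ₂ = W.Q.map φ₂.f := by
    rw [hφ₂]; simp [MorphismProperty.RightFraction.map]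
  obtain ⟨ψ, hψ⟩ := (MorphismProperty.LeftFraction.mk φ₁.s φ₂.s φ₂.hs).exists_rightFraction
  dsimp at hψ
  have hs₀ : W (ψ.s ≫ φ₁.s) := W.comp_mem _ _ ψ.hs φ₁.hs
  have i0 : IsIso (W.Q.map (ψ.s ≫ φ₁.s)) := Localization.inverts W.Q W _ hs₀
  have k1 : W.Q.map (ψ.s ≫ φ₁.s) ≫ χ₁ = W.Q.map (ψ.s ≫ φ₁.f) := by
    rw [W.Q.map_comp, Category.assoc, e1, ← W.Q.map_comp]
  have k2 : W.Q.map (ψ.s ≫ φ₁.s) ≫ χ₂ = W.Q.map (ψ.f ≫ φ₂.f) := by
    rw [hψ, W.Q.map_comp, Category.assoc, e2, ← W.Q.map_comp]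
  have hQ : W.Q.map ((ψ.s ≫ φ₁.f) ≫ m) = W.Q.map ((ψ.f ≫ φ₂.f) ≫ m) := by
    rw [W.Q.map_comp (ψ.s ≫ φ₁.f) m, W.Q.map_comp (ψ.f ≫ φ₂.f) m, ← k1, ← k2, Category.assoc,
      Category.assoc, h1]
  obtain ⟨c₀, t, ht, hteq⟩ := (MorphismProperty.map_eq_iff_precomp W.Q W _ _).1 hQ
  have hGf : G.map (ψ.s ≫ φ₁.f) = G.map (ψ.f ≫ φ₂.f) := by
    rw [← P_map_Q W G hG (ψ.s ≫ φ₁.f), ← P_map_Q W G hG (ψ.f ≫ φ₂.f), ← k1, ← k2,
      (P W G hG).map_comp _ χ₁, (P W G hG).map_comp _ χ₂, h2]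
  have hfin : t ≫ ψ.s ≫ φ₁.f = t ≫ ψ.f ≫ φ₂.f := by
    apply hm.uniq
    · simpa using hteq
    · rw [G.map_comp t (ψ.s ≫ φ₁.f), G.map_comp t (ψ.f ≫ φ₂.f), hGf]
  have hQ' : W.Q.map (ψ.s ≫ φ₁.f) = W.Q.map (ψ.f ≫ φ₂.f) :=
    (MorphismProperty.map_eq_iff_precomp W.Q W _ _).2 ⟨c₀, t, ht, hfin⟩
  rw [← k1, ← k2] at hQ'
  exact (cancel_epi _).1 hQ'

theorem isStronglyCartesian_Q_map {a' a : 𝒜} (m : a' ⟶ a) (hm : IsGCart G m) :
    (P W G hG).IsStronglyCartesian (G.map m) (W.Q.map m) := by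
  have hlift : (P W G hG).IsHomLift (G.map m) (W.Q.map m) :=
    P_map_Q W G hG m ▸ IsHomLift.map (P W G hG) (W.Q.map m)
  refine { toIsHomLift := hlift, universal_property' := ?_ }
  intro Z g ξ hξ
  obtain ⟨c, rfl⟩ := exists_obj W Z
  have hPξ : (P W G hG).map ξ = g ≫ G.map m :=
    (IsHomLift.eq_of_isHomLift (P W G hG) (g ≫ G.map m) ξ).symm
  obtain ⟨φ, hφ⟩ := Localization.exists_rightFraction W.Q W ξ
  have i1 : IsIso (W.Q.map φ.s) := Localization.inverts W.Q W φ.s φ.hs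
  have hξ' : W.Q.map φ.s ≫ ξ = W.Q.map φ.f := by
    rw [hφ]; simp [MorphismProperty.RightFraction.map]
  have hGs : IsIso (G.map φ.s) := hG φ.s φ.hs
  have hk : (G.map φ.s ≫ g) ≫ G.map m = G.map φ.f := by
    rw [Category.assoc, ← hPξ, ← P_map_Q W G hG φ.s, ← Functor.map_comp, hξ', P_map_Q]
  obtain ⟨f', hf'1, hf'2⟩ := hm.exists_lift φ.f (G.map φ.s ≫ g) hk
  have hP : (P W G hG).map (inv (W.Q.map φ.s) ≫ W.Q.map f') = g := by
    rw [Functor.map_comp, Functor.map_inv]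
    simp only [P_map_Q]
    rw [hf'2, IsIso.inv_hom_id_assoc]
  have hc : (inv (W.Q.map φ.s) ≫ W.Q.map f') ≫ W.Q.map m = ξ := by
    rw [Category.assoc, ← W.Q.map_comp, hf'1, ← hξ', IsIso.inv_hom_id_assoc]
  refine ⟨inv (W.Q.map φ.s) ≫ W.Q.map f', ⟨hP ▸ IsHomLift.map (P W G hG) _, hc⟩, ?_⟩
  rintro χ' ⟨hχ'1, hχ'2⟩
  apply uniq_aux W G hG m hm
  · rw [hχ'2, hc]
  · rw [hP]
    exact (IsHomLift.eq_of_isHomLift (P W G hG) g χ').symm

theorem exists_isStronglyCartesian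
    (h : ∀ (a : 𝒜) (R : D) (g : R ⟶ G.obj a), ∃ (a' : 𝒜) (m : a' ⟶ a), IsGCart G m ∧ G.IsHomLift g m)
    (Y : W.Localization) (R : D) (g : R ⟶ (P W G hG).obj Y) :
    ∃ (X : W.Localization) (φ : X ⟶ Y), (P W G hG).IsStronglyCartesian g φ := by
  obtain ⟨a, rfl⟩ := exists_obj W Y
  obtain ⟨a', m, hm, hl⟩ := h a R g
  have hd : G.obj a' = R := IsHomLift.domain_eq G g m
  subst hd
  have hg : g = G.map m := IsHomLift.eq_of_isHomLift G g m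
  subst hg
  exact ⟨W.Q.obj a', W.Q.map m, isStronglyCartesian_Q_map W G hG m hm⟩

theorem isFibered_P
    (h : ∀ (a : 𝒜) (R : D) (g : R ⟶ G.obj a), ∃ (a' : 𝒜) (m : a' ⟶ a), IsGCart G m ∧ G.IsHomLift g m) :
    (P W G hG).IsFibered :=
  Functor.IsFibered.of_exists_isStronglyCartesian (fun Y R g => exists_isStronglyCartesian W G hG h Y R g)

theorem isStronglyCartesian_all
    (h : ∀ {c a : 𝒜} (f : c ⟶ a), ∃ (a' : 𝒜) (w : c ⟶ a') (m : a' ⟶ a), W w ∧ IsGCart G m ∧ w ≫ m = f)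
    {X Y : W.Localization} (ξ : X ⟶ Y) : (P W G hG).IsStronglyCartesian ((P W G hG).map ξ) ξ := by
  obtain ⟨c, rfl⟩ := exists_obj W X
  obtain ⟨a, rfl⟩ := exists_obj W Y
  obtain ⟨φ, hφ⟩ := Localization.exists_rightFraction W.Q W ξ
  have i1 : IsIso (W.Q.map φ.s) := Localization.inverts W.Q W φ.s φ.hs
  obtain ⟨a', w, m, hw, hm, hwm⟩ := h φ.f
  have i2 : IsIso (W.Q.map w) := Localization.inverts W.Q W w hw
  have hξ : ξ = (inv (W.Q.map φ.s) ≫ W.Q.map w) ≫ W.Q.map m := by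
    rw [hφ, Category.assoc, ← W.Q.map_comp, hwm]
    rfl
  have c1 : (P W G hG).IsStronglyCartesian (G.map m) (W.Q.map m) := isStronglyCartesian_Q_map W G hG m hm
  have c2 : (P W G hG).IsStronglyCartesian ((P W G hG).map (inv (W.Q.map φ.s) ≫ W.Q.map w))
      (inv (W.Q.map φ.s) ≫ W.Q.map w) := inferInstance
  have c3 : (P W G hG).IsStronglyCartesian ((P W G hG).map (inv (W.Q.map φ.s) ≫ W.Q.map w) ≫ G.map m)
      ((inv (W.Q.map φ.s) ≫ W.Q.map w) ≫ W.Q.map m) := inferInstance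
  have hP : (P W G hG).map ξ = (P W G hG).map (inv (W.Q.map φ.s) ≫ W.Q.map w) ≫ G.map m := by
    rw [hξ, (P W G hG).map_comp _ (W.Q.map m), P_map_Q]
  rw [hP]
  rw [hξ]
  exact c3

end Groth.Agent.Helper19.LocCart
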