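import Mathlib
import Groth.Agent.Lib.Helper19.LocQGen2
import Groth.Agent.S9952
import Groth.Agent.S9959

/-!
# Cancellation for properties read on chart squares (helper19)
-/

set_option autoImplicit false
set_option backward.isDefEq.respectTransparency false

universe w₃ v₃ w' v' w v u

open CategoryTheory CategoryTheory.Limits Functor AlgebraicGeometry Opposite

namespace Groth.Agent.Helper19.LocQGen

open FibCat AlgSt Stk Groth.Agent.Helper19.FibLib Groth.Agent.Helper19.StLib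
  Groth.Agent.Helper19.AlgP Groth.Agent.Helper19.SpProps Groth.Agent.Helper19.ChartOver
  Groth.Agent.Helper19.ProdAlg Groth.Agent.Helper19.SpDict Groth.Agent.Helper19.PshSt
  Groth.Agent.Helper19.ImmLib Groth.Agent.Helper16.AS Groth.Agent.Helper19.DiagAlgSp
  Groth.Agent.Helper19.LocQCore

variable {S : Scheme.{u}} {𝒳 𝒴 𝒵 𝒱 𝒲 : AlgSt.Cat S}

/-- the functor `𝒱 ×_𝒴 𝒳 ⟶ 𝒲 ×_𝒵 𝒳` induced by `ug : 𝒱 ⟶ 𝒲 ×_𝒵 𝒴`: a base change of `ug`. -/
def chartTrans (z : 𝒲 ⥤ᵇ 𝒵) (g : 𝒴 ⥤ᵇ 𝒵) (f : 𝒳 ⥤ᵇ 𝒴) (ug : 𝒱 ⥤ᵇ fp z g) :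
    fp (BasedFunctor.comp ug (fpSnd z g)) f ⥤ᵇ fp z (BasedFunctor.comp f g) :=
  BasedFunctor.comp (pasteL ug (fpSnd z g) f)
    (BasedFunctor.comp (fpSnd ug (fpFst (fpSnd z g) f)) (pasteRInv z g f))

def chartTransIso (z : 𝒲 ⥤ᵇ 𝒵) (g : 𝒴 ⥤ᵇ 𝒵) (f : 𝒳 ⥤ᵇ 𝒴) (ug : 𝒱 ⥤ᵇ fp z g) :
    BasedFunctor.comp (chartTrans z g f ug) (fpFst z (BasedFunctor.comp f g)) ≅
      BasedFunctor.comp (fpFst (BasedFunctor.comp ug (fpSnd z g)) f)
        (BasedFunctor.comp ug (fpFst z g)) :=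
  whiskerLeftIso (pasteL ug (fpSnd z g) f)
    (whiskerRightIso (fpIso ug (fpFst (fpSnd z g) f)).symm (fpFst z g))

theorem chartTrans_comp_fpSnd (z : 𝒲 ⥤ᵇ 𝒵) (g : 𝒴 ⥤ᵇ 𝒵) (f : 𝒳 ⥤ᵇ 𝒴) (ug : 𝒱 ⥤ᵇ fp z g) :
    BasedFunctor.comp (chartTrans z g f ug) (fpSnd z (BasedFunctor.comp f g)) =
      fpSnd (BasedFunctor.comp ug (fpSnd z g)) f := rfl

theorem repByAlgSpWith_chartTrans {P : MorphismProperty (AlgSp.Sp S)} (z : 𝒲 ⥤ᵇ 𝒵) (g : 𝒴 ⥤ᵇ 𝒵)
    (f : 𝒳 ⥤ᵇ 𝒴) (ug : 𝒱 ⥤ᵇ fp z g) (hug : RepByAlgSpWith P ug) :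
    RepByAlgSpWith P (chartTrans z g f ug) :=
  (repByAlgSpWith_equiv_comp _ (isEquivOver_pasteL ug (fpSnd z g) f) _).2
    ((repByAlgSpWith_comp_equiv _ _ (isEquivOver_pasteRInv z g f)).2
      (repByAlgSpWith_fpSnd ug (fpFst (fpSnd z g) f) hug))

/-- **Cancellation.**  -/
theorem locQ_of_comp_cancel {P P' Q : MorphismProperty (AlgSp.Sp S)} (hP : SmStable P) (hP' : SmStable P')
    (hc : ∀ ⦃X Y Z : AlgSp.Sp S⦄, AlgSp.IsAlgSpace X → AlgSp.IsAlgSpace Y → AlgSp.IsAlgSpace Z →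
      ∀ (a : X ⟶ Y) (b : Y ⟶ Z), P' (a ≫ b) → Q b → P a)
    (h𝒳 : IsAlgStack Scheme.fppfPrecoverage 𝒳) (h𝒴 : IsAlgStack Scheme.fppfPrecoverage 𝒴)
    (h𝒵 : IsAlgStack Scheme.fppfPrecoverage 𝒵) (f : 𝒳 ⥤ᵇ 𝒴) (g : 𝒴 ⥤ᵇ 𝒵)
    (hfg : LocQ P' (BasedFunctor.comp f g))
    {W : Over S} (z : overCat W ⥤ᵇ 𝒵) (hz : RepByAlgSpWith (AlgSp.LocP @Smooth) z)
    (hzs : RepByAlgSpWith AlgSp.IsSurjectiveMor z)
    {V : Over S} (ug : overCat V ⥤ᵇ fp z g) (hug : RepByAlgSpWith (AlgSp.LocP @Smooth) ug)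
    (hugs : RepByAlgSpWith AlgSp.IsSurjectiveMor ug) (k : V ⟶ W)
    (θg : BasedFunctor.comp ug (fpFst z g) ≅ overMap k) (hQ : Q ((AlgSp.yon S).map k)) :
    LocQ P f := by
  obtain ⟨U, u, a, θ, hu, hus, hPa⟩ := exists_good_chart hP' (BasedFunctor.comp f g) hfg z
  have hfU := isFibGrpd_overCat U
  have hfV := isFibGrpd_overCat V
  have hfW := isFibGrpd_overCat W
  have h𝒫 : IsFibGrpd (fp z g).p := Groth.Agent.S6401.result _ _ hfW h𝒴.isStack.1 h𝒵.isStack.1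
  have hfp1 : IsFibGrpd (fp (BasedFunctor.comp ug (fpSnd z g)) f).p :=
    Groth.Agent.S6401.result _ _ hfV h𝒳.isStack.1 h𝒴.isStack.1
  have hfp2 : IsFibGrpd (fp z (BasedFunctor.comp f g)).p :=
    Groth.Agent.S6401.result _ _ hfW h𝒳.isStack.1 h𝒵.isStack.1
  have hfp3 : IsFibGrpd (fp u (chartTrans z g f ug)).p :=
    Groth.Agent.S6401.result _ _ hfU hfp1 hfp2
  have hm : RepByAlgSpWith (AlgSp.LocP @Smooth) (chartTrans z g f ug) :=
    repByAlgSpWith_chartTrans z g f ug hug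
  have hms : RepByAlgSpWith AlgSp.IsSurjectiveMor (chartTrans z g f ug) :=
    repByAlgSpWith_chartTrans z g f ug hugs
  -- the algebraic space `U ×_{W ×_𝒵 𝒳} (V ×_𝒴 𝒳)`
  obtain ⟨F, e, he, hFsm⟩ := hm U u
  let pU' : Pres (fp u (chartTrans z g f ug)) := Pres.ofEquiv F.obj e he
  have hpU' : AlgSp.IsAlgSpace pU'.sp := F.property
  have hU : AlgSp.IsAlgSpace ((AlgSp.yon S).obj U) := AlgSp.IsAlgSpace.yon_obj U
  have hV : AlgSp.IsAlgSpace ((AlgSp.yon S).obj V) := AlgSp.IsAlgSpace.yon_obj V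
  have hW : AlgSp.IsAlgSpace ((AlgSp.yon S).obj W) := AlgSp.IsAlgSpace.yon_obj W
  -- the chart of `𝒳`
  have hy : RepByAlgSpWith (AlgSp.LocP @Smooth) (BasedFunctor.comp ug (fpSnd z g)) :=
    repByAlgSpWith_comp stableAlg_smooth compAlg_smooth descAtlas_smooth hfV h𝒫 ug (fpSnd z g) hug
      (repByAlgSpWith_fpSnd z g hz)
  have hys : RepByAlgSpWith AlgSp.IsSurjectiveMor (BasedFunctor.comp ug (fpSnd z g)) :=
    repByAlgSpWith_comp stableAlg_isSurjectiveMor compAlg_isSurjectiveMor descAtlas_isSurjectiveMor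
      hfV h𝒫 ug (fpSnd z g) hugs (repByAlgSpWith_fpSnd z g hzs)
  have hx' : RepByAlgSpWith (AlgSp.LocP @Smooth)
      (BasedFunctor.comp (fpSnd u (chartTrans z g f ug)) (fpSnd (BasedFunctor.comp ug (fpSnd z g)) f)) :=
    repByAlgSpWith_comp stableAlg_smooth compAlg_smooth descAtlas_smooth hfp3 hfp1 _ _
      (repByAlgSpWith_fpSnd u (chartTrans z g f ug) hu) (repByAlgSpWith_fpSnd _ f hy)
  have hx's : RepByAlgSpWith AlgSp.IsSurjectiveMor
      (BasedFunctor.comp (fpSnd u (chartTrans z g f ug)) (fpSnd (BasedFunctor.comp ug (fpSnd z g)) f)) :=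
    repByAlgSpWith_comp stableAlg_isSurjectiveMor compAlg_isSurjectiveMor descAtlas_isSurjectiveMor
      hfp3 hfp1 _ _ (repByAlgSpWith_fpSnd u (chartTrans z g f ug) hus) (repByAlgSpWith_fpSnd _ f hys)
  refine locQ_of_pres_square' hP f pU' hpU' _ hx' hx's (BasedFunctor.comp ug (fpSnd z g)) hy
    (BasedFunctor.comp (fpSnd u (chartTrans z g f ug)) (fpFst (BasedFunctor.comp ug (fpSnd z g)) f))
    (whiskerLeftIso (fpSnd u (chartTrans z g f ug)) (fpIso (BasedFunctor.comp ug (fpSnd z g)) f).symm) ?_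
  -- cancellation
  refine hc hpU' hV hW _ ((AlgSp.yon S).map k) ?_ hQ
  rw [← Pres.map_overMap, ← Pres.map_comp pU' (Pres.ov V) (Pres.ov W)]
  have e1 : BasedFunctor.comp (BasedFunctor.comp (fpSnd u (chartTrans z g f ug))
        (fpFst (BasedFunctor.comp ug (fpSnd z g)) f)) (overMap k) ≅
      BasedFunctor.comp (fpFst u (chartTrans z g f ug)) (overMap a) := by
    have i1 : BasedFunctor.comp (BasedFunctor.comp (fpSnd u (chartTrans z g f ug))
        (fpFst (BasedFunctor.comp ug (fpSnd z g)) f)) (overMap k) ≅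
        BasedFunctor.comp (fpSnd u (chartTrans z g f ug))
          (BasedFunctor.comp (fpFst (BasedFunctor.comp ug (fpSnd z g)) f)
            (BasedFunctor.comp ug (fpFst z g))) :=
      whiskerLeftIso (BasedFunctor.comp (fpSnd u (chartTrans z g f ug))
        (fpFst (BasedFunctor.comp ug (fpSnd z g)) f)) θg.symm
    have i2 : BasedFunctor.comp (fpSnd u (chartTrans z g f ug))
          (BasedFunctor.comp (fpFst (BasedFunctor.comp ug (fpSnd z g)) f)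
            (BasedFunctor.comp ug (fpFst z g))) ≅
        BasedFunctor.comp (BasedFunctor.comp (fpSnd u (chartTrans z g f ug)) (chartTrans z g f ug))
          (fpFst z (BasedFunctor.comp f g)) :=
      whiskerLeftIso (fpSnd u (chartTrans z g f ug)) (chartTransIso z g f ug).symm
    have i3 : BasedFunctor.comp (BasedFunctor.comp (fpSnd u (chartTrans z g f ug)) (chartTrans z g f ug))
          (fpFst z (BasedFunctor.comp f g)) ≅
        BasedFunctor.comp (BasedFunctor.comp (fpFst u (chartTrans z g f ug)) u)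
          (fpFst z (BasedFunctor.comp f g)) :=
      whiskerRightIso (fpIso u (chartTrans z g f ug)).symm (fpFst z (BasedFunctor.comp f g))
    have i4 : BasedFunctor.comp (BasedFunctor.comp (fpFst u (chartTrans z g f ug)) u)
          (fpFst z (BasedFunctor.comp f g)) ≅
        BasedFunctor.comp (fpFst u (chartTrans z g f ug)) (overMap a) :=
      whiskerLeftIso (fpFst u (chartTrans z g f ug)) θ
    exact i1 ≪≫ i2 ≪≫ i3 ≪≫ i4
  rw [Pres.map_congr pU' (Pres.ov W) e1, Pres.map_comp pU' (Pres.ov U) (Pres.ov W), Pres.map_overMap]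
  refine hP'.precomp hpU' hU hW _ _ ?_ hPa
  exact (smooth_map_iff pU' (Pres.ov U) hpU' hU _).1 (repByAlgSpWith_fpFst (chartTrans z g f ug) u hm)

end Groth.Agent.Helper19.LocQGen
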