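import Mathlib
import Groth.Agent.Lib.Helper19.LocQCancel

/-!
# Cancellation for locally of finite type / presentation morphisms of algebraic stacks (helper19)
-/

set_option autoImplicit false
set_option backward.isDefEq.respectTransparency false

universe w₃ v₃ w' v' w v u

open CategoryTheory CategoryTheory.Limits Functor AlgebraicGeometry Opposite

namespace Groth.Agent.Helper19.LocQGen

open FibCat AlgSt Stk Groth.Agent.Helper19.FibLib Groth.Agent.Helper19.StLib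
  Groth.Agent.Helper19.AlgP Groth.Agent.Helper19.SpProps Groth.Agent.Helper19.ChartOver
  Groth.Agent.Helper19.ProdAlg Groth.Agent.Helper19.SpDict Groth.Agent.Helper19.PshSt
  Groth.Agent.Helper19.ImmLib Groth.Agent.Helper16.AS Groth.Agent.Helper19.DiagAlgSp
  Groth.Agent.Helper19.LocQCore

variable {S : Scheme.{u}} {𝒳 𝒴 𝒵 : AlgSt.Cat S}

theorem locP_lft_cancel ⦃X Y Z : AlgSp.Sp S⦄ (hX : AlgSp.IsAlgSpace X) (hY : AlgSp.IsAlgSpace Y)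
    (hZ : AlgSp.IsAlgSpace Z) (a : X ⟶ Y) (b : Y ⟶ Z)
    (h : AlgSp.LocP @LocallyOfFiniteType (a ≫ b)) : AlgSp.LocP @LocallyOfFiniteType a :=
  Groth.Agent.S9952.result (X := ⟨X, hX⟩) (Y := ⟨Y, hY⟩) (Z := ⟨Z, hZ⟩)
    (ObjectProperty.homMk a) (ObjectProperty.homMk b) h

theorem locP_lfp_cancel ⦃X Y Z : AlgSp.Sp S⦄ (hX : AlgSp.IsAlgSpace X) (hY : AlgSp.IsAlgSpace Y)
    (hZ : AlgSp.IsAlgSpace Z) (a : X ⟶ Y) (b : Y ⟶ Z)
    (h : AlgSp.LocP @LocallyOfFinitePresentation (a ≫ b)) (hb : AlgSp.LocP @LocallyOfFiniteType b) :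
    AlgSp.LocP @LocallyOfFinitePresentation a :=
  Groth.Agent.S9959.result (X := ⟨X, hX⟩) (Y := ⟨Y, hY⟩) (Z := ⟨Z, hZ⟩)
    (ObjectProperty.homMk a) (ObjectProperty.homMk b) h hb

/-- S13002. -/
theorem locQ_lft_of_comp (h𝒳 : IsAlgStack Scheme.fppfPrecoverage 𝒳)
    (h𝒴 : IsAlgStack Scheme.fppfPrecoverage 𝒴) (h𝒵 : IsAlgStack Scheme.fppfPrecoverage 𝒵)
    (f : 𝒳 ⥤ᵇ 𝒴) (g : 𝒴 ⥤ᵇ 𝒵)
    (hfg : LocQ (AlgSp.LocP @LocallyOfFiniteType) (BasedFunctor.comp f g)) :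
    LocQ (AlgSp.LocP @LocallyOfFiniteType) f := by
  obtain ⟨W, z, hz, hzs⟩ := h𝒵.atlas
  have h𝒫 : IsAlgStack Scheme.fppfPrecoverage (fp z g) :=
    isAlgStack_fp h𝒵.isStack h𝒵.diag (isAlgStack_overCat W) h𝒴 z g
  obtain ⟨V, ug, hug, hugs⟩ := h𝒫.atlas
  obtain ⟨k, ⟨θg⟩⟩ := exists_overMap_iso (BasedFunctor.comp ug (fpFst z g))
  exact locQ_of_comp_cancel (Q := ⊤) smStable_lft smStable_lft
    (fun X Y Z hX hY hZ a b hab _ => locP_lft_cancel hX hY hZ a b hab)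
    h𝒳 h𝒴 h𝒵 f g hfg z hz hzs ug hug hugs k θg trivial

/-- S13005. -/
theorem locQ_lfp_of_comp (h𝒳 : IsAlgStack Scheme.fppfPrecoverage 𝒳)
    (h𝒴 : IsAlgStack Scheme.fppfPrecoverage 𝒴) (h𝒵 : IsAlgStack Scheme.fppfPrecoverage 𝒵)
    (f : 𝒳 ⥤ᵇ 𝒴) (g : 𝒴 ⥤ᵇ 𝒵)
    (hfg : LocQ (AlgSp.LocP @LocallyOfFinitePresentation) (BasedFunctor.comp f g))
    (hg : LocQ (AlgSp.LocP @LocallyOfFiniteType) g) :
    LocQ (AlgSp.LocP @LocallyOfFinitePresentation) f := by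
  obtain ⟨W, z, hz, hzs⟩ := h𝒵.atlas
  obtain ⟨V, ug, k, θg, hug, hugs, hk⟩ := exists_good_chart smStable_lft g hg z
  exact locQ_of_comp_cancel (Q := AlgSp.LocP @LocallyOfFiniteType) smStable_lfp smStable_lfp
    (fun X Y Z hX hY hZ a b hab hb => locP_lfp_cancel hX hY hZ a b hab hb)
    h𝒳 h𝒴 h𝒵 f g hfg z hz hzs ug hug hugs k θg hk

end Groth.Agent.Helper19.LocQGen
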