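import Mathlib
import Groth.Agent.Lib.Helper19.LocQCancel2
import Groth.Agent.Lib.Helper19.LocQNoeth

/-!
# The diagonal of a morphism locally of finite type is locally of finite presentation (helper19)
-/

set_option autoImplicit false
set_option backward.isDefEq.respectTransparency false

universe w₃ v₃ w' v' w v u

open CategoryTheory CategoryTheory.Limits Functor AlgebraicGeometry Opposite

namespace Groth.Agent.Helper19.LocQGen

open FibCat AlgSt Stk Groth.Agent.Helper19.FibLib Groth.Agent.Helper19.StLib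
  Groth.Agent.Helper19.AlgP Groth.Agent.Helper19.SpProps Groth.Agent.Helper19.ChartOver
  Groth.Agent.Helper19.ProdAlg Groth.Agent.Helper19.SpDict Groth.Agent.Helper19.PshSt
  Groth.Agent.Helper19.ImmLib Groth.Agent.Helper16.AS Groth.Agent.Helper19.DiagAlgSp
  Groth.Agent.Helper19.LocQCore Groth.Agent.Helper19.FlatST Groth.Agent.Helper19.StPts

variable {S : Scheme.{u}} {𝒳 𝒴 : AlgSt.Cat S}

/-- an equivalence has every smooth-stable property containing the smooth identities on a chart square. -/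
theorem locQ_of_isEquivOver {P : MorphismProperty (AlgSp.Sp S)} (hP : SmStable P)
    (hid : ∀ U : Over S, P (𝟙 ((AlgSp.yon S).obj U)))
    (h𝒴 : IsAlgStack Scheme.fppfPrecoverage 𝒴) (f : 𝒳 ⥤ᵇ 𝒴) (hf : IsEquivOver f) : LocQ P f :=
  locQ_of_repByAlgSpWith' hP h𝒴 f (repByAlgSpWith_of_equiv P hid f hf)

theorem locP_lfp_id (U : Over S) :
    AlgSp.LocP @LocallyOfFinitePresentation (𝟙 ((AlgSp.yon S).obj U)) :=
  Groth.Agent.Helper15.locP_mono smooth_le_lfp (locP_smooth_id (AlgSp.IsAlgSpace.yon_obj U))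

/-- S13006. -/
theorem locQ_lfp_diag_of_lft (h𝒳 : IsAlgStack Scheme.fppfPrecoverage 𝒳)
    (h𝒴 : IsAlgStack Scheme.fppfPrecoverage 𝒴) (f : 𝒳 ⥤ᵇ 𝒴)
    (hf : LocQ (AlgSp.LocP @LocallyOfFiniteType) f) :
    LocQ (AlgSp.LocP @LocallyOfFinitePresentation) (diag f) := by
  have hfp : IsAlgStack Scheme.fppfPrecoverage (fp f f) :=
    isAlgStack_fp h𝒴.isStack h𝒴.diag h𝒳 h𝒳 f f
  have h1 : LocQ (AlgSp.LocP @LocallyOfFiniteType) (fpFst f f) :=
    locQ_fpFst' smStable_lft h𝒳 h𝒴 h𝒳 f f hf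
  have h2 : LocQ (AlgSp.LocP @LocallyOfFinitePresentation) (BasedFunctor.comp (diag f) (fpFst f f)) :=
    locQ_of_isEquivOver smStable_lfp locP_lfp_id h𝒳 (BasedFunctor.id 𝒳) (isEquivOver_id 𝒳)
  exact locQ_lfp_of_comp h𝒳 hfp h𝒳 (diag f) (fpFst f f) h2 h1

end Groth.Agent.Helper19.LocQGen
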