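import Mathlib
import Groth.Agent.Lib.Helper19.LocQGen3

/-!
# Properties smooth local on source-and-target and fppf local on the base descend along fppf covers of stacks
(helper19)
-/

set_option autoImplicit false
set_option backward.isDefEq.respectTransparency false

universe w₃ v₃ w' v' w v u

open CategoryTheory CategoryTheory.Limits Functor AlgebraicGeometry Opposite

namespace Groth.Agent.Helper19.LocQGen

open FibCat AlgSt Stk Groth.Agent.Helper19.FibLib Groth.Agent.Helper19.StLib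
  Groth.Agent.Helper19.AlgP Groth.Agent.Helper19.SpProps Groth.Agent.Helper19.ChartOver
  Groth.Agent.Helper19.ProdAlg Groth.Agent.Helper19.SpDict Groth.Agent.Helper19.PshSt
  Groth.Agent.Helper19.ImmLib Groth.Agent.Helper16.AS Groth.Agent.Helper19.DiagAlgSp
  Groth.Agent.Helper19.LocQCore Groth.Agent.Helper19.FlatST Groth.Agent.Helper19.StPts

variable {S : Scheme.{u}} {𝒳 𝒴 𝒵 : AlgSt.Cat S} {P : MorphismProperty (AlgSp.Sp S)}

/-- **(B')** the every-chart form for charts by algebraic spaces, in terms of a chart of the fibre product. -/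
theorem of_good_chart_pres (hP : AlgSp.IsSmoothLocalST P) (h𝒳 : IsFibGrpd 𝒳.p) (h𝒴 : IsFibGrpd 𝒴.p)
    (f : 𝒳 ⥤ᵇ 𝒴) (hf : LocQ P f) {𝒰 𝒱 : AlgSt.Cat S} (pU : Pres 𝒰) (pV : Pres 𝒱)
    (hU : AlgSp.IsAlgSpace pU.sp) (hV : AlgSp.IsAlgSpace pV.sp) (t : 𝒱 ⥤ᵇ 𝒴)
    (ht : RepByAlgSpWith (AlgSp.LocP @Smooth) t) (u : 𝒰 ⥤ᵇ fp t f)
    (hu : RepByAlgSpWith (AlgSp.LocP @Smooth) u) (H : 𝒰 ⥤ᵇ 𝒱)
    (θ : BasedFunctor.comp u (fpFst t f) ≅ H) : P (Pres.map pU pV H) := by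
  obtain ⟨U₀, V₀, x₀, y₀, h₀, α₀, hx₀, hx₀s, hy₀, hP₀⟩ := hf
  refine of_square_pres hP h𝒳 h𝒴 f x₀ y₀ h₀ α₀ hx₀ hx₀s hy₀ hP₀ pU pV hU hV
    (BasedFunctor.comp u (fpSnd t f)) t H (liftIso f t u H θ) ht ?_
  exact repByAlgSpWith_of_iso (liftSwapIso f t u H θ)
    ((repByAlgSpWith_comp_equiv u (fpSwap t f) (isEquivOver_fpSwap t f)).2 hu)

/-- S12994. -/
theorem locQ_of_fpFst_fppf (hP : AlgSp.IsSmoothLocalST P) (hP₂ : AlgSp.IsLocalOnBase AlgSp.IsFppfCover P)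
    (h𝒳 : IsAlgStack Scheme.fppfPrecoverage 𝒳) (h𝒴 : IsAlgStack Scheme.fppfPrecoverage 𝒴)
    (h𝒵 : IsAlgStack Scheme.fppfPrecoverage 𝒵) (f : 𝒳 ⥤ᵇ 𝒴) (z : 𝒵 ⥤ᵇ 𝒴)
    (hz₁ : LocQ (AlgSp.LocP @Flat) z) (hz₂ : LocQ (AlgSp.LocP @LocallyOfFinitePresentation) z)
    (hz₃ : IsSurjective z) (hPf : LocQ P (fpFst z f)) : LocQ P f := by
  obtain ⟨V, y, hy, hys⟩ := h𝒴.atlas
  have h𝒫 : IsAlgStack Scheme.fppfPrecoverage (fp y f) :=
    isAlgStack_fp h𝒴.isStack h𝒴.diag (isAlgStack_overCat V) h𝒳 y f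
  obtain ⟨U, u, hu, hus⟩ := h𝒫.atlas
  obtain ⟨h, ⟨θ⟩⟩ := exists_overMap_iso (BasedFunctor.comp u (fpFst y f))
  refine locQ_of_chart h𝒳.isStack.1 h𝒴.isStack.1 f y hy hys u hu hus h θ ?_
  -- the fppf cover of `V`
  obtain ⟨V', uz, k, θz, huz, huzs, hk⟩ := exists_good_chart (smStable_inf smStable_flat smStable_lfp) z
    (locQ_inf_flat_lfp h𝒵 h𝒴 z hz₁ hz₂) y
  have hksurj : AlgSp.IsSurjectiveMor ((AlgSp.yon S).map k) :=
    isSurjectiveMor_yon_map_of_surjective k (fun p =>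
      range_of_chart h𝒵.isStack.1 h𝒴.isStack.1 z y uz k θz huzs p (hz₃ _))
  have hU : AlgSp.IsAlgSpace ((AlgSp.yon S).obj U) := AlgSp.IsAlgSpace.yon_obj U
  have hV : AlgSp.IsAlgSpace ((AlgSp.yon S).obj V) := AlgSp.IsAlgSpace.yon_obj V
  have hV' : AlgSp.IsAlgSpace ((AlgSp.yon S).obj V') := AlgSp.IsAlgSpace.yon_obj V'
  have hfV := isFibGrpd_overCat V
  have hfV' := isFibGrpd_overCat V'
  have hfU := isFibGrpd_overCat U
  have hfpz : IsFibGrpd (fp y z).p := Groth.Agent.S6401.result _ _ hfV h𝒵.isStack.1 h𝒴.isStack.1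
  have hfpzf : IsFibGrpd (fp z f).p :=
    Groth.Agent.S6401.result _ _ h𝒵.isStack.1 h𝒳.isStack.1 h𝒴.isStack.1
  -- the base change `V' ×_V U`
  have hA : RepByAlgSp (fp (overMap k) (overMap h)) :=
    repByAlgSp_fp _ _ (repByAlgSp_overCat V') (repByAlgSp_overCat U) (repByAlgSp_overCat V)
  obtain ⟨pA, hpA⟩ := exists_pres hA
  have sq := Pres.isPullback_map (Pres.ov V') (Pres.ov U) (Pres.ov V) (overMap k) (overMap h) pA
  rw [Pres.map_overMap, Pres.map_overMap] at sq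
  have hcov : AlgSp.IsFppfCover (fun _ : PUnit.{u + 1} => (AlgSp.yon S).obj V')
      (fun _ => (AlgSp.yon S).map k) :=
    ⟨fun _ => hk, fun x => ⟨PUnit.unit, hksurj x⟩⟩
  refine (hP₂ (fun _ : PUnit.{u + 1} => (AlgSp.yon S).obj V') (fun _ => (AlgSp.yon S).map k) hV
    (fun _ => hV') hcov ((AlgSp.yon S).map h) hU (fun _ => pA.sp)
    (fun _ => Pres.map pA (Pres.ov V') (fpFst (overMap k) (overMap h)))
    (fun _ => Pres.map pA (Pres.ov U) (fpSnd (overMap k) (overMap h))) (fun _ => hpA)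
    (fun _ => sq.flip)).2 (fun _ => ?_)
  -- the chart of `𝒵` and the chart of the fibre product
  let t' : overCat V' ⥤ᵇ 𝒵 := BasedFunctor.comp uz (fpSnd y z)
  have ht' : RepByAlgSpWith (AlgSp.LocP @Smooth) t' :=
    repByAlgSpWith_comp stableAlg_smooth compAlg_smooth descAtlas_smooth hfV' hfpz uz (fpSnd y z) huz
      (repByAlgSpWith_fpSnd y z hy)
  let κ : BasedFunctor.comp (overMap k) y ≅ BasedFunctor.comp t' z := (liftIso z y uz (overMap k) θz).symm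
  let u'' : fp (overMap k) (overMap h) ⥤ᵇ fp t' (fpFst z f) :=
    BasedFunctor.comp (fpCongrRight (overMap k) θ.symm)
      (BasedFunctor.comp (pasteR (overMap k) (fpFst y f) u)
        (BasedFunctor.comp (fpFst (fpSnd (overMap k) (fpFst y f)) u)
          (BasedFunctor.comp (pasteLInv (overMap k) y f)
            (BasedFunctor.comp (fpCongrLeft f κ) (pasteL t' z f)))))
  have hu'' : RepByAlgSpWith (AlgSp.LocP @Smooth) u'' :=
    (repByAlgSpWith_equiv_comp _ (isEquivOver_fpCongrRight (overMap k) θ.symm) _).2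
      ((repByAlgSpWith_equiv_comp _ (isEquivOver_pasteR (overMap k) (fpFst y f) u) _).2
        ((repByAlgSpWith_comp_equiv _ _
          (IsEquivOver.comp (isEquivOver_pasteLInv (overMap k) y f)
            (IsEquivOver.comp (isEquivOver_fpCongrLeft f κ) (isEquivOver_pasteL t' z f)))).2
          (repByAlgSpWith_fpFst u (fpSnd (overMap k) (fpFst y f)) hu)))
  exact of_good_chart_pres hP hfpzf h𝒵.isStack.1 (fpFst z f) hPf pA (Pres.ov V') hpA hV' t' ht' u'' hu''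
    (fpFst (overMap k) (overMap h)) (Iso.refl _)

end Groth.Agent.Helper19.LocQGen
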