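import Mathlib
import Groth.Agent.Lib.Helper19.LocQFppfDesc
import Groth.Agent.Lib.Helper19.StPtsSp
import Groth.Agent.Lib.Helper19.CancelLib

/-!
# Locally of finite type can be checked after an fppf cover of the target by an algebraic space
(helper19)
-/

set_option autoImplicit false
set_option backward.isDefEq.respectTransparency false

universe w₃ v₃ w' v' w v u

open CategoryTheory CategoryTheory.Limits Functor AlgebraicGeometry Opposite

namespace Groth.Agent.Helper19.LocQGen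

open FibCat AlgSt Stk Groth.Agent.Helper19.FibLib Groth.Agent.Helper19.StLib
  Groth.Agent.Helper19.AlgP Groth.Agent.Helper19.SpProps Groth.Agent.Helper19.ChartOver
  Groth.Agent.Helper19.ProdAlg Groth.Agent.Helper19.SpDict Groth.Agent.Helper19.PshSt
  Groth.Agent.Helper19.ImmLib Groth.Agent.Helper16.AS Groth.Agent.Helper19.DiagAlgSp
  Groth.Agent.Helper19.LocQCore Groth.Agent.Helper19.FlatST Groth.Agent.Helper19.StPts

variable {S : Scheme.{u}} {𝒳 𝒴 : AlgSt.Cat S}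

theorem lfp_le_lft' :
    (@LocallyOfFinitePresentation : MorphismProperty Scheme.{u}) ≤ @LocallyOfFiniteType := by
  intro X Y f hf
  have : LocallyOfFinitePresentation f := hf
  exact (inferInstance : LocallyOfFiniteType f)

set_option maxHeartbeats 800000 in
/-- S13000. -/
theorem locQ_lft_of_fpFst_fppf_cover (h𝒳 : IsAlgStack Scheme.fppfPrecoverage 𝒳)
    (h𝒴 : IsAlgStack Scheme.fppfPrecoverage 𝒴) (f : 𝒳 ⥤ᵇ 𝒴)
    (W : AlgSp.Space S) (w : AlgSt.ofSp W.obj ⥤ᵇ 𝒴)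
    (hw₁ : RepByAlgSpWith (AlgSp.LocP @Flat) w)
    (hw₂ : RepByAlgSpWith (AlgSp.LocP @LocallyOfFinitePresentation) w)
    (hw₃ : RepByAlgSpWith AlgSp.IsSurjectiveMor w)
    (h : LocQ (AlgSp.LocP @LocallyOfFiniteType) (fpFst w f)) :
    LocQ (AlgSp.LocP @LocallyOfFiniteType) f := by
  have h𝒲 : IsAlgStack Scheme.fppfPrecoverage (ofSp W.obj) := isAlgStack_ofSp W
  have h𝒫 : IsAlgStack Scheme.fppfPrecoverage (fp w f) :=
    isAlgStack_fp h𝒴.isStack h𝒴.diag h𝒲 h𝒳 w f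
  have hw₂' : RepByAlgSpWith (AlgSp.LocP @LocallyOfFiniteType) w :=
    Groth.Agent.Helper19.CancelLib.repByAlgSpWith_mono
      (fun _ _ a ha => Groth.Agent.Helper15.locP_mono lfp_le_lft' ha) hw₂
  have hwQ : LocQ (AlgSp.LocP @LocallyOfFiniteType) w :=
    locQ_of_repByAlgSpWith' smStable_lft h𝒴 w hw₂'
  have hcomp : LocQ (AlgSp.LocP @LocallyOfFiniteType) (BasedFunctor.comp (fpFst w f) w) :=
    locQ_comp' smStable_lft (compAlg_locP Groth.Agent.Helper15.goodP_lft srcEtLoc_lft)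
      h𝒫.isStack.1 h𝒲.isStack.1 (fpFst w f) w h hwQ
  have hcomp' : LocQ (AlgSp.LocP @LocallyOfFiniteType) (BasedFunctor.comp (fpSnd w f) f) :=
    locQ_of_iso (fpIso w f) hcomp
  exact locQ_of_comp_fppf isSmoothLocalST_lft
    (Groth.Agent.Helper19.SrcLoc.isLocalOnSource_fppf_locP_lft S) h𝒫 h𝒳 h𝒴 (fpSnd w f) f
    (locQ_of_repByAlgSpWith' smStable_flat h𝒳 _ (repByAlgSpWith_fpSnd w f hw₁))
    (locQ_of_repByAlgSpWith' smStable_lfp h𝒳 _ (repByAlgSpWith_fpSnd w f hw₂))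
    (isSurjective_of_repByAlgSpWith h𝒳.isStack.1 _ (repByAlgSpWith_fpSnd w f hw₃)) hcomp'

end Groth.Agent.Helper19.LocQGen
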