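import Mathlib

/-! A morphism locally of finite type whose "self base change" `X ×_T X → X` is locally
quasi-finite is locally quasi-finite. -/

set_option autoImplicit false
universe u

namespace Groth.Agent.Lib.Helper19.LqfLib

open AlgebraicGeometry CategoryTheory Limits

theorem discreteTopology_fiber_of_fst {U T : Scheme.{u}} (h : U ⟶ T)
    (H : LocallyQuasiFinite (pullback.fst h h)) (t : T) : DiscreteTopology (h.fiber t) := by
  rw [discreteTopology_iff_isOpen_singleton]
  intro x'
  let F := h.fiber t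
  let φ : F ⟶ Spec (T.residueField t) := h.fiberToSpecResidueField t
  let ι : F ⟶ U := h.fiberι t
  let σ : Spec (F.residueField x') ⟶ F := F.fromSpecResidueField x'
  -- the fibre square
  have sqF : IsPullback ι φ h (T.fromSpecResidueField t) := IsPullback.of_hasPullback _ _
  -- G = Spec κ(x') ×_{κ(t)} F
  have sqG : IsPullback (pullback.snd (σ ≫ φ) φ) (pullback.fst (σ ≫ φ) φ) φ (σ ≫ φ) :=
    (IsPullback.of_hasPullback (σ ≫ φ) φ).flip
  have sqOuter := sqG.paste_horiz sqF
  -- the comparison map into `U ×_T U`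
  have hw : (pullback.fst (σ ≫ φ) φ ≫ σ ≫ ι) ≫ h = (pullback.snd (σ ≫ φ) φ ≫ ι) ≫ h := by
    have := sqOuter.w
    simp only [Category.assoc] at this ⊢
    rw [this, sqF.w]
  let lift : pullback (σ ≫ φ) φ ⟶ pullback h h :=
    pullback.lift (pullback.fst (σ ≫ φ) φ ≫ σ ≫ ι) (pullback.snd (σ ≫ φ) φ ≫ ι) hw
  have sqR : IsPullback (pullback.snd h h) (pullback.fst h h) h h :=
    (IsPullback.of_hasPullback h h).flip
  have sqOuter' : IsPullback (lift ≫ pullback.snd h h) (pullback.fst (σ ≫ φ) φ) h
      ((σ ≫ ι) ≫ h) := by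
    have e1 : lift ≫ pullback.snd h h = pullback.snd (σ ≫ φ) φ ≫ ι := pullback.lift_snd _ _ _
    have e2 : (σ ≫ ι) ≫ h = (σ ≫ φ) ≫ T.fromSpecResidueField t := by
      rw [Category.assoc, Category.assoc, sqF.w]
    rw [e1, e2]
    exact sqOuter
  have sqL : IsPullback lift (pullback.fst (σ ≫ φ) φ) (pullback.fst h h) (σ ≫ ι) := by
    refine IsPullback.of_right sqOuter' ?_ sqR
    rw [pullback.lift_fst]
  have hlqf : LocallyQuasiFinite (pullback.fst (σ ≫ φ) φ) :=
    MorphismProperty.of_isPullback (P := @LocallyQuasiFinite) sqL H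
  have hart : IsLocallyArtinian (pullback (σ ≫ φ) φ) :=
    IsLocallyArtinian.of_locallyQuasiFinite (pullback.fst (σ ≫ φ) φ)
  have hsurj : Surjective (σ ≫ φ) := by
    refine ⟨fun y => ?_⟩
    have hne : Nonempty (Spec (F.residueField x')) := inferInstance
    exact ⟨hne.some, Subsingleton.elim _ _⟩
  have hopen : IsOpenMap (pullback.snd (σ ≫ φ) φ) := (pullback.snd (σ ≫ φ) φ).isOpenMap
  obtain ⟨g, hg⟩ := (pullback.snd (σ ≫ φ) φ).surjective x'
  have := hopen {g} (isOpen_discrete _)
  rwa [Set.image_singleton, hg] at this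

theorem locallyQuasiFinite_of_fst {U T : Scheme.{u}} (h : U ⟶ T) [LocallyOfFiniteType h]
    (H : LocallyQuasiFinite (pullback.fst h h)) : LocallyQuasiFinite h := by
  apply LocallyQuasiFinite.of_fiberToSpecResidueField
  intro t
  have hd := discreteTopology_fiber_of_fst h H t
  have : LocallyOfFiniteType (h.fiberToSpecResidueField t) :=
    MorphismProperty.pullback_snd (P := @LocallyOfFiniteType) _ _ inferInstance
  rw [locallyQuasiFinite_iff_isDiscrete_preimage_singleton]
  intro y
  exact (isDiscrete_univ_iff.mpr hd).mono (Set.subset_univ _)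

end Groth.Agent.Lib.Helper19.LqfLib
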