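import Groth.Agent.Lib.Helper19.LqfLib
import Groth.Agent.Lib.Helper16.AlgSp.LargestOpen

/-! Algebraic-space version: a morphism to a scheme which is locally of finite type and whose
self base change is locally quasi-finite is locally quasi-finite. -/

set_option autoImplicit false
universe u
open CategoryTheory CategoryTheory.Limits AlgebraicGeometry MorphismProperty
open AlgSp

namespace Groth.Agent.Lib.Helper19.LqfSp

variable {S : Scheme.{u}}

theorem locP_lqf_of_fst {A : Sp S} {T : Over S} (a : A ⟶ (yon S).obj T)
    (hlft : LocP @LocallyOfFiniteType a)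
    (H : LocP (@LocallyQuasiFinite ⊓ @LocallyOfFiniteType) (pullback.fst a a)) :
    LocP (@LocallyQuasiFinite ⊓ @LocallyOfFiniteType) a := by
  intro U V a' b h ha' hb e
  have hlfth : LocallyOfFiniteType h.left := hlft a' b h ha' hb e
  refine ⟨?_, hlfth⟩
  obtain ⟨β, rfl⟩ := (yon S).map_surjective b
  have e' : a' ≫ a = (yon S).map (h ≫ β) := by rw [e, Functor.map_comp]
  have hlft₀ : LocallyOfFiniteType (h ≫ β).left :=
    hlft a' (𝟙 _) (h ≫ β) ha' (repWith_id _ T) (by rw [e', Category.comp_id])
  -- the scheme-level fibre product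
  let h₀ := h ≫ β
  let W : Over S := Over.mk (pullback.fst h₀.left h₀.left ≫ U.hom)
  let pr₁ : W ⟶ U := Over.homMk (pullback.fst h₀.left h₀.left) rfl
  let pr₂ : W ⟶ U := Over.homMk (pullback.snd h₀.left h₀.left) (by
    show pullback.snd h₀.left h₀.left ≫ U.hom = pullback.fst h₀.left h₀.left ≫ U.hom
    rw [← Over.w h₀, ← Category.assoc, ← Category.assoc, pullback.condition])
  have sqSch : IsPullback pr₁.left pr₂.left h₀.left h₀.left := IsPullback.of_hasPullback _ _
  have sqOver : IsPullback pr₁ pr₂ h₀ h₀ := by
    refine IsPullback.of_map (Over.forget S) ?_ sqSch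
    ext
    exact sqSch.w
  have sqY := sqOver.map (yon S)
  have hw : ((yon S).map pr₁ ≫ a') ≫ a = ((yon S).map pr₂ ≫ a') ≫ a := by
    rw [Category.assoc, Category.assoc, e', sqY.w]
  let c : (yon S).obj W ⟶ pullback a a :=
    pullback.lift ((yon S).map pr₁ ≫ a') ((yon S).map pr₂ ≫ a') hw
  have hc : RepWith @Etale c := by
    have hmap : RepWith @Etale
        (pullback.map ((yon S).map h₀) ((yon S).map h₀) a a a' a' (𝟙 _)
          ((Category.comp_id _).trans e'.symm) ((Category.comp_id _).trans e'.symm)) :=
      MorphismProperty.pullbackMap (P := RepWith (S := S) @Etale) ha' ha' e'.symm e'.symm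
    have : c = sqY.isoPullback.hom ≫
        pullback.map ((yon S).map h₀) ((yon S).map h₀) a a a' a' (𝟙 _)
          ((Category.comp_id _).trans e'.symm) ((Category.comp_id _).trans e'.symm) := by
      apply pullback.hom_ext
      · rw [pullback.lift_fst, Category.assoc]
        unfold pullback.map
        rw [pullback.lift_fst, ← Category.assoc, sqY.isoPullback_hom_fst]
      · rw [pullback.lift_snd, Category.assoc]
        unfold pullback.map
        rw [pullback.lift_snd, ← Category.assoc, sqY.isoPullback_hom_snd]
    rw [this]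
    exact (RepWith (S := S) @Etale).cancel_left_of_respectsIso _ _ |>.mpr hmap
  have hfst := H c a' pr₁ hc ha' (pullback.lift_fst _ _ _)
  have hq : LocallyQuasiFinite (pullback.fst h₀.left h₀.left) := hfst.1
  haveI := hlft₀
  have hq₀ : LocallyQuasiFinite h₀.left :=
    Groth.Agent.Lib.Helper19.LqfLib.locallyQuasiFinite_of_fst h₀.left hq
  have : LocallyQuasiFinite (h.left ≫ β.left) := hq₀
  exact LocallyQuasiFinite.of_comp h.left β.left

end Groth.Agent.Lib.Helper19.LqfSp
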