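import Mathlib
import Groth.Agent.Lib.Helper19.FibLib3
import Groth.Agent.S12774

/-!
# The diagonal square of a monomorphism is 2-cartesian (helper19)
-/

set_option autoImplicit false
set_option backward.isDefEq.respectTransparency false

universe w₃ v₃ w' v' w v u

open CategoryTheory CategoryTheory.Limits Functor AlgebraicGeometry Opposite

namespace Groth.Agent.Helper19.MonoCart

open FibCat AlgSt Stk Groth.Agent.Helper19.FibLib

variable {S : Scheme.{u}} {𝒳 𝒳' 𝒴 : AlgSt.Cat S} (i : 𝒳 ⥤ᵇ 𝒳') (g : 𝒳' ⥤ᵇ 𝒴)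

/-- `i × i : 𝒳 ×_𝒴 𝒳 ⟶ 𝒳' ×_𝒴 𝒳'`. -/
abbrev prodI : fp (BasedFunctor.comp i g) (BasedFunctor.comp i g) ⥤ᵇ fp g g :=
  fpLift (BasedFunctor.comp (fpFst (BasedFunctor.comp i g) (BasedFunctor.comp i g)) i)
    (BasedFunctor.comp (fpSnd (BasedFunctor.comp i g) (BasedFunctor.comp i g)) i)
    (fpIso (BasedFunctor.comp i g) (BasedFunctor.comp i g))

/-- the comparison functor. -/
abbrev cmp : 𝒳 ⥤ᵇ fp (prodI i g) (diag g) :=
  fpLift (F := prodI i g) (G := diag g) (diag (BasedFunctor.comp i g)) i (Iso.refl _)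

theorem faithful_cmp : (cmp i g).toFunctor.Faithful := by
  refine ⟨fun {a b} α β h => ?_⟩
  have := congrArg (fun m => m.hom.fst.hom.fst) h
  exact this

theorem full_cmp [i.toFunctor.Faithful] : (cmp i g).toFunctor.Full := by
  refine ⟨fun {a b} m => ?_⟩
  have hw := fp_w m
  have h1 : i.map m.hom.fst.hom.fst = m.hom.snd := by
    have := congrArg (fun k => k.hom.fst) hw
    simpa using this
  have h2 : i.map m.hom.fst.hom.snd = m.hom.snd := by
    have := congrArg (fun k => k.hom.snd) hw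
    simpa using this
  have h3 : m.hom.fst.hom.fst = m.hom.fst.hom.snd := i.toFunctor.map_injective (h1.trans h2.symm)
  refine ⟨m.hom.fst.hom.fst, ?_⟩
  apply fp_hom_ext
  · apply fp_hom_ext
    · rfl
    · exact h3
  · exact h1

theorem isEquivOver_cmp [i.toFunctor.Full] [i.toFunctor.Faithful] :
    IsEquivOver (cmp i g) := by
  have := faithful_cmp i g
  have := full_cmp i g
  refine isEquivOver_of_fullyFaithful (cmp i g) (fun w => ?_)
  -- components of the iso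
  let ψ := w.obj.iso
  let x₁ : 𝒳.obj := w.obj.fst.obj.fst
  let x₂ : 𝒳.obj := w.obj.fst.obj.snd
  let x' : 𝒳'.obj := w.obj.snd
  let ψ₁ : i.obj x₁ ⟶ x' := ψ.hom.hom.fst
  let ψ₂ : i.obj x₂ ⟶ x' := ψ.hom.hom.snd
  let ψ₁i : x' ⟶ i.obj x₁ := ψ.inv.hom.fst
  let ψ₂i : x' ⟶ i.obj x₂ := ψ.inv.hom.snd
  have h11 : ψ₁ ≫ ψ₁i = 𝟙 _ := by
    have := congrArg (fun k => k.hom.fst) ψ.hom_inv_id
    exact this
  have h12 : ψ₁i ≫ ψ₁ = 𝟙 _ := by
    have := congrArg (fun k => k.hom.fst) ψ.inv_hom_id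
    exact this
  have h21 : ψ₂ ≫ ψ₂i = 𝟙 _ := by
    have := congrArg (fun k => k.hom.snd) ψ.hom_inv_id
    exact this
  have h22 : ψ₂i ≫ ψ₂ = 𝟙 _ := by
    have := congrArg (fun k => k.hom.snd) ψ.inv_hom_id
    exact this
  let e₁ : i.obj x₁ ≅ x' := ⟨ψ₁, ψ₁i, h11, h12⟩
  let e₂ : i.obj x₂ ≅ x' := ⟨ψ₂, ψ₂i, h21, h22⟩
  let α : x₁ ≅ x₂ := i.toFunctor.preimageIso (e₁ ≪≫ e₂.symm)
  have hα : i.map α.hom = ψ₁ ≫ ψ₂i := by
    show i.toFunctor.map (i.toFunctor.preimage _) = _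
    rw [i.toFunctor.map_preimage]
    rfl
  have hψw : g.map ψ₁ ≫ 𝟙 _ = w.obj.fst.obj.iso.hom ≫ g.map ψ₂ := fp_w ψ.hom
  have hφ : w.obj.fst.obj.iso.hom = g.map ψ₁ ≫ g.map ψ₂i := by
    rw [Category.comp_id] at hψw
    rw [hψw, Category.assoc, ← g.toFunctor.map_comp, h21, g.toFunctor.map_id]
    exact (Category.comp_id _).symm
  let ea : ((cmp i g).obj x₁).obj.fst ≅ w.obj.fst :=
    fpIsoMk (F := BasedFunctor.comp i g) (G := BasedFunctor.comp i g)
      (x := ((cmp i g).obj x₁).obj.fst) (y := w.obj.fst) (Iso.refl x₁) α (by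
        show g.map (i.map (𝟙 x₁)) ≫ w.obj.fst.obj.iso.hom = 𝟙 _ ≫ g.map (i.map α.hom)
        rw [hα, hφ, i.toFunctor.map_id, g.toFunctor.map_id, Category.id_comp, Category.id_comp,
          g.toFunctor.map_comp])
  let e : (cmp i g).obj x₁ ≅ w :=
    fpIsoMk (F := prodI i g) (G := diag g) (x := (cmp i g).obj x₁) (y := w) ea e₁ (by
      apply fp_hom_ext
      · show i.map (𝟙 x₁) ≫ ψ₁ = 𝟙 _ ≫ ψ₁
        rw [i.toFunctor.map_id]
      · show i.map α.hom ≫ ψ₂ = 𝟙 _ ≫ ψ₁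
        rw [hα, Category.assoc, h22, Category.comp_id, Category.id_comp])
  refine ⟨x₁, e, ?_⟩
  apply IsHomLift.of_fac _ _ _ rfl rfl
  have : (fp (prodI i g) (diag g)).p.map e.hom = 𝒳.p.map (𝟙 x₁) := rfl
  rw [this]
  simp
  rfl

end Groth.Agent.Helper19.MonoCart
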