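import Mathlib

set_option autoImplicit false
universe u
open CategoryTheory Limits AlgebraicGeometry

namespace Groth.Agent.Lib.Helper19.NeronBC

variable {S S' : Scheme.{u}} (g : S' ⟶ S) (U : S.Opens)

/-- Beck–Chevalley: `Y' ×_{S'} g⁻¹U` is the pullback of `Y' → S' → S` along `U → S`. -/
lemma isPullback_bc {y : Scheme.{u}} (p : y ⟶ S') :
    IsPullback (pullback.fst p (g ⁻¹ᵁ U).ι) (pullback.snd p (g ⁻¹ᵁ U).ι ≫ g ∣_ U) (p ≫ g) U.ι := by
  have H1 : IsPullback (pullback.snd p (g ⁻¹ᵁ U).ι) (pullback.fst p (g ⁻¹ᵁ U).ι) (g ⁻¹ᵁ U).ι p :=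
    (IsPullback.of_hasPullback p (g ⁻¹ᵁ U).ι).flip
  have H2 : IsPullback (g ∣_ U) (g ⁻¹ᵁ U).ι U.ι g := isPullback_morphismRestrict g U
  exact (H1.paste_horiz H2).flip

/-- the comparison isomorphism `θ`. -/
noncomputable def θ {y : Scheme.{u}} (p : y ⟶ S') :
    pullback p (g ⁻¹ᵁ U).ι ≅ pullback (p ≫ g) U.ι :=
  (isPullback_bc g U p).isoPullback

lemma θ_hom_fst {y : Scheme.{u}} (p : y ⟶ S') :
    (θ g U p).hom ≫ pullback.fst (p ≫ g) U.ι = pullback.fst p (g ⁻¹ᵁ U).ι :=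
  (isPullback_bc g U p).isoPullback_hom_fst

lemma θ_hom_snd {y : Scheme.{u}} (p : y ⟶ S') :
    (θ g U p).hom ≫ pullback.snd (p ≫ g) U.ι = pullback.snd p (g ⁻¹ᵁ U).ι ≫ g ∣_ U :=
  (isPullback_bc g U p).isoPullback_hom_snd

/-- the natural map `(N ×_S S') ×_{S'} g⁻¹U ⟶ N ×_S U`. -/
noncomputable def κ (N : Over S) :
    pullback (pullback.snd N.hom g) (g ⁻¹ᵁ U).ι ⟶ pullback N.hom U.ι :=
  pullback.lift (pullback.fst _ _ ≫ pullback.fst _ _) (pullback.snd _ _ ≫ g ∣_ U) (by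
    rw [Category.assoc, Category.assoc, pullback.condition, ← Category.assoc (pullback.fst _ _),
      pullback.condition, Category.assoc, morphismRestrict_ι])

lemma κ_fst (N : Over S) : κ g U N ≫ pullback.fst _ _ = pullback.fst _ _ ≫ pullback.fst _ _ :=
  pullback.lift_fst _ _ _

lemma κ_snd (N : Over S) : κ g U N ≫ pullback.snd _ _ = pullback.snd _ _ ≫ g ∣_ U :=
  pullback.lift_snd _ _ _

/-- the adjoint morphism. -/
noncomputable def toA (N : Over S) (Y' : Over S') (φ : Y' ⟶ (Over.pullback g).obj N) :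
    Over.mk (Y'.hom ≫ g) ⟶ N :=
  Over.homMk (φ.left ≫ pullback.fst N.hom g) (by
    have := Over.w φ
    simp only [Over.pullback_obj_hom] at this
    simp only [Over.mk_hom, Category.assoc, pullback.condition]
    rw [← Category.assoc, this])

lemma toA_left (N : Over S) (Y' : Over S') (φ : Y' ⟶ (Over.pullback g).obj N) :
    (toA g N Y' φ).left = φ.left ≫ pullback.fst N.hom g := rfl

lemma key (N : Over S) (Y' : Over S') (φ : Y' ⟶ (Over.pullback g).obj N) :
    (θ g U Y'.hom).hom ≫ ((Over.pullback U.ι).map (toA g N Y' φ)).left =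
      ((Over.pullback (g ⁻¹ᵁ U).ι).map φ).left ≫ κ g U N := by
  have e1 : ((Over.pullback U.ι).map (toA g N Y' φ)).left ≫ pullback.fst N.hom U.ι =
      pullback.fst (Y'.hom ≫ g) U.ι ≫ (toA g N Y' φ).left := pullback.lift_fst _ _ _
  have e1' : ((Over.pullback U.ι).map (toA g N Y' φ)).left ≫ pullback.snd N.hom U.ι =
      pullback.snd (Y'.hom ≫ g) U.ι := pullback.lift_snd _ _ _
  have e2 : ((Over.pullback (g ⁻¹ᵁ U).ι).map φ).left ≫
      pullback.fst (pullback.snd N.hom g) (g ⁻¹ᵁ U).ι =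
      pullback.fst Y'.hom (g ⁻¹ᵁ U).ι ≫ φ.left := pullback.lift_fst _ _ _
  have e2' : ((Over.pullback (g ⁻¹ᵁ U).ι).map φ).left ≫
      pullback.snd (pullback.snd N.hom g) (g ⁻¹ᵁ U).ι =
      pullback.snd Y'.hom (g ⁻¹ᵁ U).ι := pullback.lift_snd _ _ _
  apply pullback.hom_ext
  · calc ((θ g U Y'.hom).hom ≫ ((Over.pullback U.ι).map (toA g N Y' φ)).left) ≫
          pullback.fst N.hom U.ι
        = (θ g U Y'.hom).hom ≫ pullback.fst (Y'.hom ≫ g) U.ι ≫ (toA g N Y' φ).left := by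
          rw [Category.assoc, e1]
      _ = pullback.fst Y'.hom (g ⁻¹ᵁ U).ι ≫ φ.left ≫ pullback.fst N.hom g := by
          rw [← Category.assoc, θ_hom_fst, toA_left]
      _ = (((Over.pullback (g ⁻¹ᵁ U).ι).map φ).left ≫
            pullback.fst (pullback.snd N.hom g) (g ⁻¹ᵁ U).ι) ≫ pullback.fst N.hom g := by
          rw [e2, Category.assoc]
      _ = (((Over.pullback (g ⁻¹ᵁ U).ι).map φ).left ≫ κ g U N) ≫ pullback.fst N.hom U.ι := by
          rw [Category.assoc, Category.assoc, κ_fst]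
  · calc ((θ g U Y'.hom).hom ≫ ((Over.pullback U.ι).map (toA g N Y' φ)).left) ≫
          pullback.snd N.hom U.ι
        = (θ g U Y'.hom).hom ≫ pullback.snd (Y'.hom ≫ g) U.ι := by
          rw [Category.assoc, e1']
      _ = pullback.snd Y'.hom (g ⁻¹ᵁ U).ι ≫ g ∣_ U := θ_hom_snd g U Y'.hom
      _ = (((Over.pullback (g ⁻¹ᵁ U).ι).map φ).left ≫
            pullback.snd (pullback.snd N.hom g) (g ⁻¹ᵁ U).ι) ≫ g ∣_ U := by
          rw [e2']
      _ = (((Over.pullback (g ⁻¹ᵁ U).ι).map φ).left ≫ κ g U N) ≫ pullback.snd N.hom U.ι := by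
          rw [Category.assoc, Category.assoc, κ_snd]

theorem main [Smooth g] (N : Over S)
    (hN : ∀ Y : Over S, Smooth Y.hom →
      Function.Bijective (fun f : Y ⟶ N => (Over.pullback U.ι).map f))
    (Y' : Over S') [Smooth Y'.hom] :
    Function.Bijective (fun f : Y' ⟶ (Over.pullback g).obj N =>
      (Over.pullback (g ⁻¹ᵁ U).ι).map f) := by
  have hZ : Smooth (Over.mk (Y'.hom ≫ g)).hom := by
    change Smooth (Y'.hom ≫ g)
    infer_instance
  constructor
  · intro φ₁ φ₂ h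
    dsimp only at h
    have h1 : (Over.pullback U.ι).map (toA g N Y' φ₁) = (Over.pullback U.ι).map (toA g N Y' φ₂) := by
      ext
      rw [← cancel_epi (θ g U Y'.hom).hom, key, key, h]
    have h2 := (hN _ hZ).1 h1
    have h3 : φ₁.left ≫ pullback.fst N.hom g = φ₂.left ≫ pullback.fst N.hom g :=
      congr($(h2).left)
    ext
    apply pullback.hom_ext h3
    have w1 := Over.w φ₁
    have w2 := Over.w φ₂
    simp only [Over.pullback_obj_hom] at w1 w2
    rw [w1, w2]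
  · intro ψ
    have hψ := Over.w ψ
    simp only [Over.pullback_obj_hom] at hψ
    let b : (Over.pullback U.ι).obj (Over.mk (Y'.hom ≫ g)) ⟶ (Over.pullback U.ι).obj N :=
      Over.homMk ((θ g U Y'.hom).inv ≫ ψ.left ≫ κ g U N) (by
        simp only [Over.pullback_obj_hom, Category.assoc, κ_snd, Over.mk_hom]
        rw [← Category.assoc ψ.left, hψ, ← θ_hom_snd, Iso.inv_hom_id_assoc])
    obtain ⟨a, ha⟩ := (hN _ hZ).2 b
    dsimp only at ha
    have wa : a.left ≫ N.hom = Y'.hom ≫ g := Over.w a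
    let φ : Y' ⟶ (Over.pullback g).obj N :=
      Over.homMk (pullback.lift a.left Y'.hom wa) (pullback.lift_snd _ _ _)
    have hφa : toA g N Y' φ = a := by
      ext
      exact pullback.lift_fst _ _ _
    refine ⟨φ, ?_⟩
    dsimp only
    have hk := key g U N Y' φ
    rw [hφa, ha] at hk
    have hk' : ((Over.pullback (g ⁻¹ᵁ U).ι).map φ).left ≫ κ g U N = ψ.left ≫ κ g U N := by
      rw [← hk]
      change (θ g U Y'.hom).hom ≫ (θ g U Y'.hom).inv ≫ ψ.left ≫ κ g U N = _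
      rw [Iso.hom_inv_id_assoc]
    have hw := Over.w ((Over.pullback (g ⁻¹ᵁ U).ι).map φ)
    simp only [Over.pullback_obj_hom] at hw
    have c1 : pullback.fst (pullback.snd N.hom g) (g ⁻¹ᵁ U).ι ≫ pullback.snd N.hom g =
        pullback.snd (pullback.snd N.hom g) (g ⁻¹ᵁ U).ι ≫ (g ⁻¹ᵁ U).ι := pullback.condition
    ext
    refine pullback.hom_ext (f := pullback.snd N.hom g) (g := (g ⁻¹ᵁ U).ι) ?_ ?_
    · refine pullback.hom_ext (f := N.hom) (g := g) ?_ ?_
      · have := congr($hk' ≫ pullback.fst N.hom U.ι)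
        simpa only [Category.assoc, κ_fst] using this
      · rw [Category.assoc, Category.assoc, c1, ← Category.assoc, ← Category.assoc, hw, hψ]
    · rw [hw, hψ]

end Groth.Agent.Lib.Helper19.NeronBC
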