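import Mathlib

set_option autoImplicit false
universe u
open AlgebraicGeometry CategoryTheory Limits MonoidalCategory CartesianMonoidalCategory

namespace Groth.Agent.Lib.Helper19.NeronFormal

/-- Formal: the mapping property w.r.t. a right adjoint functor passes to binary products. -/
lemma bijective_prod {C D : Type*} [Category C] [Category D] [CartesianMonoidalCategory C]
    (F : C ⥤ D) [PreservesLimitsOfShape (Discrete WalkingPair) F] (N M Z : C)
    (hN : Function.Bijective (fun g : Z ⟶ N => F.map g))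
    (hM : Function.Bijective (fun g : Z ⟶ M => F.map g)) :
    Function.Bijective (fun g : Z ⟶ N ⊗ M => F.map g) := by
  constructor
  · intro g₁ g₂ h
    dsimp only at h
    apply CartesianMonoidalCategory.hom_ext
    · apply hN.1
      dsimp only
      rw [F.map_comp, F.map_comp, h]
    · apply hM.1
      dsimp only
      rw [F.map_comp, F.map_comp, h]
  · intro h
    obtain ⟨a, ha⟩ := hN.2 (h ≫ F.map (fst N M))
    obtain ⟨b, hb⟩ := hM.2 (h ≫ F.map (snd N M))
    refine ⟨lift a b, ?_⟩
    dsimp only at ha hb ⊢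
    have hlim : IsLimit (F.mapCone (BinaryFan.mk (fst N M) (snd N M))) :=
      isLimitOfPreserves F (tensorProductIsBinaryProduct N M)
    apply hlim.hom_ext
    rintro ⟨⟨⟩⟩
    · change F.map (lift a b) ≫ F.map (fst N M) = h ≫ F.map (fst N M)
      rw [← F.map_comp, lift_fst, ha]
    · change F.map (lift a b) ≫ F.map (snd N M) = h ≫ F.map (snd N M)
      rw [← F.map_comp, lift_snd, hb]

/-- Formal: the mapping property passes to the fibre of `f : G ⟶ H` over a section. -/
lemma bijective_fibre {C D : Type*} [Category C] [Category D] (F : C ⥤ D)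
    {G H K U Z : C} (ι : K ⟶ G) (f : G ⟶ H) (p : K ⟶ U) (e : U ⟶ H) (tZ : Z ⟶ U)
    (hFU : ∀ {W : D} (x y : W ⟶ F.obj U), x = y)
    [Mono ι] [Mono (F.map ι)] (w : ι ≫ f = p ≫ e)
    (hlift : ∀ a : Z ⟶ G, a ≫ f = tZ ≫ e → ∃ g : Z ⟶ K, g ≫ ι = a)
    (hG : Function.Bijective (fun g : Z ⟶ G => F.map g))
    (hH : Function.Injective (fun g : Z ⟶ H => F.map g)) :
    Function.Bijective (fun g : Z ⟶ K => F.map g) := by
  constructor
  · intro g₁ g₂ h
    dsimp only at h
    rw [← cancel_mono ι]
    apply hG.1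
    dsimp only
    rw [F.map_comp, F.map_comp, h]
  · intro h
    obtain ⟨a, ha⟩ := hG.2 (h ≫ F.map ι)
    dsimp only at ha
    have haf : a ≫ f = tZ ≫ e := by
      apply hH
      dsimp only
      rw [F.map_comp, ha, Category.assoc, ← F.map_comp, w, F.map_comp, F.map_comp,
        ← Category.assoc, hFU (h ≫ F.map p) (F.map tZ)]
    obtain ⟨g, hg⟩ := hlift a haf
    refine ⟨g, ?_⟩
    dsimp only
    rw [← cancel_mono (F.map ι), ← F.map_comp, hg, ha]

end Groth.Agent.Lib.Helper19.NeronFormal
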