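import Mathlib

set_option autoImplicit false
universe u
open CategoryTheory Limits

namespace Groth.Agent.Lib.Helper19.NeronFormal2

/-- Formal: a functor which is "fully faithful on the relevant hom sets" reflects isomorphisms. -/
lemma isIso_of_map_isIso {C D : Type*} [Category C] [Category D] (F : C ⥤ D)
    {A B : C} (Φ : A ⟶ B)
    (hAA : Function.Injective (fun g : A ⟶ A => F.map g))
    (hBB : Function.Injective (fun g : B ⟶ B => F.map g))
    (hBA : Function.Surjective (fun g : B ⟶ A => F.map g))
    [IsIso (F.map Φ)] : IsIso Φ := by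
  obtain ⟨Ψ, hΨ⟩ := hBA (inv (F.map Φ))
  dsimp only at hΨ
  refine ⟨Ψ, ?_, ?_⟩
  · apply hAA
    dsimp only
    rw [F.map_comp, hΨ, IsIso.hom_inv_id, F.map_id]
  · apply hBB
    dsimp only
    rw [F.map_comp, hΨ, IsIso.inv_hom_id, F.map_id]

end Groth.Agent.Lib.Helper19.NeronFormal2
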