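import Mathlib

set_option autoImplicit false
universe u
open CategoryTheory Limits

namespace Groth.Agent.Lib.Helper19.NeronOpens

section Formal

variable {C D D' : Type*} [Category C] [Category D] [Category D']

lemma bij_of_natIso {F F' : C ⥤ D} (α : F ≅ F') {A B : C}
    (h : Function.Bijective (fun g : A ⟶ B => F.map g)) :
    Function.Bijective (fun g : A ⟶ B => F'.map g) := by
  have : (fun g : A ⟶ B => F'.map g) =
      ((α.app A).homCongr (α.app B)) ∘ (fun g : A ⟶ B => F.map g) := by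
    funext g
    simp [Iso.homCongr_apply]
  rw [this]
  exact ((α.app A).homCongr (α.app B)).bijective.comp h

lemma bij_comp (F : C ⥤ D) (E : D ⥤ D') {A B : C}
    (h1 : Function.Bijective (fun g : A ⟶ B => F.map g))
    (h2 : Function.Bijective (fun g : F.obj A ⟶ F.obj B => E.map g)) :
    Function.Bijective (fun g : A ⟶ B => (F ⋙ E).map g) :=
  h2.comp h1

lemma bij_of_comp (F : C ⥤ D) (E : D ⥤ D') {A B : C}
    (h : Function.Bijective (fun g : A ⟶ B => (F ⋙ E).map g))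
    (h2 : Function.Bijective (fun g : F.obj A ⟶ F.obj B => E.map g)) :
    Function.Bijective (fun g : A ⟶ B => F.map g) := by
  have h' : Function.Bijective
      ((fun g : F.obj A ⟶ F.obj B => E.map g) ∘ (fun g : A ⟶ B => F.map g)) := h
  exact (Function.Bijective.of_comp_iff' h2 _).mp h'

end Formal

section Over

variable {C : Type*} [Category C] [HasPullbacks C]

/-- pulling back along `u ≫ v` with `u` an isomorphism detects bijectivity for `v`. -/
lemma bij_pullback_iff_of_isIso {S T T' : C} (v : T ⟶ S) (u : T' ⟶ T) [IsIso u]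
    {A B : Over S} :
    Function.Bijective (fun g : A ⟶ B => (Over.pullback (u ≫ v)).map g) ↔
      Function.Bijective (fun g : A ⟶ B => (Over.pullback v).map g) := by
  haveI : (Over.pullback u).IsEquivalence :=
    (Over.mapPullbackAdj u).isEquivalence_right_of_isEquivalence_left
  have hE : ∀ X Y : Over T, Function.Bijective (fun g : X ⟶ Y => (Over.pullback u).map g) :=
    fun X Y => (Functor.FullyFaithful.ofFullyFaithful (Over.pullback u)).map_bijective X Y
  constructor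
  · intro h
    have h1 := bij_of_natIso (Over.pullbackComp u v) h
    exact bij_of_comp _ _ h1 (hE _ _)
  · intro h
    exact bij_of_natIso (Over.pullbackComp u v).symm (bij_comp _ _ h (hE _ _))

end Over

section AG
open AlgebraicGeometry

lemma exists_iso {S : Scheme.{u}} (S₀ S₁ : S.Opens) (h01 : S₀ ≤ S₁) :
    ∃ (j : (S₁.ι ⁻¹ᵁ S₀).toScheme ⟶ S₀.toScheme) (_ : IsIso j),
      (S₁.ι ⁻¹ᵁ S₀).ι ≫ S₁.ι = j ≫ S₀.ι := by
  have e : S₁.ι ''ᵁ (S₁.ι ⁻¹ᵁ S₀) = S₀ := by
    apply le_antisymm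
    · exact S₁.ι.image_preimage_le _
    · intro x hx
      exact ⟨⟨x, h01 hx⟩, hx, rfl⟩
  refine ⟨(S₁.ι.isoImage _).hom ≫ (S.isoOfEq e).hom, inferInstance, ?_⟩
  rw [Category.assoc, Scheme.isoOfEq_hom_ι, Scheme.Hom.isoImage_hom_ι]

theorem of_intermediate {S : Scheme.{u}} (S₀ S₁ : S.Opens) (h01 : S₀ ≤ S₁) (N : Over S)
    (hN1 : ∀ Z : Over S, Smooth Z.hom →
      Function.Bijective (fun g : Z ⟶ N => (Over.pullback S₁.ι).map g))
    (hN10 : ∀ Z : Over (S₁ : Scheme.{u}), Smooth Z.hom →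
      Function.Bijective (fun g : Z ⟶ (Over.pullback S₁.ι).obj N =>
        (Over.pullback (S₁.ι ⁻¹ᵁ S₀).ι).map g)) :
    ∀ Z : Over S, Smooth Z.hom →
      Function.Bijective (fun g : Z ⟶ N => (Over.pullback S₀.ι).map g) := by
  intro Z hZ
  obtain ⟨j, hj, e⟩ := exists_iso S₀ S₁ h01
  have hsm : Smooth ((Over.pullback S₁.ι).obj Z).hom := by
    change Smooth (pullback.snd Z.hom S₁.ι)
    infer_instance
  have h1 := bij_comp (Over.pullback S₁.ι) (Over.pullback (S₁.ι ⁻¹ᵁ S₀).ι) (hN1 Z hZ)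
    (hN10 _ hsm)
  have h2 := bij_of_natIso (Over.pullbackComp (S₁.ι ⁻¹ᵁ S₀).ι S₁.ι).symm h1
  have key : ∀ (w : (S₁.ι ⁻¹ᵁ S₀).toScheme ⟶ S), w = j ≫ S₀.ι →
      Function.Bijective (fun g : Z ⟶ N => (Over.pullback w).map g) →
      Function.Bijective (fun g : Z ⟶ N => (Over.pullback S₀.ι).map g) := by
    rintro _ rfl h
    exact (bij_pullback_iff_of_isIso S₀.ι j).mp h
  exact key _ e h2

theorem larger_open {S : Scheme.{u}} (S₀ S₁ : S.Opens) (h01 : S₀ ≤ S₁) (N : Over S)
    (hN0 : ∀ Z : Over S, Smooth Z.hom →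
      Function.Bijective (fun g : Z ⟶ N => (Over.pullback S₀.ι).map g))
    (hN10 : ∀ Z : Over (S₁ : Scheme.{u}), Smooth Z.hom →
      Function.Bijective (fun g : Z ⟶ (Over.pullback S₁.ι).obj N =>
        (Over.pullback (S₁.ι ⁻¹ᵁ S₀).ι).map g)) :
    ∀ Z : Over S, Smooth Z.hom →
      Function.Bijective (fun g : Z ⟶ N => (Over.pullback S₁.ι).map g) := by
  intro Z hZ
  obtain ⟨j, hj, e⟩ := exists_iso S₀ S₁ h01
  have hsm : Smooth ((Over.pullback S₁.ι).obj Z).hom := by
    change Smooth (pullback.snd Z.hom S₁.ι)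
    infer_instance
  have key : ∀ (w : (S₁.ι ⁻¹ᵁ S₀).toScheme ⟶ S), w = j ≫ S₀.ι →
      Function.Bijective (fun g : Z ⟶ N => (Over.pullback w).map g) := by
    rintro _ rfl
    exact (bij_pullback_iff_of_isIso S₀.ι j).mpr (hN0 Z hZ)
  have h0 := key _ e
  have h1 := bij_of_natIso (Over.pullbackComp (S₁.ι ⁻¹ᵁ S₀).ι S₁.ι) h0
  exact bij_of_comp _ _ h1 (hN10 _ hsm)

end AG

end Groth.Agent.Lib.Helper19.NeronOpens
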