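import Mathlib

set_option autoImplicit false
universe u
open CategoryTheory Limits MonoidalCategory CartesianMonoidalCategory

namespace Groth.Agent.Lib.Helper19.NeronTorsor

section Formal

variable {C D : Type*} [Category C] [Category D] [CartesianMonoidalCategory C]
  [CartesianMonoidalCategory D] (F : C ⥤ D) [PreservesLimitsOfShape (Discrete WalkingPair) F]

lemma F_hom_ext {A B : C} {W : D} (u v : W ⟶ F.obj (A ⊗ B))
    (h1 : u ≫ F.map (fst A B) = v ≫ F.map (fst A B))
    (h2 : u ≫ F.map (snd A B) = v ≫ F.map (snd A B)) : u = v := by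
  rw [← cancel_mono (CartesianMonoidalCategory.prodComparison F A B)]
  apply CartesianMonoidalCategory.hom_ext
  · simpa only [Category.assoc, CartesianMonoidalCategory.prodComparison_fst] using h1
  · simpa only [Category.assoc, CartesianMonoidalCategory.prodComparison_snd] using h2

lemma F_lift {A B : C} {W : D} (x : W ⟶ F.obj A) (y : W ⟶ F.obj B) :
    ∃ u : W ⟶ F.obj (A ⊗ B), u ≫ F.map (fst A B) = x ∧ u ≫ F.map (snd A B) = y := by
  refine ⟨lift x y ≫ inv (CartesianMonoidalCategory.prodComparison F A B), ?_, ?_⟩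
  · rw [← CartesianMonoidalCategory.prodComparison_fst, Category.assoc, IsIso.inv_hom_id_assoc, lift_fst]
  · rw [← CartesianMonoidalCategory.prodComparison_snd, Category.assoc, IsIso.inv_hom_id_assoc, lift_snd]

variable {G N : C} (act : G ⊗ N ⟶ N) [IsIso (lift act (snd G N))]

include act in
lemma invΦ_snd : inv (lift act (snd G N)) ≫ snd G N = snd N N := by
  rw [IsIso.inv_comp_eq, lift_snd]

include act in
/-- injectivity for `N` from injectivity for `G`. -/
lemma inj_N_of_G (Z : C) (hG : Function.Injective (fun g : Z ⟶ G => F.map g)) :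
    Function.Injective (fun g : Z ⟶ N => F.map g) := by
  intro g₁ g₂ h
  dsimp only at h
  have hδ : lift g₁ g₂ ≫ inv (lift act (snd G N)) ≫ fst G N =
      lift g₂ g₂ ≫ inv (lift act (snd G N)) ≫ fst G N := by
    apply hG
    dsimp only
    have : F.map (lift g₁ g₂) = F.map (lift g₂ g₂) := by
      apply F_hom_ext
      · rw [← F.map_comp, ← F.map_comp, lift_fst, lift_fst, h]
      · rw [← F.map_comp, ← F.map_comp, lift_snd, lift_snd]
    rw [F.map_comp, F.map_comp (lift g₂ g₂), this]
  have h2 : lift g₁ g₂ ≫ inv (lift act (snd G N)) = lift g₂ g₂ ≫ inv (lift act (snd G N)) := by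
    apply CartesianMonoidalCategory.hom_ext
    · simpa only [Category.assoc] using hδ
    · simp only [Category.assoc, invΦ_snd act, lift_snd]
  have h3 : lift g₁ g₂ = lift g₂ g₂ := by
    rwa [cancel_mono] at h2
  have := congr($h3 ≫ fst N N)
  simpa only [lift_fst] using this

include act in
/-- Step A: extension of `(z, n) ↦ h(z)` as a map `Z ⊗ N ⟶ N`. -/
lemma stepA (Z : C) (hG : Function.Surjective (fun g : Z ⊗ N ⟶ G => F.map g))
    (h : F.obj Z ⟶ F.obj N) : ∃ ψ : Z ⊗ N ⟶ N, F.map ψ = F.map (fst Z N) ≫ h := by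
  obtain ⟨h', h'1, h'2⟩ := F_lift F (A := N) (B := N) (F.map (fst Z N) ≫ h) (F.map (snd Z N))
  obtain ⟨d, hd⟩ := hG (h' ≫ F.map (inv (lift act (snd G N))) ≫ F.map (fst G N))
  dsimp only at hd
  refine ⟨lift d (snd Z N) ≫ act, ?_⟩
  have e1 : F.map (lift d (snd Z N)) = h' ≫ F.map (inv (lift act (snd G N))) := by
    apply F_hom_ext
    · rw [← F.map_comp, lift_fst, hd, Category.assoc]
    · rw [← F.map_comp, lift_snd, Category.assoc, ← F.map_comp, invΦ_snd act, h'2]
  have e2 : lift d (snd Z N) ≫ lift act (snd G N) = lift (lift d (snd Z N) ≫ act) (snd Z N) := by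
    apply CartesianMonoidalCategory.hom_ext
    · simp only [Category.assoc, lift_fst]
    · simp only [Category.assoc, lift_snd]
  have e3 : F.map (lift (lift d (snd Z N) ≫ act) (snd Z N)) = h' := by
    rw [← e2, F.map_comp, e1, Category.assoc, ← F.map_comp, IsIso.inv_hom_id, F.map_id,
      Category.comp_id]
  have := congr($e3 ≫ F.map (fst N N))
  rw [← F.map_comp, lift_fst, h'1] at this
  exact this

include act in
/-- injectivity for `G` from injectivity for `N`, given that `fst Z N` is epi. -/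
lemma inj_G_of_N (Z : C) [Epi (fst Z N)]
    (hN : Function.Injective (fun g : Z ⊗ N ⟶ N => F.map g)) :
    Function.Injective (fun g : Z ⟶ G => F.map g) := by
  intro g₁ g₂ h
  dsimp only at h
  have hψ : lift (fst Z N ≫ g₁) (snd Z N) ≫ act = lift (fst Z N ≫ g₂) (snd Z N) ≫ act := by
    apply hN
    dsimp only
    have : F.map (lift (fst Z N ≫ g₁) (snd Z N)) = F.map (lift (fst Z N ≫ g₂) (snd Z N)) := by
      apply F_hom_ext
      · rw [← F.map_comp, ← F.map_comp, lift_fst, lift_fst, F.map_comp, F.map_comp, h]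
      · rw [← F.map_comp, ← F.map_comp, lift_snd, lift_snd]
    rw [F.map_comp, F.map_comp (lift (fst Z N ≫ g₂) (snd Z N)), this]
  have h2 : lift (fst Z N ≫ g₁) (snd Z N) ≫ lift act (snd G N) =
      lift (fst Z N ≫ g₂) (snd Z N) ≫ lift act (snd G N) := by
    apply CartesianMonoidalCategory.hom_ext
    · simpa only [Category.assoc, lift_fst] using hψ
    · simp only [Category.assoc, lift_snd]
  rw [cancel_mono] at h2
  have := congr($h2 ≫ fst G N)
  simp only [lift_fst] at this
  rwa [cancel_epi] at this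

include act in
/-- Step A': extension of `(z, n) ↦ h(z)` as a map `Z ⊗ N ⟶ G`. -/
lemma stepA' (Z : C) (hN : Function.Surjective (fun g : Z ⊗ N ⟶ N => F.map g))
    (h : F.obj Z ⟶ F.obj G) : ∃ d : Z ⊗ N ⟶ G, F.map d = F.map (fst Z N) ≫ h := by
  obtain ⟨h'', h1, h2⟩ := F_lift F (A := G) (B := N) (F.map (fst Z N) ≫ h) (F.map (snd Z N))
  obtain ⟨ψ, hψ⟩ := hN (h'' ≫ F.map act)
  dsimp only at hψ
  refine ⟨lift ψ (snd Z N) ≫ inv (lift act (snd G N)) ≫ fst G N, ?_⟩
  have e1 : F.map (lift ψ (snd Z N)) = h'' ≫ F.map (lift act (snd G N)) := by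
    apply F_hom_ext
    · rw [← F.map_comp, lift_fst, hψ, Category.assoc, ← F.map_comp, lift_fst]
    · rw [← F.map_comp, lift_snd, Category.assoc, ← F.map_comp, lift_snd, h2]
  rw [F.map_comp, e1, Category.assoc, ← F.map_comp, IsIso.hom_inv_id_assoc, h1]

end Formal

section AG
open AlgebraicGeometry

lemma epi_fst {S : Scheme.{u}} (Z N : Over S) [Smooth N.hom] [Surjective N.hom] :
    Epi (fst Z N) := by
  haveI : Epi (fst Z N).left := by
    rw [Over.fst_left]
    infer_instance
  exact Over.epi_of_epi_left _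

lemma smooth_tensor_hom {S : Scheme.{u}} (Z N : Over S) [Smooth Z.hom] [Smooth N.hom] :
    Smooth (Z ⊗ N).hom := by
  rw [Over.tensorObj_hom]
  infer_instance

lemma descend {S : Scheme.{u}} (S₀ : S.Opens) (Z N T : Over S) [Smooth Z.hom] [Smooth N.hom]
    [Surjective N.hom]
    (hT : ∀ Y : Over S, Smooth Y.hom →
      Function.Injective (fun g : Y ⟶ T => (Over.pullback S₀.ι).map g))
    (ψ : Z ⊗ N ⟶ T) (h : (Over.pullback S₀.ι).obj Z ⟶ (Over.pullback S₀.ι).obj T)
    (hψ : (Over.pullback S₀.ι).map ψ = (Over.pullback S₀.ι).map (fst Z N) ≫ h) :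
    ∃ g : Z ⟶ T, (Over.pullback S₀.ι).map g = h := by
  haveI hpres : PreservesLimitsOfShape (Discrete WalkingPair) (Over.pullback S₀.ι) := inferInstance
  have hπl : (fst Z N).left = pullback.fst Z.hom N.hom := Over.fst_left
  haveI : Smooth (fst Z N).left := by rw [hπl]; infer_instance
  haveI : Surjective (fst Z N).left := by rw [hπl]; infer_instance
  haveI := smooth_tensor_hom Z N
  let P : Over S := Over.mk (pullback.fst (fst Z N).left (fst Z N).left ≫ (Z ⊗ N).hom)
  let p₁ : P ⟶ Z ⊗ N := Over.homMk (pullback.fst (fst Z N).left (fst Z N).left) rfl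
  let p₂ : P ⟶ Z ⊗ N := Over.homMk (pullback.snd (fst Z N).left (fst Z N).left) (by
    have : (Z ⊗ N).hom = (fst Z N).left ≫ Z.hom := (Over.w (fst Z N)).symm
    change pullback.snd (fst Z N).left (fst Z N).left ≫ (Z ⊗ N).hom =
      pullback.fst (fst Z N).left (fst Z N).left ≫ (Z ⊗ N).hom
    rw [this, ← Category.assoc, ← pullback.condition, Category.assoc])
  have hp : p₁ ≫ fst Z N = p₂ ≫ fst Z N := by
    ext
    exact pullback.condition
  have hPsm : Smooth P.hom := by
    change Smooth (pullback.fst (fst Z N).left (fst Z N).left ≫ (Z ⊗ N).hom)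
    infer_instance
  have heq : p₁ ≫ ψ = p₂ ≫ ψ := by
    apply hT P hPsm
    dsimp only
    rw [Functor.map_comp, Functor.map_comp, hψ, ← Category.assoc, ← Category.assoc,
      ← Functor.map_comp, ← Functor.map_comp, hp]
  have heql : pullback.fst (fst Z N).left (fst Z N).left ≫ ψ.left =
      pullback.snd (fst Z N).left (fst Z N).left ≫ ψ.left := congr($(heq).left)
  haveI : EffectiveEpi (fst Z N).left := inferInstance
  let g₀ : Z.left ⟶ T.left := EffectiveEpi.desc (fst Z N).left ψ.left (by
    intro W g₁ g₂ hg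
    have e1 : pullback.lift g₁ g₂ hg ≫ pullback.fst (fst Z N).left (fst Z N).left = g₁ :=
      pullback.lift_fst _ _ _
    have e2 : pullback.lift g₁ g₂ hg ≫ pullback.snd (fst Z N).left (fst Z N).left = g₂ :=
      pullback.lift_snd _ _ _
    calc g₁ ≫ ψ.left
        = (pullback.lift g₁ g₂ hg ≫ pullback.fst (fst Z N).left (fst Z N).left) ≫ ψ.left := by
          rw [e1]
      _ = (pullback.lift g₁ g₂ hg ≫ pullback.snd (fst Z N).left (fst Z N).left) ≫ ψ.left := by
          rw [Category.assoc, heql, Category.assoc]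
      _ = g₂ ≫ ψ.left := by rw [e2])
  have hg₀ : (fst Z N).left ≫ g₀ = ψ.left := EffectiveEpi.fac _ _ _
  let g : Z ⟶ T := Over.homMk g₀ (by
    rw [← cancel_epi (fst Z N).left, ← Category.assoc, hg₀, Over.w ψ, Over.w (fst Z N)])
  have hπg : fst Z N ≫ g = ψ := by
    ext
    exact hg₀
  refine ⟨g, ?_⟩
  haveI : Epi ((Over.pullback S₀.ι).map (fst Z N)) := by
    rw [← CartesianMonoidalCategory.prodComparison_fst]
    haveI : Smooth ((Over.pullback S₀.ι).obj N).hom := by
      change Smooth (pullback.snd N.hom S₀.ι); infer_instance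
    haveI : Surjective ((Over.pullback S₀.ι).obj N).hom := by
      change Surjective (pullback.snd N.hom S₀.ι); infer_instance
    haveI := epi_fst ((Over.pullback S₀.ι).obj Z) ((Over.pullback S₀.ι).obj N)
    infer_instance
  rw [← cancel_epi ((Over.pullback S₀.ι).map (fst Z N)), ← Functor.map_comp, hπg, hψ]

theorem main {S : Scheme.{u}} (S₀ : S.Opens)
    (G : Over S) [GrpObj G] [Smooth G.hom]
    (N : Over S) [Smooth N.hom] [Surjective N.hom]
    (act : G ⊗ N ⟶ N) (ha : IsIso (lift act (snd G N))) :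
    (∀ Z : Over S, Smooth Z.hom →
      Function.Bijective (fun g : Z ⟶ G => (Over.pullback S₀.ι).map g)) ↔
    (∀ Z : Over S, Smooth Z.hom →
      Function.Bijective (fun g : Z ⟶ N => (Over.pullback S₀.ι).map g)) := by
  haveI hpres : PreservesLimitsOfShape (Discrete WalkingPair) (Over.pullback S₀.ι) := inferInstance
  constructor
  · intro hG Z hZ
    haveI := hZ
    have hinj : ∀ Y : Over S, Smooth Y.hom →
        Function.Injective (fun g : Y ⟶ N => (Over.pullback S₀.ι).map g) :=
      fun Y hY => inj_N_of_G (Over.pullback S₀.ι) act Y (hG Y hY).1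
    refine ⟨hinj Z hZ, ?_⟩
    intro h
    obtain ⟨ψ, hψ⟩ := stepA (Over.pullback S₀.ι) act Z
      (hG (Z ⊗ N) (smooth_tensor_hom Z N)).2 h
    exact descend S₀ Z N N hinj ψ h hψ
  · intro hN Z hZ
    haveI := hZ
    have hinj : ∀ Y : Over S, Smooth Y.hom →
        Function.Injective (fun g : Y ⟶ G => (Over.pullback S₀.ι).map g) := by
      intro Y hY
      haveI := hY
      haveI := epi_fst Y N
      exact inj_G_of_N (Over.pullback S₀.ι) act Y (hN (Y ⊗ N) (smooth_tensor_hom Y N)).1
    refine ⟨hinj Z hZ, ?_⟩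
    intro h
    obtain ⟨d, hd⟩ := stepA' (Over.pullback S₀.ι) act Z
      (hN (Z ⊗ N) (smooth_tensor_hom Z N)).2 h
    exact descend S₀ Z N G hinj d h hd

end AG

end Groth.Agent.Lib.Helper19.NeronTorsor
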