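import Groth.Statements.S15383
import Groth.Agent.Lib.Helper9.FreeNbhd
import Groth.Prelude.Def_GmPts

/-!
# Uniqueness of the norm map `f_* G_m ⟶ G_m` of a finite locally free morphism (helper19, S15383)
-/

set_option autoImplicit false
set_option linter.style.haveILetI false
set_option linter.unusedSectionVars false
set_option linter.unusedVariables false
universe u
open CategoryTheory CategoryTheory.Limits AlgebraicGeometry Opposite

namespace Groth.Agent.Helper19.NormUniq

theorem finite_free_transport {A B B' : Type u} [CommRing A] [CommRing B] [CommRing B']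
    (φ : A →+* B) (φ' : A →+* B') (eB : B ≃+* B') (h : ∀ a, eB (φ a) = φ' a)
    (hfin : letI := φ.toAlgebra; Module.Finite A B)
    (hfree : letI := φ.toAlgebra; Module.Free A B) :
    letI := φ'.toAlgebra; Module.Finite A B' ∧ Module.Free A B' := by
  letI := φ.toAlgebra
  letI := φ'.toAlgebra
  let e : B ≃ₐ[A] B' := AlgEquiv.ofRingEquiv (f := eB) (fun a => h a)
  exact ⟨Module.Finite.equiv e.toLinearEquiv, Module.Free.of_equiv e.toLinearEquiv⟩

variable {X X' : Scheme.{u}} (f : X' ⟶ X)

theorem exists_free_open [IsFinite f] [Flat f] [LocallyOfFinitePresentation f] (T : Over X)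
    (p : T.left) :
    ∃ U : T.left.Opens, IsAffineOpen U ∧ p ∈ U ∧
      (letI := ((pullback.fst (U.ι ≫ T.hom) f).appTop).hom.toAlgebra;
        Module.Finite Γ(U.toScheme, ⊤) Γ(pullback (U.ι ≫ T.hom) f, ⊤) ∧
        Module.Free Γ(U.toScheme, ⊤) Γ(pullback (U.ι ≫ T.hom) f, ⊤)) := by
  have hg : Mor2.IsFinLocFree (pullback.fst T.hom f) := ⟨inferInstance, inferInstance, inferInstance⟩
  obtain ⟨U, hU, hp, hfin, hfree⟩ :=
    Groth.Agent.Helper9.FreeNbhd.exists_free_nbhd (pullback.fst T.hom f) hg p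
  refine ⟨U, hU, hp, ?_⟩
  let e := pullbackRightPullbackFstIso T.hom f U.ι
  have he : e.inv ≫ pullback.fst U.ι (pullback.fst T.hom f) = pullback.fst (U.ι ≫ T.hom) f :=
    pullbackRightPullbackFstIso_inv_fst T.hom f U.ι
  refine finite_free_transport ((pullback.fst U.ι (pullback.fst T.hom f)).appTop).hom
    ((pullback.fst (U.ι ≫ T.hom) f).appTop).hom
    ((Scheme.Γ.mapIso e.symm.op).commRingCatIsoToRingEquiv) ?_ hfin hfree
  intro a
  have := congrArg (fun m => m.appTop.hom a) he
  simp only [Scheme.Hom.comp_appTop, CommRingCat.hom_comp, RingHom.coe_comp, Function.comp_apply] at this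
  exact this

theorem gmFn_injective {S : Scheme.{u}} {T : Over S} (t t' : T ⟶ Red.Gm S)
    (h : Red.gmFn t = Red.gmFn t') : t = t' := by
  have hu : GmPts.unitOfPt t = GmPts.unitOfPt t' := Units.ext h
  rw [← GmPts.ptOfUnit_unitOfPt t, ← GmPts.ptOfUnit_unitOfPt t', hu]

/-- restriction of a point of `f_* Gm` -/
theorem normPt_restrict (N : CGrpSh3.pushGm Scheme.fppfPrecoverage f ⟶ CGrpSh2.Gm Scheme.fppfPrecoverage X)
    {T T₁ : Over X} (φ : T₁ ⟶ T) (t' : (Over.pullback f).obj T ⟶ Red.Gm X') :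
    CGrpSh3.normPt Scheme.fppfPrecoverage f N T₁ ((Over.pullback f).map φ ≫ t') =
      φ ≫ CGrpSh3.normPt Scheme.fppfPrecoverage f N T t' := by
  have h := congrArg (fun m => m (ULift.up (Additive.ofMul t'))) (congrArg (fun m => m.hom) (N.hom.naturality φ.op))
  rw [CGrpSh3.normPt_def, CGrpSh3.normPt_def]
  exact congrArg (fun y => y.down.toMul) h


theorem key [IsFinite f] [Flat f] [LocallyOfFinitePresentation f]
    (N N' : CGrpSh3.pushGm Scheme.fppfPrecoverage f ⟶ CGrpSh2.Gm Scheme.fppfPrecoverage X)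
    (hN : CGrpSh3.IsNormMap Scheme.fppfPrecoverage f N)
    (hN' : CGrpSh3.IsNormMap Scheme.fppfPrecoverage f N')
    (T : Over X) (t' : (Over.pullback f).obj T ⟶ Red.Gm X') :
    CGrpSh3.normPt Scheme.fppfPrecoverage f N T t' =
      CGrpSh3.normPt Scheme.fppfPrecoverage f N' T t' := by
  apply Over.OverMorphism.ext
  choose U hU hpU hfree using exists_free_open f T
  have hcov : TopologicalSpace.IsOpenCover U := by
    apply TopologicalSpace.IsOpenCover.mk
    rw [eq_top_iff]
    intro p _
    exact TopologicalSpace.Opens.mem_iSup.mpr ⟨p, hpU p⟩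
  refine Scheme.Cover.hom_ext (T.left.openCoverOfIsOpenCover U hcov) _ _ (fun p => ?_)
  let Tp : Over X := Over.mk ((U p).ι ≫ T.hom)
  let φ : Tp ⟶ T := Over.homMk (U p).ι rfl
  have h1 := normPt_restrict f N φ t'
  have h2 := normPt_restrict f N' φ t'
  have h3 : CGrpSh3.normPt Scheme.fppfPrecoverage f N Tp ((Over.pullback f).map φ ≫ t') =
      CGrpSh3.normPt Scheme.fppfPrecoverage f N' Tp ((Over.pullback f).map φ ≫ t') := by
    apply gmFn_injective
    haveI : IsAffine Tp.left := hU p
    letI : Algebra Γ(Tp.left, ⊤) Γ(((Over.pullback f).obj Tp).left, ⊤) :=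
      ((pullback.fst ((U p).ι ≫ T.hom) f).appTop).hom.toAlgebra
    haveI : Module.Finite Γ(Tp.left, ⊤) Γ(((Over.pullback f).obj Tp).left, ⊤) := (hfree p).1
    haveI : Module.Free Γ(Tp.left, ⊤) Γ(((Over.pullback f).obj Tp).left, ⊤) := (hfree p).2
    rw [hN Tp (fun a => rfl) _, hN' Tp (fun a => rfl) _]
  have := congrArg (fun m => CommaMorphism.left m) (h1.symm.trans (h3.trans h2))
  exact this

theorem main [IsFinite f] [Flat f] [AlgebraicGeometry.IsNoetherian X]
    (N N' : CGrpSh3.pushGm Scheme.fppfPrecoverage f ⟶ CGrpSh2.Gm Scheme.fppfPrecoverage X)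
    (hN : CGrpSh3.IsNormMap Scheme.fppfPrecoverage f N)
    (hN' : CGrpSh3.IsNormMap Scheme.fppfPrecoverage f N') : N = N' := by
  haveI : LocallyOfFinitePresentation f := inferInstance
  apply Sheaf.hom_ext
  apply NatTrans.ext
  funext T
  apply AddCommGrpCat.hom_ext
  apply AddMonoidHom.ext
  intro x
  have h := key f N N' hN hN' T.unop x.down.toMul
  rw [CGrpSh3.normPt_def, CGrpSh3.normPt_def] at h
  apply ULift.ext
  exact Additive.toMul.injective h

end Groth.Agent.Helper19.NormUniq
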