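import Groth.Statements.S10912
import Groth.Statements.S10911

set_option autoImplicit false
universe u
open CategoryTheory CategoryTheory.Limits AlgebraicGeometry TopologicalSpace Order

namespace Groth.Agent.Lib.Helper19.OrdRestrict

/-- `Ring.ordFrac` of a DVR is invariant under isomorphisms. -/
lemma ordFrac_transport {R R' K K' : Type*} [CommRing R] [IsDomain R] [IsDiscreteValuationRing R]
    [CommRing R'] [IsDomain R'] [IsDiscreteValuationRing R'] [Field K] [Field K']
    [Algebra R K] [IsFractionRing R K] [Algebra R' K'] [IsFractionRing R' K']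
    (e : R ≃+* R') (eK : K →+* K')
    (h : ∀ r, eK (algebraMap R K r) = algebraMap R' K' (e r)) (x : K) :
    Ring.ordFrac R' (eK x) = Ring.ordFrac R x := by
  have key : ∀ a : R, a ≠ 0 →
      Ring.ordFrac R' (eK (algebraMap R K a)) = Ring.ordFrac R (algebraMap R K a) := by
    intro a ha
    obtain ⟨ϖ, hϖ⟩ := IsDiscreteValuationRing.exists_irreducible R
    obtain ⟨n, u, rfl⟩ := IsDiscreteValuationRing.eq_unit_mul_pow_irreducible ha hϖ
    have hϖ' : Irreducible (e ϖ) := (MulEquiv.irreducible_iff (e : R ≃* R')).2 hϖ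
    simp only [map_mul, map_pow, h]
    rw [Ring.ordFrac_of_isUnit u.isUnit, Ring.ordFrac_of_isUnit (u.isUnit.map e),
      Ring.ordFrac_irreducible hϖ, Ring.ordFrac_irreducible hϖ']
  obtain ⟨a, b, hb, rfl⟩ := IsFractionRing.div_surjective (A := R) x
  have hb0 : b ≠ 0 := nonZeroDivisors.ne_zero hb
  by_cases ha : a = 0
  · simp [ha]
  rw [map_div₀, map_div₀, map_div₀, key a ha, key b hb0]

variable {X : Scheme.{u}} [IsIntegral X] (U : X.Opens) [Nonempty U]

lemma ι_generic : U.ι (genericPoint ↥U.toScheme) = genericPoint ↥X :=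
  genericPoint_eq_of_isOpenImmersion U.ι

/-- The comparison `K(X) → K(U)`. -/
noncomputable def φ : X.functionField ⟶ (U : Scheme.{u}).functionField :=
  X.presheaf.stalkSpecializes (specializes_of_eq (ι_generic U)) ≫ U.ι.stalkMap (genericPoint ↥U.toScheme)

/-- The inverse comparison `K(U) → K(X)`. -/
noncomputable def ψ : (U : Scheme.{u}).functionField ⟶ X.functionField :=
  inv (U.ι.stalkMap (genericPoint ↥U.toScheme)) ≫
    X.presheaf.stalkSpecializes (specializes_of_eq (ι_generic U).symm)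

lemma ψ_φ : ψ U ≫ φ U = 𝟙 _ := by
  simp only [ψ, φ, Category.assoc]
  rw [← Category.assoc (X.presheaf.stalkSpecializes _), TopCat.Presheaf.stalkSpecializes_comp]
  simp

lemma φ_ψ_apply (g : ↑(U : Scheme.{u}).functionField) : (φ U) ((ψ U) g) = g := by
  have := congr($(ψ_φ U) g)
  simpa using this

lemma φ_ne_zero {f : ↑X.functionField} (hf : f ≠ 0) : (φ U) f ≠ 0 := by
  intro h
  exact hf ((φ U).hom.injective (h.trans (map_zero _).symm))

lemma ψ_ne_zero {g : ↑(U : Scheme.{u}).functionField} (hg : g ≠ 0) : (ψ U) g ≠ 0 := by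
  intro h
  exact hg ((ψ U).hom.injective (h.trans (map_zero _).symm))

lemma compat (u : ↥(U : Scheme.{u})) (r : ↑(X.presheaf.stalk (U.ι u))) :
    (φ U) (algebraMap ↑(X.presheaf.stalk (U.ι u)) ↑X.functionField r) =
      algebraMap ↑((U : Scheme.{u}).presheaf.stalk u) ↑(U : Scheme.{u}).functionField
        ((U.ι.stalkMap u) r) := by
  simp only [RingHom.algebraMap_toAlgebra, φ]
  rw [← ConcreteCategory.comp_apply, ← ConcreteCategory.comp_apply]
  congr 2
  rw [← Category.assoc, TopCat.Presheaf.stalkSpecializes_comp]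
  exact Scheme.Hom.stalkSpecializes_stalkMap U.ι _ _
    ((genericPoint_spec ↥U.toScheme).specializes trivial)

variable [IsLocallyNoetherian X]

lemma coheight_ι (u : ↥(U : Scheme.{u})) : coheight (U.ι u) = coheight u :=
  coheight_eq_of_isOpenImmersion U.ι

lemma ordHom_restrict (u : ↥(U : Scheme.{u})) (hu : coheight u = 1) (hx : coheight (U.ι u) = 1)
    [IsDiscreteValuationRing ↑(X.presheaf.stalk (U.ι u))] (f : ↑X.functionField) :
    (U : Scheme.{u}).ordHom u hu ((φ U) f) = X.ordHom (U.ι u) hx f := by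
  let e : ↑(X.presheaf.stalk (U.ι u)) ≃+* ↑((U : Scheme.{u}).presheaf.stalk u) :=
    (asIso (U.ι.stalkMap u)).commRingCatIsoToRingEquiv
  have : IsDiscreteValuationRing ↑((U : Scheme.{u}).presheaf.stalk u) :=
    IsDiscreteValuationRing.RingEquivClass.isDiscreteValuationRing e
  exact ordFrac_transport e (φ U).hom (fun r => compat U u r) f

lemma ord_restrict (u : ↥(U : Scheme.{u})) (hx : coheight (U.ι u) = 1)
    [IsDiscreteValuationRing ↑(X.presheaf.stalk (U.ι u))] (f : ↑X.functionField) :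
    Scheme.ord ((φ U) f) u = Scheme.ord f (U.ι u) := by
  have hu : coheight u = 1 := by rw [← coheight_ι U u]; exact hx
  rw [Scheme.ord_eq_ordHom_of_coheight_eq_one hu, Scheme.ord_eq_ordHom_of_coheight_eq_one hx,
    ordHom_restrict U u hu hx f]

theorem main12
    (hR1 : ∀ x : ↥X, Order.coheight x = 1 → IsDiscreteValuationRing ↑(X.presheaf.stalk x))
    (hcod : ∀ x : ↥X, x ∉ U → 2 ≤ Order.coheight x)
    (D : ↥X → ℤ) :
    (∃ f : ↑X.functionField, f ≠ 0 ∧ ∀ x : ↥X, Order.coheight x = 1 → Scheme.ord f x = D x) ↔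
      ∃ g : ↑(U : Scheme.{u}).functionField, g ≠ 0 ∧
        ∀ u : ↥(U : Scheme.{u}), Order.coheight u = 1 → Scheme.ord g u = D u.1 := by
  constructor
  · rintro ⟨f, hf, h⟩
    refine ⟨(φ U) f, φ_ne_zero U hf, fun u hu => ?_⟩
    have hx : coheight (U.ι u) = 1 := (coheight_ι U u).trans hu
    haveI := hR1 _ hx
    rw [ord_restrict U u hx f]
    exact h _ hx
  · rintro ⟨g, hg, h⟩
    refine ⟨(ψ U) g, ψ_ne_zero U hg, fun x hx => ?_⟩
    have hxU : x ∈ U := by
      by_contra hxU
      have := hcod x hxU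
      rw [hx] at this
      exact absurd this (by decide)
    let u : ↥(U : Scheme.{u}) := ⟨x, hxU⟩
    have hx' : coheight (U.ι u) = 1 := hx
    have hu : coheight u = 1 := by rw [← coheight_ι U u]; exact hx'
    haveI := hR1 _ hx'
    have e1 := ord_restrict U u hx' ((ψ U) g)
    rw [φ_ψ_apply] at e1
    have e2 := h u hu
    exact e1.symm.trans e2

theorem main11
    (hR1 : ∀ x : ↥X, Order.coheight x = 1 → IsDiscreteValuationRing ↑(X.presheaf.stalk x))
    (z : ↥X) (hz : Order.coheight z = 1) (hU : (U : Set ↥X) = (closure {z})ᶜ)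
    (D : ↥X → ℤ)
    (g : ↑(U : Scheme.{u}).functionField) (hg : g ≠ 0)
    (h : ∀ u : ↥(U : Scheme.{u}), Order.coheight u = 1 → Scheme.ord g u = D u.1) :
    ∃ (m : ℤ) (f : ↑X.functionField), f ≠ 0 ∧ Scheme.ord f z = D z - m ∧
      ∀ x : ↥X, x ≠ z → Order.coheight x = 1 → Scheme.ord f x = D x := by
  refine ⟨D z - Scheme.ord ((ψ U) g) z, (ψ U) g, ψ_ne_zero U hg, by ring, fun x hxz hx => ?_⟩
  have hxU : x ∈ U := by
    show x ∈ (U : Set ↥X)
    rw [hU]
    intro hxc
    have hsp : z ⤳ x := specializes_iff_mem_closure.2 hxc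
    have hle : x ≤ z := Scheme.le_iff_specializes.2 hsp
    have hlt : x < z := by
      refine lt_of_le_not_ge hle (fun hzx => hxz ?_)
      have hsp' : x ⤳ z := Scheme.le_iff_specializes.1 hzx
      exact (hsp'.antisymm hsp).eq
    have := Order.coheight_add_one_le hlt
    rw [hz, hx] at this
    exact absurd this (by decide)
  let u : ↥(U : Scheme.{u}) := ⟨x, hxU⟩
  have hx' : coheight (U.ι u) = 1 := hx
  have hu : coheight u = 1 := by rw [← coheight_ι U u]; exact hx'
  haveI := hR1 _ hx'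
  have e1 := ord_restrict U u hx' ((ψ U) g)
  rw [φ_ψ_apply] at e1
  have e2 := h u hu
  exact e1.symm.trans e2

end Groth.Agent.Lib.Helper19.OrdRestrict
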