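import Mathlib
import Groth.Prelude.Def_W4c1imperftorsorsPerf

/-!
# The preperfection of `R[α]/(uα, α² − v²)` (helper19)
-/

set_option autoImplicit false

universe u

open Polynomial TensorProduct W4c1imperftorsors

namespace Groth.Agent.Lib.Helper19.PrePerfCalc

section alg

variable {R : Type u} [CommRing R] (u v : R)

/-- the ideal `(uX, X² − v²)`. -/
noncomputable abbrev II : Ideal R[X] := Ideal.span {(C u * X : R[X]), X ^ 2 - C (v ^ 2)}

/-- the algebra `R[α]/(uα, α² − v²)`. -/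
abbrev AA : Type u := R[X] ⧸ II u v

/-- the class of `X`. -/
noncomputable def al : AA u v := Ideal.Quotient.mk (II u v) X

theorem u_mul_al : algebraMap R (AA u v) u * al u v = 0 := by
  have h : (C u * X : R[X]) ∈ II u v := Ideal.subset_span (by simp)
  have := Ideal.Quotient.eq_zero_iff_mem.2 h
  rw [map_mul] at this
  exact this

theorem al_sq : al u v ^ 2 = algebraMap R (AA u v) (v ^ 2) := by
  have h : (X ^ 2 - C (v ^ 2) : R[X]) ∈ II u v := Ideal.subset_span (by simp)
  have := Ideal.Quotient.eq_zero_iff_mem.2 h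
  rw [map_sub, map_pow, sub_eq_zero] at this
  exact this

theorem exists_decomp (a : AA u v) :
    ∃ a₀ a₁ : R, a = algebraMap R (AA u v) a₀ + algebraMap R (AA u v) a₁ * al u v := by
  obtain ⟨f, rfl⟩ := Ideal.Quotient.mk_surjective a
  induction f using Polynomial.induction_on' with
  | add f g hf hg =>
    obtain ⟨a₀, a₁, h1⟩ := hf
    obtain ⟨b₀, b₁, h2⟩ := hg
    refine ⟨a₀ + b₀, a₁ + b₁, ?_⟩
    rw [map_add, h1, h2, map_add, map_add]
    ring
  | monomial n r =>
    induction n with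
    | zero =>
      refine ⟨r, 0, ?_⟩
      simp
      rfl
    | succ n ih =>
      obtain ⟨a₀, a₁, h1⟩ := ih
      refine ⟨a₁ * v ^ 2, a₀, ?_⟩
      have e : (monomial (n + 1) r : R[X]) = monomial n r * X := by
        rw [← Polynomial.monomial_mul_X]
      rw [e, map_mul, h1]
      have h2 := al_sq u v
      change _ * al u v = _
      rw [map_mul, ← h2]
      ring

theorem al_pow_odd (k : ℕ) : al u v ^ (2 * k + 1) = algebraMap R (AA u v) (v ^ (2 * k)) * al u v := by
  rw [pow_succ, pow_mul, al_sq, ← map_pow, ← pow_mul]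

end alg

theorem coeff_unique {K : Type*} [CommRing K] (c a b a' b' : K)
    (h : AdjoinRoot.of (X ^ 2 - C c : K[X]) a + AdjoinRoot.of (X ^ 2 - C c : K[X]) b * AdjoinRoot.root _ =
      AdjoinRoot.of (X ^ 2 - C c : K[X]) a' + AdjoinRoot.of (X ^ 2 - C c : K[X]) b' * AdjoinRoot.root _) :
    b = b' := by
  nontriviality K
  have hf : (X ^ 2 - C c : K[X]).Monic := monic_X_pow_sub_C c (by norm_num)
  have hdeg : (X ^ 2 - C c : K[X]).degree = 2 := degree_X_pow_sub_C (by norm_num) c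
  have key : ∀ a b : K, AdjoinRoot.modByMonicHom hf
      (AdjoinRoot.of (X ^ 2 - C c : K[X]) a + AdjoinRoot.of (X ^ 2 - C c : K[X]) b * AdjoinRoot.root _) =
      C b * X + C a := by
    intro a b
    have e : AdjoinRoot.of (X ^ 2 - C c : K[X]) a + AdjoinRoot.of (X ^ 2 - C c : K[X]) b * AdjoinRoot.root _ =
        AdjoinRoot.mk (X ^ 2 - C c : K[X]) (C b * X + C a) := by
      rw [map_add, map_mul, AdjoinRoot.mk_C, AdjoinRoot.mk_C, AdjoinRoot.mk_X, add_comm]
    rw [e, AdjoinRoot.modByMonicHom_mk, modByMonic_eq_self_iff hf, hdeg]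
    exact lt_of_le_of_lt (degree_linear_le) (by norm_num)
  have h2 := congrArg (AdjoinRoot.modByMonicHom hf) h
  rw [key, key] at h2
  have h3 := congrArg (fun q => q.coeff 1) h2
  simpa using h3

section twist

variable (p : ℕ) [Fact p.Prime] (R : Type u) [CommRing R] [CharP R p] (u v : R)

/-- the class of `1 ⊗ α`. -/
noncomputable def alT (i : ℕ) : Twist p R (AA u v) i :=
  (1 : R) ⊗ₜ[Src p R i] ((aEquiv p R (AA u v) i).symm (al u v))

theorem tmul_algebraMap_mul (i : ℕ) (r s : R) (a : AA u v) :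
    (r ⊗ₜ[Src p R i] ((aEquiv p R (AA u v) i).symm (algebraMap R (AA u v) s * a)) : Twist p R (AA u v) i) =
      (r * s ^ p ^ i) ⊗ₜ[Src p R i] ((aEquiv p R (AA u v) i).symm a) := by
  have h := TensorProduct.smul_tmul (R := Src p R i) (R' := Src p R i)
    ((srcEquiv p R i).symm s) r ((aEquiv p R (AA u v) i).symm a)
  rw [Algebra.smul_def, Algebra.smul_def, algebraMap_src, algebraMap_aSrc, RingEquiv.apply_symm_apply] at h
  rw [mul_comm r, h, map_mul]

theorem algebraMap_twist (i : ℕ) (r : R) :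
    algebraMap R (Twist p R (AA u v) i) r = r ⊗ₜ[Src p R i] (1 : ASrc p R (AA u v) i) := by
  rw [Algebra.TensorProduct.algebraMap_apply, Algebra.algebraMap_self, RingHom.id_apply]

theorem algebraMap_mul_alT (i : ℕ) (r : R) :
    algebraMap R (Twist p R (AA u v) i) r * alT p R u v i =
      r ⊗ₜ[Src p R i] ((aEquiv p R (AA u v) i).symm (al u v)) := by
  rw [algebraMap_twist, alT, Algebra.TensorProduct.tmul_mul_tmul, mul_one, one_mul]

theorem exists_decompT (i : ℕ) (x : Twist p R (AA u v) i) :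
    ∃ a b : R, x = algebraMap R (Twist p R (AA u v) i) a +
      algebraMap R (Twist p R (AA u v) i) b * alT p R u v i := by
  induction x using TensorProduct.induction_on with
  | zero => exact ⟨0, 0, by simp⟩
  | tmul r a' =>
    obtain ⟨a, rfl⟩ := (aEquiv p R (AA u v) i).symm.surjective a'
    obtain ⟨a₀, a₁, rfl⟩ := exists_decomp u v a
    refine ⟨r * a₀ ^ p ^ i, r * a₁ ^ p ^ i, ?_⟩
    rw [map_add, TensorProduct.tmul_add, algebraMap_mul_alT, algebraMap_twist,
      show (1 : ASrc p R (AA u v) i) = (aEquiv p R (AA u v) i).symm 1 from (map_one _).symm,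
      ← tmul_algebraMap_mul, ← tmul_algebraMap_mul, mul_one]
  | add x y hx hy =>
    obtain ⟨a, b, rfl⟩ := hx
    obtain ⟨c, d, rfl⟩ := hy
    refine ⟨a + c, b + d, ?_⟩
    rw [map_add, map_add]
    ring

theorem u_pow_mul_alT (i : ℕ) :
    algebraMap R (Twist p R (AA u v) i) (u ^ p ^ i) * alT p R u v i = 0 := by
  rw [algebraMap_mul_alT]
  have h := tmul_algebraMap_mul p R u v i 1 u (al u v)
  rw [one_mul] at h
  rw [← h, u_mul_al, map_zero, TensorProduct.tmul_zero]

/-- ring homomorphisms out of the twist. -/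
theorem exists_lift (i : ℕ) {T : Type*} [CommRing T] (g : R →+* T) (t : T)
    (h1 : g (u ^ p ^ i) * t = 0) (h2 : t ^ 2 = g ((v ^ 2) ^ p ^ i)) :
    ∃ Φ : Twist p R (AA u v) i →+* T,
      (∀ r, Φ (algebraMap R (Twist p R (AA u v) i) r) = g r) ∧ Φ (alT p R u v i) = t := by
  let e₀ : R[X] →+* T := eval₂RingHom (g.comp (iterateFrobenius R p i)) t
  have hker : ∀ a ∈ II u v, e₀ a = 0 := by
    intro a ha
    have hle : II u v ≤ RingHom.ker e₀ := by
      rw [Ideal.span_le]
      intro x hx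
      rcases hx with rfl | rfl
      · show e₀ (C u * X) = 0
        simp only [e₀, coe_eval₂RingHom, eval₂_mul, eval₂_C, eval₂_X, RingHom.comp_apply,
          iterateFrobenius_def]
        exact h1
      · show e₀ (X ^ 2 - C (v ^ 2)) = 0
        simp only [e₀, coe_eval₂RingHom, eval₂_sub, eval₂_pow, eval₂_C, eval₂_X, RingHom.comp_apply,
          iterateFrobenius_def]
        rw [h2, sub_self]
    exact hle ha
  let h₀ : AA u v →+* T := Ideal.Quotient.lift (II u v) e₀ hker
  have hh₀C : ∀ s : R, h₀ (algebraMap R (AA u v) s) = g (s ^ p ^ i) := by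
    intro s
    show h₀ (Ideal.Quotient.mk (II u v) (C s)) = _
    rw [Ideal.Quotient.lift_mk]
    simp [e₀, iterateFrobenius_def]
  have hh₀X : h₀ (al u v) = t := by
    show h₀ (Ideal.Quotient.mk (II u v) X) = _
    rw [Ideal.Quotient.lift_mk]
    simp [e₀]
  letI : Algebra (Src p R i) T := (g.comp (algebraMap (Src p R i) R)).toAlgebra
  let f₁ : R →ₐ[Src p R i] T := { toRingHom := g, commutes' := fun s => rfl }
  let f₂ : ASrc p R (AA u v) i →ₐ[Src p R i] T :=
    { toRingHom := h₀.comp (aEquiv p R (AA u v) i : ASrc p R (AA u v) i →+* AA u v)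
      commutes' := fun s => by
        show h₀ (aEquiv p R (AA u v) i (algebraMap (Src p R i) (ASrc p R (AA u v) i) s)) =
          g (algebraMap (Src p R i) R s)
        rw [algebraMap_aSrc, RingEquiv.apply_symm_apply, hh₀C, algebraMap_src] }
  let Φ : Twist p R (AA u v) i →ₐ[Src p R i] T :=
    Algebra.TensorProduct.lift f₁ f₂ (fun _ _ => Commute.all _ _)
  refine ⟨Φ.toRingHom, ?_, ?_⟩
  · intro r
    rw [algebraMap_twist]
    show Φ (r ⊗ₜ[Src p R i] 1) = g r
    rw [Algebra.TensorProduct.lift_tmul, map_one, mul_one]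
    rfl
  · show Φ ((1 : R) ⊗ₜ[Src p R i] ((aEquiv p R (AA u v) i).symm (al u v))) = t
    rw [Algebra.TensorProduct.lift_tmul, map_one, one_mul]
    show h₀ (aEquiv p R (AA u v) i ((aEquiv p R (AA u v) i).symm (al u v))) = t
    rw [RingEquiv.apply_symm_apply, hh₀X]

variable [CharP (AA u v) p]

theorem relFrob_tmul (i : ℕ) (r : R) (a : AA u v) :
    relFrob p R (AA u v) i (r ⊗ₜ[Src p R (i + 1)] ((aEquiv p R (AA u v) (i + 1)).symm a)) =
      r ⊗ₜ[Src p R i] ((aEquiv p R (AA u v) i).symm (a ^ p)) := by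
  change relFrobAux p R (AA u v) i _ = _
  rw [relFrobAux, Algebra.TensorProduct.lift_tmul]
  change algebraMap R (Twist p R (AA u v) i) r *
    ((1 : R) ⊗ₜ[Src p R i] ((aEquiv p R (AA u v) i).symm (frobenius (AA u v) p a))) = _
  rw [algebraMap_twist, Algebra.TensorProduct.tmul_mul_tmul, mul_one, one_mul, frobenius_def]

theorem relFrob_alT (hp : p ≠ 2) (i : ℕ) :
    relFrob p R (AA u v) i (alT p R u v (i + 1)) =
      algebraMap R (Twist p R (AA u v) i) ((v ^ (p - 1)) ^ p ^ i) * alT p R u v i := by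
  obtain ⟨k, hk⟩ : ∃ k, p = 2 * k + 1 := by
    have := (Fact.out : p.Prime).eq_two_or_odd'
    rcases this with h | h
    · exact absurd h hp
    · exact h
  rw [alT, relFrob_tmul, algebraMap_mul_alT]
  have e : al u v ^ p = algebraMap R (AA u v) (v ^ (p - 1)) * al u v := by
    have h1 : p - 1 = 2 * k := by omega
    rw [h1]
    conv_lhs => rw [hk]
    exact al_pow_odd u v k
  rw [e, tmul_algebraMap_mul, one_mul]

theorem mem_prePerf_iff (x : Π j : ℕ, Twist p R (AA u v) j) :
    x ∈ prePerf p R (AA u v) ↔ ∀ j, relFrob p R (AA u v) j (x (j + 1)) = x j := by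
  rw [prePerf, Algebra.mem_iInf]
  rfl

theorem injective_algebraMap_twist (huv : u * v = 0) (i : ℕ) :
    Function.Injective (algebraMap R (Twist p R (AA u v) i)) := by
  have hq : 0 < p ^ i := pos_of_ne_zero (pow_ne_zero _ (Fact.out : p.Prime).ne_zero)
  obtain ⟨Φ, hΦ, -⟩ := exists_lift p R u v i (RingHom.id R) (v ^ p ^ i)
    (by
      rw [RingHom.id_apply, ← mul_pow, huv, zero_pow hq.ne'])
    (by rw [RingHom.id_apply, ← pow_mul, ← pow_mul, mul_comm])
  intro r r' h
  have := congrArg Φ h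
  rwa [hΦ, hΦ] at this

theorem iter (hp : p ≠ 2) (x : Π j : ℕ, Twist p R (AA u v) j)
    (hx : ∀ j, relFrob p R (AA u v) j (x (j + 1)) = x j) (n : ℕ) :
    ∀ i, ∃ a b : R, x i = algebraMap R (Twist p R (AA u v) i) a +
      algebraMap R (Twist p R (AA u v) i) (b * v ^ n) * alT p R u v i := by
  induction n with
  | zero =>
    intro i
    obtain ⟨a, b, h⟩ := exists_decompT p R u v i (x i)
    exact ⟨a, b, by rw [pow_zero, mul_one]; exact h⟩
  | succ n ih =>
    intro i
    obtain ⟨a, b, h⟩ := ih (i + 1)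
    have hq : 0 < p ^ i := pos_of_ne_zero (pow_ne_zero _ (Fact.out : p.Prime).ne_zero)
    have hp1 : 1 ≤ p - 1 := by
      have := (Fact.out : p.Prime).two_le
      omega
    have hm : 1 ≤ (p - 1) * p ^ i := Nat.one_le_iff_ne_zero.2 (Nat.mul_ne_zero (by omega) hq.ne')
    refine ⟨a, b * v ^ ((p - 1) * p ^ i - 1), ?_⟩
    rw [← hx i, h, map_add, map_mul, relFrob_alT p R u v hp, AlgHom.commutes, AlgHom.commutes,
      ← mul_assoc, ← map_mul]
    congr 3
    rw [← pow_mul, mul_assoc, mul_assoc, ← pow_add, ← pow_add]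
    congr 2
    omega

theorem eq_algebraMap (hp : p ≠ 2)
    (hsep : ∀ N : ℕ, 1 ≤ N → ∀ g : R,
      (∀ n : ℕ, g ∈ Ideal.span {v ^ n} ⊔ Ideal.span {u ^ N}) → g ∈ Ideal.span {u ^ N})
    (x : Π j : ℕ, Twist p R (AA u v) j)
    (hx : ∀ j, relFrob p R (AA u v) j (x (j + 1)) = x j) (i : ℕ) :
    ∃ a : R, x i = algebraMap R (Twist p R (AA u v) i) a := by
  have hq : 1 ≤ p ^ i := Nat.one_le_iff_ne_zero.2 (pow_ne_zero _ (Fact.out : p.Prime).ne_zero)
  let J : Ideal R := Ideal.span {u ^ p ^ i}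
  let c : R ⧸ J := Ideal.Quotient.mk J ((v ^ 2) ^ p ^ i)
  let g : R →+* AdjoinRoot (X ^ 2 - C c : (R ⧸ J)[X]) :=
    (AdjoinRoot.of (X ^ 2 - C c : (R ⧸ J)[X])).comp (Ideal.Quotient.mk J)
  have h1 : g (u ^ p ^ i) * AdjoinRoot.root (X ^ 2 - C c : (R ⧸ J)[X]) = 0 := by
    have : Ideal.Quotient.mk J (u ^ p ^ i) = 0 :=
      Ideal.Quotient.eq_zero_iff_mem.2 (Ideal.subset_span rfl)
    show (AdjoinRoot.of _) (Ideal.Quotient.mk J (u ^ p ^ i)) * _ = 0
    rw [this, map_zero, zero_mul]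
  have h2 : AdjoinRoot.root (X ^ 2 - C c : (R ⧸ J)[X]) ^ 2 = g ((v ^ 2) ^ p ^ i) := by
    have := AdjoinRoot.eval₂_root (X ^ 2 - C c : (R ⧸ J)[X])
    rw [eval₂_sub, eval₂_pow, eval₂_X, eval₂_C, sub_eq_zero] at this
    exact this
  obtain ⟨Φ, hΦ, hΦα⟩ := exists_lift p R u v i g (AdjoinRoot.root (X ^ 2 - C c : (R ⧸ J)[X])) h1 h2
  obtain ⟨a₀, b₀, h0⟩ := exists_decompT p R u v i (x i)
  have hb : ∀ n, b₀ ∈ Ideal.span {v ^ n} ⊔ Ideal.span {u ^ p ^ i} := by
    intro n
    obtain ⟨a, b, hn⟩ := iter p R u v hp x hx n i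
    have e := congrArg Φ (h0.symm.trans hn)
    rw [map_add, map_add, map_mul, map_mul, hΦ, hΦ, hΦ, hΦ, hΦα] at e
    have e2 : Ideal.Quotient.mk J b₀ = Ideal.Quotient.mk J (b * v ^ n) := coeff_unique c _ _ _ _ e
    rw [Ideal.Quotient.eq] at e2
    have e3 : b₀ = b * v ^ n + (b₀ - b * v ^ n) := by ring
    rw [e3]
    exact Submodule.add_mem_sup (Ideal.mem_span_singleton'.2 ⟨b, rfl⟩) e2
  have hb' := hsep (p ^ i) hq b₀ hb
  obtain ⟨c', hc'⟩ := Ideal.mem_span_singleton'.1 hb'
  refine ⟨a₀, ?_⟩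
  rw [h0, ← hc', map_mul, mul_assoc, u_pow_mul_alT, mul_zero, add_zero]

theorem main (hp : p ≠ 2) (huv : u * v = 0)
    (hsep : ∀ N : ℕ, 1 ≤ N → ∀ g : R,
      (∀ n : ℕ, g ∈ Ideal.span {v ^ n} ⊔ Ideal.span {u ^ N}) → g ∈ Ideal.span {u ^ N}) :
    Function.Bijective (algebraMap R ↥(prePerf p R (AA u v))) := by
  constructor
  · intro r r' h
    have h0 := congrFun (congrArg Subtype.val h) 0
    exact injective_algebraMap_twist p R u v huv 0 h0
  · intro x
    have hx := (mem_prePerf_iff p R u v x.1).1 x.2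
    choose a ha using eq_algebraMap p R u v hp hsep x.1 hx
    have hconst : ∀ i, a i = a 0 := by
      intro i
      induction i with
      | zero => rfl
      | succ i ih =>
        rw [← ih]
        apply injective_algebraMap_twist p R u v huv i
        rw [← ha i, ← hx i, ha (i + 1), AlgHom.commutes]
    refine ⟨a 0, Subtype.ext (funext fun i => ?_)⟩
    show algebraMap R (Twist p R (AA u v) i) (a 0) = x.1 i
    rw [ha i, hconst i]

end twist

end Groth.Agent.Lib.Helper19.PrePerfCalc
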