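import Mathlib

/-! Tensoring a projective module with an inverse limit (submodule of a product). -/

set_option autoImplicit false
universe u w

namespace Groth.Agent.Lib.Helper19.PrePerfLib

open TensorProduct
open scoped Classical

variable {R : Type u} [CommRing R]

theorem finsuppScalarLeft_lTensor {ι : Type w} {N T : Type u} [AddCommGroup N] [Module R N]
    [AddCommGroup T] [Module R T] (g : N →ₗ[R] T) (z : (ι →₀ R) ⊗[R] N) (j : ι) :
    finsuppScalarLeft R T ι (LinearMap.lTensor (ι →₀ R) g z) j =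
      g (finsuppScalarLeft R N ι z j) := by
  induction z using TensorProduct.induction_on with
  | zero => simp
  | tmul p n =>
    rw [LinearMap.lTensor_tmul, finsuppScalarLeft_apply_tmul_apply,
      finsuppScalarLeft_apply_tmul_apply, map_smul]
  | add x y hx hy => simp only [map_add, Finsupp.add_apply, hx, hy]

/-- Free case of injectivity. -/
theorem injective_pi_lTensor_free {ι : Type w} {N : Type u} [AddCommGroup N] [Module R N]
    {T : ℕ → Type u} [∀ i, AddCommGroup (T i)] [∀ i, Module R (T i)]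
    (g : ∀ i, N →ₗ[R] T i) (hg : ∀ x : N, (∀ i, g i x = 0) → x = 0) :
    Function.Injective
      (LinearMap.pi fun i : ℕ => LinearMap.lTensor (ι →₀ R) (g i) :
        (ι →₀ R) ⊗[R] N →ₗ[R] (Π i : ℕ, (ι →₀ R) ⊗[R] T i)) := by
  rw [injective_iff_map_eq_zero]
  intro z hz
  apply (finsuppScalarLeft R N ι).injective
  rw [map_zero]
  ext j
  apply hg
  intro i
  rw [← finsuppScalarLeft_lTensor]
  have : LinearMap.lTensor (ι →₀ R) (g i) z = 0 := congrFun hz i
  rw [this, map_zero]
  rfl

/-- Injectivity for projective modules. -/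
theorem injective_pi_lTensor {M : Type u} [AddCommGroup M] [Module R M] [Module.Projective R M]
    {N : Type u} [AddCommGroup N] [Module R N]
    {T : ℕ → Type u} [∀ i, AddCommGroup (T i)] [∀ i, Module R (T i)]
    (g : ∀ i, N →ₗ[R] T i) (hg : ∀ x : N, (∀ i, g i x = 0) → x = 0) :
    Function.Injective
      (LinearMap.pi fun i : ℕ => LinearMap.lTensor M (g i) :
        M ⊗[R] N →ₗ[R] (Π i : ℕ, M ⊗[R] T i)) := by
  obtain ⟨s, hs⟩ := (Module.projective_def' (R := R) (P := M)).mp inferInstance
  rw [injective_iff_map_eq_zero]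
  intro z hz
  have h1 : LinearMap.rTensor N s z = 0 := by
    apply injective_pi_lTensor_free (ι := M) g hg
    rw [map_zero]
    funext i
    show LinearMap.lTensor (M →₀ R) (g i) (LinearMap.rTensor N s z) = 0
    have : LinearMap.lTensor M (g i) z = 0 := congrFun hz i
    rw [← LinearMap.comp_apply, LinearMap.lTensor_comp_rTensor, ← LinearMap.rTensor_comp_lTensor,
      LinearMap.comp_apply, this, map_zero]
  have h2 : LinearMap.rTensor N (Finsupp.linearCombination R id ∘ₗ s) z = z := by
    rw [hs, LinearMap.rTensor_id, LinearMap.id_apply]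
  rw [← h2, LinearMap.rTensor_comp, LinearMap.comp_apply, h1, map_zero]

/-- Free finite case of surjectivity onto compatible sequences. -/
theorem exists_preimage_free {ι : Type w} [Fintype ι] {N : Type u} [AddCommGroup N] [Module R N]
    {T : ℕ → Type u} [∀ i, AddCommGroup (T i)] [∀ i, Module R (T i)]
    (F : ∀ i, T (i + 1) →ₗ[R] T i)
    (g : ∀ i, N →ₗ[R] T i)
    (hcomplete : ∀ t : (∀ i, T i), (∀ i, F i (t (i + 1)) = t i) → ∃ x : N, ∀ i, g i x = t i)
    (y : Π i : ℕ, (ι →₀ R) ⊗[R] T i)
    (hy : ∀ i, LinearMap.lTensor (ι →₀ R) (F i) (y (i + 1)) = y i) :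
    ∃ z : (ι →₀ R) ⊗[R] N, ∀ i, LinearMap.lTensor (ι →₀ R) (g i) z = y i := by
  have hcompat : ∀ (j : ι) (i : ℕ), F i (finsuppScalarLeft R (T (i + 1)) ι (y (i + 1)) j) =
      finsuppScalarLeft R (T i) ι (y i) j := by
    intro j i
    rw [← finsuppScalarLeft_lTensor, hy]
  have hex : ∀ j : ι, ∃ x : N, ∀ i, g i x = finsuppScalarLeft R (T i) ι (y i) j :=
    fun j => hcomplete (fun i => finsuppScalarLeft R (T i) ι (y i) j) (hcompat j)
  choose x hx using hex
  refine ⟨∑ j : ι, (Finsupp.single j (1 : R)) ⊗ₜ[R] x j, ?_⟩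
  intro i
  apply (finsuppScalarLeft R (T i) ι).injective
  ext k
  rw [finsuppScalarLeft_lTensor, map_sum, Finsupp.finsetSum_apply]
  have : ∀ j : ι, finsuppScalarLeft R N ι ((Finsupp.single j (1 : R)) ⊗ₜ[R] x j) k =
      if j = k then x k else 0 := by
    intro j
    rw [finsuppScalarLeft_apply_tmul_apply, Finsupp.single_apply]
    split_ifs with h
    · subst h; rw [one_smul]
    · rw [zero_smul]
  rw [Finset.sum_congr rfl (fun j _ => this j), Finset.sum_ite_eq' Finset.univ k]
  simp only [Finset.mem_univ, if_true]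
  exact hx k i

/-- The image of `M ⊗ lim Tᵢ → Π M ⊗ Tᵢ` for `M` finitely generated projective. -/
theorem mem_range_pi_lTensor_iff {M : Type u} [AddCommGroup M] [Module R M] [Module.Finite R M]
    [Module.Projective R M] {N : Type u} [AddCommGroup N] [Module R N]
    {T : ℕ → Type u} [∀ i, AddCommGroup (T i)] [∀ i, Module R (T i)]
    (F : ∀ i, T (i + 1) →ₗ[R] T i)
    (g : ∀ i, N →ₗ[R] T i)
    (hcompat : ∀ (x : N) (i : ℕ), F i (g (i + 1) x) = g i x)
    (hcomplete : ∀ t : (∀ i, T i), (∀ i, F i (t (i + 1)) = t i) → ∃ x : N, ∀ i, g i x = t i)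
    (y : Π i : ℕ, M ⊗[R] T i) :
    y ∈ LinearMap.range (LinearMap.pi fun i : ℕ => LinearMap.lTensor M (g i) :
        M ⊗[R] N →ₗ[R] (Π i : ℕ, M ⊗[R] T i)) ↔
      ∀ i : ℕ, LinearMap.lTensor M (F i) (y (i + 1)) = y i := by
  constructor
  · rintro ⟨z, rfl⟩ i
    show LinearMap.lTensor M (F i) (LinearMap.lTensor M (g (i + 1)) z) = LinearMap.lTensor M (g i) z
    rw [← LinearMap.comp_apply, ← LinearMap.lTensor_comp]
    congr 2
    ext x
    exact hcompat x i
  · intro hy
    obtain ⟨n, f, g', -, -, hfg⟩ := Module.Finite.exists_comp_eq_id_of_projective R M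
    let e := Finsupp.linearEquivFunOnFinite R R (Fin n)
    let s : M →ₗ[R] (Fin n →₀ R) := e.symm.toLinearMap ∘ₗ g'
    let π : (Fin n →₀ R) →ₗ[R] M := f ∘ₗ e.toLinearMap
    have hπs : π ∘ₗ s = LinearMap.id := by
      ext m
      show f (e (e.symm (g' m))) = m
      rw [LinearEquiv.apply_symm_apply]
      exact LinearMap.congr_fun hfg m
    obtain ⟨z', hz'⟩ := exists_preimage_free (ι := Fin n) F g hcomplete
      (fun i => LinearMap.rTensor (T i) s (y i)) (by
        intro i
        show LinearMap.lTensor (Fin n →₀ R) (F i) (LinearMap.rTensor (T (i + 1)) s (y (i + 1))) =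
          LinearMap.rTensor (T i) s (y i)
        rw [← LinearMap.comp_apply, LinearMap.lTensor_comp_rTensor,
          ← LinearMap.rTensor_comp_lTensor, LinearMap.comp_apply, hy])
    refine ⟨LinearMap.rTensor N π z', ?_⟩
    funext i
    show LinearMap.lTensor M (g i) (LinearMap.rTensor N π z') = y i
    rw [← LinearMap.comp_apply, LinearMap.lTensor_comp_rTensor, ← LinearMap.rTensor_comp_lTensor,
      LinearMap.comp_apply, hz', ← LinearMap.comp_apply, ← LinearMap.rTensor_comp, hπs,
      LinearMap.rTensor_id, LinearMap.id_apply]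

end Groth.Agent.Lib.Helper19.PrePerfLib
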