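import Mathlib
import Groth.Agent.Lib.Helper19.ProdAlg

/-!
# Fibre products of algebraic stacks for an arbitrary precoverage (helper19)

The topology-independent parts of `ProdAlg`.
-/

set_option autoImplicit false
set_option backward.isDefEq.respectTransparency false

universe w₆ v₆ w₅ v₅ w₄ v₄ w₃ v₃ w' v' w v u

open CategoryTheory CategoryTheory.Limits Functor AlgebraicGeometry Opposite

namespace Groth.Agent.Helper19.ProdAlgK

open FibCat AlgSt Stk Groth.Agent.Helper19.FibLib Groth.Agent.Helper19.StLib Groth.Agent.Helper19.DiagAlgSp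
  Groth.Agent.Helper19.PshSt Groth.Agent.Helper19.AlgP Groth.Agent.Helper19.DescCover
  Groth.Agent.Helper19.SpProps Groth.Agent.Helper19.CancelLib Groth.Agent.Helper19.PshLib
  Groth.Agent.Helper19.SmLocLib Groth.Agent.Helper19.CompLib Groth.Agent.Helper19.DiagLib
  Groth.Agent.Helper19.AlgStRep Groth.Agent.Helper19.DescAlgSt Groth.Agent.Helper19.ProdCover
  Groth.Agent.Helper19.DiagComp Groth.Agent.Helper19.ProdAlg
  Groth.Agent.Helper16.AS

variable {S : Scheme.{u}}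

theorem isFibGrpd_overCat (U : Over S) : IsFibGrpd (overCat U).p :=
  Groth.Agent.Helper19.StackLib.isFibGrpd_of_equiv (toOverCat U) (isEquivOver_toOverCat U)
    (Stk.isFibGrpd_ofPsh _)

theorem isFibGrpd_prod {𝒳 𝒴 : AlgSt.Cat S} (hX : IsFibGrpd 𝒳.p) (hY : IsFibGrpd 𝒴.p) :
    IsFibGrpd (fp (toSelf 𝒳) (toSelf 𝒴)).p :=
  Groth.Agent.S6401.result _ _ hX hY (isFibGrpd_selfOver (Over S))

/-- the diagonal of a product is representable by algebraic spaces. -/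
theorem repByAlgSp1_diag_prod {𝒳 𝒴 : AlgSt.Cat S} (hX : IsFibGrpd 𝒳.p) (hY : IsFibGrpd 𝒴.p)
    (hdX : RepByAlgSp1 (diag (toSelf 𝒳))) (hdY : RepByAlgSp1 (diag (toSelf 𝒴))) :
    RepByAlgSp1 (diag (toSelf (fp (toSelf 𝒳) (toSelf 𝒴)))) := by
  rw [repByAlgSp1_diag_iff]
  intro U x
  rw [repByAlgSp1_iff_top]
  refine repByAlgSpWith_of_comp stableAlg_top compAlg_top descAtlas_top (isFibGrpd_overCat U)
    (isFibGrpd_prod hX hY) hX x (fpFst (toSelf 𝒳) (toSelf 𝒴)) ?_ ?_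
  · exact (repByAlgSp1_iff_top _).1 ((repByAlgSp1_diag_iff 𝒳).1 hdX U _)
  · exact repByAlgSpWith_diag_fpFst (toSelf 𝒴) (toSelf 𝒳) ((repByAlgSp1_iff_top _).1 hdY)

/-- the product of two smooth surjective atlases, refined by a scheme. -/
theorem hasAtlas_smooth_prod {𝒳 𝒴 : AlgSt.Cat S} (hX : IsFibGrpd 𝒳.p)
    (haX : HasAtlas (AlgSp.LocP @Smooth) 𝒳) (haY : HasAtlas (AlgSp.LocP @Smooth) 𝒴) :
    HasAtlas (AlgSp.LocP @Smooth) (fp (toSelf 𝒳) (toSelf 𝒴)) := by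
  have hself : IsFibGrpd (selfOver (Over S)).p := isFibGrpd_selfOver (Over S)
  obtain ⟨U, u, hu, hus⟩ := haX
  obtain ⟨V, v, hv, hvs⟩ := haY
  have hU := isFibGrpd_overCat U
  have hV := isFibGrpd_overCat V
  obtain ⟨X, e, he⟩ := repByAlgSp_fp (BasedFunctor.comp u (toSelf 𝒳)) (BasedFunctor.comp v (toSelf 𝒴))
    (repByAlgSp_overCat U) (repByAlgSp_overCat V) (repByAlgSp_selfOver S)
  have hsm : RepByAlgSpWith (AlgSp.LocP @Smooth) (prodMapGen u v (toSelf 𝒳) (toSelf 𝒴)) :=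
    repByAlgSpWith_prodMapGen (stableAlg_locP Groth.Agent.Helper15.goodP_smooth srcEtLoc_smooth)
      (compAlg_locP Groth.Agent.Helper15.goodP_smooth srcEtLoc_smooth)
      (descAtlas_of_fpqc isLocalOnBase_fpqc_locP_smooth) hU hV hX hself u v _ _ hu hv
  have hsu : RepByAlgSpWith AlgSp.IsSurjectiveMor (prodMapGen u v (toSelf 𝒳) (toSelf 𝒴)) :=
    repByAlgSpWith_prodMapGen stableAlg_isSurjectiveMor compAlg_isSurjectiveMor descAtlas_isSurjectiveMor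
      hU hV hX hself u v _ _ hus hvs
  exact hasAtlas_of_space _ (locP_comp_repWith_etale @Smooth) X
    (BasedFunctor.comp e (prodMapGen u v (toSelf 𝒳) (toSelf 𝒴)))
    ((repByAlgSpWith_equiv_comp e he _).2 hsm) ((repByAlgSpWith_equiv_comp e he _).2 hsu)

section fp

variable {𝒳 𝒴 𝒵 : AlgSt.Cat S} (f : 𝒳 ⥤ᵇ 𝒵) (g : 𝒴 ⥤ᵇ 𝒵)

/-- the comparison `𝒳 ×_𝒵 𝒴 ⟶ 𝒳 × 𝒴`. -/
def toProd : fp f g ⥤ᵇ fp (toSelf 𝒳) (toSelf 𝒴) :=
  BasedFunctor.comp (fpLift (F := BasedFunctor.comp f (toSelf 𝒵)) (G := BasedFunctor.comp g (toSelf 𝒵))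
    (fpFst f g) (fpSnd f g) (whiskerRightIso (fpIso f g) (toSelf 𝒵)))
    (BasedFunctor.comp
      (fpCongrLeft (BasedFunctor.comp g (toSelf 𝒵)) (selfOverIso (BasedFunctor.comp f (toSelf 𝒵)) (toSelf 𝒳)))
      (fpCongrRight (toSelf 𝒳) (selfOverIso (BasedFunctor.comp g (toSelf 𝒵)) (toSelf 𝒴))))

theorem repByAlgSp1_toProd (hΔ : RepByAlgSp1 (diag (toSelf 𝒵))) : RepByAlgSp1 (toProd f g) := by
  let t := toSelf 𝒵
  let e : BasedFunctor.comp (fpFst f g) (BasedFunctor.comp f t) ≅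
      BasedFunctor.comp (fpSnd f g) (BasedFunctor.comp g t) := whiskerRightIso (fpIso f g) t
  have he : ∀ x, e.hom.toNatTrans.app x = t.map x.obj.iso.hom := fun x => rfl
  have h1 : RepByAlgSpWith ⊤ (fpLift (fpFst f g) (fpSnd f g) e) :=
    repByAlgSpWith_cmpI f g t e he ((repByAlgSp1_iff_top _).1 hΔ)
  rw [repByAlgSp1_iff_top]
  exact (repByAlgSpWith_comp_equiv _ _ (IsEquivOver.comp (isEquivOver_fpCongrLeft _ _)
    (isEquivOver_fpCongrRight _ _))).2 h1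

/-- the 2-fibre product of algebraic stacks over an algebraic stack is algebraic, for any precoverage. -/
theorem isAlgStack_fp (K : Precoverage Scheme.{u}) (h𝒳 : IsAlgStack K 𝒳) (h𝒴 : IsAlgStack K 𝒴)
    (h𝒵 : IsStack (QuotSh.J K S) 𝒵) (hΔ : RepByAlgSp1 (diag (toSelf 𝒵))) :
    IsAlgStack K (fp f g) := by
  have hj := repByAlgSp1_toProd f g hΔ
  refine ⟨Groth.Agent.S12792.result _ f g h𝒳.isStack h𝒴.isStack (isPrestack_of_isStack _ h𝒵), ?_, ?_⟩
  · exact repByAlgSp1_diag_of_repByAlgSp1 _ hj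
      (repByAlgSp1_diag_prod h𝒳.isStack.1 h𝒴.isStack.1 h𝒳.diag h𝒴.diag)
  · exact hasAtlas_of_repByAlgSp1 _ hj _ (locP_comp_repWith_etale @Smooth)
      (hasAtlas_smooth_prod h𝒳.isStack.1 h𝒳.atlas h𝒴.atlas)

end fp

end Groth.Agent.Helper19.ProdAlgK
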