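import Mathlib
import Groth.Agent.Lib.Helper19.ProdAlgK
import Groth.Agent.Lib.Helper16.AlgSp.LfpSp
import Groth.Agent.Lib.Helper15.AlgSpUnram

/-!
# Fibre products of Deligne-Mumford stacks for an arbitrary precoverage (helper19)
-/

set_option autoImplicit false
set_option backward.isDefEq.respectTransparency false

universe w₆ v₆ w₅ v₅ w₄ v₄ w₃ v₃ w' v' w v u

open CategoryTheory CategoryTheory.Limits Functor AlgebraicGeometry Opposite

namespace Groth.Agent.Helper19.ProdDMK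

open FibCat AlgSt Stk Groth.Agent.Helper19.FibLib Groth.Agent.Helper19.StLib Groth.Agent.Helper19.DiagAlgSp
  Groth.Agent.Helper19.PshSt Groth.Agent.Helper19.AlgP Groth.Agent.Helper19.DescCover
  Groth.Agent.Helper19.SpProps Groth.Agent.Helper19.CancelLib Groth.Agent.Helper19.PshLib
  Groth.Agent.Helper19.SmLocLib Groth.Agent.Helper19.CompLib Groth.Agent.Helper19.DiagLib
  Groth.Agent.Helper19.AlgStRep Groth.Agent.Helper19.DescAlgSt Groth.Agent.Helper19.ProdCover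
  Groth.Agent.Helper19.DiagComp Groth.Agent.Helper19.ProdAlg Groth.Agent.Helper19.ProdAlgK
  Groth.Agent.Helper16.AS

variable {S : Scheme.{u}}

theorem repByAlgSpWith_locP_etale_iff {𝒳 : BasedCategory.{v, w} (Over S)}
    {𝒴 : BasedCategory.{v', w'} (Over S)} (f : 𝒳 ⥤ᵇ 𝒴) :
    RepByAlgSpWith (AlgSp.LocP @Etale) f ↔ RepByAlgSpWith AlgSp.IsEtaleMor f :=
  ⟨repByAlgSpWith_mono (fun _ T a h =>
      Groth.Agent.Helper15.isEtaleMor_of_locP_etale (AlgSp.IsAlgSpace.yon_obj T) a h),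
    repByAlgSpWith_mono (fun _ T a h =>
      Groth.Agent.Helper15.locP_etale_of_isEtaleMor (AlgSp.IsAlgSpace.yon_obj T) a h)⟩

/-- the product of two etale surjective atlases, refined by a scheme. -/
theorem hasAtlas_etale_prod {𝒳 𝒴 : AlgSt.Cat S} (hX : IsFibGrpd 𝒳.p)
    (haX : HasAtlas AlgSp.IsEtaleMor 𝒳) (haY : HasAtlas AlgSp.IsEtaleMor 𝒴) :
    HasAtlas AlgSp.IsEtaleMor (fp (toSelf 𝒳) (toSelf 𝒴)) := by
  have hself : IsFibGrpd (selfOver (Over S)).p := isFibGrpd_selfOver (Over S)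
  obtain ⟨U, u, hu, hus⟩ := haX
  obtain ⟨V, v, hv, hvs⟩ := haY
  have hU := isFibGrpd_overCat U
  have hV := isFibGrpd_overCat V
  obtain ⟨X, e, he⟩ := repByAlgSp_fp (BasedFunctor.comp u (toSelf 𝒳)) (BasedFunctor.comp v (toSelf 𝒴))
    (repByAlgSp_overCat U) (repByAlgSp_overCat V) (repByAlgSp_selfOver S)
  have hsm : RepByAlgSpWith (AlgSp.LocP @Etale) (prodMapGen u v (toSelf 𝒳) (toSelf 𝒴)) :=
    repByAlgSpWith_prodMapGen (stableAlg_locP Groth.Agent.Helper15.goodP_etale srcEtLoc_etale)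
      (compAlg_locP Groth.Agent.Helper15.goodP_etale srcEtLoc_etale)
      (descAtlas_of_fpqc isLocalOnBase_fpqc_locP_etale) hU hV hX hself u v _ _
      ((repByAlgSpWith_locP_etale_iff u).2 hu) ((repByAlgSpWith_locP_etale_iff v).2 hv)
  have hsu : RepByAlgSpWith AlgSp.IsSurjectiveMor (prodMapGen u v (toSelf 𝒳) (toSelf 𝒴)) :=
    repByAlgSpWith_prodMapGen stableAlg_isSurjectiveMor compAlg_isSurjectiveMor descAtlas_isSurjectiveMor
      hU hV hX hself u v _ _ hus hvs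
  exact hasAtlas_of_space _ isEtaleMor_comp_repWith X
    (BasedFunctor.comp e (prodMapGen u v (toSelf 𝒳) (toSelf 𝒴)))
    ((repByAlgSpWith_equiv_comp e he _).2 ((repByAlgSpWith_locP_etale_iff _).1 hsm))
    ((repByAlgSpWith_equiv_comp e he _).2 hsu)

/-- the 2-fibre product of Deligne-Mumford stacks over an algebraic stack is Deligne-Mumford, for any precoverage. -/
theorem isDM_fp (K : Precoverage Scheme.{u}) {𝒳 𝒴 𝒵 : AlgSt.Cat S} (f : 𝒳 ⥤ᵇ 𝒵) (g : 𝒴 ⥤ᵇ 𝒵)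
    (h𝒳 : IsDM K 𝒳) (h𝒴 : IsDM K 𝒴)
    (h𝒵 : IsStack (QuotSh.J K S) 𝒵) (hΔ : RepByAlgSp1 (diag (toSelf 𝒵))) :
    IsDM K (fp f g) :=
  ⟨isAlgStack_fp f g K h𝒳.1 h𝒴.1 h𝒵 hΔ,
    hasAtlas_of_repByAlgSp1 _ (repByAlgSp1_toProd f g hΔ) _ isEtaleMor_comp_repWith
      (hasAtlas_etale_prod h𝒳.1.isStack.1 h𝒳.2 h𝒴.2)⟩

end Groth.Agent.Helper19.ProdDMK
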