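import Mathlib
import Groth.Agent.Lib.Helper19.ProdMap
import Groth.Agent.S12784
import Groth.Agent.S12785
import Groth.Agent.S12786

set_option autoImplicit false
set_option backward.isDefEq.respectTransparency false

universe w v u
open CategoryTheory CategoryTheory.Limits Functor Opposite

/-!
# Products of representable 1-morphisms over a general base (helper19)
-/

namespace Groth.Agent.Helper19.ProdRep1

open FibCat Groth.Agent.Helper19.FibLib Groth.Agent.Helper19.ProdAlg Groth.Agent.Helper19.DiagLib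
  Groth.Agent.Helper19.ProdMap

variable {C : Type u} [Category.{v} C]

theorem isRepresentable1_of_iso {𝒳 𝒴 : BasedCategory.{v, max u v} C} {f f' : 𝒳 ⥤ᵇ 𝒴} (e : f' ≅ f)
    (hf : IsRepresentable1 f) : IsRepresentable1 f' :=
  (Groth.Agent.S12784.result f f' (BasedFunctor.id 𝒳) (BasedFunctor.id 𝒴) (isEquivOver_id _) (isEquivOver_id _) e).1 hf

theorem isRepresentable1_equiv_comp {𝒳 𝒳' 𝒴 : BasedCategory.{v, max u v} C} (a : 𝒳' ⥤ᵇ 𝒳)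
    (ha : IsEquivOver a) (f : 𝒳 ⥤ᵇ 𝒴) :
    IsRepresentable1 (BasedFunctor.comp a f) ↔ IsRepresentable1 f :=
  (Groth.Agent.S12784.result f (BasedFunctor.comp a f) a (BasedFunctor.id 𝒴) ha (isEquivOver_id _)
    (Iso.refl _)).symm

theorem isRepresentable1_comp_equiv {𝒳 𝒴 𝒴' : BasedCategory.{v, max u v} C} (f : 𝒳 ⥤ᵇ 𝒴')
    (b : 𝒴' ⥤ᵇ 𝒴) (hb : IsEquivOver b) :
    IsRepresentable1 (BasedFunctor.comp f b) ↔ IsRepresentable1 f :=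
  Groth.Agent.S12784.result (BasedFunctor.comp f b) f (BasedFunctor.id 𝒳) b (isEquivOver_id _) hb
    (Iso.refl _)

theorem isRepresentable1_fpSnd {𝒰 𝒳 𝒵 : BasedCategory.{v, max u v} C} (u : 𝒰 ⥤ᵇ 𝒳) (G : 𝒵 ⥤ᵇ 𝒳)
    (hu : IsRepresentable1 u) : IsRepresentable1 (fpSnd u G) := by
  have h1 : IsRepresentable1 (fpFst G u) := Groth.Agent.S12786.result u G hu
  have h2 : IsRepresentable1 (BasedFunctor.comp (fpSwap u G) (fpFst G u)) :=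
    (isRepresentable1_equiv_comp _ (isEquivOver_fpSwap u G) _).2 h1
  exact h2

theorem isRepresentable1_prodMapGen {𝒰 𝒱 𝒳 𝒴 : BasedCategory.{v, max u v} C} {ℬ : BasedCategory.{v, w} C}
    (u : 𝒰 ⥤ᵇ 𝒳) (v : 𝒱 ⥤ᵇ 𝒴) (F : 𝒳 ⥤ᵇ ℬ) (G : 𝒴 ⥤ᵇ ℬ)
    (hu : IsRepresentable1 u) (hv : IsRepresentable1 v) : IsRepresentable1 (prodMapGen u v F G) := by
  have h1 : IsRepresentable1 (prodStepA u F (BasedFunctor.comp v G)) :=
    (isRepresentable1_equiv_comp _ (isEquivOver_pasteL u F (BasedFunctor.comp v G)) _).2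
      (isRepresentable1_fpSnd u (fpFst F (BasedFunctor.comp v G)) hu)
  have h2 : IsRepresentable1 (prodStepB F G v) :=
    (isRepresentable1_equiv_comp _ (isEquivOver_pasteR F G v) _).2
      (Groth.Agent.S12786.result v (fpSnd F G) hv)
  exact Groth.Agent.S12785.result _ _ h1 h2

def prodMapIso' {𝒳₁ 𝒳₂ 𝒴₁ 𝒴₂ : BasedCategory.{v, max u v} C} (f₁ : 𝒳₁ ⥤ᵇ 𝒴₁) (f₂ : 𝒳₂ ⥤ᵇ 𝒴₂)
    (e : BasedFunctor.comp (BasedFunctor.comp (fpFst (toSelf 𝒳₁) (toSelf 𝒳₂)) f₁) (toSelf 𝒴₁) ≅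
      BasedFunctor.comp (BasedFunctor.comp (fpSnd (toSelf 𝒳₁) (toSelf 𝒳₂)) f₂) (toSelf 𝒴₂)) :
    fpLift (BasedFunctor.comp (fpFst (toSelf 𝒳₁) (toSelf 𝒳₂)) f₁)
      (BasedFunctor.comp (fpSnd (toSelf 𝒳₁) (toSelf 𝒳₂)) f₂) e ≅
    BasedFunctor.comp (BasedFunctor.comp
      (fpCongrLeft (toSelf 𝒳₂) (selfOverIso (toSelf 𝒳₁) (BasedFunctor.comp f₁ (toSelf 𝒴₁))))
      (fpCongrRight (BasedFunctor.comp f₁ (toSelf 𝒴₁)) (selfOverIso (toSelf 𝒳₂) (BasedFunctor.comp f₂ (toSelf 𝒴₂)))))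
      (prodMapGen f₁ f₂ (toSelf 𝒴₁) (toSelf 𝒴₂)) :=
  fpFunctorIso _ _ (Iso.refl _) (Iso.refl _) (fun x => by
    simp [prodMapGen, prodStepA, prodStepB, pasteL, pasteR, fpCongrLeft, fpCongrRight]
    have h1 := (selfOverIso (toSelf 𝒳₁) (BasedFunctor.comp f₁ (toSelf 𝒴₁))).inv.isHomLift' x.obj.fst
    have h2 : IsHomLift (selfOver C).p (𝟙 (𝒳₁.p.obj x.obj.fst)) x.obj.iso.hom := x.property
    have h3 := (selfOverIso (toSelf 𝒳₂) (BasedFunctor.comp f₂ (toSelf 𝒴₂))).hom.isHomLift' x.obj.snd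
    have h4 := e.hom.isHomLift' x
    obtain ⟨_, e1⟩ := @selfOver_eq_eqToHom _ _ _ _ _ ((selfOverIso (toSelf 𝒳₁) (BasedFunctor.comp f₁ (toSelf 𝒴₁))).inv.app x.obj.fst) h1
    obtain ⟨_, e2⟩ := @selfOver_eq_eqToHom _ _ _ _ _ x.obj.iso.hom h2
    obtain ⟨_, e3⟩ := @selfOver_eq_eqToHom _ _ _ _ _ ((selfOverIso (toSelf 𝒳₂) (BasedFunctor.comp f₂ (toSelf 𝒴₂))).hom.app x.obj.snd) h3
    obtain ⟨_, e4⟩ := @selfOver_eq_eqToHom _ _ _ _ _ (e.hom.app x) h4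
    rw [e1, e2, e3, e4]
    simp)

/-- S12790. -/
theorem isRepresentable1_prodMap {𝒳₁ 𝒳₂ 𝒴₁ 𝒴₂ : BasedCategory.{v, max u v} C}
    (f₁ : 𝒳₁ ⥤ᵇ 𝒴₁) (f₂ : 𝒳₂ ⥤ᵇ 𝒴₂) (hf₁ : IsRepresentable1 f₁) (hf₂ : IsRepresentable1 f₂)
    (e : BasedFunctor.comp (BasedFunctor.comp (fpFst (toSelf 𝒳₁) (toSelf 𝒳₂)) f₁) (toSelf 𝒴₁) ≅
      BasedFunctor.comp (BasedFunctor.comp (fpSnd (toSelf 𝒳₁) (toSelf 𝒳₂)) f₂) (toSelf 𝒴₂)) :
    IsRepresentable1 (fpLift (BasedFunctor.comp (fpFst (toSelf 𝒳₁) (toSelf 𝒳₂)) f₁)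
      (BasedFunctor.comp (fpSnd (toSelf 𝒳₁) (toSelf 𝒳₂)) f₂) e) := by
  refine isRepresentable1_of_iso (prodMapIso' f₁ f₂ e) ?_
  refine (isRepresentable1_equiv_comp _ (IsEquivOver.comp (isEquivOver_fpCongrLeft _ _)
    (isEquivOver_fpCongrRight _ _)) _).2 ?_
  exact isRepresentable1_prodMapGen f₁ f₂ _ _ hf₁ hf₂

end Groth.Agent.Helper19.ProdRep1
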