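import Groth.Statements.S7394
import Mathlib.FieldTheory.IsAlgClosed.AlgebraicClosure
import Mathlib.RingTheory.AlgebraicIndependent.TranscendenceBasis
import Mathlib.RingTheory.AlgebraicIndependent.Adjoin

set_option autoImplicit false
universe u
open CategoryTheory AlgebraicGeometry

namespace Groth.Agent.Lib.Helper19.ProdSurj

/-- Any small family of field extensions of `k` embeds in a common extension. -/
theorem exists_common_extension (k : Type u) [Field k] {I : Type u} (K : I → Type u)
    [∀ i, Field (K i)] [∀ i, Algebra k (K i)] :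
    ∃ (L : Type u) (_ : Field L) (_ : Algebra k L), ∀ i, Nonempty (K i →ₐ[k] L) := by
  classical
  let J := Σ i, K i
  let F := FractionRing (MvPolynomial J k)
  let L := AlgebraicClosure F
  refine ⟨L, inferInstance, inferInstance, fun i => ?_⟩
  obtain ⟨s, hs⟩ := exists_isTranscendenceBasis k (K i)
  let R := Algebra.adjoin k (Set.range ((↑) : s → K i))
  let e : MvPolynomial s k ≃ₐ[k] R := hs.1.aevalEquiv
  let ren : MvPolynomial s k →ₐ[k] MvPolynomial J k :=
    MvPolynomial.rename (fun a : s => (⟨i, a.1⟩ : J))
  have hren : Function.Injective ren := by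
    apply MvPolynomial.rename_injective
    intro a b h
    simp only [Sigma.mk.injEq, heq_eq_eq, true_and, J] at h
    exact Subtype.ext h
  let toL : MvPolynomial J k →ₐ[k] L := IsScalarTower.toAlgHom k (MvPolynomial J k) L
  have htoL : Function.Injective toL := by
    have h1 : Function.Injective (algebraMap (MvPolynomial J k) F) :=
      IsFractionRing.injective _ _
    have h2 : Function.Injective (algebraMap F L) := (algebraMap F L).injective
    have : (toL : MvPolynomial J k → L) = (algebraMap F L) ∘ (algebraMap (MvPolynomial J k) F) := by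
      ext x
      simp [toL, IsScalarTower.algebraMap_apply (MvPolynomial J k) F L]
    rw [this]
    exact h2.comp h1
  let ρ : R →ₐ[k] L := toL.comp (ren.comp e.symm.toAlgHom)
  have hρ : Function.Injective ρ := htoL.comp (hren.comp e.symm.injective)
  letI : Algebra R L := ρ.toRingHom.toAlgebra
  haveI : IsScalarTower k R L := IsScalarTower.of_algebraMap_eq (fun c => (ρ.commutes c).symm)
  haveI : Algebra.IsAlgebraic R (K i) := hs.isAlgebraic
  haveI : Module.IsTorsionFree R L := Module.isTorsionFree_iff_algebraMap_injective.2 hρ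
  exact ⟨(IsAlgClosed.lift : K i →ₐ[R] L).restrictScalars k⟩

/-- A product (in `Over S`) of surjective morphisms is surjective over `S`. -/
theorem main {S : Scheme.{u}} {I : Type u} (T : I → Over S)
    (hT : ∀ i, Surjective (T i).hom) (c : Limits.Fan T) (hc : Limits.IsLimit c) :
    Surjective c.pt.hom := by
  constructor
  intro s
  -- choose points over `s`
  have hch : ∀ i, ∃ t : (T i).left, (T i).hom t = s := fun i => (hT i).surj s
  choose t ht using hch
  let k := S.residueField s
  let a : ∀ i, S.residueField s ⟶ (T i).left.residueField (t i) := fun i =>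
    (S.residueFieldCongr (ht i).symm).hom ≫ (T i).hom.residueFieldMap (t i)
  letI : ∀ i, Algebra ↑k ↑((T i).left.residueField (t i)) := fun i => (a i).hom.toAlgebra
  obtain ⟨L, _, _, hL⟩ := exists_common_extension ↑k (fun i => ↑((T i).left.residueField (t i)))
  let b : ∀ i, ↑((T i).left.residueField (t i)) →ₐ[↑k] L := fun i => (hL i).some
  -- the base point
  let y₀ : Spec (CommRingCat.of L) ⟶ S :=
    Spec.map (CommRingCat.ofHom (algebraMap ↑k L)) ≫ S.fromSpecResidueField s
  let y : ∀ i, Spec (CommRingCat.of L) ⟶ (T i).left := fun i =>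
    Spec.map (CommRingCat.ofHom (b i).toRingHom) ≫ (T i).left.fromSpecResidueField (t i)
  have hy : ∀ i, y i ≫ (T i).hom = y₀ := by
    intro i
    have hring : (S.residueFieldCongr (ht i).symm).hom ≫ (T i).hom.residueFieldMap (t i) ≫
        CommRingCat.ofHom (b i).toRingHom = CommRingCat.ofHom (algebraMap ↑k L) := by
      ext r
      exact ((b i).commutes r)
    simp only [y, y₀, Category.assoc]
    rw [← Scheme.Hom.SpecMap_residueFieldMap_fromSpecResidueField,
      ← S.residueFieldCongr_fromSpecResidueField (ht i).symm, ← hring]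
    simp only [Spec.map_comp, Category.assoc]
    rfl
  let Z : Over S := Over.mk y₀
  let m : ∀ i, Z ⟶ T i := fun i => Over.homMk (y i) (hy i)
  let ℓ : Z ⟶ c.pt := hc.lift (Limits.Fan.mk Z m)
  have hℓ : ℓ.left ≫ c.pt.hom = y₀ := Over.w ℓ
  let pt : ↥(Spec (CommRingCat.of L)) := ⟨⊥, Ideal.isPrime_bot⟩
  refine ⟨ℓ.left pt, ?_⟩
  rw [← Scheme.Hom.comp_apply, hℓ]
  have : y₀ pt ∈ Set.range (S.fromSpecResidueField s) := by
    simp only [y₀, Scheme.Hom.comp_apply]
    exact ⟨_, rfl⟩
  rw [Scheme.range_fromSpecResidueField] at this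
  exact this

end Groth.Agent.Lib.Helper19.ProdSurj
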