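import Mathlib
set_option autoImplicit false
universe u
open CategoryTheory CategoryTheory.Limits AlgebraicGeometry Opposite TopologicalSpace

namespace Groth.Agent.Lib.Helper19.QAffImm

/-- closed immersion criterion for a restriction over an affine open -/
theorem isClosedImmersion_restrict {X Y : Scheme.{u}} (f : X ⟶ Y) (W : Y.Opens)
    (hW : IsAffineOpen W) (hU : IsAffineOpen (f ⁻¹ᵁ W))
    (hs : Function.Surjective (f.app W).hom) : IsClosedImmersion (f ∣_ W) := by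
  haveI : IsAffine W.toScheme := hW
  haveI : IsAffine (f ⁻¹ᵁ W).toScheme := hU
  apply IsClosedImmersion.of_surjective_of_isAffine
  change Function.Surjective ((f ∣_ W).app ⊤).hom
  rw [morphismRestrict_app']
  have e₁ : W.ι ''ᵁ ⊤ = W := by simp
  have e₂ : (f ⁻¹ᵁ W).ι ''ᵁ ((f ∣_ W) ⁻¹ᵁ ⊤) = f ⁻¹ᵁ W := by simp
  have key : ∀ (W' : Y.Opens) (U' : X.Opens) (e' : U' ≤ f ⁻¹ᵁ W'), W' = W → U' = f ⁻¹ᵁ W →
      Function.Surjective (f.appLE W' U' e').hom := by
    rintro W' U' e' rfl rfl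
    rw [Scheme.Hom.appLE_eq_app]; exact hs
  exact key _ _ _ e₁ e₂

/-- local-to-global: immersion from closed immersions over opens covering the range -/
theorem isImmersion_of_local {X Y : Scheme.{u}} (f : X ⟶ Y) {ι : Type*} (W : ι → Y.Opens)
    (hcov : ∀ x : X, ∃ i, f x ∈ W i) (h : ∀ i, IsClosedImmersion (f ∣_ W i)) :
    IsImmersion f := by
  haveI : MorphismProperty.RespectsRight (@IsImmersion) @IsOpenImmersion :=
    ⟨fun {A B C} i hi g hg => by
      haveI : IsOpenImmersion i := hi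
      haveI : IsImmersion g := hg
      exact (inferInstance : IsImmersion (g ≫ i))⟩
  apply IsZariskiLocalAtTarget.of_range_subset_iSup (P := @IsImmersion) W
  · rintro _ ⟨x, rfl⟩
    obtain ⟨i, hi⟩ := hcov x
    exact Opens.mem_iSup.mpr ⟨i, hi⟩
  · intro i
    haveI := h i
    infer_instance

/-- restriction of a global section to an open -/
noncomputable abbrev res {X : Scheme.{u}} (U : X.Opens) : Γ(X, ⊤) →+* Γ(X, U) :=
  (X.presheaf.map (homOfLE (le_top : U ≤ ⊤)).op).hom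

/-- generation criterion -/
theorem gen_top {X S : Scheme.{u}} (π : X ⟶ S) [LocallyOfFiniteType π] [X.IsQuasiAffine]
    (r : Γ(X, ⊤)) (hU : IsAffineOpen (X.basicOpen r)) (V : S.Opens) (hV : IsAffineOpen V)
    (e : X.basicOpen r ≤ π ⁻¹ᵁ V) :
    ∃ A : Finset Γ(X, ⊤), ∀ R' : Subring Γ(X, X.basicOpen r),
      (∀ b, (π.appLE V (X.basicOpen r) e).hom b ∈ R') →
      (∀ a ∈ A, res (X.basicOpen r) a ∈ R') →
      (∃ y ∈ R', y * res (X.basicOpen r) r = 1) → R' = ⊤ := by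
  classical
  have hft := LocallyOfFiniteType.finiteType_appLE π hV hU e
  letI : Algebra Γ(S, V) Γ(X, X.basicOpen r) := (π.appLE V (X.basicOpen r) e).hom.toAlgebra
  have hft' : Algebra.FiniteType Γ(S, V) Γ(X, X.basicOpen r) := hft
  obtain ⟨t, ht⟩ := hft'.out
  have hex : ∀ x : Γ(X, X.basicOpen r), ∃ (n : ℕ) (y : Γ(X, ⊤)),
      res (X.basicOpen r) y = (res (X.basicOpen r) r) ^ n * x := by
    intro x
    obtain ⟨n, y, hy⟩ := exists_eq_pow_mul_of_isCompact_of_isQuasiSeparated X ⊤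
      isCompact_univ isQuasiSeparated_univ r x
    exact ⟨n, y, hy⟩
  choose n y hy using hex
  refine ⟨t.image y, fun R' h1 h2 h3 => ?_⟩
  obtain ⟨y0, hy0, hy0r⟩ := h3
  let B : Subalgebra Γ(S, V) Γ(X, X.basicOpen r) :=
    { R'.toSubsemiring with
      algebraMap_mem' := fun b => h1 b }
  have hB : ∀ x, x ∈ B ↔ x ∈ R' := fun x => Iff.rfl
  have htB : (t : Set Γ(X, X.basicOpen r)) ⊆ B := by
    intro x hx
    rw [SetLike.mem_coe, hB]
    have h4 : res (X.basicOpen r) (y x) ∈ R' := h2 _ (Finset.mem_image_of_mem _ hx)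
    have h5 : x = res (X.basicOpen r) (y x) * y0 ^ (n x) := by
      rw [hy x, mul_comm _ x, mul_assoc, ← mul_pow, mul_comm _ y0, hy0r, one_pow, mul_one]
    rw [h5]
    exact R'.mul_mem h4 (R'.pow_mem hy0 _)
  have : B = ⊤ := by
    rw [eq_top_iff, ← ht]
    exact Algebra.adjoin_le htB
  rw [eq_top_iff]
  intro x _
  rw [← hB, this]; trivial

open AffineSpace in
/-- the key local statement -/
theorem local_closedImm {X S : Scheme.{u}} (π : X ⟶ S) {n : Type u} (v : n → Γ(X, ⊤)) (k : n)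
    (V : S.Opens) (hV : IsAffineOpen V) (hU : IsAffineOpen (X.basicOpen (v k)))
    (e : X.basicOpen (v k) ≤ π ⁻¹ᵁ V)
    (hgen : ∀ R' : Subring Γ(X, X.basicOpen (v k)),
      (∀ b, (π.appLE V (X.basicOpen (v k)) e).hom b ∈ R') →
      (∀ k', res (X.basicOpen (v k)) (v k') ∈ R') →
      (∃ y ∈ R', y * res (X.basicOpen (v k)) (v k) = 1) → R' = ⊤) :
    IsClosedImmersion (homOfVector π v ∣_
      ((𝔸(n; S)).basicOpen (coord S k) ⊓ (𝔸(n; S) ↘ S) ⁻¹ᵁ V)) := by
  set Y := 𝔸(n; S) with hY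
  set p : Y ⟶ S := 𝔸(n; S) ↘ S with hp
  set i : X ⟶ Y := homOfVector π v with hi
  set W : Y.Opens := Y.basicOpen (coord S k) ⊓ p ⁻¹ᵁ V with hWdef
  have hip : i ≫ p = π := homOfVector_over π v
  have hpre : i ⁻¹ᵁ W = X.basicOpen (v k) := by
    rw [hWdef, Scheme.Hom.preimage_inf, Scheme.preimage_basicOpen_top, homOfVector_appTop_coord,
      ← Scheme.Hom.comp_preimage, hip]
    exact inf_eq_left.mpr e
  have hWaff : IsAffineOpen W := by
    have h1 : IsAffineOpen (p ⁻¹ᵁ V) := hV.preimage p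
    have h2 := h1.basicOpen (Y.presheaf.map (homOfLE (le_top : p ⁻¹ᵁ V ≤ ⊤)).op (coord S k))
    rw [Scheme.basicOpen_res] at h2
    rw [hWdef, inf_comm]; exact h2
  have hUaff : IsAffineOpen (i ⁻¹ᵁ W) := by rw [hpre]; exact hU
  apply isClosedImmersion_restrict i W hWaff hUaff
  -- surjectivity
  have hle : X.basicOpen (v k) ≤ i ⁻¹ᵁ W := hpre.ge
  suffices hs : Function.Surjective (i.appLE W (X.basicOpen (v k)) hle).hom by
    have key : ∀ (U' : X.Opens) (e' : U' ≤ i ⁻¹ᵁ W), U' = i ⁻¹ᵁ W →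
        Function.Surjective (i.appLE W U' e').hom → Function.Surjective (i.app W).hom := by
      rintro U' e' rfl h
      rwa [Scheme.Hom.appLE_eq_app] at h
    exact key _ hle hpre.symm hs
  set φ := i.appLE W (X.basicOpen (v k)) hle with hφ
  have hR : φ.hom.range = ⊤ := by
    apply hgen
    · intro b
      have hWV : W ≤ p ⁻¹ᵁ V := inf_le_right
      have h1 : p.appLE V W hWV ≫ φ = π.appLE V (X.basicOpen (v k)) e := by
        rw [hφ, Scheme.Hom.appLE_comp_appLE]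
        have key : ∀ (g : X ⟶ S) (hg : g = π) (e' : X.basicOpen (v k) ≤ g ⁻¹ᵁ V),
            g.appLE V (X.basicOpen (v k)) e' = π.appLE V (X.basicOpen (v k)) e := by
          rintro g rfl e'; rfl
        exact key _ hip _
      refine ⟨(p.appLE V W hWV).hom b, ?_⟩
      rw [← h1]; rfl
    · intro k'
      refine ⟨(Y.presheaf.map (homOfLE (le_top : W ≤ ⊤)).op).hom (coord S k'), ?_⟩
      have h1 : Y.presheaf.map (homOfLE (le_top : W ≤ ⊤)).op ≫ φ =
          i.appTop ≫ X.presheaf.map (homOfLE (le_top : X.basicOpen (v k) ≤ ⊤)).op := by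
        rw [hφ, Scheme.Hom.map_appLE]
        rfl
      have h2 := congrArg (fun ψ => ψ.hom (coord S k')) h1
      simp only [CommRingCat.hom_comp, RingHom.coe_comp, Function.comp_apply] at h2
      rw [h2, hi, homOfVector_appTop_coord]
    · have hu : IsUnit ((Y.presheaf.map (homOfLE (le_top : W ≤ ⊤)).op).hom (coord S k)) := by
        have h1 : IsUnit ((Y.presheaf.map (homOfLE (le_top : Y.basicOpen (coord S k) ≤ ⊤)).op).hom
            (coord S k)) :=
          RingedSpace.isUnit_res_basicOpen Y.toSheafedSpace (U := ⊤) (coord S k)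
        have h2 : W ≤ Y.basicOpen (coord S k) := inf_le_left
        have h3 := h1.map (Y.presheaf.map (homOfLE h2).op).hom
        have h4 : Y.presheaf.map (homOfLE (le_top : W ≤ ⊤)).op =
            Y.presheaf.map (homOfLE (le_top : Y.basicOpen (coord S k) ≤ ⊤)).op ≫
              Y.presheaf.map (homOfLE h2).op := by
          rw [← Functor.map_comp]; rfl
        rw [h4]
        simp only [CommRingCat.hom_comp, RingHom.coe_comp, Function.comp_apply]
        exact h3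
      obtain ⟨u, hu⟩ := hu
      refine ⟨φ.hom (↑u⁻¹ : Γ(Y, W)), ⟨_, rfl⟩, ?_⟩
      have h1 : Y.presheaf.map (homOfLE (le_top : W ≤ ⊤)).op ≫ φ =
          i.appTop ≫ X.presheaf.map (homOfLE (le_top : X.basicOpen (v k) ≤ ⊤)).op := by
        rw [hφ, Scheme.Hom.map_appLE]
        rfl
      have h2 := congrArg (fun ψ => ψ.hom (coord S k)) h1
      simp only [CommRingCat.hom_comp, RingHom.coe_comp, Function.comp_apply] at h2
      rw [hi, homOfVector_appTop_coord] at h2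
      change _ * (X.presheaf.map _).hom (v k) = 1
      rw [← h2, ← hu, ← map_mul, Units.inv_mul, map_one]
  intro x
  have : x ∈ φ.hom.range := by rw [hR]; trivial
  exact this

open AffineSpace in
theorem preimage_W {X S : Scheme.{u}} (π : X ⟶ S) {n : Type u} (v : n → Γ(X, ⊤)) (k : n)
    (V : S.Opens) (e : X.basicOpen (v k) ≤ π ⁻¹ᵁ V) :
    homOfVector π v ⁻¹ᵁ ((𝔸(n; S)).basicOpen (coord S k) ⊓ (𝔸(n; S) ↘ S) ⁻¹ᵁ V) =
      X.basicOpen (v k) := by
  rw [Scheme.Hom.preimage_inf, Scheme.preimage_basicOpen_top, homOfVector_appTop_coord,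
    ← Scheme.Hom.comp_preimage, homOfVector_over]
  exact inf_eq_left.mpr e

open AffineSpace in
theorem local_closedImm' {X S : Scheme.{u}} (π : X ⟶ S) {n : Type u} (v : n → Γ(X, ⊤)) (k : n)
    (r : Γ(X, ⊤)) (hkr : v k = r)
    (V : S.Opens) (hV : IsAffineOpen V) (hU : IsAffineOpen (X.basicOpen r))
    (e : X.basicOpen r ≤ π ⁻¹ᵁ V)
    (hgen : ∀ R' : Subring Γ(X, X.basicOpen r),
      (∀ b, (π.appLE V (X.basicOpen r) e).hom b ∈ R') →
      (∀ k', res (X.basicOpen r) (v k') ∈ R') →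
      (∃ y ∈ R', y * res (X.basicOpen r) r = 1) → R' = ⊤) :
    IsClosedImmersion (homOfVector π v ∣_
      ((𝔸(n; S)).basicOpen (coord S k) ⊓ (𝔸(n; S) ↘ S) ⁻¹ᵁ V)) := by
  subst hkr
  exact local_closedImm π v k V hV hU e hgen

open AffineSpace in
theorem main {X S : Scheme.{u}} (π : X ⟶ S) [LocallyOfFiniteType π] [X.IsQuasiAffine] :
    ∃ (n : ℕ) (i : X ⟶ 𝔸(ULift.{u} (Fin n); S)),
      IsImmersion i ∧ i ≫ (𝔸(ULift.{u} (Fin n); S) ↘ S) = π := by
  classical
  have key : ∀ x : X, ∃ (r : Γ(X, ⊤)) (V : S.Opens), IsAffineOpen (X.basicOpen r) ∧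
      IsAffineOpen V ∧ x ∈ X.basicOpen r ∧ X.basicOpen r ≤ π ⁻¹ᵁ V := by
    intro x
    obtain ⟨V, hV, hxV⟩ : ∃ V : S.Opens, IsAffineOpen V ∧ π x ∈ V := by
      obtain ⟨_, ⟨V, hV, rfl⟩, hxV, -⟩ := (S.isBasis_affineOpens).exists_subset_of_mem_open
        (Set.mem_univ (π x)) isOpen_univ
      exact ⟨V, hV, hxV⟩
    obtain ⟨_, ⟨_, ⟨r, hr, rfl⟩, rfl⟩, hxr, hrV⟩ :=
      (Scheme.IsQuasiAffine.isBasis_basicOpen X).exists_subset_of_mem_open
        (show x ∈ ((π ⁻¹ᵁ V : X.Opens) : Set X) from hxV) (π ⁻¹ᵁ V).2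
    exact ⟨r, V, hr, hV, hxr, hrV⟩
  choose r V hrU hV hxr hrV using key
  obtain ⟨T, hT⟩ : ∃ T : Finset X, ∀ x : X, ∃ t ∈ T, x ∈ X.basicOpen (r t) := by
    obtain ⟨T, hT⟩ := CompactSpace.elim_nhds_subcover
      (fun x => ((X.basicOpen (r x) : X.Opens) : Set X))
      (fun x => (X.basicOpen (r x)).2.mem_nhds (hxr x))
    refine ⟨T, fun x => ?_⟩
    have : x ∈ ⋃ t ∈ T, ((X.basicOpen (r t) : X.Opens) : Set X) := by rw [hT]; trivial
    simpa using this
  choose A hA using fun t => gen_top π (r t) (hrU t) (V t) (hV t) (hrV t)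
  let F : Finset Γ(X, ⊤) := T.image r ∪ T.biUnion A
  let v : ULift.{u} (Fin F.card) → Γ(X, ⊤) := fun k => (F.equivFin.symm k.down).1
  have hv : ∀ a ∈ F, ∃ k, v k = a := fun a ha => ⟨⟨F.equivFin ⟨a, ha⟩⟩, by simp [v]⟩
  refine ⟨F.card, homOfVector π v, ?_, homOfVector_over _ _⟩
  have hk : ∀ t : T, ∃ k, v k = r t := fun t =>
    hv _ (Finset.mem_union_left _ (Finset.mem_image_of_mem _ t.2))
  choose k hk using hk
  apply isImmersion_of_local _ (ι := T)
    (fun t => (𝔸(ULift.{u} (Fin F.card); S)).basicOpen (coord S (k t)) ⊓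
      (𝔸(ULift.{u} (Fin F.card); S) ↘ S) ⁻¹ᵁ V t)
  · intro x
    obtain ⟨t, ht, hxt⟩ := hT x
    refine ⟨⟨t, ht⟩, ?_⟩
    have h1 := preimage_W π v (k ⟨t, ht⟩) (V t) (by rw [hk]; exact hrV t)
    have h2 : x ∈ homOfVector π v ⁻¹ᵁ ((𝔸(ULift.{u} (Fin F.card); S)).basicOpen
        (coord S (k ⟨t, ht⟩)) ⊓ (𝔸(ULift.{u} (Fin F.card); S) ↘ S) ⁻¹ᵁ V t) := by
      rw [h1, hk]; exact hxt
    exact h2
  · intro t
    apply local_closedImm' π v (k t) (r t) (hk t) (V t) (hV t) (hrU t) (hrV t)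
    intro R' h1 h2 h3
    apply hA t R' h1 _ h3
    intro a ha
    obtain ⟨k', rfl⟩ := hv a (Finset.mem_union_right _ (Finset.mem_biUnion.mpr ⟨t, t.2, ha⟩))
    exact h2 k'

end Groth.Agent.Lib.Helper19.QAffImm
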