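import Mathlib
import Groth.Prelude.Def_AlgSt
import Groth.Agent.Lib.Helper19.FibLib

/-!
# Refinement of sieves and the stack condition (helper19)
-/

set_option autoImplicit false
set_option backward.isDefEq.respectTransparency false

universe v₂ u₂ v u

open CategoryTheory

namespace Groth.Agent.Helper19.StkRefine

open FibCat Stk Groth.Agent.Helper19.FibLib

variable {C : Type u} [Category.{v} C] {U : C}

/-- inclusion of a smaller sieve. -/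
def inclLE {S R : Sieve U} (h : S ≤ R) : sieveCat S ⥤ᵇ sieveCat R where
  toFunctor := ObjectProperty.ιOfLE (fun a ha => h _ ha)
  w := rfl

/-- composition with an arrow of `R`. -/
def compArrow (R : Sieve U) (a : (sieveCat R).obj) : overCat a.obj.left ⥤ᵇ sieveCat R where
  toFunctor :=
    { obj := fun b => ⟨Over.mk (b.hom ≫ a.obj.hom), R.downward_closed a.property b.hom⟩
      map := fun {b b'} φ => ObjectProperty.homMk (Over.homMk φ.left (by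
        change φ.left ≫ b'.hom ≫ a.obj.hom = b.hom ≫ a.obj.hom
        rw [← Category.assoc, Over.w φ]))
      map_id := fun b => by rfl
      map_comp := fun f g => by rfl }
  w := rfl

/-- the canonical morphism to `a`. -/
def toA (R : Sieve U) (a : (sieveCat R).obj) (b : Over a.obj.left) : (compArrow R a).obj b ⟶ a :=
  ObjectProperty.homMk (Over.homMk b.hom rfl)

@[simp] theorem toA_left (R : Sieve U) (a : (sieveCat R).obj) (b : Over a.obj.left) :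
    (toA R a b).hom.left = b.hom := rfl

theorem compArrow_map_toA (R : Sieve U) (a : (sieveCat R).obj) {b b' : Over a.obj.left} (φ : b ⟶ b') :
    (compArrow R a).map φ ≫ toA R a b' = toA R a b := by
  apply ObjectProperty.hom_ext
  apply Over.OverMorphism.ext
  exact Over.w φ

/-- every morphism into `a` is of the form `toA`. -/
theorem exists_eq_toA (R : Sieve U) (a : (sieveCat R).obj) (c : (sieveCat R).obj) (m : c ⟶ a) :
    ∃ (b : Over a.obj.left) (e : c = (compArrow R a).obj b), m = eqToHom e ≫ toA R a b := by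
  obtain ⟨⟨V, ⟨⟩, g⟩, hc⟩ := c
  obtain ⟨l, hl⟩ : ∃ l : V ⟶ a.obj.left, l = m.hom.left := ⟨_, rfl⟩
  have hw : l ≫ a.obj.hom = g := by rw [hl]; exact Over.w m.hom
  subst hw
  refine ⟨Over.mk l, rfl, ?_⟩
  rw [eqToHom_refl, Category.id_comp]
  apply ObjectProperty.hom_ext
  apply Over.OverMorphism.ext
  exact hl.symm

variable {𝒳 : BasedCategory.{v₂, u₂} C}

section ext

variable {S R : Sieve U} (hSR : S ≤ R) (Ψ₁ Ψ₂ : sieveCat R ⥤ᵇ 𝒳)
  (α : (restr (inclLE hSR) 𝒳).obj Ψ₁ ⟶ (restr (inclLE hSR) 𝒳).obj Ψ₂)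

/-- `χ` extends `α` at `a`. -/
def IsExt (a : (sieveCat R).obj) (χ : Ψ₁.obj a ⟶ Ψ₂.obj a) : Prop :=
  𝒳.p.IsHomLift (𝟙 a.obj.left) χ ∧
    ∀ (c : (sieveCat S).obj) (m : (inclLE hSR).obj c ⟶ a),
      Ψ₁.map m ≫ χ = α.toNatTrans.app c ≫ Ψ₂.map m

end ext

/-- pull back along `a`. -/
def pbArrow (S : Sieve U) {R : Sieve U} (a : (sieveCat R).obj) :
    sieveCat (S.pullback a.obj.hom) ⥤ᵇ sieveCat S where
  toFunctor :=
    { obj := fun b => ⟨Over.mk (b.obj.hom ≫ a.obj.hom), b.property⟩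
      map := fun {b b'} φ => ObjectProperty.homMk (Over.homMk φ.hom.left (by
        change φ.hom.left ≫ b'.obj.hom ≫ a.obj.hom = b.obj.hom ≫ a.obj.hom
        rw [← Category.assoc, Over.w φ.hom]))
      map_id := fun b => by rfl
      map_comp := fun f g => by rfl }
  w := rfl

/-- every morphism from an object of `S` into `a` is of the form `toA`. -/
theorem exists_eq_toA' {S R : Sieve U} (hSR : S ≤ R) (a : (sieveCat R).obj) (c : (sieveCat S).obj)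
    (m : (inclLE hSR).obj c ⟶ a) :
    ∃ (b' : (sieveCat (S.pullback a.obj.hom)).obj) (e : c = (pbArrow S a).obj b'),
      m = eqToHom (by rw [e]; rfl) ≫ toA R a b'.obj := by
  obtain ⟨⟨V, ⟨⟩, g⟩, hc⟩ := c
  obtain ⟨l, hl⟩ : ∃ l : V ⟶ a.obj.left, l = m.hom.left := ⟨_, rfl⟩
  have hw : l ≫ a.obj.hom = g := by rw [hl]; exact Over.w m.hom
  subst hw
  refine ⟨⟨Over.mk l, hc⟩, rfl, ?_⟩
  rw [eqToHom_refl, Category.id_comp]
  apply ObjectProperty.hom_ext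
  apply Over.OverMorphism.ext
  exact hl.symm

section main

variable {S R : Sieve U} (hSR : S ≤ R) (Ψ₁ Ψ₂ : sieveCat R ⥤ᵇ 𝒳)
  (α : (restr (inclLE hSR) 𝒳).obj Ψ₁ ⟶ (restr (inclLE hSR) 𝒳).obj Ψ₂)

/-- the restriction of `α` to the pulled back sieve. -/
def αpb (a : (sieveCat R).obj) :
    (resSieve (S.pullback a.obj.hom) 𝒳).obj (BasedFunctor.comp (compArrow R a) Ψ₁) ⟶
      (resSieve (S.pullback a.obj.hom) 𝒳).obj (BasedFunctor.comp (compArrow R a) Ψ₂) :=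
  BasedCategory.whiskerLeft (pbArrow S a) α

theorem isHomLift_map_sieve (Ψ : sieveCat R ⥤ᵇ 𝒳) {c a : (sieveCat R).obj} (m : c ⟶ a) :
    𝒳.p.IsHomLift m.hom.left (Ψ.map m) := by
  have h0 : (sieveCat R).p.IsHomLift m.hom.left m := IsHomLift.map (sieveCat R).p m
  infer_instance

theorem isHomLift_map_toA (Ψ : sieveCat R ⥤ᵇ 𝒳) (a : (sieveCat R).obj) (b : Over a.obj.left) :
    𝒳.p.IsHomLift b.hom (Ψ.map (toA R a b)) :=
  isHomLift_map_sieve Ψ (toA R a b)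

theorem isIso_map_toA_id (h𝒳 : IsFibGrpd 𝒳.p) (Ψ : sieveCat R ⥤ᵇ 𝒳) (a : (sieveCat R).obj) :
    IsIso (Ψ.map (toA R a (Over.mk (𝟙 a.obj.left)))) := by
  have : 𝒳.p.IsHomLift (𝟙 a.obj.left) (Ψ.map (toA R a (Over.mk (𝟙 a.obj.left)))) :=
    isHomLift_map_toA Ψ a (Over.mk (𝟙 a.obj.left))
  exact isIso_of_isHomLift h𝒳 (𝟙 a.obj.left) _

include hSR in
theorem exists_isExt (h𝒳 : IsFibGrpd 𝒳.p) (a : (sieveCat R).obj)
    (hfull : (resSieve (S.pullback a.obj.hom) 𝒳).Full) : ∃ χ, IsExt hSR Ψ₁ Ψ₂ α a χ := by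
  obtain ⟨γ, hγ⟩ := (resSieve (S.pullback a.obj.hom) 𝒳).map_surjective (αpb hSR Ψ₁ Ψ₂ α a)
  have hγapp : ∀ b' : (sieveCat (S.pullback a.obj.hom)).obj,
      γ.toNatTrans.app b'.obj = α.toNatTrans.app ((pbArrow S a).obj b') :=
    fun b' => congrArg (fun ε => ε.toNatTrans.app b') hγ
  let i := toA R a (Over.mk (𝟙 a.obj.left))
  have hi1 : IsIso (Ψ₁.map i) := isIso_map_toA_id h𝒳 Ψ₁ a
  have l1 : 𝒳.p.IsHomLift (𝟙 a.obj.left) (Ψ₁.map i) := isHomLift_map_toA Ψ₁ a (Over.mk (𝟙 a.obj.left))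
  have l2 : 𝒳.p.IsHomLift (𝟙 a.obj.left) (Ψ₂.map i) := isHomLift_map_toA Ψ₂ a (Over.mk (𝟙 a.obj.left))
  have l3 : 𝒳.p.IsHomLift (𝟙 a.obj.left) (γ.toNatTrans.app (Over.mk (𝟙 a.obj.left))) :=
    γ.isHomLift' (Over.mk (𝟙 a.obj.left))
  have l4 : 𝒳.p.IsHomLift (𝟙 a.obj.left) (inv (Ψ₁.map i)) := by
    have : 𝒳.p.IsHomLift (inv (𝟙 a.obj.left)) (inv (Ψ₁.map i)) := inferInstance
    simpa using this
  refine ⟨inv (Ψ₁.map i) ≫ γ.toNatTrans.app (Over.mk (𝟙 a.obj.left)) ≫ Ψ₂.map i, ?_, ?_⟩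
  · have : 𝒳.p.IsHomLift (𝟙 a.obj.left ≫ 𝟙 a.obj.left ≫ 𝟙 a.obj.left)
        (inv (Ψ₁.map i) ≫ γ.toNatTrans.app (Over.mk (𝟙 a.obj.left)) ≫ Ψ₂.map i) := inferInstance
    simpa using this
  · intro c m
    obtain ⟨b', e, hm⟩ := exists_eq_toA' hSR a c m
    subst e
    rw [eqToHom_refl, Category.id_comp] at hm
    subst hm
    -- the morphism `b ⟶ 𝟙` of `Over`
    let μ : b'.obj ⟶ Over.mk (𝟙 a.obj.left) := Over.homMk b'.obj.hom (by simp)
    have hμ : (compArrow R a).map μ ≫ i = toA R a b'.obj := compArrow_map_toA R a μ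
    have hnat : Ψ₁.map ((compArrow R a).map μ) ≫ γ.toNatTrans.app (Over.mk (𝟙 a.obj.left)) =
        γ.toNatTrans.app b'.obj ≫ Ψ₂.map ((compArrow R a).map μ) := γ.toNatTrans.naturality μ
    rw [← hγapp b', ← hμ]
    have e1 : Ψ₁.map ((compArrow R a).map μ ≫ i) = Ψ₁.map ((compArrow R a).map μ) ≫ Ψ₁.map i :=
      Ψ₁.toFunctor.map_comp _ _
    have e2 : Ψ₂.map ((compArrow R a).map μ ≫ i) = Ψ₂.map ((compArrow R a).map μ) ≫ Ψ₂.map i :=
      Ψ₂.toFunctor.map_comp _ _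
    rw [e1, e2, Category.assoc, IsIso.hom_inv_id_assoc, ← Category.assoc, hnat, Category.assoc]

theorem exists_delta (h𝒳 : IsFibGrpd 𝒳.p) (a : (sieveCat R).obj) (χ : Ψ₁.obj a ⟶ Ψ₂.obj a)
    (hχ : 𝒳.p.IsHomLift (𝟙 a.obj.left) χ) :
    ∃ δ : BasedFunctor.comp (compArrow R a) Ψ₁ ⟶ BasedFunctor.comp (compArrow R a) Ψ₂,
      ∀ b : Over a.obj.left, δ.toNatTrans.app b ≫ Ψ₂.map (toA R a b) = Ψ₁.map (toA R a b) ≫ χ := by
  have key : ∀ b : Over a.obj.left, ∃! d : Ψ₁.obj ((compArrow R a).obj b) ⟶ Ψ₂.obj ((compArrow R a).obj b),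
      𝒳.p.IsHomLift (𝟙 b.left) d ∧ d ≫ Ψ₂.map (toA R a b) = Ψ₁.map (toA R a b) ≫ χ := by
    intro b
    have l1 := isHomLift_map_toA Ψ₁ a b
    have l2 := isHomLift_map_toA Ψ₂ a b
    have l3 : 𝒳.p.IsHomLift b.hom (Ψ₁.map (toA R a b) ≫ χ) := by
      have : 𝒳.p.IsHomLift (b.hom ≫ 𝟙 a.obj.left) (Ψ₁.map (toA R a b) ≫ χ) := inferInstance
      simpa using this
    exact existsUnique_fac h𝒳 b.hom (Ψ₂.map (toA R a b)) (𝟙 b.left) b.hom (by simp) _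
  choose d hd _ using key
  refine ⟨{ toNatTrans := { app := d, naturality := ?_ }, isHomLift' := fun b => (hd b).1 }, fun b => (hd b).2⟩
  intro b b' μ
  have l2 := isHomLift_map_toA Ψ₂ a b'
  have m1 : 𝒳.p.IsHomLift μ.left (Ψ₁.map ((compArrow R a).map μ)) :=
    isHomLift_map_sieve Ψ₁ ((compArrow R a).map μ)
  have m2 : 𝒳.p.IsHomLift μ.left (Ψ₂.map ((compArrow R a).map μ)) :=
    isHomLift_map_sieve Ψ₂ ((compArrow R a).map μ)
  have d1 := (hd b).1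
  have d2 := (hd b').1
  have n1 : 𝒳.p.IsHomLift μ.left (Ψ₁.map ((compArrow R a).map μ) ≫ d b') := by
    have : 𝒳.p.IsHomLift (μ.left ≫ 𝟙 b'.left) (Ψ₁.map ((compArrow R a).map μ) ≫ d b') := inferInstance
    simpa using this
  have n2 : 𝒳.p.IsHomLift μ.left (d b ≫ Ψ₂.map ((compArrow R a).map μ)) := by
    have : 𝒳.p.IsHomLift (𝟙 b.left ≫ μ.left) (d b ≫ Ψ₂.map ((compArrow R a).map μ)) := inferInstance
    simpa using this
  change Ψ₁.map ((compArrow R a).map μ) ≫ d b' = d b ≫ Ψ₂.map ((compArrow R a).map μ)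
  apply hom_ext_of_comp_eq h𝒳 b'.hom (Ψ₂.map (toA R a b')) μ.left
  have e1 : Ψ₁.map ((compArrow R a).map μ) ≫ Ψ₁.map (toA R a b') = Ψ₁.map (toA R a b) := by
    rw [← compArrow_map_toA R a μ]; exact (Ψ₁.toFunctor.map_comp _ _).symm
  have e2 : Ψ₂.map ((compArrow R a).map μ) ≫ Ψ₂.map (toA R a b') = Ψ₂.map (toA R a b) := by
    rw [← compArrow_map_toA R a μ]; exact (Ψ₂.toFunctor.map_comp _ _).symm
  rw [Category.assoc, (hd b').2, ← Category.assoc, e1, Category.assoc, e2, (hd b).2]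

include hSR in
theorem unique_isExt (h𝒳 : IsFibGrpd 𝒳.p) (a : (sieveCat R).obj)
    (hfaith : (resSieve (S.pullback a.obj.hom) 𝒳).Faithful) {χ χ' : Ψ₁.obj a ⟶ Ψ₂.obj a}
    (hχ : IsExt hSR Ψ₁ Ψ₂ α a χ) (hχ' : IsExt hSR Ψ₁ Ψ₂ α a χ') : χ = χ' := by
  obtain ⟨δ, hδ⟩ := exists_delta Ψ₁ Ψ₂ h𝒳 a χ hχ.1
  obtain ⟨δ', hδ'⟩ := exists_delta Ψ₁ Ψ₂ h𝒳 a χ' hχ'.1
  have hres : (resSieve (S.pullback a.obj.hom) 𝒳).map δ = (resSieve (S.pullback a.obj.hom) 𝒳).map δ' := by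
    apply BasedNatTrans.homCategory.ext
    ext b'
    change δ.toNatTrans.app b'.obj = δ'.toNatTrans.app b'.obj
    have l2 := isHomLift_map_toA Ψ₂ a b'.obj
    have d1 : 𝒳.p.IsHomLift (𝟙 b'.obj.left) (δ.toNatTrans.app b'.obj) := δ.isHomLift' b'.obj
    have d2 : 𝒳.p.IsHomLift (𝟙 b'.obj.left) (δ'.toNatTrans.app b'.obj) := δ'.isHomLift' b'.obj
    apply hom_ext_of_comp_eq h𝒳 b'.obj.hom (Ψ₂.map (toA R a b'.obj)) (𝟙 b'.obj.left)
    rw [hδ, hδ']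
    exact (hχ.2 ((pbArrow S a).obj b') (toA R a b'.obj)).trans (hχ'.2 ((pbArrow S a).obj b') (toA R a b'.obj)).symm
  have hδδ' : δ = δ' := (resSieve (S.pullback a.obj.hom) 𝒳).map_injective hres
  have hi1 : IsIso (Ψ₁.map (toA R a (Over.mk (𝟙 a.obj.left)))) := isIso_map_toA_id h𝒳 Ψ₁ a
  have h1 := hδ (Over.mk (𝟙 a.obj.left))
  have h2 := hδ' (Over.mk (𝟙 a.obj.left))
  rw [hδδ'] at h1
  rw [h1] at h2
  exact (cancel_epi _).1 h2

/-- restriction along the inclusion of a finer sieve is fully faithful when `𝒳` is a prestack for the pulled back sieves. -/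
theorem full_restr_inclLE (h𝒳 : IsFibGrpd 𝒳.p) {S R : Sieve U} (hSR : S ≤ R)
    (hR : ∀ a : (sieveCat R).obj, IsPrestackFor (S.pullback a.obj.hom) 𝒳) :
    (restr (inclLE hSR) 𝒳).Full := by
  constructor
  intro Ψ₁ Ψ₂ α
  have hex : ∀ a : (sieveCat R).obj, ∃ χ, IsExt hSR Ψ₁ Ψ₂ α a χ := fun a =>
    exists_isExt hSR Ψ₁ Ψ₂ α h𝒳 a (hR a).1
  choose β hβ using hex
  have huniq : ∀ (a : (sieveCat R).obj) (χ : Ψ₁.obj a ⟶ Ψ₂.obj a), IsExt hSR Ψ₁ Ψ₂ α a χ → χ = β a :=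
    fun a χ hχ => unique_isExt hSR Ψ₁ Ψ₂ α h𝒳 a (hR a).2 hχ (hβ a)
  have hnat : ∀ {a' a : (sieveCat R).obj} (h : a' ⟶ a), Ψ₁.map h ≫ β a = β a' ≫ Ψ₂.map h := by
    intro a' a h
    have l1 := isHomLift_map_sieve Ψ₁ h
    have l2 := isHomLift_map_sieve Ψ₂ h
    have l3 := (hβ a).1
    have l4 : 𝒳.p.IsHomLift h.hom.left (Ψ₁.map h ≫ β a) := by
      have : 𝒳.p.IsHomLift (h.hom.left ≫ 𝟙 a.obj.left) (Ψ₁.map h ≫ β a) := inferInstance
      simpa using this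
    obtain ⟨χ', ⟨hχ'1, hχ'2⟩, -⟩ := existsUnique_fac h𝒳 h.hom.left (Ψ₂.map h) (𝟙 a'.obj.left) h.hom.left
      (by simp) (Ψ₁.map h ≫ β a)
    have hext : IsExt hSR Ψ₁ Ψ₂ α a' χ' := by
      refine ⟨hχ'1, fun c m => ?_⟩
      have k1 := isHomLift_map_sieve Ψ₁ m
      have k2 := isHomLift_map_sieve Ψ₂ m
      have k3 : 𝒳.p.IsHomLift (𝟙 c.obj.left) (α.toNatTrans.app c) := α.isHomLift' c
      have k4 : 𝒳.p.IsHomLift m.hom.left (Ψ₁.map m ≫ χ') := by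
        have : 𝒳.p.IsHomLift (m.hom.left ≫ 𝟙 a'.obj.left) (Ψ₁.map m ≫ χ') := inferInstance
        simpa using this
      have k5 : 𝒳.p.IsHomLift m.hom.left (α.toNatTrans.app c ≫ Ψ₂.map m) := by
        have : 𝒳.p.IsHomLift (𝟙 c.obj.left ≫ m.hom.left) (α.toNatTrans.app c ≫ Ψ₂.map m) := inferInstance
        simpa using this
      apply hom_ext_of_comp_eq h𝒳 h.hom.left (Ψ₂.map h) m.hom.left
      have e1 : Ψ₁.map m ≫ Ψ₁.map h = Ψ₁.map (m ≫ h) := (Ψ₁.toFunctor.map_comp _ _).symm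
      have e2 : Ψ₂.map m ≫ Ψ₂.map h = Ψ₂.map (m ≫ h) := (Ψ₂.toFunctor.map_comp _ _).symm
      rw [Category.assoc, hχ'2, ← Category.assoc, e1, Category.assoc, e2]
      exact (hβ a).2 c (m ≫ h)
    rw [← huniq a' χ' hext, hχ'2]
  refine ⟨{ toNatTrans := { app := β, naturality := fun _ _ h => hnat h }, isHomLift' := fun a => (hβ a).1 }, ?_⟩
  apply BasedNatTrans.homCategory.ext
  ext c
  change β ((inclLE hSR).obj c) = α.toNatTrans.app c
  symm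
  apply huniq
  refine ⟨α.isHomLift' c, fun c' m => ?_⟩
  have := α.toNatTrans.naturality ((ObjectProperty.homMk m.hom : c' ⟶ c))
  exact this

theorem faithful_restr_inclLE (h𝒳 : IsFibGrpd 𝒳.p) {S R : Sieve U} (hSR : S ≤ R)
    (hR : ∀ a : (sieveCat R).obj, IsPrestackFor (S.pullback a.obj.hom) 𝒳) :
    (restr (inclLE hSR) 𝒳).Faithful := by
  constructor
  intro Ψ₁ Ψ₂ β β' h
  apply BasedNatTrans.homCategory.ext
  ext a
  have hext : ∀ β'' : Ψ₁ ⟶ Ψ₂, (restr (inclLE hSR) 𝒳).map β'' = (restr (inclLE hSR) 𝒳).map β →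
      IsExt hSR Ψ₁ Ψ₂ ((restr (inclLE hSR) 𝒳).map β) a (β''.toNatTrans.app a) := by
    intro β'' h''
    refine ⟨β''.isHomLift' a, fun c m => ?_⟩
    rw [← h'']
    exact β''.toNatTrans.naturality m
  exact unique_isExt hSR Ψ₁ Ψ₂ _ h𝒳 a (hR a).2 (hext β rfl) (hext β' h.symm)

/-- S12815: the stack condition passes to a coarser sieve. -/
theorem isStackFor_of_le (h𝒳 : IsFibGrpd 𝒳.p) {S R : Sieve U} (hSR : S ≤ R) (hS : IsStackFor S 𝒳)
    (hR : ∀ ⦃V : C⦄ (f : V ⟶ U), R f → IsPrestackFor (S.pullback f) 𝒳) : IsStackFor R 𝒳 := by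
  have hR' : ∀ a : (sieveCat R).obj, IsPrestackFor (S.pullback a.obj.hom) 𝒳 := fun a => hR a.obj.hom a.property
  have hfull := full_restr_inclLE h𝒳 hSR hR'
  have hfaith := faithful_restr_inclLE h𝒳 hSR hR'
  have hS' : (resSieve S 𝒳).IsEquivalence := hS
  -- `resSieve S = resSieve R ⋙ restr (inclLE)`
  have hcomp : resSieve S 𝒳 = resSieve R 𝒳 ⋙ restr (inclLE hSR) 𝒳 := rfl
  have h1 : (resSieve R 𝒳 ⋙ restr (inclLE hSR) 𝒳).Full := by rw [← hcomp]; infer_instance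
  have h2 : (resSieve R 𝒳 ⋙ restr (inclLE hSR) 𝒳).Faithful := by rw [← hcomp]; infer_instance
  have hf1 : (resSieve R 𝒳).Faithful := Functor.Faithful.of_comp (resSieve R 𝒳) (restr (inclLE hSR) 𝒳)
  have hf2 : (resSieve R 𝒳).Full := Functor.Full.of_comp_faithful (resSieve R 𝒳) (restr (inclLE hSR) 𝒳)
  have hf3 : (resSieve R 𝒳).EssSurj := by
    constructor
    intro Ψ
    let Φ := (resSieve S 𝒳).objPreimage ((restr (inclLE hSR) 𝒳).obj Ψ)
    let e : (restr (inclLE hSR) 𝒳).obj ((resSieve R 𝒳).obj Φ) ≅ (restr (inclLE hSR) 𝒳).obj Ψ :=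
      (resSieve S 𝒳).objObjPreimageIso ((restr (inclLE hSR) 𝒳).obj Ψ)
    exact ⟨Φ, ⟨(restr (inclLE hSR) 𝒳).preimageIso e⟩⟩
  exact { }

end main

end Groth.Agent.Helper19.StkRefine
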