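import Mathlib
import Groth.Prelude.Def_AlgSt
import Groth.Agent.Lib.Helper19.FibLib
import Groth.Agent.Lib.Helper19.YonLib

/-!
# An elementary form of the stack condition: cocones of descent data (helper19)
-/

set_option autoImplicit false
set_option backward.isDefEq.respectTransparency false

universe v u

open CategoryTheory

namespace Groth.Agent.Helper19.StkElem

open FibCat Stk Groth.Agent.Helper19.FibLib

variable {C : Type u} [Category.{v} C] {𝒳 : BasedCategory.{v, max u v} C} {U : C} {R : Sieve U}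

/-- a cocone over `U` of a descent datum. -/
structure Cocone (Ψ : sieveCat R ⥤ᵇ 𝒳) (x : 𝒳.obj) where
  base : 𝒳.p.obj x = U
  lam : ∀ a : (sieveCat R).obj, Ψ.obj a ⟶ x
  lift : ∀ a : (sieveCat R).obj, 𝒳.p.IsHomLift a.obj.hom (lam a)
  nat : ∀ {a b : (sieveCat R).obj} (h : a ⟶ b), Ψ.map h ≫ lam b = lam a

/-- every descent datum is effective. -/
def Eff (R : Sieve U) (𝒳 : BasedCategory.{v, max u v} C) : Prop :=
  ∀ Ψ : sieveCat R ⥤ᵇ 𝒳, ∃ x : 𝒳.obj, Nonempty (Cocone Ψ x)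

/-- cocones over `U` are unique up to unique isomorphism. -/
def Uniq (R : Sieve U) (𝒳 : BasedCategory.{v, max u v} C) : Prop :=
  ∀ (Ψ : sieveCat R ⥤ᵇ 𝒳) (x x' : 𝒳.obj) (c : Cocone Ψ x) (c' : Cocone Ψ x'),
    ∃! h : x ⟶ x', 𝒳.p.IsHomLift (𝟙 U) h ∧ ∀ a, c.lam a ≫ h = c'.lam a

theorem isHomLift_map_sieve (Ψ : sieveCat R ⥤ᵇ 𝒳) {c a : (sieveCat R).obj} (m : c ⟶ a) :
    𝒳.p.IsHomLift m.hom.left (Ψ.map m) := by
  have h0 : (sieveCat R).p.IsHomLift m.hom.left m := IsHomLift.map (sieveCat R).p m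
  infer_instance

theorem isHomLift_map_over (Φ : overCat U ⥤ᵇ 𝒳) {c a : Over U} (m : c ⟶ a) :
    𝒳.p.IsHomLift m.left (Φ.map m) := by
  have h0 : (overCat U).p.IsHomLift m.left m := IsHomLift.map (overCat U).p m
  infer_instance

/-- the morphism to the identity. -/
def toId (a : Over U) : a ⟶ Over.mk (𝟙 U) := Over.homMk a.hom (by simp)

@[simp] theorem toId_left (a : Over U) : (toId a).left = a.hom := rfl

theorem comp_toId {a b : Over U} (h : a ⟶ b) : h ≫ toId b = toId a := by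
  apply Over.OverMorphism.ext
  exact Over.w h

theorem isHomLift_map_toId (Φ : overCat U ⥤ᵇ 𝒳) (a : Over U) : 𝒳.p.IsHomLift a.hom (Φ.map (toId a)) :=
  isHomLift_map_over Φ (toId a)

/-- the cocone of a chart. -/
def chartCocone (Φ : overCat U ⥤ᵇ 𝒳) :
    Cocone (BasedFunctor.comp (sieveIncl R) Φ) (Φ.obj (Over.mk (𝟙 U))) where
  base := Φ.w_obj (Over.mk (𝟙 U))
  lam a := Φ.map (toId a.obj)
  lift a := isHomLift_map_toId Φ a.obj
  nat {a b} h := by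
    change Φ.map h.hom ≫ Φ.map (toId b.obj) = Φ.map (toId a.obj)
    rw [← comp_toId h.hom]
    exact (Φ.toFunctor.map_comp _ _).symm

/-- transport a cocone along an isomorphism of descent data. -/
def Cocone.precomp {Ψ Ψ' : sieveCat R ⥤ᵇ 𝒳} {x : 𝒳.obj} (c : Cocone Ψ x) (e : Ψ' ⟶ Ψ) : Cocone Ψ' x where
  base := c.base
  lam a := e.toNatTrans.app a ≫ c.lam a
  lift a := by
    have := c.lift a
    have : 𝒳.p.IsHomLift (𝟙 a.obj.left) (e.toNatTrans.app a) := e.isHomLift' a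
    have h : 𝒳.p.IsHomLift (𝟙 a.obj.left ≫ a.obj.hom) (e.toNatTrans.app a ≫ c.lam a) := inferInstance
    simpa using h
  nat {a b} h := by
    rw [← Category.assoc, e.toNatTrans.naturality h, Category.assoc, c.nat h]

/-- postcompose a cocone with a morphism over the identity. -/
def Cocone.postcomp {Ψ : sieveCat R ⥤ᵇ 𝒳} {x x' : 𝒳.obj} (c : Cocone Ψ x) (θ : x ⟶ x')
    (hθ : 𝒳.p.IsHomLift (𝟙 U) θ) : Cocone Ψ x' where
  base := IsHomLift.codomain_eq 𝒳.p (𝟙 U) θ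
  lam a := c.lam a ≫ θ
  lift a := by
    have := c.lift a
    have h : 𝒳.p.IsHomLift (a.obj.hom ≫ 𝟙 U) (c.lam a ≫ θ) := inferInstance
    simpa using h
  nat {a b} h := by
    rw [← Category.assoc, c.nat h]

/-- two descent data with cocones on the same object are canonically isomorphic. -/
theorem exists_iso_of_cocones (h𝒳 : IsFibGrpd 𝒳.p) {Ψ₁ Ψ₂ : sieveCat R ⥤ᵇ 𝒳} {x : 𝒳.obj}
    (c₁ : Cocone Ψ₁ x) (c₂ : Cocone Ψ₂ x) :
    ∃ E : Ψ₁ ≅ Ψ₂, ∀ a, E.hom.toNatTrans.app a ≫ c₂.lam a = c₁.lam a := by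
  have key : ∀ a : (sieveCat R).obj, ∃! κ : Ψ₁.obj a ⟶ Ψ₂.obj a,
      𝒳.p.IsHomLift (𝟙 a.obj.left) κ ∧ κ ≫ c₂.lam a = c₁.lam a := by
    intro a
    have := c₁.lift a
    have := c₂.lift a
    exact existsUnique_fac h𝒳 a.obj.hom (c₂.lam a) (𝟙 a.obj.left) a.obj.hom (by simp) (c₁.lam a)
  choose κ hκ _ using key
  have hiso : ∀ a, IsIso (κ a) := fun a => by
    have := (hκ a).1
    exact isIso_of_isHomLift h𝒳 (𝟙 a.obj.left) (κ a)
  refine ⟨mkIso (fun a => @asIso _ _ _ _ (κ a) (hiso a)) ?_ ?_, fun a => (hκ a).2⟩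
  · intro a b h
    change Ψ₁.map h ≫ κ b = κ a ≫ Ψ₂.map h
    have l1 := isHomLift_map_sieve Ψ₁ h
    have l2 := isHomLift_map_sieve Ψ₂ h
    have l3 := (hκ a).1
    have l4 := (hκ b).1
    have l5 := c₂.lift b
    have n1 : 𝒳.p.IsHomLift h.hom.left (Ψ₁.map h ≫ κ b) := by
      have : 𝒳.p.IsHomLift (h.hom.left ≫ 𝟙 b.obj.left) (Ψ₁.map h ≫ κ b) := inferInstance
      simpa using this
    have n2 : 𝒳.p.IsHomLift h.hom.left (κ a ≫ Ψ₂.map h) := by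
      have : 𝒳.p.IsHomLift (𝟙 a.obj.left ≫ h.hom.left) (κ a ≫ Ψ₂.map h) := inferInstance
      simpa using this
    apply hom_ext_of_comp_eq h𝒳 b.obj.hom (c₂.lam b) h.hom.left
    rw [Category.assoc, (hκ b).2, c₁.nat h, Category.assoc, c₂.nat h, (hκ a).2]
  · intro a
    exact (hκ a).1

theorem isStackFor_of_eff_uniq (h𝒳 : IsFibGrpd 𝒳.p) (hE : Eff R 𝒳) (hU : Uniq R 𝒳) : IsStackFor R 𝒳 := by
  have heq := Groth.Agent.S6409.result h𝒳 U
  have hfaith : (resSieve R 𝒳).Faithful := by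
    constructor
    intro Φ₁ Φ₂ β β' hββ'
    apply (evalAtId 𝒳 U).map_injective
    apply Subtype.ext
    change β.toNatTrans.app (Over.mk (𝟙 U)) = β'.toNatTrans.app (Over.mk (𝟙 U))
    obtain ⟨h, -, huniq⟩ := hU _ _ _ (chartCocone (R := R) Φ₁)
      ((chartCocone (R := R) Φ₂).precomp ((resSieve R 𝒳).map β))
    have e1 : β.toNatTrans.app (Over.mk (𝟙 U)) = h := by
      apply huniq
      refine ⟨β.isHomLift' (Over.mk (𝟙 U)), fun a => ?_⟩
      exact β.toNatTrans.naturality (toId a.obj)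
    have e2 : β'.toNatTrans.app (Over.mk (𝟙 U)) = h := by
      apply huniq
      refine ⟨β'.isHomLift' (Over.mk (𝟙 U)), fun a => ?_⟩
      rw [hββ']
      exact β'.toNatTrans.naturality (toId a.obj)
    rw [e1, e2]
  have hfull : (resSieve R 𝒳).Full := by
    constructor
    intro Φ₁ Φ₂ α
    obtain ⟨h, ⟨hh1, hh2⟩, -⟩ := hU _ _ _ (chartCocone (R := R) Φ₁) ((chartCocone (R := R) Φ₂).precomp α)
    obtain ⟨β, hβ⟩ := (evalAtId 𝒳 U).map_surjective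
      (⟨h, hh1⟩ : (evalAtId 𝒳 U).obj Φ₁ ⟶ (evalAtId 𝒳 U).obj Φ₂)
    have hβ' : β.toNatTrans.app (Over.mk (𝟙 U)) = h := congrArg Subtype.val hβ
    refine ⟨β, ?_⟩
    apply BasedNatTrans.homCategory.ext
    ext a
    change β.toNatTrans.app a.obj = α.toNatTrans.app a
    have l1 := isHomLift_map_toId Φ₂ a.obj
    have l2 : 𝒳.p.IsHomLift (𝟙 a.obj.left) (β.toNatTrans.app a.obj) := β.isHomLift' a.obj
    have l3 : 𝒳.p.IsHomLift (𝟙 a.obj.left) (α.toNatTrans.app a) := α.isHomLift' a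
    apply hom_ext_of_comp_eq h𝒳 a.obj.hom (Φ₂.map (toId a.obj)) (𝟙 a.obj.left)
    have n := β.toNatTrans.naturality (toId a.obj)
    have n' : Φ₁.map (toId a.obj) ≫ β.toNatTrans.app (Over.mk (𝟙 U)) =
        β.toNatTrans.app a.obj ≫ Φ₂.map (toId a.obj) := n
    rw [← n', hβ']
    exact hh2 a
  have hess : (resSieve R 𝒳).EssSurj := by
    constructor
    intro Ψ
    obtain ⟨x, ⟨c⟩⟩ := hE Ψ
    obtain ⟨Φ, θ, hθ⟩ := Groth.Agent.Helper19.YonLib.exists_chart_of_obj h𝒳 x c.base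
    obtain ⟨E, -⟩ := exists_iso_of_cocones h𝒳 ((chartCocone (R := R) Φ).postcomp θ.hom hθ) c
    exact ⟨Φ, ⟨E⟩⟩
  exact { }

theorem eff_of_isStackFor (h : IsStackFor R 𝒳) : Eff R 𝒳 := by
  have h' : (resSieve R 𝒳).IsEquivalence := h
  intro Ψ
  let Φ := (resSieve R 𝒳).objPreimage Ψ
  let e : (resSieve R 𝒳).obj Φ ≅ Ψ := (resSieve R 𝒳).objObjPreimageIso Ψ
  exact ⟨Φ.obj (Over.mk (𝟙 U)), ⟨(chartCocone (R := R) Φ).precomp e.inv⟩⟩

theorem uniq_of_isStackFor (h𝒳 : IsFibGrpd 𝒳.p) (h : IsStackFor R 𝒳) : Uniq R 𝒳 := by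
  have h' : (resSieve R 𝒳).IsEquivalence := h
  have heq := Groth.Agent.S6409.result h𝒳 U
  intro Ψ x x' c c'
  obtain ⟨Φ, θ, hθ⟩ := Groth.Agent.Helper19.YonLib.exists_chart_of_obj h𝒳 x c.base
  obtain ⟨Φ', θ', hθ'⟩ := Groth.Agent.Helper19.YonLib.exists_chart_of_obj h𝒳 x' c'.base
  obtain ⟨E, hE⟩ := exists_iso_of_cocones h𝒳 ((chartCocone (R := R) Φ).postcomp θ.hom hθ) c
  obtain ⟨E', hE'⟩ := exists_iso_of_cocones h𝒳 ((chartCocone (R := R) Φ').postcomp θ'.hom hθ') c'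
  have hE1 : ∀ a : (sieveCat R).obj, E.hom.toNatTrans.app a ≫ c.lam a = Φ.map (toId a.obj) ≫ θ.hom := hE
  have hE1' : ∀ a : (sieveCat R).obj, E'.hom.toNatTrans.app a ≫ c'.lam a = Φ'.map (toId a.obj) ≫ θ'.hom := hE'
  have hθi : 𝒳.p.IsHomLift (𝟙 U) θ.inv := by
    have : 𝒳.p.IsHomLift (inv (𝟙 U)) (inv θ.hom) := inferInstance
    simpa using this
  have hθi' : 𝒳.p.IsHomLift (𝟙 U) θ'.inv := by
    have : 𝒳.p.IsHomLift (inv (𝟙 U)) (inv θ'.hom) := inferInstance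
    simpa using this
  -- key: a morphism `β : Φ ⟶ Φ'` restricts to `E.hom ≫ E'.inv` iff its value at the identity is compatible
  have key : ∀ (β : Φ ⟶ Φ') (g : x ⟶ x'), (∀ a, c.lam a ≫ g = c'.lam a) →
      β.toNatTrans.app (Over.mk (𝟙 U)) = θ.hom ≫ g ≫ θ'.inv →
      (resSieve R 𝒳).map β = E.hom ≫ E'.inv := by
    intro β g hg hβ
    apply BasedNatTrans.homCategory.ext
    ext a
    change β.toNatTrans.app a.obj = E.hom.toNatTrans.app a ≫ E'.inv.toNatTrans.app a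
    have l1 := isHomLift_map_toId Φ' a.obj
    have l2 : 𝒳.p.IsHomLift (𝟙 a.obj.left) (β.toNatTrans.app a.obj) := β.isHomLift' a.obj
    have l3 : 𝒳.p.IsHomLift (𝟙 a.obj.left) (E.hom.toNatTrans.app a) := E.hom.isHomLift' a
    have l4 : 𝒳.p.IsHomLift (𝟙 a.obj.left) (E'.inv.toNatTrans.app a) := E'.inv.isHomLift' a
    have l5 : 𝒳.p.IsHomLift (𝟙 a.obj.left) (E.hom.toNatTrans.app a ≫ E'.inv.toNatTrans.app a) := by
      have : 𝒳.p.IsHomLift (𝟙 a.obj.left ≫ 𝟙 a.obj.left)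
          (E.hom.toNatTrans.app a ≫ E'.inv.toNatTrans.app a) := inferInstance
      simpa using this
    apply hom_ext_of_comp_eq h𝒳 a.obj.hom (Φ'.map (toId a.obj)) (𝟙 a.obj.left)
    have n : Φ.map (toId a.obj) ≫ β.toNatTrans.app (Over.mk (𝟙 U)) =
        β.toNatTrans.app a.obj ≫ Φ'.map (toId a.obj) := β.toNatTrans.naturality (toId a.obj)
    have e3 : Φ'.map (toId a.obj) = E'.hom.toNatTrans.app a ≫ c'.lam a ≫ θ'.inv := by
      rw [← Category.assoc, hE1' a, Category.assoc, Iso.hom_inv_id, Category.comp_id]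
    rw [← n, hβ, ← Category.assoc, ← hE1 a, Category.assoc, Category.assoc, ← Category.assoc (c.lam a),
      hg a, e3, inv_hom_app_assoc]
  -- existence
  obtain ⟨β, hβ⟩ := (resSieve R 𝒳).map_surjective (E.hom ≫ E'.inv)
  have hβa : ∀ a : (sieveCat R).obj, β.toNatTrans.app a.obj =
      E.hom.toNatTrans.app a ≫ E'.inv.toNatTrans.app a := fun a =>
    congrArg (fun ε => ε.toNatTrans.app a) hβ
  have lβ : 𝒳.p.IsHomLift (𝟙 U) (β.toNatTrans.app (Over.mk (𝟙 U))) := β.isHomLift' (Over.mk (𝟙 U))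
  have hh1 : 𝒳.p.IsHomLift (𝟙 U) (θ.inv ≫ β.toNatTrans.app (Over.mk (𝟙 U)) ≫ θ'.hom) := by
    have : 𝒳.p.IsHomLift (𝟙 U ≫ 𝟙 U ≫ 𝟙 U) (θ.inv ≫ β.toNatTrans.app (Over.mk (𝟙 U)) ≫ θ'.hom) :=
      inferInstance
    simpa using this
  have hh2 : ∀ a, c.lam a ≫ (θ.inv ≫ β.toNatTrans.app (Over.mk (𝟙 U)) ≫ θ'.hom) = c'.lam a := by
    intro a
    have n : Φ.map (toId a.obj) ≫ β.toNatTrans.app (Over.mk (𝟙 U)) =
        β.toNatTrans.app a.obj ≫ Φ'.map (toId a.obj) := β.toNatTrans.naturality (toId a.obj)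
    have e1 : c.lam a = E.inv.toNatTrans.app a ≫ Φ.map (toId a.obj) ≫ θ.hom := by
      rw [← hE1 a, inv_hom_app_assoc]
    rw [e1, Category.assoc, Category.assoc, Iso.hom_inv_id_assoc, ← Category.assoc (Φ.map (toId a.obj)), n,
      hβa a]
    simp only [Category.assoc]
    rw [← hE1' a, inv_hom_app_assoc, inv_hom_app_assoc]
  refine ⟨θ.inv ≫ β.toNatTrans.app (Over.mk (𝟙 U)) ≫ θ'.hom, ⟨hh1, hh2⟩, ?_⟩
  rintro g ⟨hg1, hg2⟩
  -- uniqueness
  have lg : 𝒳.p.IsHomLift (𝟙 U) (θ.hom ≫ g ≫ θ'.inv) := by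
    have : 𝒳.p.IsHomLift (𝟙 U ≫ 𝟙 U ≫ 𝟙 U) (θ.hom ≫ g ≫ θ'.inv) := inferInstance
    simpa using this
  obtain ⟨β', hβ'⟩ := (evalAtId 𝒳 U).map_surjective
    (⟨θ.hom ≫ g ≫ θ'.inv, lg⟩ : (evalAtId 𝒳 U).obj Φ ⟶ (evalAtId 𝒳 U).obj Φ')
  have hβ'' : β'.toNatTrans.app (Over.mk (𝟙 U)) = θ.hom ≫ g ≫ θ'.inv := congrArg Subtype.val hβ'
  have hres : (resSieve R 𝒳).map β' = (resSieve R 𝒳).map β := by
    rw [key β' g hg2 hβ'', hβ]
  have hββ' : β' = β := (resSieve R 𝒳).map_injective hres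
  rw [← hββ', hβ'']
  simp

theorem isStackFor_iff (h𝒳 : IsFibGrpd 𝒳.p) : IsStackFor R 𝒳 ↔ Eff R 𝒳 ∧ Uniq R 𝒳 :=
  ⟨fun h => ⟨eff_of_isStackFor h, uniq_of_isStackFor h𝒳 h⟩, fun h => isStackFor_of_eff_uniq h𝒳 h.1 h.2⟩

end Groth.Agent.Helper19.StkElem
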