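import Mathlib
import Groth.Agent.Lib.Helper19.InertiaLib
import Groth.Agent.Lib.Helper19.LocQCalc
import Groth.Agent.Lib.Helper19.LqfSp

/-!
# Locally quasi-finite inertia iff quasi-DM (helper19)
-/

set_option autoImplicit false
set_option backward.isDefEq.respectTransparency false

universe u

open CategoryTheory CategoryTheory.Limits AlgebraicGeometry

namespace Groth.Agent.Helper19.QuasiDM

open FibCat AlgSt Stk Groth.Agent.Helper19.FibLib Groth.Agent.Helper19.StLib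
  Groth.Agent.Helper19.AlgP Groth.Agent.Helper19.SpProps Groth.Agent.Helper19.SpDict
  Groth.Agent.Helper19.PshSt Groth.Agent.Helper19.LocQCore Groth.Agent.Helper16.AS
  Groth.Agent.Helper15 Groth.Agent.Helper19.InertiaLib

variable {S : Scheme.{u}} {𝒳 𝒴 : AlgSt.Cat S} (f : 𝒳 ⥤ᵇ 𝒴)

/-- the comparison `𝒫 ×_𝒳 (𝒳 ×_𝒵 𝒳) ⟶ 𝒫 ×_𝒯 𝒫` for `𝒫 = 𝒯 ×_𝒵 𝒳`. -/
def Ψ {𝒯 𝒵 𝒳' : AlgSt.Cat S} (t : 𝒯 ⥤ᵇ 𝒵) (Δ : 𝒳' ⥤ᵇ 𝒵) :
    fp (fpSnd t Δ) (fpFst Δ Δ) ⥤ᵇ fp (fpFst t Δ) (fpFst t Δ) :=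
  BasedFunctor.comp (pasteLInv (fpSnd t Δ) Δ Δ)
    (BasedFunctor.comp (fpCongrLeft Δ (fpIso t Δ).symm) (pasteL (fpFst t Δ) t Δ))

theorem isEquivOver_Ψ {𝒯 𝒵 𝒳' : AlgSt.Cat S} (t : 𝒯 ⥤ᵇ 𝒵) (Δ : 𝒳' ⥤ᵇ 𝒵) : IsEquivOver (Ψ t Δ) :=
  IsEquivOver.comp (isEquivOver_pasteLInv _ _ _)
    (IsEquivOver.comp (isEquivOver_fpCongrLeft _ _) (isEquivOver_pasteL _ _ _))

theorem Ψ_comp_fpFst {𝒯 𝒵 𝒳' : AlgSt.Cat S} (t : 𝒯 ⥤ᵇ 𝒵) (Δ : 𝒳' ⥤ᵇ 𝒵) :
    BasedFunctor.comp (Ψ t Δ) (fpFst (fpFst t Δ) (fpFst t Δ)) = fpFst (fpSnd t Δ) (fpFst Δ Δ) := rfl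

theorem stableAlg_lqf : StableAlg (S := S) (AlgSp.LocP (@LocallyQuasiFinite ⊓ @LocallyOfFiniteType)) :=
  stableAlg_locP goodP_lqf_lft srcEtLoc_lqf_lft

theorem descAtlas_lqf : DescAtlas (S := S) (AlgSp.LocP (@LocallyQuasiFinite ⊓ @LocallyOfFiniteType)) :=
  descAtlas_of_fpqc isLocalOnBase_fpqc_locP_lqf_lft

section main

variable (h𝒳 : IsAlgStack Scheme.fppfPrecoverage 𝒳) (h𝒴 : IsAlgStack Scheme.fppfPrecoverage 𝒴)

include h𝒳 h𝒴 in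
/-- S12975. -/
theorem lqf_inertia_iff :
    RepByAlgSpWith (AlgSp.LocP (@LocallyQuasiFinite ⊓ @LocallyOfFiniteType)) (inertiaToBase f) ↔
      IsQuasiDMMor f := by
  constructor
  · intro h1
    have hg : RepByAlgSpWith (AlgSp.LocP (@LocallyQuasiFinite ⊓ @LocallyOfFiniteType))
        (fpFst (FibCat.diag f) (FibCat.diag f)) := (repByAlgSpWith_inertiaToBase_iff f).1 h1
    intro T t
    obtain ⟨A, eA, heA, hlft⟩ := Groth.Agent.Helper19.DiagLft.repByAlgSpWith_lft_diag h𝒳 h𝒴 f T t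
    refine ⟨A, eA, heA, ?_⟩
    let pP : Pres (fp t (FibCat.diag f)) := Pres.ofEquiv A.obj eA heA
    let pT : Pres (overCat T) := Pres.ov T
    let q₁ := fpFst t (FibCat.diag f)
    have ha : Pres.map pP pT q₁ = spMapOfOver (BasedFunctor.comp eA (fpFst t (FibCat.diag f))) :=
      map_ofEquiv_ov A.obj eA heA q₁
    rw [← ha]
    rw [← ha] at hlft
    -- the self base change of `q₁` has the property
    have h2 : RepByAlgSpWith (AlgSp.LocP (@LocallyQuasiFinite ⊓ @LocallyOfFiniteType))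
        (fpFst (fpSnd t (FibCat.diag f)) (fpFst (FibCat.diag f) (FibCat.diag f))) :=
      repByAlgSpWith_fpFst _ _ hg
    have h3 : RepByAlgSpWith (AlgSp.LocP (@LocallyQuasiFinite ⊓ @LocallyOfFiniteType))
        (fpFst q₁ q₁) := by
      have := (repByAlgSpWith_equiv_comp (Ψ t (FibCat.diag f)) (isEquivOver_Ψ t (FibCat.diag f))
        (fpFst q₁ q₁)).1 (by rw [Ψ_comp_fpFst]; exact h2)
      exact this
    let c : Pres (fp q₁ q₁) := Pres.fpPres pP pP pT q₁ q₁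
    have hc : AlgSp.IsAlgSpace c.sp := by
      show AlgSp.IsAlgSpace (pullback (Pres.map pP pT q₁) (Pres.map pP pT q₁))
      exact Groth.Agent.Helper16.AS.isAlgSpace_pullback A.property
        (AlgSp.IsAlgSpace.yon_obj T) A.property _ _
    have h4 := (Pres.repByAlgSpWith_iff_map stableAlg_lqf descAtlas_lqf c pP hc A.property
      (fpFst q₁ q₁)).1 h3
    rw [Pres.map_fpPres_fpFst] at h4
    exact Groth.Agent.Lib.Helper19.LqfSp.locP_lqf_of_fst _ hlft h4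
  · intro h2
    exact (repByAlgSpWith_inertiaToBase_iff f).2
      (repByAlgSpWith_fpFst (FibCat.diag f) (FibCat.diag f) h2)

end main

end Groth.Agent.Helper19.QuasiDM
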