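import Mathlib
import Groth.Agent.Lib.Helper21.GQuot10
import Groth.Agent.Lib.Helper19.EpiSTD
import Groth.Agent.Lib.Helper11.UnivHomeo

/-!
Geometric points of quotients by finite groups: lifting along the quotient map and transitivity of
the group on geometric fibres; base change comparison of quotients is a universal homeomorphism.
-/

open AlgebraicGeometry CategoryTheory Limits

universe u

namespace Groth.Agent.Helper19.QuotGeom

open Groth.Agent.Helper21.GQuot Groth.Agent.Helper21.GQuot9 Groth.Agent.Helper21.GQuot10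
open Groth.Agent.Helper19.EpiSTD

/-- Universal injectivity can be tested on points with values in algebraically closed fields. -/
theorem universallyInjective_of_algClosed {X Y : Scheme.{u}} (f : X ⟶ Y)
    (h : ∀ (K : Type u) [Field K] [IsAlgClosed K],
      Function.Injective (fun g : Spec (.of K) ⟶ X ↦ g ≫ f)) :
    UniversallyInjective f := by
  have h2 : UniversallyInjective f ↔ ∀ (K : Type u) [Field K],
      Function.Injective (fun g : Spec (.of K) ⟶ X ↦ g ≫ f) :=
    (tfae_universallyInjective f).out 0 1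
  refine h2.mpr ?_
  intro K _ g₁ g₂ hg
  let e : Spec (.of (AlgebraicClosure K)) ⟶ Spec (.of K) :=
    Spec.map (CommRingCat.ofHom (algebraMap K (AlgebraicClosure K)))
  haveI : IsSchemeTheoreticallyDominant e :=
    std_SpecMap _ (algebraMap K (AlgebraicClosure K)).injective
  haveI : Surjective e := by
    constructor
    intro y
    refine ⟨⟨⊥, Ideal.bot_prime⟩, ?_⟩
    apply PrimeSpectrum.ext
    have : y.asIdeal = ⊥ := by
      have hy := y.isPrime
      rcases Ideal.eq_bot_or_top y.asIdeal with h | h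
      · exact h
      · exact absurd h hy.ne_top
    rw [this]
    exact Ideal.comap_bot_of_injective _ (algebraMap K (AlgebraicClosure K)).injective
  haveI : Epi e := epi_of_surjective_of_std e
  have h3 : e ≫ g₁ = e ≫ g₂ := by
    apply h (AlgebraicClosure K)
    show (e ≫ g₁) ≫ f = (e ≫ g₂) ≫ f
    rw [Category.assoc, Category.assoc]
    exact congrArg (e ≫ ·) hg
  exact (cancel_epi e).mp h3

section

variable {X Y : Scheme.{u}} {G : Type u} [Group G] [Finite G] (ρ : G →* Aut X) (p : X ⟶ Y)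

/-- Geometric points lift along a quotient map. -/
theorem lift_geomPoint (hp : SGA1.IsQuot ρ p) (K : Type u) [Field K] [IsAlgClosed K]
    (a : Spec (.of K) ⟶ Y) : ∃ b : Spec (.of K) ⟶ X, b ≫ p = a := by
  obtain ⟨⟨y, lam⟩, rfl⟩ := (Y.SpecToEquivOfField K).symm.surjective a
  obtain ⟨x, rfl⟩ := (surjective ρ p hp).surj y
  letI alg1 : Algebra (Y.residueField (p.base x)) (X.residueField x) :=
    (p.residueFieldMap x).hom.toAlgebra
  letI alg2 : Algebra (Y.residueField (p.base x)) K := lam.hom.toAlgebra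
  haveI : Normal (Y.residueField (p.base x)) (X.residueField x) := (stab ρ p hp x).1
  let μ : X.residueField x →ₐ[Y.residueField (p.base x)] K := IsAlgClosed.lift
  refine ⟨Spec.map (CommRingCat.ofHom μ.toRingHom) ≫ X.fromSpecResidueField x, ?_⟩
  show _ = Spec.map lam ≫ Y.fromSpecResidueField (p.base x)
  rw [Category.assoc, ← Scheme.Hom.SpecMap_residueFieldMap_fromSpecResidueField, ← Category.assoc,
    ← Spec.map_comp]
  congr 2
  ext z
  exact μ.commutes z

/-- Same-point case of transitivity on geometric fibres. -/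
theorem geom_transitive_aux (hp : SGA1.IsQuot ρ p) (K : Type u) [Field K] (x : X)
    (l₁ l₂ : X.residueField x ⟶ .of K)
    (h : p.residueFieldMap x ≫ l₁ = p.residueFieldMap x ≫ l₂) :
    ∃ (σ : G) (e : (ρ σ).hom.base x = x),
      l₂ = ((X.residueFieldCongr e).inv ≫ (ρ σ).hom.residueFieldMap x) ≫ l₁ := by
  letI alg1 : Algebra (Y.residueField (p.base x)) (X.residueField x) :=
    (p.residueFieldMap x).hom.toAlgebra
  letI alg2 : Algebra (X.residueField x) K := l₁.hom.toAlgebra
  letI alg3 : Algebra (Y.residueField (p.base x)) K := (p.residueFieldMap x ≫ l₁).hom.toAlgebra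
  haveI : IsScalarTower (Y.residueField (p.base x)) (X.residueField x) K :=
    IsScalarTower.of_algebraMap_eq (fun z => rfl)
  haveI : Normal (Y.residueField (p.base x)) (X.residueField x) := (stab ρ p hp x).1
  let ϕ : X.residueField x →ₐ[Y.residueField (p.base x)] K :=
    { l₂.hom with
      commutes' := fun z => by
        have := congrArg (fun m => m.hom z) h
        exact this.symm }
  let τ : X.residueField x ≃ₐ[Y.residueField (p.base x)] X.residueField x :=
    ϕ.restrictNormal' (X.residueField x)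
  have hτ : ∀ z, l₁.hom (τ z) = l₂.hom z := fun z =>
    AlgHom.restrictNormal_commutes ϕ (X.residueField x) z
  have hτ' : p.residueFieldMap x ≫ τ.toRingEquiv.toCommRingCatIso.hom = p.residueFieldMap x := by
    ext k
    exact τ.commutes k
  obtain ⟨σ, e, hσ⟩ := (stab ρ p hp x).2 τ.toRingEquiv.toCommRingCatIso hτ'
  refine ⟨σ, e, ?_⟩
  rw [← hσ]
  ext z
  exact (hτ z).symm

theorem comp_quot_eq (K : Type u) [Field K] (x : X) (l : X.residueField x ⟶ .of K) :
    (Spec.map l ≫ X.fromSpecResidueField x) ≫ p =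
      (Y.SpecToEquivOfField K).symm ⟨p.base x, p.residueFieldMap x ≫ l⟩ := by
  show _ = Spec.map (p.residueFieldMap x ≫ l) ≫ Y.fromSpecResidueField (p.base x)
  rw [Category.assoc, ← Scheme.Hom.SpecMap_residueFieldMap_fromSpecResidueField, ← Category.assoc,
    ← Spec.map_comp]

/-- A finite group acts transitively on the geometric fibres of its quotient map. -/
theorem geom_transitive (hp : SGA1.IsQuot ρ p) (K : Type u) [Field K]
    (c₁ c₂ : Spec (.of K) ⟶ X) (h : c₁ ≫ p = c₂ ≫ p) :
    ∃ σ : G, c₂ = c₁ ≫ (ρ σ).hom := by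
  obtain ⟨⟨x₁, l₁⟩, rfl⟩ := (X.SpecToEquivOfField K).symm.surjective c₁
  obtain ⟨⟨x₂, l₂⟩, rfl⟩ := (X.SpecToEquivOfField K).symm.surjective c₂
  change (Spec.map l₁ ≫ X.fromSpecResidueField x₁) ≫ p =
    (Spec.map l₂ ≫ X.fromSpecResidueField x₂) ≫ p at h
  show ∃ σ : G, Spec.map l₂ ≫ X.fromSpecResidueField x₂ =
    (Spec.map l₁ ≫ X.fromSpecResidueField x₁) ≫ (ρ σ).hom
  have hpt : p.base x₁ = p.base x₂ := by
    rw [comp_quot_eq, comp_quot_eq] at h
    have := (Y.SpecToEquivOfField K).symm.injective h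
    exact congrArg Sigma.fst this
  obtain ⟨σ₀, e₀⟩ := orbit ρ p hp x₁ x₂ hpt
  have hfix₀ := fromSpec_fix (ρ σ₀).hom x₁ x₂ e₀
  set l₁' : X.residueField x₂ ⟶ .of K :=
    ((X.residueFieldCongr e₀).inv ≫ (ρ σ₀).hom.residueFieldMap x₁) ≫ l₁ with hl₁'
  have hc₁ : (Spec.map l₁ ≫ X.fromSpecResidueField x₁) ≫ (ρ σ₀).hom =
      Spec.map l₁' ≫ X.fromSpecResidueField x₂ := by
    rw [hl₁', Spec.map_comp, Category.assoc, Category.assoc, hfix₀]
  have h2 : (Spec.map l₁' ≫ X.fromSpecResidueField x₂) ≫ p =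
      (Spec.map l₂ ≫ X.fromSpecResidueField x₂) ≫ p := by
    rw [← hc₁, Category.assoc, hp.inv σ₀]
    exact h
  have h3 : p.residueFieldMap x₂ ≫ l₁' = p.residueFieldMap x₂ ≫ l₂ := by
    rw [comp_quot_eq, comp_quot_eq] at h2
    have := (Y.SpecToEquivOfField K).symm.injective h2
    rw [Sigma.mk.inj_iff] at this
    exact eq_of_heq this.2
  obtain ⟨σ₁, e₁, hσ₁⟩ := geom_transitive_aux ρ p hp K x₂ l₁' l₂ h3
  have hfix₁ := fromSpec_fix (ρ σ₁).hom x₂ x₂ e₁
  refine ⟨σ₁ * σ₀, ?_⟩
  have hmul : (ρ (σ₁ * σ₀)).hom = (ρ σ₀).hom ≫ (ρ σ₁).hom := by rw [map_mul]; rfl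
  rw [hmul, ← Category.assoc, hc₁, hσ₁, Spec.map_comp, Category.assoc, Category.assoc, hfix₁]

end

section BaseChange

variable {X Y S S' Y' : Scheme.{u}} {G : Type u} [Group G] [Finite G]

theorem baseChange_comparison
    (ρ : G →* Aut X) (f : X ⟶ S) (q : X ⟶ Y) (h : Y ⟶ S) (hq : q ≫ h = f)
    (hquot : SGA1.IsQuot ρ q) (g : S' ⟶ S)
    (ρ' : G →* Aut (pullback f g))
    (hρ' : ∀ σ : G, (ρ' σ).hom ≫ pullback.fst f g = pullback.fst f g ≫ (ρ σ).hom ∧
      (ρ' σ).hom ≫ pullback.snd f g = pullback.snd f g)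
    (r : pullback f g ⟶ Y') (hr : SGA1.IsQuot ρ' r)
    (m : Y' ⟶ pullback h g)
    (hm : r ≫ m = pullback.map f g h g q (𝟙 S') (𝟙 S)
      ((Category.comp_id f).trans hq.symm) ((Category.comp_id g).trans (Category.id_comp g).symm)) :
    FlatMor.IsUnivHomeo m := by
  haveI : IsIntegralHom q := isIntegralHom ρ q hquot
  haveI : Surjective q := surjective ρ q hquot
  haveI : Surjective r := surjective ρ' r hr
  have hint : IsIntegralHom (pullback.map f g h g q (𝟙 S') (𝟙 S)
      ((Category.comp_id f).trans hq.symm)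
      ((Category.comp_id g).trans (Category.id_comp g).symm)) :=
    MorphismProperty.pullback_map (P := @IsIntegralHom) inferInstance inferInstance hq.symm
      (Category.id_comp g).symm
  have hsurj : Surjective (pullback.map f g h g q (𝟙 S') (𝟙 S)
      ((Category.comp_id f).trans hq.symm)
      ((Category.comp_id g).trans (Category.id_comp g).symm)) :=
    MorphismProperty.pullback_map (P := @Surjective) inferInstance inferInstance hq.symm
      (Category.id_comp g).symm
  rw [← hm] at hint hsurj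
  haveI : UniversallyClosed (r ≫ m) := inferInstance
  refine (Groth.Agent.Helper11.UH.isUnivHomeo_iff m).mpr
    ⟨UniversallyClosed.of_comp_surjective r m, ?_, Surjective.of_comp r m⟩
  apply universallyInjective_of_algClosed
  intro K _ _ a₁ a₂ ha
  obtain ⟨b₁, rfl⟩ := lift_geomPoint ρ' r hr K a₁
  obtain ⟨b₂, rfl⟩ := lift_geomPoint ρ' r hr K a₂
  change (b₁ ≫ r) ≫ m = (b₂ ≫ r) ≫ m at ha
  rw [Category.assoc, Category.assoc, hm] at ha
  have h1 := congrArg (fun t => t ≫ pullback.fst h g) ha
  have h2 := congrArg (fun t => t ≫ pullback.snd h g) ha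
  simp only [Category.assoc, pullback.lift_fst, pullback.lift_snd, Category.comp_id] at h1 h2
  obtain ⟨σ, hσ⟩ := geom_transitive ρ q hquot K (b₁ ≫ pullback.fst f g) (b₂ ≫ pullback.fst f g)
    (by rw [Category.assoc, Category.assoc]; exact h1)
  have hb : b₂ = b₁ ≫ (ρ' σ).hom := by
    apply pullback.hom_ext
    · rw [Category.assoc, (hρ' σ).1, ← Category.assoc]
      exact hσ
    · rw [Category.assoc, (hρ' σ).2]
      exact h2.symm
  show b₁ ≫ r = b₂ ≫ r
  rw [hb, Category.assoc, hr.inv σ]

end BaseChange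

end Groth.Agent.Helper19.QuotGeom
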