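import Mathlib
import Groth.Agent.Lib.Helper21.GQuot10

/-!
Quotient of a stable locally closed subscheme by a finite group: `W/G → X/G` is universally
injective with image `π(W)`.
-/

open AlgebraicGeometry CategoryTheory Limits

universe u

namespace Groth.Agent.Helper19.QuotRad

open Groth.Agent.Helper21.GQuot Groth.Agent.Helper21.GQuot9 Groth.Agent.Helper21.GQuot10

/-- Field lemma: if `L/K` is normal and every `K`-automorphism of `L` fixes the intermediate field
`M` pointwise, then `M/K` is purely inseparable. -/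
theorem isPurelyInseparable_of_aut_fix (K M L : Type*) [Field K] [Field M] [Field L]
    [Algebra K M] [Algebra M L] [Algebra K L] [IsScalarTower K M L] [Normal K L]
    (h : ∀ (τ : L ≃ₐ[K] L) (m : M), τ (algebraMap M L m) = algebraMap M L m) :
    IsPurelyInseparable K M := by
  classical
  rw [isPurelyInseparable_iff]
  intro m
  have hy : IsIntegral K (algebraMap M L m) := Normal.isIntegral ‹_› _
  have hint : IsIntegral K m :=
    (isIntegral_algebraMap_iff (algebraMap M L).injective).mp hy
  refine ⟨hint, fun hsep => ?_⟩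
  have hmp : minpoly K (algebraMap M L m) = minpoly K m :=
    minpoly.algebraMap_eq (algebraMap M L).injective m
  have hsplit : ((minpoly K m).map (algebraMap K L)).Splits := by
    rw [← hmp]; exact Normal.splits ‹_› _
  have hroots : ∀ r ∈ ((minpoly K m).map (algebraMap K L)).roots, r = algebraMap M L m := by
    intro r hr
    have hr' : Polynomial.aeval r (minpoly K m) = 0 := by
      rw [Polynomial.mem_roots (Polynomial.map_ne_zero (minpoly.ne_zero hint))] at hr
      rw [Polynomial.aeval_def, Polynomial.eval₂_eq_eval_map]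
      exact hr
    have h1 : minpoly K m = minpoly K r :=
      minpoly.eq_of_irreducible_of_monic (minpoly.irreducible hint) hr' (minpoly.monic hint)
    have h2 : minpoly K r = minpoly K (algebraMap M L m) := by rw [← h1, hmp]
    obtain ⟨τ, hτ⟩ := (Normal.minpoly_eq_iff_mem_orbit L).mp h2
    rw [← hτ]
    exact h τ m
  have hsepL : ((minpoly K m).map (algebraMap K L)).Separable := Polynomial.Separable.map hsep
  have hnodup := Polynomial.nodup_roots hsepL
  have hle : ((minpoly K m).map (algebraMap K L)).roots ≤ {algebraMap M L m} := by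
    rw [Multiset.le_iff_subset hnodup]
    intro r hr
    rw [Multiset.mem_singleton]
    exact hroots r hr
  have hcard : ((minpoly K m).map (algebraMap K L)).roots.card ≤ 1 := by
    have := Multiset.card_le_card hle
    simpa using this
  have hdeg : (minpoly K m).natDegree = 1 := by
    have h3 := hsplit.natDegree_eq_card_roots
    rw [Polynomial.natDegree_map] at h3
    have h4 := minpoly.natDegree_pos hint
    omega
  exact minpoly.natDegree_eq_one_iff.mp hdeg

/-- Ring-hom form of `isPurelyInseparable_of_aut_fix`. -/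
theorem ringHom_isPurelyInseparable {K' K M L' : Type*} [Field K'] [Field K] [Field M] [Field L']
    (c : K' →+* K) (a : K →+* M) (b' : M →+* L') (d : K' →+* L')
    (hcomm : (b'.comp a).comp c = d)
    (hnorm : letI := d.toAlgebra; Normal K' L')
    (hfix : ∀ τ : L' ≃+* L', (∀ k, τ (d k) = d k) → ∀ m, τ (b' m) = b' m) :
    a.IsPurelyInseparable := by
  letI i1 : Algebra K' L' := d.toAlgebra
  letI i2 : Algebra K' K := c.toAlgebra
  letI i3 : Algebra K M := a.toAlgebra
  letI i4 : Algebra K' M := (a.comp c).toAlgebra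
  letI i5 : Algebra M L' := b'.toAlgebra
  haveI : IsScalarTower K' K M := IsScalarTower.of_algebraMap_eq (fun x => rfl)
  haveI : IsScalarTower K' M L' :=
    IsScalarTower.of_algebraMap_eq (fun x => by
      show d x = b' (a (c x))
      rw [← hcomm]; rfl)
  haveI : Normal K' L' := hnorm
  haveI : IsPurelyInseparable K' M :=
    isPurelyInseparable_of_aut_fix K' M L'
      (fun τ m => hfix τ.toRingEquiv (fun k => τ.commutes k) m)
  exact IsPurelyInseparable.tower_top K' K M

theorem residueFieldMap_bijective {X Y : Scheme.{u}} (f : X ⟶ Y) [IsPreimmersion f] (x : X) :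
    Function.Bijective (f.residueFieldMap x).hom := by
  refine ⟨(f.residueFieldMap x).hom.injective, ?_⟩
  have h := Scheme.residue_residueFieldMap f x
  have hs : Function.Surjective (f.stalkMap x ≫ X.residue x).hom :=
    (X.residue_surjective x).comp (f.stalkMap_surjective x)
  rw [← h] at hs
  intro z
  obtain ⟨t, ht⟩ := hs z
  exact ⟨(Y.residue (f x)).hom t, ht⟩

theorem res_congr_aux {W XG : Scheme.{u}} (f g : W ⟶ XG) (h : f = g) (w : W)
    (hpt : g.base w = f.base w) :
    (XG.residueFieldCongr hpt).hom ≫ f.residueFieldMap w = g.residueFieldMap w := by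
  subst h
  simp

theorem res_sq {W WG X XG : Scheme.{u}} (pW : W ⟶ WG) (φ : WG ⟶ XG) (j : W ⟶ X) (p : X ⟶ XG)
    (hφ : pW ≫ φ = j ≫ p) (w : W) (hpt : p.base (j.base w) = φ.base (pW.base w)) :
    (XG.residueFieldCongr hpt).hom ≫ φ.residueFieldMap (pW.base w) ≫ pW.residueFieldMap w =
      p.residueFieldMap (j.base w) ≫ j.residueFieldMap w := by
  have := res_congr_aux (pW ≫ φ) (j ≫ p) hφ w hpt
  rw [Scheme.residueFieldMap_comp, Scheme.residueFieldMap_comp] at this
  exact this

theorem res_equivariant {W X : Scheme.{u}} (f : X ⟶ X) (fW : W ⟶ W) (j : W ⟶ X)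
    (h : fW ≫ j = j ≫ f) (w w' : W) (hgw : fW.base w = w')
    (hgx : f.base (j.base w) = j.base w') :
    (X.residueFieldCongr hgx).inv ≫ f.residueFieldMap (j.base w) ≫ j.residueFieldMap w =
      j.residueFieldMap w' ≫ (W.residueFieldCongr hgw).inv ≫ fW.residueFieldMap w := by
  subst hgw
  rw [← Scheme.residueFieldMap_comp, Scheme.residueFieldCongr_refl]
  simp only [Iso.refl_inv, Category.id_comp]
  rw [← Scheme.residueFieldMap_comp, Scheme.Hom.residueFieldMap_congr h w]
  simp

section

variable {G : Type u} [Group G] [Finite G] {X XG W WG : Scheme.{u}}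

theorem pt_eq (p : X ⟶ XG) (j : W ⟶ X) (pW : W ⟶ WG) (φ : WG ⟶ XG) (hφ : pW ≫ φ = j ≫ p)
    (w : W) : p.base (j.base w) = φ.base (pW.base w) := by
  have := congrArg (fun f : W ⟶ XG => f.base w) hφ
  exact this.symm

theorem fix_of_fix (ρ : G →* Aut X) (j : W ⟶ X) [IsImmersion j] (ρW : G →* Aut W)
    (hρW : ∀ g, (ρW g).hom ≫ j = j ≫ (ρ g).hom) (g : G) (w : W)
    (hgx : (ρ g).hom.base (j.base w) = j.base w) : (ρW g).hom.base w = w := by
  apply j.isEmbedding.injective
  have := congrArg (fun f : W ⟶ X => f.base w) (hρW g)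
  exact this.trans hgx

theorem purelyInseparable (ρ : G →* Aut X) (p : X ⟶ XG) (hP : SGA1.IsQuot ρ p) (j : W ⟶ X)
    [IsImmersion j] (ρW : G →* Aut W)
    (hρW : ∀ g, (ρW g).hom ≫ j = j ≫ (ρ g).hom) (pW : W ⟶ WG) (hPW : SGA1.IsQuot ρW pW)
    (φ : WG ⟶ XG) (hφ : pW ≫ φ = j ≫ p) (w : W) :
    (φ.residueFieldMap (pW.base w)).hom.IsPurelyInseparable := by
  have hpt := pt_eq p j pW φ hφ w
  have he := residueFieldMap_bijective j w
  let eq : X.residueField (j.base w) ≃+* W.residueField w := RingEquiv.ofBijective _ he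
  have heq : ∀ l, eq l = (j.residueFieldMap w).hom l := fun l => rfl
  refine ringHom_isPurelyInseparable (XG.residueFieldCongr hpt).hom.hom
    (φ.residueFieldMap (pW.base w)).hom
    ((eq.symm : W.residueField w →+* X.residueField (j.base w)).comp (pW.residueFieldMap w).hom)
    (p.residueFieldMap (j.base w)).hom ?_ (stab ρ p hP (j.base w)).1 ?_
  · ext k
    apply eq.injective
    have h1 := congrArg (fun m => m.hom k) (res_sq pW φ j p hφ w hpt)
    simp only [RingHom.comp_apply]
    show eq (eq.symm _) = _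
    rw [RingEquiv.apply_symm_apply, heq]
    exact h1
  · intro τ hτ m
    have hτ' : p.residueFieldMap (j.base w) ≫ τ.toCommRingCatIso.hom =
        p.residueFieldMap (j.base w) := by
      ext k
      exact hτ k
    obtain ⟨g, hgx, hg⟩ := (stab ρ p hP (j.base w)).2 τ.toCommRingCatIso hτ'
    have hgw := fix_of_fix ρ j ρW hρW g w hgx
    have h2 := res_equivariant (ρ g).hom (ρW g).hom j (hρW g) w w hgw hgx
    have h3 := resMap_fix (ρW g).hom pW pW (hPW.inv g) w w hgw
    apply eq.injective
    simp only [RingHom.comp_apply]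
    show eq (τ (eq.symm _)) = eq (eq.symm _)
    rw [RingEquiv.apply_symm_apply, heq]
    have h4 : (j.residueFieldMap w).hom (τ (eq.symm ((pW.residueFieldMap w).hom m))) =
        (τ.toCommRingCatIso.hom ≫ j.residueFieldMap w).hom
          (eq.symm ((pW.residueFieldMap w).hom m)) := rfl
    rw [h4, hg, Category.assoc, h2]
    show ((W.residueFieldCongr hgw).inv ≫ (ρW g).hom.residueFieldMap w).hom
      ((j.residueFieldMap w).hom (eq.symm ((pW.residueFieldMap w).hom m))) = _
    rw [← heq, RingEquiv.apply_symm_apply]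
    have h5 := congrArg (fun f => f.hom m) h3
    simp only [Scheme.residueFieldCongr_refl, Iso.refl_hom, Category.id_comp] at h5
    exact h5

theorem main (ρ : G →* Aut X) (p : X ⟶ XG) (hP : SGA1.IsQuot ρ p) (j : W ⟶ X)
    [IsImmersion j] (ρW : G →* Aut W)
    (hρW : ∀ g, (ρW g).hom ≫ j = j ≫ (ρ g).hom) (pW : W ⟶ WG) (hPW : SGA1.IsQuot ρW pW)
    (φ : WG ⟶ XG) (hφ : pW ≫ φ = j ≫ p) :
    UniversallyInjective φ ∧ Set.range φ.base = p.base '' Set.range j.base := by
  have hs : Function.Surjective pW.base := (surjective ρW pW hPW).surj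
  constructor
  · have hiff : UniversallyInjective φ ↔ (Function.Injective φ.base ∧
        ∀ x, (φ.residueFieldMap x).hom.IsPurelyInseparable) :=
      (tfae_universallyInjective φ).out 0 2
    refine hiff.mpr ⟨?_, ?_⟩
    · intro y₁ y₂ h
      obtain ⟨w₁, rfl⟩ := hs y₁
      obtain ⟨w₂, rfl⟩ := hs y₂
      have h1 : p.base (j.base w₁) = p.base (j.base w₂) := by
        rw [pt_eq p j pW φ hφ w₁, pt_eq p j pW φ hφ w₂]
        exact h
      obtain ⟨g, hg⟩ := orbit ρ p hP _ _ h1
      have h2 : (ρW g).hom.base w₁ = w₂ := by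
        apply j.isEmbedding.injective
        have := congrArg (fun f : W ⟶ X => f.base w₁) (hρW g)
        exact this.trans hg
      rw [← h2]
      have := congrArg (fun f : W ⟶ WG => f.base w₁) (hPW.inv g)
      exact this.symm
    · intro y
      obtain ⟨w, rfl⟩ := hs y
      exact purelyInseparable ρ p hP j ρW hρW pW hPW φ hφ w
  · ext z
    constructor
    · rintro ⟨y, rfl⟩
      obtain ⟨w, rfl⟩ := hs y
      exact ⟨j.base w, ⟨w, rfl⟩, pt_eq p j pW φ hφ w⟩
    · rintro ⟨_, ⟨w, rfl⟩, rfl⟩
      exact ⟨pW.base w, (pt_eq p j pW φ hφ w).symm⟩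

end

end Groth.Agent.Helper19.QuotRad
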