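import Mathlib
import Groth.Agent.Lib.Helper19.QuotRad
import Groth.Agent.Lib.Helper11.UnivHomeo
import Groth.Agent.Lib.Helper18.KerToImage

/-!
Quotient of a stable closed subscheme: `Z/G → q(Z)` (scheme-theoretic image) is a schematically
dominant universal homeomorphism.
-/

open AlgebraicGeometry CategoryTheory Limits

universe u

namespace Groth.Agent.Helper19.QuotRad2

open Groth.Agent.Helper21.GQuot Groth.Agent.Helper19.QuotRad Groth.Agent.Helper11.UH

theorem std_of_comp {A B C : Scheme.{u}} (f : A ⟶ B) (g : B ⟶ C)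
    [IsSchemeTheoreticallyDominant (f ≫ g)] : IsSchemeTheoreticallyDominant g := by
  rw [isSchemeTheoreticallyDominant_iff]
  have h1 : (f ≫ g).ker = ⊥ := Scheme.Hom.ker_eq_bot (f ≫ g)
  rw [Scheme.Hom.ker_comp] at h1
  have h2 : (⊥ : B.IdealSheafData).map g ≤ f.ker.map g :=
    Scheme.IdealSheafData.map_mono g bot_le
  rw [Scheme.IdealSheafData.map_bot, h1] at h2
  exact le_bot_iff.mp h2

theorem main {X Y Z W : Scheme.{u}} {G : Type u} [Group G] [Finite G]
    (ρ : G →* Aut X) (q : X ⟶ Y) (hquot : SGA1.IsQuot ρ q)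
    (i : Z ⟶ X) [IsClosedImmersion i] (ρZ : G →* Aut Z)
    (hρZ : ∀ σ : G, (ρZ σ).hom ≫ i = i ≫ (ρ σ).hom)
    (r : Z ⟶ W) (hr : SGA1.IsQuot ρZ r)
    (m : W ⟶ (i ≫ q).ker.subscheme) (hm : r ≫ m ≫ (i ≫ q).ker.subschemeι = i ≫ q) :
    FlatMor.IsUnivHomeo m ∧ IsSchemeTheoreticallyDominant m := by
  haveI : IsIntegralHom q := isIntegralHom ρ q hquot
  haveI : Surjective r := surjective ρZ r hr
  obtain ⟨huinj, hrange⟩ := QuotRad.main ρ q hquot i ρZ hρZ r hr (m ≫ (i ≫ q).ker.subschemeι) hm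
  haveI : UniversallyClosed (i ≫ q) := inferInstance
  haveI : UniversallyClosed (r ≫ (m ≫ (i ≫ q).ker.subschemeι)) := by rw [hm]; infer_instance
  haveI : UniversallyClosed (m ≫ (i ≫ q).ker.subschemeι) :=
    UniversallyClosed.of_comp_surjective r (m ≫ (i ≫ q).ker.subschemeι)
  haveI : UniversallyClosed m := UniversallyClosed.of_comp_of_isSeparated m (i ≫ q).ker.subschemeι
  have hinj : UniversallyInjective m := by
    have h1 : ∀ (K : Type u) [Field K], Function.Injective
        (fun g : Spec (.of K) ⟶ W ↦ g ≫ m ≫ (i ≫ q).ker.subschemeι) :=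
      ((tfae_universallyInjective (m ≫ (i ≫ q).ker.subschemeι)).out 0 1).mp huinj
    have h2 : UniversallyInjective m ↔ ∀ (K : Type u) [Field K], Function.Injective
        (fun g : Spec (.of K) ⟶ W ↦ g ≫ m) := (tfae_universallyInjective m).out 0 1
    refine h2.mpr ?_
    intro K _ g₁ g₂ hg
    apply h1 K
    show g₁ ≫ m ≫ (i ≫ q).ker.subschemeι = g₂ ≫ m ≫ (i ≫ q).ker.subschemeι
    rw [← Category.assoc, ← Category.assoc]
    exact congrArg (· ≫ (i ≫ q).ker.subschemeι) hg
  have hsurj : Surjective m := by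
    constructor
    intro z
    have hcl : IsClosed (Set.range (i ≫ q).base) := (i ≫ q).isClosedMap.isClosed_range
    have h1 : Set.range (i ≫ q).ker.subschemeι.base = Set.range (i ≫ q).base := by
      have := Scheme.IdealSheafData.range_subschemeι (i ≫ q).ker
      rw [Scheme.Hom.support_ker, hcl.closure_eq] at this
      exact this
    have h2 : (i ≫ q).ker.subschemeι.base z ∈ Set.range (i ≫ q).base := by
      rw [← h1]; exact ⟨z, rfl⟩
    obtain ⟨t, ht⟩ := h2
    refine ⟨r.base t, ?_⟩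
    apply (i ≫ q).ker.subschemeι.isEmbedding.injective
    rw [← ht]
    have := congrArg (fun f : Z ⟶ Y => f.base t) hm
    exact this
  refine ⟨(isUnivHomeo_iff m).mpr ⟨inferInstance, hinj, hsurj⟩, ?_⟩
  have h3 : r ≫ m = (i ≫ q).toImage := by
    rw [← cancel_mono (i ≫ q).imageι, Scheme.Hom.toImage_imageι, Category.assoc]
    exact hm
  haveI : IsSchemeTheoreticallyDominant (r ≫ m) := by
    rw [h3]; infer_instance
  exact std_of_comp r m

end Groth.Agent.Helper19.QuotRad2
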