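import Groth.Statements.S19036

set_option autoImplicit false
universe u
open CategoryTheory AlgebraicGeometry

namespace Groth.Agent.Lib.Helper19.RZ

variable {K : Type u} [Field K]

/-- `χ : K → Bool` is the indicator of a valuation subring containing `T`. -/
def IsVal (T : Set K) (χ : K → Bool) : Prop :=
  χ 0 = true ∧ χ 1 = true ∧ (∀ a b, χ a = true → χ b = true → χ (a + b) = true) ∧
  (∀ a b, χ a = true → χ b = true → χ (a * b) = true) ∧ (∀ a, χ a = true → χ (-a) = true) ∧
  (∀ a, χ a = true ∨ χ a⁻¹ = true) ∧ ∀ t ∈ T, χ t = true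

lemma isClosed_eval (a : K) (b : Bool) : IsClosed {χ : K → Bool | χ a = b} := by
  have hc : Continuous (fun χ : K → Bool => χ a) := continuous_apply a
  exact (isClosed_discrete ({b} : Set Bool)).preimage hc

lemma isOpen_eval (a : K) (b : Bool) : IsOpen {χ : K → Bool | χ a = b} := by
  have hc : Continuous (fun χ : K → Bool => χ a) := continuous_apply a
  exact (isOpen_discrete ({b} : Set Bool)).preimage hc

lemma isClosed_imp2 (a b c : K) :
    IsClosed {χ : K → Bool | χ a = true → χ b = true → χ c = true} := by
  have : {χ : K → Bool | χ a = true → χ b = true → χ c = true} =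
      {χ | χ a = false} ∪ ({χ | χ b = false} ∪ {χ | χ c = true}) := by
    ext χ
    simp only [Set.mem_ofPred_eq, Set.mem_union]
    cases χ a <;> cases χ b <;> cases χ c <;> simp
  rw [this]
  exact (isClosed_eval a false).union ((isClosed_eval b false).union (isClosed_eval c true))

lemma isClosed_imp1 (a c : K) :
    IsClosed {χ : K → Bool | χ a = true → χ c = true} := by
  have : {χ : K → Bool | χ a = true → χ c = true} = {χ | χ a = false} ∪ {χ | χ c = true} := by
    ext χ
    simp only [Set.mem_ofPred_eq, Set.mem_union]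
    cases χ a <;> cases χ c <;> simp
  rw [this]
  exact (isClosed_eval a false).union (isClosed_eval c true)

lemma isClosed_setOf_isVal (T : Set K) : IsClosed {χ : K → Bool | IsVal T χ} := by
  simp only [IsVal, Set.ofPred_and, Set.ofPred_forall]
  refine (isClosed_eval 0 true).inter ((isClosed_eval 1 true).inter ?_)
  refine (isClosed_iInter fun a => isClosed_iInter fun b => isClosed_imp2 a b (a + b)).inter ?_
  refine (isClosed_iInter fun a => isClosed_iInter fun b => isClosed_imp2 a b (a * b)).inter ?_
  refine (isClosed_iInter fun a => isClosed_imp1 a (-a)).inter ?_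
  refine (isClosed_iInter fun a => (isClosed_eval a true).union (isClosed_eval a⁻¹ true)).inter ?_
  exact isClosed_iInter fun t => isClosed_iInter fun _ => isClosed_eval t true

lemma isCompact_setOf_isVal (T : Set K) : IsCompact {χ : K → Bool | IsVal T χ} :=
  (isClosed_setOf_isVal T).isCompact

/-- The valuation subring attached to an indicator. -/
def toVS {T : Set K} (χ : K → Bool) (h : IsVal T χ) : ValuationSubring K where
  carrier := {a | χ a = true}
  mul_mem' := fun {a b} ha hb => h.2.2.2.1 a b ha hb
  one_mem' := h.2.1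
  add_mem' := fun {a b} ha hb => h.2.2.1 a b ha hb
  zero_mem' := h.1
  neg_mem' := fun {a} ha => h.2.2.2.2.1 a ha
  mem_or_inv_mem' := h.2.2.2.2.2.1

lemma mem_toVS {T : Set K} (χ : K → Bool) (h : IsVal T χ) (a : K) :
    a ∈ toVS χ h ↔ χ a = true := Iff.rfl

lemma subset_toVS {T : Set K} (χ : K → Bool) (h : IsVal T χ) : T ⊆ (toVS χ h : Set K) :=
  fun t ht => h.2.2.2.2.2.2 t ht

open Classical in
/-- The indicator of a valuation subring. -/
noncomputable def ind (R : ValuationSubring K) : K → Bool := fun a => decide (a ∈ R)

lemma ind_eq_true (R : ValuationSubring K) (a : K) : ind R a = true ↔ a ∈ R := by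
  simp [ind]

lemma isVal_ind (R : ValuationSubring K) (T : Set K) (hT : T ⊆ (R : Set K)) : IsVal T (ind R) := by
  simp only [IsVal, ind_eq_true]
  exact ⟨R.zero_mem, R.one_mem, fun a b => R.add_mem a b, fun a b => R.mul_mem a b,
    fun a => R.neg_mem a, R.mem_or_inv_mem, fun t ht => hT ht⟩

end Groth.Agent.Lib.Helper19.RZ
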