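import Groth.Agent.Lib.Helper19.RZ
import Groth.Agent.Lib.Helper19.ValEx3

set_option autoImplicit false
universe u
open CategoryTheory AlgebraicGeometry IsLocalRing

namespace Groth.Agent.Lib.Helper19.RZ2

open Groth.Agent.Lib.Helper19.RZ

section ev

variable {R : Type u} [CommRing R] [IsLocalRing R]

lemma apply_mem_of_closedPoint_mem {T : Scheme.{u}} (h : Spec (CommRingCat.of R) ⟶ T) (W : T.Opens)
    (hW : h (closedPoint R) ∈ W) (x : Spec (CommRingCat.of R)) : h x ∈ W := by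
  have h1 : closedPoint R ∈ h ⁻¹ᵁ W := hW
  have : x ∈ h ⁻¹ᵁ W := (IsLocalRing.specializes_closedPoint x).mem_open (h ⁻¹ᵁ W).2 h1
  exact this

lemma top_le_preimage {T : Scheme.{u}} (h : Spec (CommRingCat.of R) ⟶ T) (W : T.Opens)
    (hW : h (closedPoint R) ∈ W) : (⊤ : (Spec (CommRingCat.of R)).Opens) ≤ h ⁻¹ᵁ W :=
  fun x _ => apply_mem_of_closedPoint_mem h W hW x

/-- evaluation of sections at an `R`-point, `R` local -/
noncomputable def ev {T : Scheme.{u}} (h : Spec (CommRingCat.of R) ⟶ T) (W : T.Opens)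
    (hW : h (closedPoint R) ∈ W) : Γ(T, W) ⟶ CommRingCat.of R :=
  h.appLE W ⊤ (top_le_preimage h W hW) ≫ (Scheme.ΓSpecIso (CommRingCat.of R)).hom

lemma SpecMap_ev_fromSpec {T : Scheme.{u}} (h : Spec (CommRingCat.of R) ⟶ T) (W : T.Opens)
    (hW : h (closedPoint R) ∈ W) (hWa : IsAffineOpen W) :
    Spec.map (ev h W hW) ≫ hWa.fromSpec = h := by
  rw [ev, Spec.map_comp, Category.assoc,
    IsAffineOpen.SpecMap_appLE_fromSpec h hWa (isAffineOpen_top _) (top_le_preimage h W hW),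
    IsAffineOpen.fromSpec_top, Scheme.isoSpec_Spec_inv, ← Category.assoc, ← Spec.map_comp]
  simp

lemma ev_comp {T T' : Scheme.{u}} (h : Spec (CommRingCat.of R) ⟶ T) (f : T ⟶ T')
    (W : T.Opens) (W' : T'.Opens) (e : W ≤ f ⁻¹ᵁ W')
    (hW : h (closedPoint R) ∈ W) (hW' : (h ≫ f) (closedPoint R) ∈ W') :
    f.appLE W' W e ≫ ev h W hW = ev (h ≫ f) W' hW' := by
  simp only [ev, ← Category.assoc]
  congr 1
  rw [Scheme.Hom.appLE_comp_appLE]

lemma ev_SpecMap {R' : Type u} [CommRing R'] [IsLocalRing R']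
    (φ : CommRingCat.of R ⟶ CommRingCat.of R') {T : Scheme.{u}}
    (ℓ : Spec (CommRingCat.of R) ⟶ T) (W : T.Opens) (hW : ℓ (closedPoint R) ∈ W)
    (hW' : (Spec.map φ ≫ ℓ) (closedPoint R') ∈ W) :
    ev (Spec.map φ ≫ ℓ) W hW' = ev ℓ W hW ≫ φ := by
  simp only [ev, Category.assoc]
  rw [← Scheme.ΓSpecIso_naturality, ← Category.assoc]
  congr 1

end ev

section core

variable {L : Type u} [Field L]

/-- restriction of a ring map with image in `R` -/
noncomputable def cod {A : CommRingCat.{u}} (R : ValuationSubring L) (φ : A ⟶ CommRingCat.of L)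
    (h : ∀ a, φ.hom a ∈ R) : A ⟶ CommRingCat.of R :=
  CommRingCat.ofHom (φ.hom.codRestrict R h)

lemma cod_comp {A : CommRingCat.{u}} (R : ValuationSubring L) (φ : A ⟶ CommRingCat.of L)
    (h : ∀ a, φ.hom a ∈ R) : cod R φ h ≫ CommRingCat.ofHom R.subtype = φ := by
  ext a; rfl

lemma eq_cod {A : CommRingCat.{u}} (R : ValuationSubring L) (φ : A ⟶ CommRingCat.of L)
    (h : ∀ a, φ.hom a ∈ R) (ψ : A ⟶ CommRingCat.of R)
    (hψ : ψ ≫ CommRingCat.ofHom R.subtype = φ) : ψ = cod R φ h := by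
  ext a
  have := congr($hψ a)
  exact this

lemma ev_mem {T : Scheme.{u}} (R : ValuationSubring L) (ℓ : Spec (CommRingCat.of R) ⟶ T)
    (h : Spec (CommRingCat.of L) ⟶ T) (hℓ : Spec.map (CommRingCat.ofHom R.subtype) ≫ ℓ = h)
    (W : T.Opens) (hW : ℓ (closedPoint R) ∈ W) (hW' : h (closedPoint L) ∈ W) (a : Γ(T, W)) :
    (ev h W hW').hom a ∈ R := by
  subst hℓ
  rw [ev_SpecMap (CommRingCat.ofHom R.subtype) ℓ W hW hW']
  exact ((ev ℓ W hW).hom a).2

variable {X Y : Scheme.{u}} (f : X ⟶ Y)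
  (g : Spec (CommRingCat.of L) ⟶ X) (V : Y.Opens) (hV : IsAffineOpen V)
  (hgV : (g ≫ f) (closedPoint L) ∈ V)

/-- the bottom map of the valuative square attached to `R ⊇ β(Γ(Y,V))` -/
noncomputable def i₂ (R : ValuationSubring L) (hR : ∀ a, (ev (g ≫ f) V hgV).hom a ∈ R) :
    Spec (CommRingCat.of R) ⟶ Y :=
  Spec.map (cod R (ev (g ≫ f) V hgV) hR) ≫ hV.fromSpec

lemma comm (R : ValuationSubring L) (hR : ∀ a, (ev (g ≫ f) V hgV).hom a ∈ R) :
    Spec.map (CommRingCat.ofHom R.subtype) ≫ i₂ f g V hV hgV R hR = g ≫ f := by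
  rw [i₂, ← Category.assoc, ← Spec.map_comp, cod_comp, SpecMap_ev_fromSpec]

lemma i₂_closedPoint_mem (R : ValuationSubring L) (hR : ∀ a, (ev (g ≫ f) V hgV).hom a ∈ R) :
    (i₂ f g V hV hgV R hR) (closedPoint R) ∈ V := by
  have : (i₂ f g V hV hgV R hR) (closedPoint R) ∈ Set.range hV.fromSpec := by
    rw [i₂, Scheme.Hom.comp_apply]
    exact ⟨_, rfl⟩
  rw [hV.range_fromSpec] at this
  exact this

/-- the valuative square attached to `R` -/
noncomputable def sq (R : ValuationSubring L) (hR : ∀ a, (ev (g ≫ f) V hgV).hom a ∈ R) :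
    ValuativeCommSq f :=
  { R := R, K := L, i₁ := g, i₂ := i₂ f g V hV hgV R hR, commSq := ⟨(comm f g V hV hgV R hR).symm⟩ }

/-- a lift landing (at the closed point) in an affine open `U` is determined: converse direction -/
lemma center_mem (hu : ValuativeCriterion.Uniqueness f)
    (R : ValuationSubring L) (hR : ∀ a, (ev (g ≫ f) V hgV).hom a ∈ R)
    (U : X.Opens) (hU : IsAffineOpen U) (hUV : U ≤ f ⁻¹ᵁ V) (hgU : g (closedPoint L) ∈ U)
    (hUR : ∀ a, (ev g U hgU).hom a ∈ R)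
    (ℓ : Spec (CommRingCat.of R) ⟶ X) (h1 : Spec.map (CommRingCat.ofHom R.subtype) ≫ ℓ = g)
    (h2 : ℓ ≫ f = i₂ f g V hV hgV R hR) : ℓ (closedPoint R) ∈ U := by
  let b : Spec (CommRingCat.of R) ⟶ X := Spec.map (cod R (ev g U hgU) hUR) ≫ hU.fromSpec
  have hb1 : Spec.map (CommRingCat.ofHom R.subtype) ≫ b = g := by
    rw [← Category.assoc, ← Spec.map_comp, cod_comp, SpecMap_ev_fromSpec]
  have hb2 : b ≫ f = i₂ f g V hV hgV R hR := by
    simp only [b, i₂, Category.assoc]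
    rw [← IsAffineOpen.SpecMap_appLE_fromSpec f hV hU hUV, ← Category.assoc, ← Spec.map_comp]
    congr 2
    apply eq_cod
    rw [Category.assoc, cod_comp, ev_comp]
  have hsub := hu (sq f g V hV hgV R hR)
  have : (⟨ℓ, h1, h2⟩ : (sq f g V hV hgV R hR).commSq.LiftStruct) = ⟨b, hb1, hb2⟩ :=
    Subsingleton.elim _ _
  have hℓb : ℓ = b := congrArg CommSq.LiftStruct.l this
  rw [hℓb]
  have : b (closedPoint R) ∈ Set.range hU.fromSpec := by
    simp only [b, Scheme.Hom.comp_apply]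
    exact ⟨_, rfl⟩
  rw [hU.range_fromSpec] at this
  exact this

lemma ev_congr {R : Type u} [CommRing R] [IsLocalRing R] {T : Scheme.{u}}
    {h h' : Spec (CommRingCat.of R) ⟶ T} (e : h = h') (W : T.Opens)
    (hW : h (closedPoint R) ∈ W) (hW' : h' (closedPoint R) ∈ W) : ev h W hW = ev h' W hW' := by
  subst e; rfl

/-- every specialization of `g(pt)` over `V` is the center of some `R`. -/
lemma exists_R (x : X) (hsp : g (closedPoint L) ⤳ x) (hxV : f x ∈ V) :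
    ∃ (R : ValuationSubring L) (hR : ∀ a, (ev (g ≫ f) V hgV).hom a ∈ R)
      (ℓ : Spec (CommRingCat.of R) ⟶ X),
      Spec.map (CommRingCat.ofHom R.subtype) ≫ ℓ = g ∧ ℓ ≫ f = i₂ f g V hV hgV R hR ∧
        ℓ (closedPoint R) = x := by
  obtain ⟨R, b, hbx, hbg⟩ :=
    Groth.Agent.Lib.Helper19.ValEx.exists_valuationSubring_of_specializes g x hsp
  have hW : (b ≫ f) (closedPoint R) ∈ V := by
    rw [Scheme.Hom.comp_apply, hbx]; exact hxV
  have hℓ : Spec.map (CommRingCat.ofHom R.subtype) ≫ (b ≫ f) = g ≫ f := by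
    rw [← Category.assoc, hbg]
  have hR : ∀ a, (ev (g ≫ f) V hgV).hom a ∈ R :=
    fun a => ev_mem R (b ≫ f) (g ≫ f) hℓ V hW hgV a
  refine ⟨R, hR, b, hbg, ?_, hbx⟩
  rw [i₂, ← SpecMap_ev_fromSpec (b ≫ f) V hW hV]
  congr 2
  apply eq_cod
  have hW' : (Spec.map (CommRingCat.ofHom R.subtype) ≫ (b ≫ f)) (closedPoint L) ∈ V := by
    rw [hℓ]; exact hgV
  rw [← ev_SpecMap (CommRingCat.ofHom R.subtype) (b ≫ f) V hW hW']
  exact ev_congr hℓ V hW' hgV

lemma mem_of_finiteType {A B : Type u} [CommRing A] [CommRing B] (φ : A →+* B)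
    (hφ : φ.FiniteType) : ∃ s : Finset B, ∀ (ψ : B →+* L) (R : ValuationSubring L),
      (∀ a, ψ (φ a) ∈ R) → (∀ b ∈ s, ψ b ∈ R) → ∀ b, ψ b ∈ R := by
  letI := φ.toAlgebra
  obtain ⟨s, hs⟩ := (show Algebra.FiniteType A B from hφ).out
  refine ⟨s, fun ψ R hA hs' b => ?_⟩
  have hb : b ∈ Algebra.adjoin A (s : Set B) := by rw [hs]; trivial
  induction hb using Algebra.adjoin_induction with
  | mem x hx => exact hs' x hx
  | algebraMap r => exact hA r
  | add x y _ _ hx hy => rw [map_add]; exact R.add_mem _ _ hx hy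
  | mul x y _ _ hx hy => rw [map_mul]; exact R.mul_mem _ _ hx hy

lemma local_data (hf : ValuativeCriterion f) [LocallyOfFiniteType f] (χ : L → Bool)
    (hχ : IsVal (Set.range (ev (g ≫ f) V hgV).hom) χ) :
    ∃ (U : X.Opens) (O : Set (L → Bool)), IsAffineOpen U ∧ U ≤ f ⁻¹ᵁ V ∧ IsOpen O ∧ χ ∈ O ∧
      ∀ (R : ValuationSubring L) (hR : ∀ a, (ev (g ≫ f) V hgV).hom a ∈ R), ind R ∈ O →
        ∀ ℓ : Spec (CommRingCat.of R) ⟶ X, Spec.map (CommRingCat.ofHom R.subtype) ≫ ℓ = g →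
          ℓ ≫ f = i₂ f g V hV hgV R hR → ℓ (closedPoint R) ∈ U := by
  let R₀ := toVS χ hχ
  have hR₀ : ∀ a, (ev (g ≫ f) V hgV).hom a ∈ R₀ := fun a => subset_toVS χ hχ ⟨a, rfl⟩
  obtain ⟨hU⟩ := hf (sq f g V hV hgV R₀ hR₀)
  let ℓ₀ : Spec (CommRingCat.of R₀) ⟶ X := hU.default.l
  have h1 : Spec.map (CommRingCat.ofHom R₀.subtype) ≫ ℓ₀ = g := hU.default.fac_left
  have h2 : ℓ₀ ≫ f = i₂ f g V hV hgV R₀ hR₀ := hU.default.fac_right
  have hx₀ : ℓ₀ (closedPoint R₀) ∈ f ⁻¹ᵁ V := by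
    show f (ℓ₀ (closedPoint R₀)) ∈ V
    rw [← Scheme.Hom.comp_apply, h2]
    exact i₂_closedPoint_mem f g V hV hgV R₀ hR₀
  obtain ⟨_, ⟨U, hUa, rfl⟩, hxU, hUV : U ≤ f ⁻¹ᵁ V⟩ :=
    X.isBasis_affineOpens.exists_subset_of_mem_open hx₀ (f ⁻¹ᵁ V).isOpen
  have hgU : g (closedPoint L) ∈ U := by
    rw [← h1, Scheme.Hom.comp_apply]
    exact apply_mem_of_closedPoint_mem ℓ₀ U hxU _
  obtain ⟨s, hs⟩ := mem_of_finiteType (L := L) (f.appLE V U hUV).hom
    (LocallyOfFiniteType.finiteType_appLE f hV hUa hUV)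
  refine ⟨U, ⋂ a ∈ s, {χ' | χ' ((ev g U hgU).hom a) = true}, hUa, hUV,
    isOpen_biInter_finset (fun a _ => isOpen_eval _ true), ?_, ?_⟩
  · simp only [Set.mem_iInter]
    intro a _
    exact (mem_toVS χ hχ _).1 (ev_mem R₀ ℓ₀ g h1 U hxU hgU a)
  · intro R hR hind ℓ hℓ1 hℓ2
    simp only [Set.mem_iInter] at hind
    have hsR : ∀ b ∈ s, (ev g U hgU).hom b ∈ R := fun b hb => (ind_eq_true R _).1 (hind b hb)
    have hA : ∀ a, (ev g U hgU).hom ((f.appLE V U hUV).hom a) ∈ R := by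
      intro a
      have := congr($(ev_comp g f U V hUV hgU hgV) a)
      rw [CommRingCat.comp_apply] at this
      rw [this]
      exact hR a
    have hall := hs (ev g U hgU).hom R hA hsR
    exact center_mem f g V hV hgV (ValuativeCriterion.iff.1 hf).2 R hR U hUa hUV hgU hall ℓ hℓ1 hℓ2

include hV in
theorem isCompact_closure_inter (hf : ValuativeCriterion f) [LocallyOfFiniteType f] :
    IsCompact (closure {g (closedPoint L)} ∩ (f ⁻¹ᵁ V : Set X)) := by
  by_cases hgV : (g ≫ f) (closedPoint L) ∈ V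
  swap
  · convert isCompact_empty
    rw [Set.eq_empty_iff_forall_notMem]
    rintro x ⟨hx1, hx2⟩
    have hsp : g (closedPoint L) ⤳ x := specializes_iff_mem_closure.2 hx1
    exact hgV (hsp.mem_open (f ⁻¹ᵁ V).isOpen hx2)
  let C : Set (L → Bool) := {χ | IsVal (Set.range (ev (g ≫ f) V hgV).hom) χ}
  have hC : IsCompact C := isCompact_setOf_isVal _
  choose U O hUa hUV hO hχO hcl using fun (χ : L → Bool) (hχ : χ ∈ C) =>
    local_data f g V hV hgV hf χ hχ
  obtain ⟨t, ht⟩ := hC.elim_nhds_subcover' O (fun χ hχ => (hO χ hχ).mem_nhds (hχO χ hχ))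
  have heq : closure {g (closedPoint L)} ∩ (f ⁻¹ᵁ V : Set X) =
      ⋃ χ ∈ t, (closure {g (closedPoint L)} ∩ (U χ.1 χ.2 : Set X)) := by
    ext x
    simp only [Set.mem_inter_iff, Set.mem_iUnion, exists_and_left, exists_prop]
    constructor
    · rintro ⟨hx1, hx2⟩
      refine ⟨hx1, ?_⟩
      have hsp : g (closedPoint L) ⤳ x := specializes_iff_mem_closure.2 hx1
      obtain ⟨R, hR, ℓ, hℓ1, hℓ2, hℓx⟩ := exists_R f g V hV hgV x hsp hx2
      have hRC : ind R ∈ C := isVal_ind R _ (by rintro _ ⟨a, rfl⟩; exact hR a)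
      have := ht hRC
      simp only [Set.mem_iUnion] at this
      obtain ⟨χ, hχt, hχ⟩ := this
      refine ⟨χ, hχt, ?_⟩
      rw [← hℓx]
      exact hcl χ.1 χ.2 R hR hχ ℓ hℓ1 hℓ2
    · rintro ⟨hx1, χ, _, hx2⟩
      exact ⟨hx1, hUV χ.1 χ.2 hx2⟩
  rw [heq]
  exact t.isCompact_biUnion (fun χ _ => (hUa χ.1 χ.2).isCompact.inter_left isClosed_closure)

end core

theorem main {X Y : Scheme.{u}} (f : X ⟶ Y) [LocallyOfFiniteType f]
    (hf : ValuativeCriterion f) (hX : (irreducibleComponents ↥X).Finite) :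
    QuasiCompact f := by
  rw [quasiCompact_iff_forall_isAffineOpen]
  intro V hV
  have heq : (f ⁻¹ᵁ V : Set X) = ⋃ Z ∈ irreducibleComponents ↥X, (Z ∩ (f ⁻¹ᵁ V : Set X)) := by
    ext x
    simp only [Set.mem_iUnion, Set.mem_inter_iff, exists_and_left, exists_prop]
    constructor
    · intro hx
      exact ⟨irreducibleComponent x, mem_irreducibleComponent, irreducibleComponent_mem_irreducibleComponents x, hx⟩
    · rintro ⟨Z, _, _, hx⟩
      exact hx
  rw [heq]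
  refine hX.isCompact_biUnion (fun Z hZ => ?_)
  have hZc : IsClosed Z := isClosed_of_mem_irreducibleComponents Z hZ
  obtain ⟨ξ, hξ⟩ := QuasiSober.sober hZ.1 hZc
  let g : Spec (CommRingCat.of ↑(X.residueField ξ)) ⟶ X := X.fromSpecResidueField ξ
  have hg : g (closedPoint ↑(X.residueField ξ)) = ξ := by
    have : g (closedPoint ↑(X.residueField ξ)) ∈ Set.range (X.fromSpecResidueField ξ) := ⟨_, rfl⟩
    rw [Scheme.range_fromSpecResidueField] at this
    exact this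
  have := RZ2.isCompact_closure_inter f g V hV hf
  rw [hg, hξ.def] at this
  exact this

end Groth.Agent.Lib.Helper19.RZ2
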