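import Mathlib
import Groth.Prelude.Def_HTop2
import Groth.Agent.Lib.Helper19.SNIso
import Groth.Agent.Lib.Helper19.SNDescent

/-!
Seminormalizations: base change of universal homeomorphisms with trivial residue field extensions,
lifting of morphisms from seminormal schemes, restriction to opens (helper19).
-/

open AlgebraicGeometry CategoryTheory Limits

universe u

namespace Groth.Agent.Helper19.SNOpen

open Groth.Agent.Helper11.UH Groth.Agent.Helper11.SemiN Groth.Agent.Helper19.SNIso

instance : MorphismProperty.IsStableUnderBaseChange FlatMor.IsUnivHomeo.{u} := by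
  unfold FlatMor.IsUnivHomeo
  infer_instance

theorem isHomeomorph_of_uh {X Y : Scheme.{u}} (f : X ⟶ Y) (h : FlatMor.IsUnivHomeo f) :
    IsHomeomorph f :=
  h (𝟙 _) (𝟙 _) f IsPullback.of_id_snd

theorem isUnivHomeo_pullback_fst {X Y T : Scheme.{u}} (π : Y ⟶ X) (hπ : FlatMor.IsUnivHomeo π)
    (g : T ⟶ X) : FlatMor.IsUnivHomeo (pullback.fst g π) :=
  MorphismProperty.pullback_fst (P := FlatMor.IsUnivHomeo) g π hπ

/-- Trivial residue field extensions are preserved by base change of universal homeomorphisms. -/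
theorem residueFieldsIso_pullback_fst {X Y T : Scheme.{u}} (π : Y ⟶ X)
    (hπ : FlatMor.IsUnivHomeo π) (hres : HTop.ResidueFieldsIso π) (g : T ⟶ X) :
    HTop.ResidueFieldsIso (pullback.fst g π) := by
  have hUH := isUnivHomeo_pullback_fst π hπ g
  have hinj : Function.Injective (pullback.fst g π) :=
    (isHomeomorph_of_uh _ hUH).injective
  have hsurjπ : Function.Surjective π :=
    (isHomeomorph_of_uh _ hπ).surjective
  intro z'
  let t := (pullback.fst g π) z'
  obtain ⟨y, hy⟩ := hsurjπ (g t)
  haveI : IsIso (π.residueFieldMap y) := hres y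
  let l : Spec (T.residueField t) ⟶ Y :=
    Spec.map (g.residueFieldMap t) ≫ Spec.map (X.residueFieldCongr hy).hom ≫
      Spec.map (inv (π.residueFieldMap y)) ≫ Y.fromSpecResidueField y
  have hl : l ≫ π = T.fromSpecResidueField t ≫ g := by
    show (Spec.map (g.residueFieldMap t) ≫ Spec.map (X.residueFieldCongr hy).hom ≫
      Spec.map (inv (π.residueFieldMap y)) ≫ Y.fromSpecResidueField y) ≫ π = _
    have e1 : Spec.map (inv (π.residueFieldMap y)) ≫ Spec.map (π.residueFieldMap y) = 𝟙 _ := by
      rw [← Spec.map_comp, IsIso.hom_inv_id, Spec.map_id]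
    rw [Category.assoc, Category.assoc, Category.assoc,
      ← Scheme.Hom.SpecMap_residueFieldMap_fromSpecResidueField π y, reassoc_of% e1,
      Scheme.residueFieldCongr_fromSpecResidueField,
      Scheme.Hom.SpecMap_residueFieldMap_fromSpecResidueField]
  obtain ⟨z, hz, hiso⟩ := residue_of_section (pullback.fst g π) t
      (pullback.lift (T.fromSpecResidueField t) l hl.symm) (pullback.lift_fst _ _ _)
  have : z = z' := hinj hz
  rw [← this]
  exact hiso

/-- Morphisms from a seminormal scheme lift through universal homeomorphisms with trivial residue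
field extensions. -/
theorem exists_lift_uh {X Y T : Scheme.{u}} (hT : HTop.IsSeminormal T) (π : Y ⟶ X)
    (hπ : FlatMor.IsUnivHomeo π) (hres : HTop.ResidueFieldsIso π) (g : T ⟶ X) :
    ∃ h : T ⟶ Y, h ≫ π = g := by
  obtain ⟨s, hs⟩ := exists_section (pullback.fst g π) (isUnivHomeo_pullback_fst π hπ g)
    (residueFieldsIso_pullback_fst π hπ hres g) hT
  refine ⟨s ≫ pullback.snd g π, ?_⟩
  rw [Category.assoc, ← pullback.condition, ← Category.assoc, hs, Category.id_comp]

/-- A universal homeomorphism is "mono" with respect to reduced test schemes. -/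
theorem lift_unique {X Y T : Scheme.{u}} [IsReduced T] (π : Y ⟶ X) (hπ : FlatMor.IsUnivHomeo π)
    (h₁ h₂ : T ⟶ Y) (h : h₁ ≫ π = h₂ ≫ π) : h₁ = h₂ := by
  haveI : IsAffineHom π := isAffineHom_of_isUnivHomeo π hπ
  have hUI : UniversallyInjective π := ((isUnivHomeo_iff π).mp hπ).2.1
  haveI : Surjective (pullback.diagonal π) := (UniversallyInjective.iff_diagonal π).mp hUI
  let d : T ⟶ pullback π π := pullback.lift h₁ h₂ h
  haveI : IsIso (pullback.fst d (pullback.diagonal π)) :=
    isIso_of_isClosedImmersion_of_surjective _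
  rw [← cancel_epi (pullback.fst d (pullback.diagonal π))]
  have e1 : pullback.fst d (pullback.diagonal π) ≫ h₁ =
      pullback.snd d (pullback.diagonal π) := by
    have : h₁ = d ≫ pullback.fst π π := (pullback.lift_fst _ _ _).symm
    rw [this, ← Category.assoc, pullback.condition, Category.assoc, pullback.diagonal_fst,
      Category.comp_id]
  have e2 : pullback.fst d (pullback.diagonal π) ≫ h₂ =
      pullback.snd d (pullback.diagonal π) := by
    have : h₂ = d ≫ pullback.snd π π := (pullback.lift_snd _ _ _).symm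
    rw [this, ← Category.assoc, pullback.condition, Category.assoc, pullback.diagonal_snd,
      Category.comp_id]
  rw [e1, e2]

theorem isSeminormalRing_of_ringEquiv {A B : Type u} [CommRing A] [CommRing B] (e : A ≃+* B)
    (hA : HTop.IsSeminormalRing A) : HTop.IsSeminormalRing B := by
  intro x y hxy
  have h1 : (e.symm x) ^ 3 = (e.symm y) ^ 2 := by
    rw [← map_pow, ← map_pow, hxy]
  obtain ⟨a, ⟨ha1, ha2⟩, hau⟩ := hA _ _ h1
  refine ⟨e a, ⟨?_, ?_⟩, ?_⟩
  · rw [← map_pow, ← ha1, e.apply_symm_apply]
  · rw [← map_pow, ← ha2, e.apply_symm_apply]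
  · rintro b ⟨hb1, hb2⟩
    have := hau (e.symm b) ⟨by rw [← map_pow, ← hb1], by rw [← map_pow, ← hb2]⟩
    rw [← this, e.apply_symm_apply]

/-- An open subscheme of a seminormal scheme is seminormal. -/
theorem isSeminormal_of_isOpenImmersion {V X : Scheme.{u}} (j : V ⟶ X) [IsOpenImmersion j]
    (hX : HTop.IsSeminormal X) : HTop.IsSeminormal V := by
  rw [isSeminormal_iff] at hX ⊢
  intro W
  have hW : IsAffineOpen (j ''ᵁ W.1) := W.2.image_of_isOpenImmersion j
  exact isSeminormalRing_of_ringEquiv (j.appIso W.1).commRingCatIsoToRingEquiv (hX ⟨_, hW⟩)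

theorem residueFieldsIso_morphismRestrict {X' X : Scheme.{u}} (ν : X' ⟶ X)
    (hres : HTop.ResidueFieldsIso ν) (U : X.Opens) : HTop.ResidueFieldsIso (ν ∣_ U) := by
  intro z
  have h1 : IsIso (((ν ∣_ U) ≫ U.ι).residueFieldMap z) := by
    rw [Scheme.Hom.residueFieldMap_congr (morphismRestrict_ι ν U), Scheme.residueFieldMap_comp]
    exact IsIso.comp_isIso' inferInstance (IsIso.comp_isIso' (hres _) inferInstance)
  rw [Scheme.residueFieldMap_comp] at h1
  exact @IsIso.of_isIso_comp_left _ _ _ _ _ (U.ι.residueFieldMap ((ν ∣_ U) z)) _ inferInstance h1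

/-- The restriction of a seminormalization to an open subscheme is a seminormalization. -/
theorem isSeminormalization_restrict {X' X : Scheme.{u}} (ν : X' ⟶ X)
    (hν : HTop.IsSeminormalization ν) (hX' : HTop.IsSeminormal X') (U : X.Opens) :
    HTop.IsSeminormalization (ν ∣_ U) := by
  have hUH : FlatMor.IsUnivHomeo (ν ∣_ U) :=
    MorphismProperty.of_isPullback (P := FlatMor.IsUnivHomeo)
      (isPullback_morphismRestrict ν U).flip hν.1.1
  have hsn : HTop.IsSeminormal (ν ⁻¹ᵁ U).toScheme :=
    isSeminormal_of_isOpenImmersion (ν ⁻¹ᵁ U).ι hX'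
  haveI : IsReduced (ν ⁻¹ᵁ U).toScheme := Groth.Agent.Helper19.SNDescent.isReduced_of_isSeminormal hsn
  refine ⟨⟨hUH, residueFieldsIso_morphismRestrict ν hν.1.2 U⟩, ?_⟩
  intro Y π hπ hres
  obtain ⟨h, hh⟩ := exists_lift_uh hsn π hπ hres (ν ∣_ U)
  exact ⟨h, hh, fun h' hh' => lift_unique π hπ h' h (hh'.trans hh.symm)⟩

end Groth.Agent.Helper19.SNOpen
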