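import Mathlib
import Groth.Prelude.Def_HTop2
import Groth.Prelude.Def_Pi1
import Groth.Agent.Lib.Helper19.SNOpen
import Groth.Agent.S15941

/-!
Normal schemes are seminormal; the normalization factors through the seminormalization (helper19).
-/

open AlgebraicGeometry CategoryTheory Limits

universe u

namespace Groth.Agent.Helper19.SNNormal

open Groth.Agent.Helper11.SemiN Groth.Agent.Helper19.SNOpen

theorem eq_of_sq_cube {A : Type*} [CommRing A] [IsReduced A] {a b : A} (h2 : a ^ 2 = b ^ 2)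
    (h3 : a ^ 3 = b ^ 3) : a = b := by
  have h : (a - b) ^ 3 = 0 := by linear_combination 4 * h3 - (3 * a + 3 * b) * h2
  have := IsReduced.eq_zero _ ⟨3, h⟩
  exact sub_eq_zero.mp this

/-- Local-to-global principle for extracting the seminormality root of a single pair. -/
theorem exists_root_of_local {A : Type*} [CommRing A] [IsReduced A] (x y : A)
    (hxy : x ^ 3 = y ^ 2)
    (hloc : ∀ p : Ideal A, p.IsPrime → ∃ s, s ∉ p ∧ ∃ b, b ^ 2 = s ^ 2 * x ∧ b ^ 3 = s ^ 3 * y) :
    ∃ a, x = a ^ 2 ∧ y = a ^ 3 := by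
  have hxb : ∀ s b : A, b ^ 2 = s ^ 2 * x → b ^ 3 = s ^ 3 * y → x * b = s * y := by
    intro s b h2 h3
    apply eq_of_sq_cube
    · linear_combination x ^ 2 * h2 + s ^ 2 * hxy
    · linear_combination x ^ 3 * h3 + s ^ 3 * y * hxy
  let J : Ideal A :=
    { carrier := {s | ∃ b, b ^ 2 = s ^ 2 * x ∧ b ^ 3 = s ^ 3 * y}
      add_mem' := by
        rintro s₁ s₂ ⟨b₁, h12, h13⟩ ⟨b₂, h22, h23⟩
        have hb12 : b₁ * b₂ = s₁ * s₂ * x := by
          apply eq_of_sq_cube
          · linear_combination b₂ ^ 2 * h12 + s₁ ^ 2 * x * h22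
          · linear_combination b₂ ^ 3 * h13 + s₁ ^ 3 * y * h23 - s₁ ^ 3 * s₂ ^ 3 * hxy
        have hx1 := hxb s₁ b₁ h12 h13
        have hx2 := hxb s₂ b₂ h22 h23
        refine ⟨b₁ + b₂, ?_, ?_⟩
        · linear_combination h12 + h22 + 2 * hb12
        · linear_combination h13 + h23 + 3 * b₂ * h12 + 3 * b₁ * h22 + 3 * s₁ ^ 2 * hx2 +
            3 * s₂ ^ 2 * hx1
      zero_mem' := ⟨0, by simp, by simp⟩
      smul_mem' := by
        rintro r s ⟨b, h2, h3⟩
        refine ⟨r * b, ?_, ?_⟩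
        · simp only [smul_eq_mul]; linear_combination r ^ 2 * h2
        · simp only [smul_eq_mul]; linear_combination r ^ 3 * h3 }
  have hJ : J = ⊤ := by
    by_contra h
    obtain ⟨m, hm, hJm⟩ := Ideal.exists_le_maximal J h
    obtain ⟨s, hs, b, hb⟩ := hloc m hm.isPrime
    exact hs (hJm ⟨b, hb⟩)
  have h1 : (1 : A) ∈ J := hJ ▸ Submodule.mem_top
  obtain ⟨b, hb2, hb3⟩ := h1
  exact ⟨b, by simpa using hb2.symm, by simpa using hb3.symm⟩

theorem local_root {A B : Type u} [CommRing A] [CommRing B] [Algebra A B] (p : Ideal A)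
    [p.IsPrime] [IsLocalization.AtPrime B p] (hB : HTop.IsSeminormalRing B) (x y : A)
    (hxy : x ^ 3 = y ^ 2) :
    ∃ s, s ∉ p ∧ ∃ b, b ^ 2 = s ^ 2 * x ∧ b ^ 3 = s ^ 3 * y := by
  obtain ⟨a, ⟨ha2, ha3⟩, -⟩ := hB (algebraMap A B x) (algebraMap A B y)
    (by rw [← map_pow, ← map_pow, hxy])
  obtain ⟨c, t, rfl⟩ := IsLocalization.exists_mk'_eq p.primeCompl a
  have hspec : IsLocalization.mk' B c t * algebraMap A B t = algebraMap A B c :=
    IsLocalization.mk'_spec B c t
  have e2 : algebraMap A B (c ^ 2) = algebraMap A B ((t : A) ^ 2 * x) := by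
    rw [map_pow, map_mul, map_pow, ← hspec, ha2]; ring
  have e3 : algebraMap A B (c ^ 3) = algebraMap A B ((t : A) ^ 3 * y) := by
    rw [map_pow, map_mul, map_pow, ← hspec, ha3]; ring
  obtain ⟨u, hu⟩ := (IsLocalization.eq_iff_exists p.primeCompl B).mp e2
  obtain ⟨v, hv⟩ := (IsLocalization.eq_iff_exists p.primeCompl B).mp e3
  refine ⟨t * u * v, (t * u * v).2, c * u * v, ?_, ?_⟩
  · linear_combination ((u : A) * (v : A) ^ 2) * hu
  · linear_combination ((u : A) ^ 3 * (v : A) ^ 2) * hv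

/-- A normal scheme (all stalks integrally closed domains) is seminormal. -/
theorem isSeminormal_of_isNormalScheme {X : Scheme.{u}} (hn : Pi1.IsNormalScheme X) :
    HTop.IsSeminormal X := by
  rw [isSeminormal_iff]
  intro U
  haveI : IsReduced X := by
    haveI : ∀ x : X, _root_.IsReduced (X.presheaf.stalk x) := fun x => by
      haveI := (hn x).1
      infer_instance
    exact isReduced_of_isReduced_stalk X
  intro x y hxy
  have hex : ∃ a, x = a ^ 2 ∧ y = a ^ 3 := by
    apply exists_root_of_local x y hxy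
    intro p hp
    let pt : PrimeSpectrum Γ(X, U.1) := ⟨p, hp⟩
    have hmem : U.2.fromSpec pt ∈ U.1 := by
      have := U.2.range_fromSpec
      rw [← SetLike.mem_coe, ← this]
      exact ⟨pt, rfl⟩
    have hloc := U.2.isLocalization_stalk' pt hmem
    haveI := (hn (U.2.fromSpec pt)).1
    haveI := (hn (U.2.fromSpec pt)).2
    exact @local_root _ _ _ _ (TopCat.Presheaf.algebra_section_stalk X.presheaf ⟨_, hmem⟩) p hp
      hloc (Groth.Agent.S15941.result _) x y hxy
  obtain ⟨a, ha2, ha3⟩ := hex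
  refine ⟨a, ⟨ha2, ha3⟩, ?_⟩
  rintro b ⟨hb2, hb3⟩
  exact eq_of_sq_cube (by rw [← hb2, ha2]) (by rw [← hb3, ha3])

/-- The normalization factors through the seminormalization. -/
theorem normalization_factors {S Sn X' : Scheme.{u}} (π : Sn ⟶ S) (hn : Pi1.IsNormalScheme Sn)
    (ν : X' ⟶ S) (hν : HTop.IsSeminormalization ν) : ∃ g : Sn ⟶ X', g ≫ ν = π :=
  exists_lift_uh (isSeminormal_of_isNormalScheme hn) ν hν.1.1 hν.1.2 π

end Groth.Agent.Helper19.SNNormal
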