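import Mathlib
import Groth.Prelude.Def_HTop2
import Groth.Prelude.Def_Pi1
import Groth.Agent.Lib.Helper19.SNNormal

/-!
Scheme-theoretic dominance and finiteness in the factorization of the normalization through the
seminormalization (helper19).
-/

open AlgebraicGeometry CategoryTheory Limits

universe u

namespace Groth.Agent.Helper19.SNNormal2

open Groth.Agent.Helper11.UH Groth.Agent.Helper19.SNOpen

theorem finite_of_comp_injective {A B C : Type*} [CommRing A] [CommRing B] [CommRing C]
    [IsNoetherianRing A] (f : A →+* B) (h : B →+* C) (hinj : Function.Injective h)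
    (hfin : (h.comp f).Finite) : f.Finite := by
  letI := f.toAlgebra
  letI := (h.comp f).toAlgebra
  haveI : Module.Finite A C := hfin
  haveI : IsNoetherian A C := isNoetherian_of_isNoetherianRing_of_finite A C
  let l : B →ₗ[A] C :=
    { toFun := h
      map_add' := h.map_add
      map_smul' := fun a b => by
        simp [Algebra.smul_def, RingHom.algebraMap_toAlgebra] }
  exact Module.Finite.of_injective l hinj

theorem main {S Sn X' : Scheme.{u}}
    [IsNoetherian S] [IsReduced S]
    (π : Sn ⟶ S) [IsIntegralHom π]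
    (hbir : ∃ U : S.Opens, Dense (U : Set S) ∧ Dense ((π ⁻¹ᵁ U : Sn.Opens) : Set Sn) ∧
      IsIso (π ∣_ U))
    (ν : X' ⟶ S) (hν : HTop.IsSeminormalization ν) (hX' : HTop.IsSeminormal X')
    (g : Sn ⟶ X') (hg : g ≫ ν = π) :
    (IsSchemeTheoreticallyDominant ν ∧ IsSchemeTheoreticallyDominant g) ∧
      (IsFinite π → IsFinite ν ∧ IsFinite g) := by
  subst hg
  have hνhomeo : IsHomeomorph ν := isHomeomorph_of_uh ν hν.1.1
  haveI : IsAffineHom ν := isAffineHom_of_isUnivHomeo ν hν.1.1
  haveI : Surjective ν := ⟨hνhomeo.surjective⟩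
  haveI : IsReduced X' := Groth.Agent.Helper19.SNDescent.isReduced_of_isSeminormal hX'
  haveI : IsAffineHom g := IsAffineHom.of_comp g ν
  have hSTDν : IsSchemeTheoreticallyDominant ν := IsSchemeTheoreticallyDominant.of_isDominant ν
  have hπdom : DenseRange (g ≫ ν) := by
    obtain ⟨U, hU, -, hiso⟩ := hbir
    apply hU.mono
    intro u hu
    have hs : Function.Surjective ((g ≫ ν) ∣_ U) :=
      (ConcreteCategory.bijective_of_isIso ((g ≫ ν) ∣_ U).base).2
    obtain ⟨z, hz⟩ := hs ⟨u, hu⟩
    refine ⟨z.1, ?_⟩
    have := congrArg Subtype.val hz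
    exact (morphismRestrict_base_coe (g ≫ ν) U z).symm.trans this
  haveI : IsDominant g := by
    constructor
    rw [DenseRange, hνhomeo.isInducing.dense_iff]
    intro x
    have : ν '' Set.range g = Set.range (g ≫ ν) := by
      rw [← Set.range_comp]
      rfl
    rw [this]
    exact hπdom (ν x)
  have hSTDg : IsSchemeTheoreticallyDominant g := IsSchemeTheoreticallyDominant.of_isDominant g
  refine ⟨⟨hSTDν, hSTDg⟩, ?_⟩
  intro hfin
  refine ⟨?_, IsFinite.of_comp g ν⟩
  refine { finite_app := fun V hV => ?_ }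
  haveI : IsNoetherianRing Γ(S, V) := IsLocallyNoetherian.component_noetherian ⟨V, hV⟩
  have h1 : ((g ≫ ν).app V).hom.Finite := hfin.finite_app V hV
  rw [Scheme.Hom.comp_app] at h1
  exact finite_of_comp_injective (ν.app V).hom (g.app (ν ⁻¹ᵁ V)).hom (g.app_injective _) h1

end Groth.Agent.Helper19.SNNormal2
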