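import Mathlib
import Groth.Prelude.Def_CInt

set_option autoImplicit false
universe u
open AlgebraicGeometry CategoryTheory Limits

namespace Groth.Agent.Lib.Helper19.SchDenseIso

/-- A schematically dense retrocompact open is scheme-theoretically dominant. -/
lemma std_of_schematicallyDense {X : Scheme.{u}} (V : X.Opens) [QuasiCompact V.ι]
    (hV : CInt.IsSchematicallyDense V) : IsSchemeTheoreticallyDominant V.ι := by
  rw [isSchemeTheoreticallyDominant_iff]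
  refine Scheme.IdealSheafData.ext ?_
  funext U
  rw [Scheme.Hom.ker_apply]
  simp only [Scheme.IdealSheafData.ideal_bot, Pi.bot_apply]
  rw [← RingHom.injective_iff_ker_eq_bot]
  have key : ∀ (W' : X.Opens) (h : W' ≤ U.1), W' = U.1 ⊓ V →
      Function.Injective (X.presheaf.map (homOfLE h).op) := by
    rintro _ _ rfl
    exact hV U.1
  rw [Scheme.Opens.ι_app]
  refine key _ _ ?_
  ext x
  simp only [Scheme.Hom.coe_image, Scheme.Hom.coe_preimage, Scheme.Opens.range_ι,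
    Set.image_preimage_eq_inter_range, TopologicalSpace.Opens.coe_inf]

/-- A dense open mapping isomorphically onto `U` under a separated morphism is all of `f⁻¹ U`. -/
lemma eq_preimage {X S : Scheme.{u}} (f : X ⟶ S) [IsSeparated f] (U : S.Opens) (V : X.Opens)
    (hVd : Dense (V : Set X)) (hle : V ≤ f ⁻¹ᵁ U) [IsIso (f.resLE U V hle)] : V = f ⁻¹ᵁ U := by
  let j : V.toScheme ⟶ (f ⁻¹ᵁ U).toScheme := X.homOfLE hle
  have hj : j ≫ (f ∣_ U) = f.resLE U V hle := rfl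
  haveI : IsSeparated (f ∣_ U) := IsZariskiLocalAtTarget.restrict ‹_› U
  haveI : IsClosedImmersion (inv (f.resLE U V hle) ≫ j) := by
    haveI : IsClosedImmersion ((inv (f.resLE U V hle) ≫ j) ≫ f ∣_ U) := by
      rw [Category.assoc, hj, IsIso.inv_hom_id]
      infer_instance
    exact IsClosedImmersion.of_comp _ (f ∣_ U)
  haveI : IsClosedImmersion j := by
    have : j = f.resLE U V hle ≫ (inv (f.resLE U V hle) ≫ j) := by simp
    rw [this]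
    infer_instance
  have hcl : IsClosed (Set.range j) := j.isClosedEmbedding.isClosed_range
  refine le_antisymm hle ?_
  intro x hx
  by_contra hxV
  have hO : IsOpen ((f ⁻¹ᵁ U).ι '' (Set.range j)ᶜ) :=
    (f ⁻¹ᵁ U).ι.isOpenEmbedding.isOpenMap _ hcl.isOpen_compl
  have hjι : ∀ v : V.toScheme, (f ⁻¹ᵁ U).ι (j v) = V.ι v := by
    intro v
    rw [← Scheme.Hom.comp_apply, Scheme.homOfLE_ι]
  have hxO : x ∈ (f ⁻¹ᵁ U).ι '' (Set.range j)ᶜ := by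
    refine ⟨⟨x, hx⟩, ?_, rfl⟩
    rintro ⟨v, hv⟩
    apply hxV
    have := hjι v
    rw [hv] at this
    have h2 : (V.ι v : X) = x := this.symm
    rw [← h2]
    exact v.2
  obtain ⟨y, hyO, hyV⟩ := hVd.inter_open_nonempty _ hO ⟨x, hxO⟩
  obtain ⟨z, hz, rfl⟩ := hyO
  apply hz
  refine ⟨⟨_, hyV⟩, ?_⟩
  apply (f ⁻¹ᵁ U).ι.isOpenEmbedding.injective
  rw [hjι]
  rfl

theorem main {X S : Scheme.{u}} (f : X ⟶ S)
    [Flat f] [Surjective f] [QuasiCompact f] [IsSeparated f]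
    (U : S.Opens) (V : X.Opens) [QuasiCompact V.ι]
    (hU : CInt.IsSchematicallyDense U) (hV : CInt.IsSchematicallyDense V)
    (hle : V ≤ f ⁻¹ᵁ U) (hiso : IsIso (f.resLE U V hle)) : IsIso f := by
  haveI := std_of_schematicallyDense V hV
  have hVd : Dense (V : Set X) := by
    have : IsDominant V.ι := inferInstance
    have h := V.ι.denseRange
    rw [DenseRange, Scheme.Opens.range_ι] at h
    exact h
  have hVU : V = f ⁻¹ᵁ U := eq_preimage f U V hVd hle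
  subst hVU
  haveI : IsIso (f ∣_ U) := by
    rw [← Scheme.Hom.resLE_eq_morphismRestrict]
    exact hiso
  -- the fibre product
  let pr₁ := pullback.fst f f
  let pr₂ := pullback.snd f f
  let Δ := pullback.diagonal f
  have h1 : IsPullback (pr₁ ∣_ (f ⁻¹ᵁ U)) (pr₁ ⁻¹ᵁ (f ⁻¹ᵁ U)).ι (f ⁻¹ᵁ U).ι pr₁ :=
    isPullback_morphismRestrict pr₁ (f ⁻¹ᵁ U)
  have h2 : IsPullback pr₁ pr₂ f f := IsPullback.of_hasPullback f f
  have h3 : IsPullback (pr₁ ∣_ (f ⁻¹ᵁ U)) ((pr₁ ⁻¹ᵁ (f ⁻¹ᵁ U)).ι ≫ pr₂) ((f ∣_ U) ≫ U.ι) f := by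
    rw [morphismRestrict_ι]
    exact h1.paste_vert h2
  have h4 : IsPullback (f ∣_ U) (f ⁻¹ᵁ U).ι U.ι f := isPullback_morphismRestrict f U
  haveI hpr : IsIso (pr₁ ∣_ (f ⁻¹ᵁ U)) := (IsPullback.of_bot' h3 h4).isIso_fst_of_isIso
  -- W.ι is scheme-theoretically dominant
  haveI : Flat pr₁ := by
    change Flat (pullback.fst f f)
    infer_instance
  haveI hW : IsSchemeTheoreticallyDominant (pr₁ ⁻¹ᵁ (f ⁻¹ᵁ U)).ι :=
    IsSchemeTheoreticallyDominant.of_isPullback h1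
  -- Δ restricted over W is an isomorphism
  have hΔpr : Δ ≫ pr₁ = 𝟙 X := pullback.diagonal_fst f
  haveI hΔW : IsIso (Δ ∣_ (pr₁ ⁻¹ᵁ (f ⁻¹ᵁ U))) := by
    have hcomp : (Δ ≫ pr₁) ∣_ (f ⁻¹ᵁ U) = Δ ∣_ (pr₁ ⁻¹ᵁ (f ⁻¹ᵁ U)) ≫ pr₁ ∣_ (f ⁻¹ᵁ U) :=
      morphismRestrict_comp Δ pr₁ (f ⁻¹ᵁ U)
    have hi1 : IsIso ((Δ ≫ pr₁) ∣_ (f ⁻¹ᵁ U)) := by
      have : IsIso (Δ ≫ pr₁) := by rw [hΔpr]; infer_instance
      exact (isPullback_morphismRestrict (Δ ≫ pr₁) (f ⁻¹ᵁ U)).isIso_fst_of_isIso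
    haveI : IsIso (Δ ∣_ (pr₁ ⁻¹ᵁ (f ⁻¹ᵁ U)) ≫ pr₁ ∣_ (f ⁻¹ᵁ U)) := by
      rw [← hcomp]; exact hi1
    exact IsIso.of_isIso_comp_right _ (pr₁ ∣_ (f ⁻¹ᵁ U))
  -- hence Δ is scheme-theoretically dominant, hence an isomorphism
  haveI : IsClosedImmersion Δ := by
    change IsClosedImmersion (pullback.diagonal f)
    infer_instance
  have hker : Δ.ker = ⊥ := by
    have e : (pr₁ ⁻¹ᵁ (f ⁻¹ᵁ U)).ι =
        (inv (Δ ∣_ (pr₁ ⁻¹ᵁ (f ⁻¹ᵁ U))) ≫ (Δ ⁻¹ᵁ (pr₁ ⁻¹ᵁ (f ⁻¹ᵁ U))).ι) ≫ Δ := by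
      rw [Category.assoc, ← morphismRestrict_ι, IsIso.inv_hom_id_assoc]
    have := Scheme.Hom.le_ker_comp
      (inv (Δ ∣_ (pr₁ ⁻¹ᵁ (f ⁻¹ᵁ U))) ≫ (Δ ⁻¹ᵁ (pr₁ ⁻¹ᵁ (f ⁻¹ᵁ U))).ι) Δ
    rw [← e, hW.ker_eq_bot] at this
    exact le_bot_iff.mp this
  haveI : IsIso Δ := IsClosedImmersion.isIso_iff_ker_eq_bot.mpr hker
  haveI : IsIso pr₁ := by
    have : pr₁ = inv Δ := by
      rw [← cancel_epi Δ, hΔpr, IsIso.hom_inv_id]
    rw [this]
    infer_instance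
  -- descent
  have hdesc := MorphismProperty.DescendsAlong.of_isPullback
    (P := MorphismProperty.isomorphisms Scheme.{u})
    (Q := @Surjective ⊓ @Flat ⊓ @QuasiCompact) h2 ⟨⟨‹_›, ‹_›⟩, ‹_›⟩ ‹IsIso pr₁›
  exact hdesc

end Groth.Agent.Lib.Helper19.SchDenseIso
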