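import Mathlib
set_option autoImplicit false
universe u
open CategoryTheory CategoryTheory.Limits AlgebraicGeometry

namespace Groth.Agent.Helper19.SigmaConst

variable (S : Scheme.{u}) (M : Type u)

theorem idx_eq_iff (y : ↥(∐ (fun _ : M => S))) (m : M) :
    ((sigmaMk (fun _ : M => S)).symm y).1 = m ↔ y ∈ Set.range (Sigma.ι (fun _ : M => S) m).base := by
  obtain ⟨⟨i, x⟩, rfl⟩ := (sigmaMk (fun _ : M => S)).surjective y
  rw [Homeomorph.symm_apply_apply]
  constructor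
  · rintro rfl
    exact ⟨x, (sigmaMk_mk _ _ _).symm⟩
  · rintro ⟨x', hx'⟩
    rw [sigmaMk_mk] at hx'
    have := (sigmaι_eq_iff (fun _ : M => S) m i x' x).1 hx'
    exact (congrArg Sigma.fst this).symm

variable {S M} {T : Scheme.{u}}

/-- the index function of a morphism to the constant scheme -/
noncomputable def idx (f : T ⟶ ∐ (fun _ : M => S)) (t : T) : M :=
  ((sigmaMk (fun _ : M => S)).symm (f.base t)).1

theorem idx_fiber (f : T ⟶ ∐ (fun _ : M => S)) (m : M) :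
    idx f ⁻¹' {m} = ((f ⁻¹ᵁ (Sigma.ι (fun _ : M => S) m).opensRange : T.Opens) : Set T) := by
  ext t
  simp only [Set.mem_preimage, Set.mem_singleton_iff, idx]
  rw [idx_eq_iff]
  rfl

theorem isLocallyConstant_idx (f : T ⟶ ∐ (fun _ : M => S)) : IsLocallyConstant (idx f) := by
  rw [IsLocallyConstant.iff_isOpen_fiber]
  intro m
  rw [idx_fiber]
  exact (f ⁻¹ᵁ (Sigma.ι (fun _ : M => S) m).opensRange).isOpen

theorem restrict_eq (p : T ⟶ S) (f : T ⟶ ∐ (fun _ : M => S))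
    (hf : f ≫ Sigma.desc (fun _ : M => 𝟙 S) = p) (m : M) (U : T.Opens)
    (hU : ∀ t ∈ U, idx f t = m) : U.ι ≫ f = U.ι ≫ p ≫ Sigma.ι (fun _ : M => S) m := by
  have hr : Set.range (U.ι ≫ f).base ⊆ Set.range (Sigma.ι (fun _ : M => S) m).base := by
    rintro _ ⟨t, rfl⟩
    have := hU (U.ι.base t) (by simp)
    exact (idx_eq_iff S M _ m).1 this
  let l := IsOpenImmersion.lift (Sigma.ι (fun _ : M => S) m) (U.ι ≫ f) hr
  have hl : l ≫ Sigma.ι (fun _ : M => S) m = U.ι ≫ f := IsOpenImmersion.lift_fac _ _ _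
  have hl' : l = U.ι ≫ p := by
    have h1 : l ≫ Sigma.ι (fun _ : M => S) m ≫ Sigma.desc (fun _ : M => 𝟙 S) = l := by
      rw [Sigma.ι_desc, Category.comp_id]
    rw [← h1, ← Category.assoc, hl, Category.assoc, hf]
  rw [← hl, hl', Category.assoc]

end Groth.Agent.Helper19.SigmaConst

namespace Groth.Agent.Helper19.SigmaConst

variable {S : Scheme.{u}} {M : Type u} {T : Scheme.{u}}

theorem idx_injective (p : T ⟶ S) (f₁ f₂ : T ⟶ ∐ (fun _ : M => S))
    (h₁ : f₁ ≫ Sigma.desc (fun _ : M => 𝟙 S) = p) (h₂ : f₂ ≫ Sigma.desc (fun _ : M => 𝟙 S) = p)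
    (h : idx f₁ = idx f₂) : f₁ = f₂ := by
  apply Scheme.hom_ext_of_forall
  intro t
  let U : T.Opens := f₁ ⁻¹ᵁ (Sigma.ι (fun _ : M => S) (idx f₁ t)).opensRange
  have hU : ∀ s ∈ U, idx f₁ s = idx f₁ t := by
    intro s hs
    have : s ∈ idx f₁ ⁻¹' {idx f₁ t} := by rw [idx_fiber]; exact hs
    exact this
  have ht : t ∈ U := by
    have : t ∈ idx f₁ ⁻¹' {idx f₁ t} := rfl
    rw [idx_fiber] at this
    exact this
  refine ⟨U, ht, ?_⟩
  rw [restrict_eq p f₁ h₁ (idx f₁ t) U hU, restrict_eq p f₂ h₂ (idx f₁ t) U (fun s hs => by rw [← h]; exact hU s hs)]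

theorem exists_of_locallyConstant (p : T ⟶ S) (φ : LocallyConstant T M) :
    ∃ f : T ⟶ ∐ (fun _ : M => S), f ≫ Sigma.desc (fun _ : M => 𝟙 S) = p ∧ idx f = φ := by
  let U : M → T.Opens := fun m => ⟨φ ⁻¹' {m}, φ.isLocallyConstant.isOpen_fiber m⟩
  have hU : TopologicalSpace.IsOpenCover U := by
    rw [TopologicalSpace.IsOpenCover, eq_top_iff]
    intro t _
    exact TopologicalSpace.Opens.mem_iSup.2 ⟨φ t, rfl⟩
  let 𝒰 : T.OpenCover := T.openCoverOfIsOpenCover U hU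
  have hcompat : ∀ m m' : M, pullback.fst (𝒰.f m) (𝒰.f m') ≫ ((U m).ι ≫ p ≫ Sigma.ι (fun _ : M => S) m) =
      pullback.snd (𝒰.f m) (𝒰.f m') ≫ ((U m').ι ≫ p ≫ Sigma.ι (fun _ : M => S) m') := by
    intro m m'
    by_cases hmm : m = m'
    · subst hmm
      have := pullback.condition (f := 𝒰.f m) (g := 𝒰.f m)
      simp only [Scheme.openCoverOfIsOpenCover_f, 𝒰] at this ⊢
      rw [← Category.assoc, this, Category.assoc]
    · have : IsEmpty ↥(pullback (𝒰.f m) (𝒰.f m')) := by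
        refine ⟨fun z => ?_⟩
        have h1 : (pullback.fst (𝒰.f m) (𝒰.f m') ≫ 𝒰.f m).base z = (pullback.snd (𝒰.f m) (𝒰.f m') ≫ 𝒰.f m').base z := by
          rw [pullback.condition]
        have h2 : (pullback.fst (𝒰.f m) (𝒰.f m') ≫ 𝒰.f m).base z ∈ U m := by
          simp only [Scheme.openCoverOfIsOpenCover_f, 𝒰, Scheme.Hom.comp_base, TopCat.hom_comp, ContinuousMap.comp_apply]
          exact ((pullback.fst (𝒰.f m) (𝒰.f m')).base z).2
        have h3 : (pullback.snd (𝒰.f m) (𝒰.f m') ≫ 𝒰.f m').base z ∈ U m' := by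
          simp only [Scheme.openCoverOfIsOpenCover_f, 𝒰, Scheme.Hom.comp_base, TopCat.hom_comp, ContinuousMap.comp_apply]
          exact ((pullback.snd (𝒰.f m) (𝒰.f m')).base z).2
        rw [← h1] at h3
        have e2 : φ _ = m := h2
        have e3 : φ _ = m' := h3
        exact hmm (e2.symm.trans e3)
      exact (isInitialOfIsEmpty (X := pullback (𝒰.f m) (𝒰.f m'))).hom_ext _ _
  let f : T ⟶ ∐ (fun _ : M => S) := 𝒰.glueMorphisms (fun m => (U m).ι ≫ p ≫ Sigma.ι (fun _ : M => S) m) hcompat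
  have hf : ∀ m, (U m).ι ≫ f = (U m).ι ≫ p ≫ Sigma.ι (fun _ : M => S) m := fun m =>
    𝒰.ι_glueMorphisms _ hcompat m
  refine ⟨f, ?_, ?_⟩
  · apply 𝒰.hom_ext
    intro m
    change (U m).ι ≫ f ≫ _ = (U m).ι ≫ p
    rw [← Category.assoc, hf m, Category.assoc, Category.assoc, Sigma.ι_desc, Category.comp_id]
  · funext t
    have ht : t ∈ U (φ t) := rfl
    have h1 : f.base t = ((U (φ t)).ι ≫ f).base ⟨t, ht⟩ := rfl
    rw [idx, h1, hf (φ t)]
    rw [idx_eq_iff]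
    exact ⟨(((U (φ t)).ι ≫ p).base ⟨t, ht⟩), rfl⟩

end Groth.Agent.Helper19.SigmaConst
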