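import Mathlib
import Groth.Agent.Lib.Helper19.StPtsQc

/-!
# Points of locally Noetherian algebraic stacks (helper19)
-/

set_option autoImplicit false
set_option backward.isDefEq.respectTransparency false

universe w₃ v₃ w' v' w v u

open CategoryTheory CategoryTheory.Limits Functor AlgebraicGeometry Opposite TopologicalSpace

namespace Groth.Agent.Helper19.StPts

open FibCat AlgSt Stk

variable {S : Scheme.{u}}

/-- quasi-sobriety descends along a continuous surjection from a Noetherian quasi-sober space. -/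
theorem quasiSober_of_surjective_of_noetherian {α β : Type*} [TopologicalSpace α] [TopologicalSpace β]
    [NoetherianSpace α] [QuasiSober α] (p : α → β) (hp : Continuous p) (hs : Function.Surjective p) :
    QuasiSober β := by
  constructor
  intro T hT hTc
  let C : Closeds α := ⟨p ⁻¹' T, hTc.preimage hp⟩
  obtain ⟨F, hF, hC⟩ := NoetherianSpace.exists_finset_irreducible C
  have hcov : T ⊆ ⋃₀ ↑(F.image (fun k : Closeds α => closure (p '' (k : Set α)))) := by
    intro y hy
    obtain ⟨a, rfl⟩ := hs y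
    have ha : a ∈ (C : Set α) := hy
    rw [hC] at ha
    have ha' : a ∈ ⋃ k ∈ F, (k : Set α) := by
      simpa [Closeds.coe_finset_sup] using ha
    simp only [Set.mem_iUnion] at ha'
    obtain ⟨k, hk, hak⟩ := ha'
    refine Set.mem_sUnion.2 ⟨closure (p '' (k : Set α)), ?_, subset_closure ⟨a, hak, rfl⟩⟩
    exact Finset.mem_coe.2 (Finset.mem_image.2 ⟨k, hk, rfl⟩)
  obtain ⟨z, hz, hTz⟩ := (isIrreducible_iff_sUnion_isClosed.1 hT) _ (fun z hz => by
    obtain ⟨k, -, rfl⟩ := Finset.mem_image.1 hz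
    exact isClosed_closure) hcov
  obtain ⟨k, hk, rfl⟩ := Finset.mem_image.1 hz
  have hkirr : IsIrreducible (k : Set α) := hF ⟨k, hk⟩
  obtain ⟨ξ, hξ⟩ := QuasiSober.sober hkirr k.isClosed
  have hkC : (k : Set α) ⊆ p ⁻¹' T := by
    have : k ≤ C := by
      rw [hC]
      exact Finset.le_sup (f := id) hk
    exact this
  have hξk : ξ ∈ (k : Set α) := hξ.mem
  refine ⟨p ξ, ?_⟩
  change closure {p ξ} = T
  apply subset_antisymm
  · exact closure_minimal (Set.singleton_subset_iff.2 (hkC hξk)) hTc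
  · refine hTz.trans ?_
    rw [← hξ.def]
    refine closure_minimal ?_ isClosed_closure
    refine (image_closure_subset_closure_image hp).trans ?_
    rw [Set.image_singleton]

/-- the image of an affine open of a locally Noetherian atlas: an open, Noetherian, quasi-sober subset. -/
theorem image_affineOpen_props {𝒳 : AlgSt.Cat S} (h𝒳 : IsAlgStack Scheme.fppfPrecoverage 𝒳)
    (U : Over S) (p : overCat U ⥤ᵇ 𝒳) (hp₁ : RepByAlgSpWith (AlgSp.LocP @Smooth) p)
    [IsLocallyNoetherian U.left] (O : U.left.Opens) (hO : IsAffineOpen O) :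
    IsOpen (Points.ofChart p '' (O : Set U.left)) ∧
      NoetherianSpace (Points.ofChart p '' (O : Set U.left)) ∧
      QuasiSober (Points.ofChart p '' (O : Set U.left)) := by
  have ho := isOpenMap_ofChart_of_smooth h𝒳 U p hp₁
  have hc := continuous_ofChart h𝒳 p
  have : IsNoetherianRing Γ(U.left, O) := IsLocallyNoetherian.component_noetherian ⟨O, hO⟩
  have hON : NoetherianSpace ((O : Set U.left) : Type u) := noetherianSpace_of_isAffineOpen O hO
  have hOS : QuasiSober ((O : Set U.left) : Type u) := O.isOpen.isOpenEmbedding_subtypeVal.quasiSober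
  let q : ((O : Set U.left) : Type u) → (Points.ofChart p '' (O : Set U.left)) :=
    fun o => ⟨Points.ofChart p o.1, o.1, o.2, rfl⟩
  have hq : Continuous q := (hc.comp continuous_subtype_val).subtype_mk _
  have hqs : Function.Surjective q := by
    rintro ⟨y, o, ho, rfl⟩
    exact ⟨⟨o, ho⟩, rfl⟩
  exact ⟨ho _ O.isOpen, noetherianSpace_of_surjective q hq hqs,
    quasiSober_of_surjective_of_noetherian q hq hqs⟩

/-- S13019. -/
theorem exists_noetherian_open_nhd {𝒳 : AlgSt.Cat S} (h𝒳 : IsAlgStack Scheme.fppfPrecoverage 𝒳)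
    (hN : SmoothLocally (fun T ↦ IsLocallyNoetherian T) 𝒳) (x : Points 𝒳) :
    ∃ V : Set (Points 𝒳), IsOpen V ∧ x ∈ V ∧ NoetherianSpace V := by
  obtain ⟨U, p, hp₁, hp₂⟩ := h𝒳.atlas
  have hs := surjective_ofChart_of_surjective h𝒳.isStack.1 U p hp₂
  have hU : IsLocallyNoetherian U.left := hN U p hp₁
  obtain ⟨u, rfl⟩ := hs x
  obtain ⟨_, ⟨O, hO, rfl⟩, huO, -⟩ :=
    (U.left.isBasis_affineOpens).exists_subset_of_mem_open (Set.mem_univ u) isOpen_univ
  obtain ⟨h1, h2, -⟩ := image_affineOpen_props h𝒳 U p hp₁ O hO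
  exact ⟨_, h1, ⟨u, huO, rfl⟩, h2⟩

/-- S13020. -/
theorem noetherianSpace_points {𝒳 : AlgSt.Cat S} (h𝒳 : IsAlgStack Scheme.fppfPrecoverage 𝒳)
    (hqc : IsQuasiCompact 𝒳) (hN : SmoothLocally (fun T ↦ IsLocallyNoetherian T) 𝒳) :
    NoetherianSpace (Points 𝒳) := by
  obtain ⟨U, p, hU, hp₁, hp₂⟩ := hqc
  have hs := surjective_ofChart_of_surjective h𝒳.isStack.1 U p hp₂
  have hc := continuous_ofChart h𝒳 p
  have hUN : IsLocallyNoetherian U.left := hN U p hp₁
  have : IsNoetherianRing Γ(U.left, ⊤) :=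
    IsLocallyNoetherian.component_noetherian ⟨⊤, isAffineOpen_top U.left⟩
  have : NoetherianSpace U.left := noetherianSpace_of_isAffine
  exact noetherianSpace_of_surjective _ hc hs

/-- S13021. -/
theorem quasiSober_points {𝒳 : AlgSt.Cat S} (h𝒳 : IsAlgStack Scheme.fppfPrecoverage 𝒳)
    (hN : SmoothLocally (fun T ↦ IsLocallyNoetherian T) 𝒳) : QuasiSober (Points 𝒳) := by
  obtain ⟨U, p, hp₁, hp₂⟩ := h𝒳.atlas
  have hs := surjective_ofChart_of_surjective h𝒳.isStack.1 U p hp₂
  have hU : IsLocallyNoetherian U.left := hN U p hp₁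
  let 𝒮 : Set (Set (Points 𝒳)) :=
    {V | ∃ (O : U.left.Opens), IsAffineOpen O ∧ V = Points.ofChart p '' (O : Set U.left)}
  have h1 : ∀ s : 𝒮, IsOpen (s : Set (Points 𝒳)) := by
    rintro ⟨_, O, hO, rfl⟩
    exact (image_affineOpen_props h𝒳 U p hp₁ O hO).1
  have h2 : ∀ s : 𝒮, QuasiSober s := by
    rintro ⟨_, O, hO, rfl⟩
    exact (image_affineOpen_props h𝒳 U p hp₁ O hO).2.2
  refine quasiSober_of_open_cover 𝒮 h1 ?_
  apply Set.eq_univ_of_forall
  intro x
  obtain ⟨u, rfl⟩ := hs x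
  obtain ⟨_, ⟨O, hO, rfl⟩, huO, -⟩ :=
    (U.left.isBasis_affineOpens).exists_subset_of_mem_open (Set.mem_univ u) isOpen_univ
  exact Set.mem_sUnion.2 ⟨_, ⟨O, hO, rfl⟩, u, huO, rfl⟩

end Groth.Agent.Helper19.StPts
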