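import Mathlib
import Groth.Prelude.Def_AlgSt
import Groth.Agent.Lib.Helper19.StackLib

/-!
# Invariance of the (pre)stack conditions under equivalences over the base, all universes (helper19)
-/

set_option autoImplicit false
set_option backward.isDefEq.respectTransparency false

universe v₅ u₅ v₄ u₄ v₃ u₃ v₂ u₂ v u

open CategoryTheory CategoryTheory.Limits Functor Opposite

namespace Groth.Agent.Helper19.StackLibU

open FibCat Stk Groth.Agent.Helper19.FibLib Groth.Agent.Helper19.StackLib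

variable {C : Type u} [Category.{v} C]

section postc

variable {𝒳 : BasedCategory.{v₂, u₂} C} {𝒴 : BasedCategory.{v₃, u₃} C} {𝒵 : BasedCategory.{v₅, u₅} C}

/-- postcomposition with a functor over `C`, on categories of functors over `C`. -/
def postc (𝒜 : BasedCategory.{v₄, u₄} C) (F : 𝒳 ⥤ᵇ 𝒴) : (𝒜 ⥤ᵇ 𝒳) ⥤ (𝒜 ⥤ᵇ 𝒴) where
  obj H := BasedFunctor.comp H F
  map α := BasedCategory.whiskerRight α F
  map_id H := by
    apply BasedNatTrans.homCategory.ext
    ext a
    exact F.map_id _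
  map_comp α β := by
    apply BasedNatTrans.homCategory.ext
    ext a
    exact F.map_comp _ _

def postcIso (𝒜 : BasedCategory.{v₄, u₄} C) {F F' : 𝒳 ⥤ᵇ 𝒴} (θ : F ≅ F') : postc 𝒜 F ≅ postc 𝒜 F' :=
  NatIso.ofComponents (fun H => whiskerLeftIso H θ) (fun {H H'} α => by
    apply BasedNatTrans.homCategory.ext
    ext a
    exact (θ.hom.toNatTrans.naturality (α.toNatTrans.app a)))

def postcComp (𝒜 : BasedCategory.{v₄, u₄} C) (F : 𝒳 ⥤ᵇ 𝒴) (G : 𝒴 ⥤ᵇ 𝒵) :
    postc 𝒜 F ⋙ postc 𝒜 G ≅ postc 𝒜 (BasedFunctor.comp F G) :=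
  NatIso.ofComponents (fun H => Iso.refl _) (fun {H H'} α => by
    apply BasedNatTrans.homCategory.ext
    ext a
    simp
    rfl)

def postcId (𝒜 : BasedCategory.{v₄, u₄} C) (𝒳 : BasedCategory.{v₂, u₂} C) :
    postc 𝒜 (BasedFunctor.id 𝒳) ≅ 𝟭 _ :=
  NatIso.ofComponents (fun H => Iso.refl _) (fun {H H'} α => by
    apply BasedNatTrans.homCategory.ext
    ext a
    simp
    rfl)

theorem postc_isEquivalence (𝒜 : BasedCategory.{v₄, u₄} C) (F : 𝒳 ⥤ᵇ 𝒴) (hF : IsEquivOver F) :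
    (postc 𝒜 F).IsEquivalence := by
  obtain ⟨G, ⟨η⟩, ⟨ε⟩⟩ := hF
  let e1 : postc 𝒜 F ⋙ postc 𝒜 G ≅ 𝟭 _ := postcComp 𝒜 F G ≪≫ postcIso 𝒜 η ≪≫ postcId 𝒜 𝒳
  let e2 : postc 𝒜 G ⋙ postc 𝒜 F ≅ 𝟭 _ := postcComp 𝒜 G F ≪≫ postcIso 𝒜 ε ≪≫ postcId 𝒜 𝒴
  exact (CategoryTheory.Equivalence.mk (postc 𝒜 F) (postc 𝒜 G) e1.symm e2).isEquivalence_functor

/-- restriction commutes with postcomposition. -/
def restrPostcIso {𝒜 : BasedCategory.{v₄, u₄} C} {ℬ : BasedCategory.{v₅, u₅} C} (ι : 𝒜 ⥤ᵇ ℬ)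
    (F : 𝒳 ⥤ᵇ 𝒴) :
    restr ι 𝒳 ⋙ postc 𝒜 F ≅ postc ℬ F ⋙ restr ι 𝒴 :=
  NatIso.ofComponents (fun H => Iso.refl _) (fun {H H'} α => by
    apply BasedNatTrans.homCategory.ext
    ext a
    simp
    rfl)

end postc

section stackfor

variable {𝒳 : BasedCategory.{v₂, u₂} C} {𝒴 : BasedCategory.{v₃, u₃} C}

theorem isStackFor_iff_of_equiv (F : 𝒳 ⥤ᵇ 𝒴) (hF : IsEquivOver F) {U : C} (R : Sieve U) :
    IsStackFor R 𝒳 ↔ IsStackFor R 𝒴 := by
  have h1 := postc_isEquivalence (sieveCat R) F hF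
  have h2 := postc_isEquivalence (overCat U) F hF
  unfold IsStackFor
  constructor
  · intro h
    have h3 : (resSieve R 𝒳 ⋙ postc (sieveCat R) F).IsEquivalence := inferInstance
    have h4 : (postc (overCat U) F ⋙ resSieve R 𝒴).IsEquivalence :=
      Functor.isEquivalence_of_iso (restrPostcIso (sieveIncl R) F)
    exact Functor.isEquivalence_of_comp_left (postc (overCat U) F) _
  · intro h
    have h3 : (postc (overCat U) F ⋙ resSieve R 𝒴).IsEquivalence := inferInstance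
    have h4 : (resSieve R 𝒳 ⋙ postc (sieveCat R) F).IsEquivalence :=
      Functor.isEquivalence_of_iso (restrPostcIso (sieveIncl R) F).symm
    exact Functor.isEquivalence_of_comp_right _ (postc (sieveCat R) F)

theorem isPrestackFor_iff_of_equiv (F : 𝒳 ⥤ᵇ 𝒴) (hF : IsEquivOver F) {U : C} (R : Sieve U) :
    IsPrestackFor R 𝒳 ↔ IsPrestackFor R 𝒴 := by
  have h1 := postc_isEquivalence (sieveCat R) F hF
  have h2 := postc_isEquivalence (overCat U) F hF
  unfold IsPrestackFor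
  constructor
  · rintro ⟨hfu, hfa⟩
    have h3 : (resSieve R 𝒳 ⋙ postc (sieveCat R) F).Full := inferInstance
    have h3' : (resSieve R 𝒳 ⋙ postc (sieveCat R) F).Faithful := inferInstance
    have h4 : (postc (overCat U) F ⋙ resSieve R 𝒴).Full :=
      Functor.Full.of_iso (restrPostcIso (sieveIncl R) F)
    have h4' : (postc (overCat U) F ⋙ resSieve R 𝒴).Faithful :=
      Functor.Faithful.of_iso (restrPostcIso (sieveIncl R) F)
    let i : (postc (overCat U) F).inv ⋙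
        (postc (overCat U) F ⋙ resSieve R 𝒴) ≅ resSieve R 𝒴 :=
      (Functor.associator _ _ _).symm ≪≫
        Functor.isoWhiskerRight (postc (overCat U) F).asEquivalence.counitIso _ ≪≫
        Functor.leftUnitor _
    exact ⟨Functor.Full.of_iso i, Functor.Faithful.of_iso i⟩
  · rintro ⟨hfu, hfa⟩
    have h3 : (postc (overCat U) F ⋙ resSieve R 𝒴).Full := inferInstance
    have h3' : (postc (overCat U) F ⋙ resSieve R 𝒴).Faithful := inferInstance
    have h4 : (resSieve R 𝒳 ⋙ postc (sieveCat R) F).Full :=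
      Functor.Full.of_iso (restrPostcIso (sieveIncl R) F).symm
    have h4' : (resSieve R 𝒳 ⋙ postc (sieveCat R) F).Faithful :=
      Functor.Faithful.of_iso (restrPostcIso (sieveIncl R) F).symm
    exact ⟨Functor.Full.of_comp_faithful _ (postc (sieveCat R) F),
      Functor.Faithful.of_comp _ (postc (sieveCat R) F)⟩

theorem isStack_iff_of_equiv (J : GrothendieckTopology C) (F : 𝒳 ⥤ᵇ 𝒴) (hF : IsEquivOver F) :
    IsStack J 𝒳 ↔ IsStack J 𝒴 := by
  unfold IsStack
  rw [isFibGrpd_iff_of_equiv F hF]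
  refine and_congr Iff.rfl ?_
  exact forall_congr' fun U => forall_congr' fun R => forall_congr' fun _ =>
    isStackFor_iff_of_equiv F hF R

theorem isPrestack_iff_of_equiv (J : GrothendieckTopology C) (F : 𝒳 ⥤ᵇ 𝒴) (hF : IsEquivOver F) :
    IsPrestack J 𝒳 ↔ IsPrestack J 𝒴 := by
  unfold IsPrestack
  rw [isFibGrpd_iff_of_equiv F hF]
  refine and_congr Iff.rfl ?_
  exact forall_congr' fun U => forall_congr' fun R => forall_congr' fun _ =>
    isPrestackFor_iff_of_equiv F hF R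

end stackfor

end Groth.Agent.Helper19.StackLibU
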