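import Mathlib
import Groth.Prelude.Def_AlgSt
import Groth.Agent.Lib.Helper19.FibLib
import Groth.Agent.Lib.Helper19.FibLib2
import Groth.Agent.Lib.Helper19.StkElem

/-!
# Stacks through 2-fibre products over slices (helper19)
-/

set_option autoImplicit false
set_option backward.isDefEq.respectTransparency false

universe v u

open CategoryTheory

namespace Groth.Agent.Helper19.StkFpOver

open FibCat Stk Groth.Agent.Helper19.FibLib Groth.Agent.Helper19.StkElem
  Groth.Agent.Helper19.YonLib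

variable {C : Type u} [Category.{v} C] {𝒮 𝒯 : BasedCategory.{v, max u v} C} (F : 𝒮 ⥤ᵇ 𝒯) {W : C}
  (R : Sieve W)

/-- the sieve on the terminal object of the slice. -/
def Rt : Sieve (Over.mk (𝟙 W)) := (Sieve.overEquiv (Over.mk (𝟙 W))).symm R

theorem Rt_mem (J : GrothendieckTopology C) (hR : R ∈ J W) : Rt R ∈ (J.over W) (Over.mk (𝟙 W)) := by
  have h : (Sieve.overEquiv (Over.mk (𝟙 W))) ((Sieve.overEquiv (Over.mk (𝟙 W))).symm R) = R :=
    (Sieve.overEquiv (Over.mk (𝟙 W))).apply_symm_apply R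
  rw [GrothendieckTopology.mem_over_iff, Rt, h]
  exact hR

theorem Rt_iff {A : Over W} (m : A ⟶ Over.mk (𝟙 W)) : (Rt R) m ↔ R A.hom := by
  rw [Rt, Sieve.overEquiv_symm_iff]
  have : m.left = A.hom := by simpa using Over.w m
  rw [this]

/-- from the sieve over the slice to the sieve. -/
def piT : (sieveCat (Rt R)).obj ⥤ (sieveCat R).obj where
  obj b := ⟨b.obj.left, (Rt_iff R b.obj.hom).1 b.property⟩
  map m := ObjectProperty.homMk m.hom.left
  map_id _ := rfl
  map_comp _ _ := rfl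

/-- the section of `piT` on objects. -/
def sig (a : (sieveCat R).obj) : (sieveCat (Rt R)).obj :=
  ⟨Over.mk (toId a.obj), (Rt_iff R (toId a.obj)).2 a.property⟩

/-- the section of `piT` on morphisms. -/
def sigMap {a b : (sieveCat R).obj} (h : a ⟶ b) : sig R a ⟶ sig R b :=
  ObjectProperty.homMk (Over.homMk h.hom (comp_toId h.hom))

variable (y : overCat W ⥤ᵇ 𝒯)

/-- the 2-fibre product as a category over the slice. -/
abbrev PP : BasedCategory.{v, max u v} (Over W) :=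
  BasedCategory.ofFunctor ((fpFst y F).toFunctor : (fp y F).obj ⥤ Over W)

theorem isHomLift_left {A B : Over W} (m : A ⟶ B) {P₁ P₂ : (fp y F).obj} (φ : P₁ ⟶ P₂)
    (h : (PP F y).p.IsHomLift m φ) : (fp y F).p.IsHomLift m.left φ := by
  cases h
  exact IsHomLift.map (fp y F).p φ

variable {R} (Ψ : sieveCat R ⥤ᵇ 𝒮)
  (θ : BasedFunctor.comp (sieveIncl R) y ≅ BasedFunctor.comp Ψ F)

/-- the descent datum over the slice. -/
def PsiT : sieveCat (Rt R) ⥤ᵇ PP F y where
  toFunctor := piT R ⋙ (fpLift (sieveIncl R) Ψ θ).toFunctor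
  w := rfl

/-- the image of a cocone under a functor over the base. -/
def mapCocone {x : 𝒮.obj} (c : Cocone Ψ x) : Cocone (BasedFunctor.comp Ψ F) (F.obj x) where
  base := (F.w_obj x).trans c.base
  lam a := F.map (c.lam a)
  lift a := by
    have := c.lift a
    infer_instance
  nat {a b} h := by
    change F.map (Ψ.map h) ≫ F.map (c.lam b) = F.map (c.lam a)
    rw [← c.nat h]
    exact (F.toFunctor.map_comp _ _).symm

theorem eff_of_fp (h𝒯 : IsStackFor R 𝒯) (hP : ∀ y : overCat W ⥤ᵇ 𝒯, Eff (Rt R) (PP F y)) :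
    Eff R 𝒮 := by
  intro Ψ
  have : (resSieve R 𝒯).IsEquivalence := h𝒯
  let y : overCat W ⥤ᵇ 𝒯 := (resSieve R 𝒯).objPreimage (BasedFunctor.comp Ψ F)
  let θ : BasedFunctor.comp (sieveIncl R) y ≅ BasedFunctor.comp Ψ F :=
    (resSieve R 𝒯).objObjPreimageIso (BasedFunctor.comp Ψ F)
  obtain ⟨P₀, ⟨c⟩⟩ := hP y (PsiT F y Ψ θ)
  refine ⟨P₀.obj.snd, ⟨{ base := ?_, lam := fun a => (c.lam (sig R a)).hom.snd, lift := ?_, nat := ?_ }⟩⟩
  · have h1 := fp_snd_obj P₀
    have h2 : P₀.obj.fst = Over.mk (𝟙 W) := c.base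
    rw [h1, h2]
    rfl
  · intro a
    have h1 : (PP F y).p.IsHomLift (toId a.obj) (c.lam (sig R a)) := c.lift (sig R a)
    have h2 : (fp y F).p.IsHomLift a.obj.hom (c.lam (sig R a)) := isHomLift_left F y _ _ h1
    exact fp_isHomLift_snd' a.obj.hom (c.lam (sig R a))
  · intro a b h
    have h1 := c.nat (sigMap R h)
    exact congrArg (fun φ => φ.hom.snd) h1

theorem isHomLift_fpHomMk {P₁ P₂ : (fp y F).obj} (m : P₁.obj.fst ⟶ P₂.obj.fst)
    (ψ : P₁.obj.snd ⟶ P₂.obj.snd) (w : y.map m ≫ P₂.obj.iso.hom = P₁.obj.iso.hom ≫ F.map ψ) :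
    (PP F y).p.IsHomLift m (fpHomMk m ψ w) :=
  IsHomLift.map (PP F y).p (fpHomMk m ψ w)

theorem obj_hom_eq_toId (b : (sieveCat (Rt R)).obj) : b.obj.hom = toId b.obj.left := by
  apply Over.OverMorphism.ext
  simpa using Over.w b.obj.hom

theorem uniq_of_fp (h𝒯 : IsFibGrpd 𝒯.p) (h𝒯U : Uniq R 𝒯)
    (hP : ∀ y : overCat W ⥤ᵇ 𝒯, Uniq (Rt R) (PP F y)) : Uniq R 𝒮 := by
  intro Ψ x x' c c'
  obtain ⟨g, ⟨hg1, hg2⟩, hguniq⟩ := h𝒯U (BasedFunctor.comp Ψ F) (F.obj x) (F.obj x')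
    (mapCocone F Ψ c) (mapCocone F Ψ c')
  have hgiso : IsIso g := isIso_of_isHomLift h𝒯 (𝟙 W) g
  obtain ⟨y, ε, hε⟩ := exists_chart_of_obj h𝒯 (F.obj x') (mapCocone F Ψ c').base
  obtain ⟨θ, hθ⟩ := exists_iso_of_cocones h𝒯 ((chartCocone (R := R) y).postcomp ε.hom hε)
    (mapCocone F Ψ c')
  have hθ' : ∀ a : (sieveCat R).obj,
      θ.hom.toNatTrans.app a ≫ F.map (c'.lam a) = y.map (toId a.obj) ≫ ε.hom := hθ
  have hgc : ∀ a : (sieveCat R).obj, F.map (c.lam a) ≫ g = F.map (c'.lam a) := hg2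
  have hinv : 𝒯.p.IsHomLift (𝟙 W) (inv g) := inferInstance
  have hεg : 𝒯.p.IsHomLift (𝟙 W) (ε.hom ≫ inv g) := by
    have : 𝒯.p.IsHomLift (𝟙 W ≫ 𝟙 W) (ε.hom ≫ inv g) := inferInstance
    simpa using this
  let P' : (fp y F).obj := fpMk y F (Over.mk (𝟙 W)) x' ε hε
  let P : (fp y F).obj := fpMk y F (Over.mk (𝟙 W)) x (ε ≪≫ (asIso g).symm) hεg
  let cP' : Cocone (PsiT F y Ψ θ) P' :=
    { base := rfl
      lam := fun b => fpHomMk (x := (PsiT F y Ψ θ).obj b) (y := P') b.obj.hom (c'.lam ((piT R).obj b)) (by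
        change y.map b.obj.hom ≫ ε.hom = θ.hom.toNatTrans.app ((piT R).obj b) ≫ F.map (c'.lam ((piT R).obj b))
        rw [hθ' ((piT R).obj b), obj_hom_eq_toId b]
        rfl)
      lift := fun b => isHomLift_fpHomMk F y _ _ _
      nat := fun {b b'} m => by
        apply fp_hom_ext
        · exact Over.w m.hom
        · exact c'.nat ((piT R).map m) }
  let cP : Cocone (PsiT F y Ψ θ) P :=
    { base := rfl
      lam := fun b => fpHomMk (x := (PsiT F y Ψ θ).obj b) (y := P) b.obj.hom (c.lam ((piT R).obj b)) (by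
        change y.map b.obj.hom ≫ (ε.hom ≫ inv g) =
          θ.hom.toNatTrans.app ((piT R).obj b) ≫ F.map (c.lam ((piT R).obj b))
        have h1 : F.map (c.lam ((piT R).obj b)) = F.map (c'.lam ((piT R).obj b)) ≫ inv g := by
          rw [← hgc ((piT R).obj b), Category.assoc, IsIso.hom_inv_id, Category.comp_id]
        calc y.map b.obj.hom ≫ (ε.hom ≫ inv g)
            = (y.map (toId ((piT R).obj b).obj) ≫ ε.hom) ≫ inv g := by
              rw [obj_hom_eq_toId b, Category.assoc]; rfl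
          _ = (θ.hom.toNatTrans.app ((piT R).obj b) ≫ F.map (c'.lam ((piT R).obj b))) ≫ inv g := by
              rw [hθ' ((piT R).obj b)]
          _ = θ.hom.toNatTrans.app ((piT R).obj b) ≫ F.map (c.lam ((piT R).obj b)) := by
              rw [h1, Category.assoc])
      lift := fun b => isHomLift_fpHomMk F y _ _ _
      nat := fun {b b'} m => by
        apply fp_hom_ext
        · exact Over.w m.hom
        · exact c.nat ((piT R).map m) }
  obtain ⟨H, ⟨hH1, hH2⟩, hHuniq⟩ := hP y (PsiT F y Ψ θ) P P' cP cP'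
  refine ⟨H.hom.snd, ⟨?_, ?_⟩, ?_⟩
  · have h2 : (fp y F).p.IsHomLift (𝟙 W) H := isHomLift_left F y (𝟙 (Over.mk (𝟙 W))) H hH1
    exact fp_isHomLift_snd' (𝟙 W) H
  · intro a
    exact congrArg (fun φ => φ.hom.snd) (hH2 (sig R a))
  · intro h' hh'
    obtain ⟨hh1, hh2⟩ := hh'
    have hFg : F.map h' = g := by
      apply hguniq (F.map h')
      refine ⟨inferInstance, fun a => ?_⟩
      change F.map (c.lam a) ≫ F.map h' = F.map (c'.lam a)
      rw [← hh2 a]
      exact (F.toFunctor.map_comp _ _).symm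
    let H' : P ⟶ P' := fpHomMk (x := P) (y := P') (𝟙 (Over.mk (𝟙 W))) h' (by
      change y.map (𝟙 (Over.mk (𝟙 W))) ≫ ε.hom = (ε.hom ≫ inv g) ≫ F.map h'
      rw [hFg, Category.assoc, IsIso.inv_hom_id, Category.comp_id]
      have : y.map (𝟙 (Over.mk (𝟙 W))) = 𝟙 _ := y.toFunctor.map_id _
      rw [this, Category.id_comp])
    have hH' : H' = H := by
      apply hHuniq H'
      refine ⟨IsHomLift.map (PP F y).p H', fun b => ?_⟩
      apply fp_hom_ext
      · exact Category.comp_id _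
      · exact hh2 ((piT R).obj b)
    rw [← hH']
    rfl

end Groth.Agent.Helper19.StkFpOver
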