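import Mathlib
import Groth.Prelude.Def_AlgSt
import Groth.Agent.S6416
import Groth.Agent.Lib.Helper19.FibLib
import Groth.Agent.Lib.Helper19.StkElem
import Groth.Agent.Lib.Helper19.StkFpOver
import Groth.Agent.Lib.Helper19.RestrTop

/-!
# A stack over a stack (inherited topology) is a stack over the base (helper19)
-/

set_option autoImplicit false
set_option backward.isDefEq.respectTransparency false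

universe v u

open CategoryTheory

namespace Groth.Agent.Helper19.StkComp

open FibCat Stk Groth.Agent.Helper19.FibLib Groth.Agent.Helper19.StkElem

variable {C : Type u} [Category.{v} C] {𝒳 : BasedCategory.{v, max u v} C}
  (𝒴 : BasedCategory.{v, max u v} 𝒳.obj)

/-- the upper category over the base. -/
abbrev WW : BasedCategory.{v, max u v} C := BasedCategory.ofFunctor (𝒴.p ⋙ 𝒳.p)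

/-- the structure functor of the upper category as a functor over the base. -/
def QQ : WW 𝒴 ⥤ᵇ 𝒳 where
  toFunctor := 𝒴.p
  w := rfl

variable (x₁ : 𝒳.obj) (R : Sieve (𝒳.p.obj x₁))

/-- the sieve on `x₁` of arrows over `R`. -/
abbrev SS : Sieve x₁ := Sieve.functorPullback 𝒳.p R

theorem le_pushforward (h𝒳 : IsFibGrpd 𝒳.p) : R ≤ (SS x₁ R).functorPushforward 𝒳.p := by
  intro V f hf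
  obtain ⟨x', φ, hφ⟩ := h𝒳.exists_lift (x := x₁) f
  have h1 := IsHomLift.fac 𝒳.p f φ
  have h2 := IsHomLift.fac' 𝒳.p f φ
  refine ⟨x', φ, eqToHom (IsHomLift.domain_eq 𝒳.p f φ).symm, ?_, ?_⟩
  · change R (𝒳.p.map φ)
    rw [h2]
    simp only [eqToHom_refl, Category.comp_id]
    exact R.downward_closed hf _
  · rw [h2]
    simp

/-- the image in the sieve `R`. -/
def aOf (s : (sieveCat (SS x₁ R)).obj) : (sieveCat R).obj :=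
  ⟨Over.mk (𝒳.p.map s.obj.hom), s.property⟩

/-- the image of a morphism in the sieve `R`. -/
def aMap {s s' : (sieveCat (SS x₁ R)).obj} (m : s ⟶ s') : aOf x₁ R s ⟶ aOf x₁ R s' :=
  ObjectProperty.homMk (Over.homMk (𝒳.p.map m.hom.left) (by
    change 𝒳.p.map m.hom.left ≫ 𝒳.p.map s'.obj.hom = 𝒳.p.map s.obj.hom
    rw [← 𝒳.p.map_comp, Over.w m.hom]))

theorem aMap_comp {s s' s'' : (sieveCat (SS x₁ R)).obj} (m : s ⟶ s') (m' : s' ⟶ s'') :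
    aMap x₁ R (m ≫ m') = aMap x₁ R m ≫ aMap x₁ R m' := by
  apply ObjectProperty.hom_ext
  apply Over.OverMorphism.ext
  exact 𝒳.p.map_comp _ _

theorem aMap_id (s : (sieveCat (SS x₁ R)).obj) : aMap x₁ R (𝟙 s) = 𝟙 _ := by
  apply ObjectProperty.hom_ext
  apply Over.OverMorphism.ext
  exact 𝒳.p.map_id _

variable {x₁ R} (Ψ : sieveCat R ⥤ᵇ WW 𝒴) (c : Cocone (BasedFunctor.comp Ψ (QQ 𝒴)) x₁)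
  (h𝒳 : IsFibGrpd 𝒳.p) (h𝒴 : IsFibGrpd 𝒴.p)

include h𝒳 in
theorem jj_exists (s : (sieveCat (SS x₁ R)).obj) :
    ∃! j : s.obj.left ⟶ 𝒴.p.obj (Ψ.obj (aOf x₁ R s)),
      𝒳.p.IsHomLift (𝟙 (𝒳.p.obj s.obj.left)) j ∧ j ≫ c.lam (aOf x₁ R s) = s.obj.hom := by
  have : 𝒳.p.IsHomLift (𝒳.p.map s.obj.hom) (c.lam (aOf x₁ R s)) := c.lift (aOf x₁ R s)
  exact existsUnique_fac h𝒳 (𝒳.p.map s.obj.hom) (c.lam (aOf x₁ R s)) (𝟙 _) (𝒳.p.map s.obj.hom)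
    (Category.id_comp _).symm s.obj.hom

/-- the comparison isomorphism in `𝒳`. -/
noncomputable def jj (s : (sieveCat (SS x₁ R)).obj) : s.obj.left ⟶ 𝒴.p.obj (Ψ.obj (aOf x₁ R s)) :=
  (jj_exists 𝒴 Ψ c h𝒳 s).choose

theorem jj_lift (s : (sieveCat (SS x₁ R)).obj) :
    𝒳.p.IsHomLift (𝟙 (𝒳.p.obj s.obj.left)) (jj 𝒴 Ψ c h𝒳 s) :=
  (jj_exists 𝒴 Ψ c h𝒳 s).choose_spec.1.1

theorem jj_comp (s : (sieveCat (SS x₁ R)).obj) :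
    jj 𝒴 Ψ c h𝒳 s ≫ c.lam (aOf x₁ R s) = s.obj.hom :=
  (jj_exists 𝒴 Ψ c h𝒳 s).choose_spec.1.2

theorem jj_isIso (s : (sieveCat (SS x₁ R)).obj) : IsIso (jj 𝒴 Ψ c h𝒳 s) := by
  have := jj_lift 𝒴 Ψ c h𝒳 s
  exact isIso_of_isHomLift h𝒳 (𝟙 (𝒳.p.obj s.obj.left)) (jj 𝒴 Ψ c h𝒳 s)

theorem jj_nat {s s' : (sieveCat (SS x₁ R)).obj} (m : s ⟶ s') :
    jj 𝒴 Ψ c h𝒳 s ≫ 𝒴.p.map (Ψ.map (aMap x₁ R m)) = m.hom.left ≫ jj 𝒴 Ψ c h𝒳 s' := by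
  have := jj_lift 𝒴 Ψ c h𝒳 s
  have := jj_lift 𝒴 Ψ c h𝒳 s'
  have : 𝒳.p.IsHomLift (𝒳.p.map s'.obj.hom) (c.lam (aOf x₁ R s')) := c.lift (aOf x₁ R s')
  have l0 : 𝒳.p.IsHomLift (𝒳.p.map m.hom.left) (𝒴.p.map (Ψ.map (aMap x₁ R m))) :=
    isHomLift_map_sieve (BasedFunctor.comp Ψ (QQ 𝒴)) (aMap x₁ R m)
  have l1 : 𝒳.p.IsHomLift (𝒳.p.map m.hom.left)
      (jj 𝒴 Ψ c h𝒳 s ≫ 𝒴.p.map (Ψ.map (aMap x₁ R m))) := by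
    have : 𝒳.p.IsHomLift (𝟙 _ ≫ 𝒳.p.map m.hom.left)
        (jj 𝒴 Ψ c h𝒳 s ≫ 𝒴.p.map (Ψ.map (aMap x₁ R m))) := inferInstance
    simpa using this
  have l2 : 𝒳.p.IsHomLift (𝒳.p.map m.hom.left) (m.hom.left ≫ jj 𝒴 Ψ c h𝒳 s') := by
    have : 𝒳.p.IsHomLift (𝒳.p.map m.hom.left ≫ 𝟙 _) (m.hom.left ≫ jj 𝒴 Ψ c h𝒳 s') := inferInstance
    simpa using this
  apply hom_ext_of_comp_eq h𝒳 (𝒳.p.map s'.obj.hom) (c.lam (aOf x₁ R s')) (𝒳.p.map m.hom.left)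
  have hn : 𝒴.p.map (Ψ.map (aMap x₁ R m)) ≫ c.lam (aOf x₁ R s') = c.lam (aOf x₁ R s) :=
    c.nat (aMap x₁ R m)
  rw [Category.assoc, hn, jj_comp, Category.assoc, jj_comp, Over.w m.hom]

include h𝒴 in
theorem wOf_exists (s : (sieveCat (SS x₁ R)).obj) :
    ∃ (w : 𝒴.obj) (l : w ⟶ Ψ.obj (aOf x₁ R s)), 𝒴.p.IsHomLift (jj 𝒴 Ψ c h𝒳 s) l :=
  h𝒴.exists_lift (x := Ψ.obj (aOf x₁ R s)) (jj 𝒴 Ψ c h𝒳 s)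

/-- the chosen object over the source of `s`. -/
noncomputable def wOf (s : (sieveCat (SS x₁ R)).obj) : 𝒴.obj := (wOf_exists 𝒴 Ψ c h𝒳 h𝒴 s).choose

/-- the chosen lift of the comparison isomorphism. -/
noncomputable def lamOf (s : (sieveCat (SS x₁ R)).obj) : wOf 𝒴 Ψ c h𝒳 h𝒴 s ⟶ Ψ.obj (aOf x₁ R s) :=
  (wOf_exists 𝒴 Ψ c h𝒳 h𝒴 s).choose_spec.choose

theorem lamOf_lift (s : (sieveCat (SS x₁ R)).obj) :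
    𝒴.p.IsHomLift (jj 𝒴 Ψ c h𝒳 s) (lamOf 𝒴 Ψ c h𝒳 h𝒴 s) :=
  (wOf_exists 𝒴 Ψ c h𝒳 h𝒴 s).choose_spec.choose_spec

theorem lamOf_isIso (s : (sieveCat (SS x₁ R)).obj) : IsIso (lamOf 𝒴 Ψ c h𝒳 h𝒴 s) := by
  have := lamOf_lift 𝒴 Ψ c h𝒳 h𝒴 s
  have := jj_isIso 𝒴 Ψ c h𝒳 s
  exact isIso_of_isHomLift h𝒴 (jj 𝒴 Ψ c h𝒳 s) (lamOf 𝒴 Ψ c h𝒳 h𝒴 s)

theorem wOf_obj (s : (sieveCat (SS x₁ R)).obj) : 𝒴.p.obj (wOf 𝒴 Ψ c h𝒳 h𝒴 s) = s.obj.left := by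
  have := lamOf_lift 𝒴 Ψ c h𝒳 h𝒴 s
  exact IsHomLift.domain_eq 𝒴.p (jj 𝒴 Ψ c h𝒳 s) (lamOf 𝒴 Ψ c h𝒳 h𝒴 s)

theorem tMap_exists {s s' : (sieveCat (SS x₁ R)).obj} (m : s ⟶ s') :
    ∃! χ : wOf 𝒴 Ψ c h𝒳 h𝒴 s ⟶ wOf 𝒴 Ψ c h𝒳 h𝒴 s',
      𝒴.p.IsHomLift m.hom.left χ ∧
        χ ≫ lamOf 𝒴 Ψ c h𝒳 h𝒴 s' = lamOf 𝒴 Ψ c h𝒳 h𝒴 s ≫ Ψ.map (aMap x₁ R m) := by
  have := lamOf_lift 𝒴 Ψ c h𝒳 h𝒴 s
  have := lamOf_lift 𝒴 Ψ c h𝒳 h𝒴 s'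
  have l1 : 𝒴.p.IsHomLift (jj 𝒴 Ψ c h𝒳 s ≫ 𝒴.p.map (Ψ.map (aMap x₁ R m)))
      (lamOf 𝒴 Ψ c h𝒳 h𝒴 s ≫ Ψ.map (aMap x₁ R m)) := inferInstance
  exact existsUnique_fac h𝒴 (jj 𝒴 Ψ c h𝒳 s') (lamOf 𝒴 Ψ c h𝒳 h𝒴 s') m.hom.left
    (jj 𝒴 Ψ c h𝒳 s ≫ 𝒴.p.map (Ψ.map (aMap x₁ R m))) (jj_nat 𝒴 Ψ c h𝒳 m)
    (lamOf 𝒴 Ψ c h𝒳 h𝒴 s ≫ Ψ.map (aMap x₁ R m))

/-- the transition morphisms of the descent datum over `𝒳`. -/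
noncomputable def tMap {s s' : (sieveCat (SS x₁ R)).obj} (m : s ⟶ s') :
    wOf 𝒴 Ψ c h𝒳 h𝒴 s ⟶ wOf 𝒴 Ψ c h𝒳 h𝒴 s' := (tMap_exists 𝒴 Ψ c h𝒳 h𝒴 m).choose

theorem tMap_lift {s s' : (sieveCat (SS x₁ R)).obj} (m : s ⟶ s') :
    𝒴.p.IsHomLift m.hom.left (tMap 𝒴 Ψ c h𝒳 h𝒴 m) :=
  (tMap_exists 𝒴 Ψ c h𝒳 h𝒴 m).choose_spec.1.1

theorem tMap_comp_lamOf {s s' : (sieveCat (SS x₁ R)).obj} (m : s ⟶ s') :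
    tMap 𝒴 Ψ c h𝒳 h𝒴 m ≫ lamOf 𝒴 Ψ c h𝒳 h𝒴 s' = lamOf 𝒴 Ψ c h𝒳 h𝒴 s ≫ Ψ.map (aMap x₁ R m) :=
  (tMap_exists 𝒴 Ψ c h𝒳 h𝒴 m).choose_spec.1.2

theorem tMap_unique {s s' : (sieveCat (SS x₁ R)).obj} (m : s ⟶ s')
    (χ : wOf 𝒴 Ψ c h𝒳 h𝒴 s ⟶ wOf 𝒴 Ψ c h𝒳 h𝒴 s') (h1 : 𝒴.p.IsHomLift m.hom.left χ)
    (h2 : χ ≫ lamOf 𝒴 Ψ c h𝒳 h𝒴 s' = lamOf 𝒴 Ψ c h𝒳 h𝒴 s ≫ Ψ.map (aMap x₁ R m)) :
    χ = tMap 𝒴 Ψ c h𝒳 h𝒴 m :=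
  (tMap_exists 𝒴 Ψ c h𝒳 h𝒴 m).choose_spec.2 χ ⟨h1, h2⟩

/-- the descent datum over `𝒳`. -/
noncomputable def PsiT : sieveCat (SS x₁ R) ⥤ᵇ 𝒴 :=
  mkBased
    { obj := wOf 𝒴 Ψ c h𝒳 h𝒴
      map := fun m => tMap 𝒴 Ψ c h𝒳 h𝒴 m
      map_id := fun s => by
        symm
        apply tMap_unique
        · exact IsHomLift.id (wOf_obj 𝒴 Ψ c h𝒳 h𝒴 s)
        · rw [aMap_id, Category.id_comp]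
          exact (Category.comp_id _).symm.trans (congrArg _ (Ψ.toFunctor.map_id _).symm)
      map_comp := fun {s s' s''} m m' => by
        symm
        apply tMap_unique
        · have := tMap_lift 𝒴 Ψ c h𝒳 h𝒴 m
          have := tMap_lift 𝒴 Ψ c h𝒳 h𝒴 m'
          change 𝒴.p.IsHomLift (m.hom.left ≫ m'.hom.left) _
          infer_instance
        · rw [Category.assoc, tMap_comp_lamOf, ← Category.assoc, tMap_comp_lamOf, Category.assoc,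
            aMap_comp]
          exact congrArg _ (Ψ.toFunctor.map_comp _ _).symm }
    (fun s => wOf_obj 𝒴 Ψ c h𝒳 h𝒴 s)
    (fun m => tMap_lift 𝒴 Ψ c h𝒳 h𝒴 m)

theorem sOf_mem (a : (sieveCat R).obj) : (SS x₁ R) (c.lam a) := by
  have := c.lift a
  have h2 := IsHomLift.fac' 𝒳.p a.obj.hom (c.lam a)
  change R (𝒳.p.map (c.lam a))
  rw [h2]
  simp only [eqToHom_refl, Category.comp_id]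
  exact R.downward_closed a.property _

/-- the arrow of the upper sieve attached to an arrow of `R`. -/
def sOf (a : (sieveCat R).obj) : (sieveCat (SS x₁ R)).obj := ⟨Over.mk (c.lam a), sOf_mem 𝒴 Ψ c a⟩

/-- functoriality of `sOf`. -/
def sMapOf {a b : (sieveCat R).obj} (h : a ⟶ b) : sOf 𝒴 Ψ c a ⟶ sOf 𝒴 Ψ c b :=
  ObjectProperty.homMk (Over.homMk (𝒴.p.map (Ψ.map h)) (c.nat h))

theorem obj_eq (a : (sieveCat R).obj) : 𝒳.p.obj (𝒴.p.obj (Ψ.obj a)) = a.obj.left :=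
  (BasedFunctor.comp Ψ (QQ 𝒴)).w_obj a

/-- the comparison of an arrow of `R` with its round trip. -/
def ii (a : (sieveCat R).obj) : a ⟶ aOf x₁ R (sOf 𝒴 Ψ c a) :=
  ObjectProperty.homMk (Over.homMk (eqToHom (obj_eq 𝒴 Ψ a).symm) (by
    have := c.lift a
    have h2 := IsHomLift.fac' 𝒳.p a.obj.hom (c.lam a)
    change eqToHom _ ≫ 𝒳.p.map (c.lam a) = a.obj.hom
    rw [h2]
    simp))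

theorem ii_nat {a b : (sieveCat R).obj} (h : a ⟶ b) :
    ii 𝒴 Ψ c a ≫ aMap x₁ R (sMapOf 𝒴 Ψ c h) = h ≫ ii 𝒴 Ψ c b := by
  apply ObjectProperty.hom_ext
  apply Over.OverMorphism.ext
  change eqToHom (obj_eq 𝒴 Ψ a).symm ≫ 𝒳.p.map (𝒴.p.map (Ψ.map h)) =
    h.hom.left ≫ eqToHom (obj_eq 𝒴 Ψ b).symm
  have l0 : 𝒳.p.IsHomLift h.hom.left (𝒴.p.map (Ψ.map h)) :=
    isHomLift_map_sieve (BasedFunctor.comp Ψ (QQ 𝒴)) h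
  have h2 := IsHomLift.fac' 𝒳.p h.hom.left (𝒴.p.map (Ψ.map h))
  rw [h2]
  simp

include h𝒳 h𝒴 c in
theorem eff_aux (hE : Eff (SS x₁ R) 𝒴) : ∃ w : 𝒴.obj, Nonempty (Cocone Ψ w) := by
  obtain ⟨w₀, ⟨ν⟩⟩ := hE (PsiT 𝒴 Ψ c h𝒳 h𝒴)
  have hb : 𝒴.p.obj w₀ = x₁ := ν.base
  have hiso : ∀ s, IsIso (lamOf 𝒴 Ψ c h𝒳 h𝒴 s) := lamOf_isIso 𝒴 Ψ c h𝒳 h𝒴
  refine ⟨w₀, ⟨{ base := ?_
                 lam := fun a => Ψ.map (ii 𝒴 Ψ c a) ≫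
                   inv (lamOf 𝒴 Ψ c h𝒳 h𝒴 (sOf 𝒴 Ψ c a)) ≫ ν.lam (sOf 𝒴 Ψ c a)
                 lift := ?_
                 nat := ?_ }⟩⟩
  · change 𝒳.p.obj (𝒴.p.obj w₀) = 𝒳.p.obj x₁
    rw [hb]
  · intro a
    have l1 : 𝒴.p.IsHomLift (𝒴.p.map (Ψ.map (ii 𝒴 Ψ c a))) (Ψ.map (ii 𝒴 Ψ c a)) :=
      IsHomLift.map _ _
    have := jj_isIso 𝒴 Ψ c h𝒳 (sOf 𝒴 Ψ c a)
    have := lamOf_lift 𝒴 Ψ c h𝒳 h𝒴 (sOf 𝒴 Ψ c a)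
    have l2 : 𝒴.p.IsHomLift (inv (jj 𝒴 Ψ c h𝒳 (sOf 𝒴 Ψ c a)))
        (inv (lamOf 𝒴 Ψ c h𝒳 h𝒴 (sOf 𝒴 Ψ c a))) := IsHomLift.inv _ _ _
    have l3 : 𝒴.p.IsHomLift (c.lam a) (ν.lam (sOf 𝒴 Ψ c a)) := ν.lift (sOf 𝒴 Ψ c a)
    have l4 : 𝒴.p.IsHomLift
        (𝒴.p.map (Ψ.map (ii 𝒴 Ψ c a)) ≫ inv (jj 𝒴 Ψ c h𝒳 (sOf 𝒴 Ψ c a)) ≫ c.lam a)
        (Ψ.map (ii 𝒴 Ψ c a) ≫ inv (lamOf 𝒴 Ψ c h𝒳 h𝒴 (sOf 𝒴 Ψ c a)) ≫ ν.lam (sOf 𝒴 Ψ c a)) :=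
      inferInstance
    have heq : 𝒴.p.map (Ψ.map (ii 𝒴 Ψ c a)) ≫ inv (jj 𝒴 Ψ c h𝒳 (sOf 𝒴 Ψ c a)) ≫ c.lam a =
        c.lam a := by
      have h1 : c.lam a = jj 𝒴 Ψ c h𝒳 (sOf 𝒴 Ψ c a) ≫ c.lam (aOf x₁ R (sOf 𝒴 Ψ c a)) :=
        (jj_comp 𝒴 Ψ c h𝒳 (sOf 𝒴 Ψ c a)).symm
      have h2 : inv (jj 𝒴 Ψ c h𝒳 (sOf 𝒴 Ψ c a)) ≫ c.lam a = c.lam (aOf x₁ R (sOf 𝒴 Ψ c a)) := by
        rw [IsIso.inv_comp_eq]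
        exact h1
      rw [h2]
      exact c.nat (ii 𝒴 Ψ c a)
    rw [heq] at l4
    exact Groth.Agent.S6416.comp_lift 𝒴.p 𝒳.p _ (c.lam a) a.obj.hom l4 (c.lift a)
  · intro a b h
    have h1 : tMap 𝒴 Ψ c h𝒳 h𝒴 (sMapOf 𝒴 Ψ c h) ≫ ν.lam (sOf 𝒴 Ψ c b) = ν.lam (sOf 𝒴 Ψ c a) :=
      ν.nat (sMapOf 𝒴 Ψ c h)
    have h2 := tMap_comp_lamOf 𝒴 Ψ c h𝒳 h𝒴 (sMapOf 𝒴 Ψ c h)
    have h3 : inv (lamOf 𝒴 Ψ c h𝒳 h𝒴 (sOf 𝒴 Ψ c a)) ≫ tMap 𝒴 Ψ c h𝒳 h𝒴 (sMapOf 𝒴 Ψ c h) =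
        Ψ.map (aMap x₁ R (sMapOf 𝒴 Ψ c h)) ≫ inv (lamOf 𝒴 Ψ c h𝒳 h𝒴 (sOf 𝒴 Ψ c b)) := by
      rw [IsIso.inv_comp_eq, ← Category.assoc, ← h2, Category.assoc, IsIso.hom_inv_id,
        Category.comp_id]
    have h4 : Ψ.map (ii 𝒴 Ψ c a) ≫ Ψ.map (aMap x₁ R (sMapOf 𝒴 Ψ c h)) =
        Ψ.map h ≫ Ψ.map (ii 𝒴 Ψ c b) := by
      rw [← Ψ.toFunctor.map_comp, ii_nat, Ψ.toFunctor.map_comp]
    calc Ψ.map h ≫ Ψ.map (ii 𝒴 Ψ c b) ≫ inv (lamOf 𝒴 Ψ c h𝒳 h𝒴 (sOf 𝒴 Ψ c b)) ≫ ν.lam (sOf 𝒴 Ψ c b)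
        = (Ψ.map (ii 𝒴 Ψ c a) ≫ Ψ.map (aMap x₁ R (sMapOf 𝒴 Ψ c h))) ≫
            inv (lamOf 𝒴 Ψ c h𝒳 h𝒴 (sOf 𝒴 Ψ c b)) ≫ ν.lam (sOf 𝒴 Ψ c b) := by
          rw [h4, Category.assoc]
      _ = Ψ.map (ii 𝒴 Ψ c a) ≫ (inv (lamOf 𝒴 Ψ c h𝒳 h𝒴 (sOf 𝒴 Ψ c a)) ≫
            tMap 𝒴 Ψ c h𝒳 h𝒴 (sMapOf 𝒴 Ψ c h)) ≫ ν.lam (sOf 𝒴 Ψ c b) := by
          rw [h3]
          simp only [Category.assoc]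
      _ = Ψ.map (ii 𝒴 Ψ c a) ≫ inv (lamOf 𝒴 Ψ c h𝒳 h𝒴 (sOf 𝒴 Ψ c a)) ≫ ν.lam (sOf 𝒴 Ψ c a) := by
          rw [Category.assoc, h1]

include h𝒳 h𝒴 in
theorem uniq_aux (w w' : 𝒴.obj) (R : Sieve (𝒳.p.obj (𝒴.p.obj w'))) (Ψ : sieveCat R ⥤ᵇ WW 𝒴)
    (d : Cocone Ψ w) (d' : Cocone Ψ w') (h𝒳U : Uniq R 𝒳) (hU : Uniq (SS (𝒴.p.obj w') R) 𝒴) :
    ∃! h : w ⟶ w', (WW 𝒴).p.IsHomLift (𝟙 (𝒳.p.obj (𝒴.p.obj w'))) h ∧ ∀ a, d.lam a ≫ h = d'.lam a := by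
  have hex : ∃! g : 𝒴.p.obj w ⟶ 𝒴.p.obj w', 𝒳.p.IsHomLift (𝟙 (𝒳.p.obj (𝒴.p.obj w'))) g ∧
      ∀ a, 𝒴.p.map (d.lam a) ≫ g = 𝒴.p.map (d'.lam a) :=
    h𝒳U _ _ _ (StkFpOver.mapCocone (QQ 𝒴) Ψ d) (StkFpOver.mapCocone (QQ 𝒴) Ψ d')
  obtain ⟨g, ⟨hg1, hg2'⟩, hguniq⟩ := hex
  have hgiso : IsIso g := isIso_of_isHomLift h𝒳 (𝟙 (𝒳.p.obj (𝒴.p.obj w'))) g
  obtain ⟨wh, γ, hγ⟩ := h𝒴.exists_lift (x := w) (inv g)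
  have hγiso : IsIso γ := isIso_of_isHomLift h𝒴 (inv g) γ
  have hwh : 𝒴.p.obj wh = 𝒴.p.obj w' := IsHomLift.domain_eq 𝒴.p (inv g) γ
  have hγinv : 𝒴.p.IsHomLift g (inv γ) := by
    have : 𝒴.p.IsHomLift (inv (inv g)) (inv γ) := IsHomLift.inv _ _ _
    simpa using this
  have hiso : ∀ s, IsIso (lamOf 𝒴 Ψ (StkFpOver.mapCocone (QQ 𝒴) Ψ d') h𝒳 h𝒴 s) :=
    lamOf_isIso 𝒴 Ψ (StkFpOver.mapCocone (QQ 𝒴) Ψ d') h𝒳 h𝒴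
  let c := StkFpOver.mapCocone (QQ 𝒴) Ψ d'
  have hjj : ∀ s : (sieveCat (SS (𝒴.p.obj w') R)).obj,
      jj 𝒴 Ψ c h𝒳 s ≫ 𝒴.p.map (d'.lam (aOf _ R s)) = s.obj.hom := fun s => jj_comp 𝒴 Ψ c h𝒳 s
  let cT' : Cocone (PsiT 𝒴 Ψ c h𝒳 h𝒴) w' :=
    { base := rfl
      lam := fun s => lamOf 𝒴 Ψ c h𝒳 h𝒴 s ≫ d'.lam (aOf _ R s)
      lift := fun s => by
        have := lamOf_lift 𝒴 Ψ c h𝒳 h𝒴 s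
        have l1 : 𝒴.p.IsHomLift (𝒴.p.map (d'.lam (aOf _ R s))) (d'.lam (aOf _ R s)) :=
          IsHomLift.map _ _
        have l2 : 𝒴.p.IsHomLift (jj 𝒴 Ψ c h𝒳 s ≫ 𝒴.p.map (d'.lam (aOf _ R s)))
            (lamOf 𝒴 Ψ c h𝒳 h𝒴 s ≫ d'.lam (aOf _ R s)) := inferInstance
        rw [hjj s] at l2
        exact l2
      nat := fun {s s'} m => by
        change tMap 𝒴 Ψ c h𝒳 h𝒴 m ≫ lamOf 𝒴 Ψ c h𝒳 h𝒴 s' ≫ d'.lam (aOf _ R s') =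
          lamOf 𝒴 Ψ c h𝒳 h𝒴 s ≫ d'.lam (aOf _ R s)
        rw [← Category.assoc, tMap_comp_lamOf, Category.assoc, d'.nat (aMap _ R m)] }
  let cT : Cocone (PsiT 𝒴 Ψ c h𝒳 h𝒴) wh :=
    { base := hwh
      lam := fun s => lamOf 𝒴 Ψ c h𝒳 h𝒴 s ≫ d.lam (aOf _ R s) ≫ inv γ
      lift := fun s => by
        have := lamOf_lift 𝒴 Ψ c h𝒳 h𝒴 s
        have l1 : 𝒴.p.IsHomLift (𝒴.p.map (d.lam (aOf _ R s))) (d.lam (aOf _ R s)) :=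
          IsHomLift.map _ _
        have l2 : 𝒴.p.IsHomLift (jj 𝒴 Ψ c h𝒳 s ≫ 𝒴.p.map (d.lam (aOf _ R s)) ≫ g)
            (lamOf 𝒴 Ψ c h𝒳 h𝒴 s ≫ d.lam (aOf _ R s) ≫ inv γ) := inferInstance
        rw [hg2' (aOf _ R s), hjj s] at l2
        exact l2
      nat := fun {s s'} m => by
        change tMap 𝒴 Ψ c h𝒳 h𝒴 m ≫ lamOf 𝒴 Ψ c h𝒳 h𝒴 s' ≫ d.lam (aOf _ R s') ≫ inv γ =
          lamOf 𝒴 Ψ c h𝒳 h𝒴 s ≫ d.lam (aOf _ R s) ≫ inv γ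
        rw [← Category.assoc, tMap_comp_lamOf, Category.assoc, ← Category.assoc (Ψ.map _),
          d.nat (aMap _ R m)] }
  obtain ⟨H, ⟨hH1, hH2⟩, hHuniq⟩ := hU _ _ _ cT cT'
  have hH2' : ∀ s, (lamOf 𝒴 Ψ c h𝒳 h𝒴 s ≫ d.lam (aOf _ R s) ≫ inv γ) ≫ H =
      lamOf 𝒴 Ψ c h𝒳 h𝒴 s ≫ d'.lam (aOf _ R s) := hH2
  have hkey : ∀ s, d.lam (aOf _ R s) ≫ inv γ ≫ H = d'.lam (aOf _ R s) := by
    intro s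
    have h1 := hH2' s
    rw [Category.assoc, Category.assoc] at h1
    exact (cancel_epi (lamOf 𝒴 Ψ c h𝒳 h𝒴 s)).1 h1
  refine ⟨inv γ ≫ H, ⟨?_, ?_⟩, ?_⟩
  · have l1 : 𝒴.p.IsHomLift (g ≫ 𝟙 (𝒴.p.obj w')) (inv γ ≫ H) := inferInstance
    rw [Category.comp_id] at l1
    exact Groth.Agent.S6416.comp_lift 𝒴.p 𝒳.p _ g _ l1 hg1
  · intro a
    rw [← d.nat (ii 𝒴 Ψ c a), ← d'.nat (ii 𝒴 Ψ c a), Category.assoc, hkey (sOf 𝒴 Ψ c a)]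
  · intro h' hh'
    obtain ⟨hl, hc⟩ := hh'
    have hl' : 𝒳.p.IsHomLift (𝟙 (𝒳.p.obj (𝒴.p.obj w'))) ((QQ 𝒴).map h') := inferInstance
    have hqg : 𝒴.p.map h' = g := by
      apply hguniq
      refine ⟨hl', fun a => ?_⟩
      rw [← 𝒴.p.map_comp, hc a]
    have l1 : 𝒴.p.IsHomLift g h' := by
      rw [← hqg]
      exact IsHomLift.map _ _
    have hH' : γ ≫ h' = H := by
      apply hHuniq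
      constructor
      · have : 𝒴.p.IsHomLift (inv g ≫ g) (γ ≫ h') := inferInstance
        simpa using this
      · intro s
        change (lamOf 𝒴 Ψ c h𝒳 h𝒴 s ≫ d.lam (aOf _ R s) ≫ inv γ) ≫ γ ≫ h' =
          lamOf 𝒴 Ψ c h𝒳 h𝒴 s ≫ d'.lam (aOf _ R s)
        simp only [Category.assoc, IsIso.inv_hom_id_assoc]
        rw [hc]
    rw [← hH', IsIso.inv_hom_id_assoc]

theorem SS_mem (J : GrothendieckTopology C) (h𝒳 : IsFibGrpd 𝒳.p) (x₁ : 𝒳.obj)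
    (R : Sieve (𝒳.p.obj x₁)) (hR : R ∈ J (𝒳.p.obj x₁)) :
    SS x₁ R ∈ 𝒳.p.restrictedTopology J x₁ :=
  (Groth.Agent.Helper19.RestrTop.mem_restrictedTopology_iff 𝒳.p h𝒳 J _).2
    (J.superset_covering (le_pushforward x₁ R h𝒳) hR)

theorem isStack (J : GrothendieckTopology C) (h𝒳 : IsStack J 𝒳)
    (h𝒴 : IsStack (𝒳.p.restrictedTopology J) 𝒴) : IsStack J (WW 𝒴) := by
  have hW : IsFibGrpd (WW 𝒴).p := Groth.Agent.S6416.result 𝒴.p 𝒳.p h𝒴.1 h𝒳.1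
  refine ⟨hW, fun W R hR => ?_⟩
  rw [isStackFor_iff hW]
  have hX := (isStackFor_iff h𝒳.1).1 (h𝒳.2 R hR)
  constructor
  · intro Ψ
    obtain ⟨x₁, ⟨c⟩⟩ := hX.1 (BasedFunctor.comp Ψ (QQ 𝒴))
    have hb : 𝒳.p.obj x₁ = W := c.base
    subst hb
    have hS := (isStackFor_iff h𝒴.1).1 (h𝒴.2 _ (SS_mem J h𝒳.1 x₁ R hR))
    exact eff_aux 𝒴 Ψ c h𝒳.1 h𝒴.1 hS.1
  · intro Ψ w w' d d'
    have hb : 𝒳.p.obj (𝒴.p.obj w') = W := d'.base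
    subst hb
    have hS := (isStackFor_iff h𝒴.1).1 (h𝒴.2 _ (SS_mem J h𝒳.1 (𝒴.p.obj w') R hR))
    exact uniq_aux 𝒴 h𝒳.1 h𝒴.1 w w' R Ψ d d' hX.2 hS.2

end Groth.Agent.Helper19.StkComp
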