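import Mathlib
import Groth.Prelude.Def_FibCat2
import Groth.Agent.Lib.Helper19.FibLib
import Groth.Agent.Lib.Helper19.RestrTop

/-!
# Functors between categories fibred in groupoids and the inherited topologies (helper19)
-/

set_option autoImplicit false
set_option backward.isDefEq.respectTransparency false

universe v₃ u₃ v₂ u₂ v u

open CategoryTheory

namespace Groth.Agent.Helper19.StkCont

open FibCat Groth.Agent.Helper19.FibLib Groth.Agent.Helper19.RestrTop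

variable {C : Type u} [Category.{v} C] {𝒳 : Type u₂} [Category.{v₂} 𝒳] {𝒴 : Type u₃} [Category.{v₃} 𝒴]
  (q : 𝒴 ⥤ C) (F : 𝒳 ⥤ 𝒴)

theorem coverPreserving (hq : IsFibGrpd q) (hp : IsFibGrpd (F ⋙ q)) (J : GrothendieckTopology C) :
    CoverPreserving ((F ⋙ q).restrictedTopology J) (q.restrictedTopology J) F := by
  constructor
  intro x S hS
  rw [mem_restrictedTopology_iff _ hp] at hS
  rw [mem_restrictedTopology_iff _ hq, ← Sieve.functorPushforward_comp]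
  exact hS

theorem functorPushforward_le (hq : IsFibGrpd q) (hp : IsFibGrpd (F ⋙ q)) {x : 𝒳} (S : Sieve (F.obj x)) :
    S.functorPushforward q ≤ (S.functorPullback F).functorPushforward (F ⋙ q) := by
  intro W g hg
  obtain ⟨z, φ, h, hφ, hfac⟩ := hg
  obtain ⟨x', ψ, hψ⟩ := hp.exists_lift (x := x) g
  obtain ⟨z', χ, hχ⟩ := hq.exists_lift h
  have h1 : q.IsHomLift g (F.map ψ) := by
    have h0 : q.IsHomLift ((F ⋙ q).map ψ) (F.map ψ) := IsHomLift.map q (F.map ψ)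
    have e : (F ⋙ q).map ψ = eqToHom (IsHomLift.domain_eq (F ⋙ q) g ψ) ≫ g ≫
        eqToHom (IsHomLift.codomain_eq (F ⋙ q) g ψ).symm := IsHomLift.fac' (F ⋙ q) g ψ
    have hd := IsHomLift.domain_eq (F ⋙ q) g ψ
    have hc := IsHomLift.codomain_eq (F ⋙ q) g ψ
    exact IsHomLift.of_fac q g (F.map ψ) hd hc (IsHomLift.fac (F ⋙ q) g ψ)
  have h2 : q.IsHomLift (h ≫ q.map φ) (χ ≫ φ) := inferInstance
  rw [← hfac] at h2
  obtain ⟨θ, ⟨hθ, hθc⟩, -⟩ := existsUnique_fac hq g (χ ≫ φ) (𝟙 W) g (Category.id_comp _).symm (F.map ψ)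
  refine ⟨x', ψ, eqToHom (IsHomLift.domain_eq (F ⋙ q) g ψ).symm, ?_, ?_⟩
  · change S (F.map ψ)
    rw [← hθc]
    exact S.downward_closed (S.downward_closed hφ χ) θ
  · have := IsHomLift.fac' (F ⋙ q) g ψ
    rw [this]
    simp

theorem isCocontinuous (hq : IsFibGrpd q) (hp : IsFibGrpd (F ⋙ q)) (J : GrothendieckTopology C) :
    F.IsCocontinuous ((F ⋙ q).restrictedTopology J) (q.restrictedTopology J) := by
  constructor
  intro x S hS
  rw [mem_restrictedTopology_iff _ hq] at hS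
  rw [mem_restrictedTopology_iff _ hp]
  exact J.superset_covering (functorPushforward_le q F hq hp S) hS

theorem isHomLift_map_of_comp {x' x : 𝒳} {V W : C} (g : V ⟶ W) (ψ : x' ⟶ x) [h : (F ⋙ q).IsHomLift g ψ] :
    q.IsHomLift g (F.map ψ) :=
  IsHomLift.of_fac q g (F.map ψ) (IsHomLift.domain_eq (F ⋙ q) g ψ) (IsHomLift.codomain_eq (F ⋙ q) g ψ)
    (IsHomLift.fac (F ⋙ q) g ψ)

universe w in
theorem compatiblePreserving (hq : IsFibGrpd q) (hp : IsFibGrpd (F ⋙ q)) (K : GrothendieckTopology 𝒴) :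
    CompatiblePreserving.{w} K F := by
  constructor
  intro ℱ Z T x hx Y₁ Y₂ X f₁ f₂ g₁ g₂ hg₁ hg₂ heq
  obtain ⟨Y₁', ψ₁, hψ₁⟩ := hp.exists_lift (x := Y₁) (q.map f₁)
  obtain ⟨Y₂', ψ₂, hψ₂⟩ := hp.exists_lift (x := Y₂) (q.map f₂)
  have l1 : q.IsHomLift (q.map f₁) (F.map ψ₁) := isHomLift_map_of_comp q F _ ψ₁
  have l2 : q.IsHomLift (q.map f₂) (F.map ψ₂) := isHomLift_map_of_comp q F _ ψ₂
  obtain ⟨θ₁, ⟨hθ₁, hθ₁c⟩, -⟩ := existsUnique_fac hq (q.map f₁) (F.map ψ₁) (𝟙 (q.obj X)) (q.map f₁)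
    (Category.id_comp _).symm f₁
  obtain ⟨θ₂, ⟨hθ₂, hθ₂c⟩, -⟩ := existsUnique_fac hq (q.map f₂) (F.map ψ₂) (𝟙 (q.obj X)) (q.map f₂)
    (Category.id_comp _).symm f₂
  have hbase : q.map f₁ ≫ (F ⋙ q).map g₁ = 𝟙 (q.obj X) ≫ q.map f₂ ≫ (F ⋙ q).map g₂ := by
    rw [Category.id_comp]
    change q.map f₁ ≫ q.map (F.map g₁) = q.map f₂ ≫ q.map (F.map g₂)
    rw [← q.map_comp, ← q.map_comp, heq]
  obtain ⟨ρ, ⟨hρ, hρc⟩, -⟩ := existsUnique_fac hp (q.map f₂ ≫ (F ⋙ q).map g₂) (ψ₂ ≫ g₂) (𝟙 (q.obj X))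
    (q.map f₁ ≫ (F ⋙ q).map g₁) hbase (ψ₁ ≫ g₁)
  have hcompat := hx ψ₁ (ρ ≫ ψ₂) hg₁ hg₂ (by rw [Category.assoc, hρc])
  -- `θ₁ ≫ F ρ = θ₂`
  have l3 : q.IsHomLift (𝟙 (q.obj X)) (F.map ρ) := isHomLift_map_of_comp q F _ ρ
  have l4 : q.IsHomLift (q.map f₂ ≫ (F ⋙ q).map g₂) (F.map (ψ₂ ≫ g₂)) := isHomLift_map_of_comp q F _ (ψ₂ ≫ g₂)
  have l5 : q.IsHomLift (𝟙 (q.obj X)) (θ₁ ≫ F.map ρ) := by
    have : q.IsHomLift (𝟙 (q.obj X) ≫ 𝟙 (q.obj X)) (θ₁ ≫ F.map ρ) := inferInstance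
    simpa using this
  have hθ : θ₁ ≫ F.map ρ = θ₂ := by
    apply hom_ext_of_comp_eq hq (q.map f₂ ≫ (F ⋙ q).map g₂) (F.map (ψ₂ ≫ g₂)) (𝟙 (q.obj X))
    rw [Category.assoc, ← F.map_comp, hρc, F.map_comp, ← Category.assoc, hθ₁c, heq, F.map_comp,
      ← Category.assoc, hθ₂c]
  have e1 : f₁.op = (F.map ψ₁).op ≫ θ₁.op := by rw [← op_comp, hθ₁c]
  have e2 : f₂.op = (F.map ψ₂).op ≫ (F.map ρ).op ≫ θ₁.op := by
    rw [← op_comp, ← op_comp, hθ, hθ₂c]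
  rw [e1, e2, Functor.map_comp_apply, Functor.map_comp_apply, Functor.map_comp_apply]
  congr 1
  have h3 : ℱ.obj.map (F.map ψ₁).op (x g₁ hg₁) = ℱ.obj.map (F.map (ρ ≫ ψ₂)).op (x g₂ hg₂) := hcompat
  rw [F.map_comp, op_comp, Functor.map_comp_apply] at h3
  exact h3

theorem isContinuous (hq : IsFibGrpd q) (hp : IsFibGrpd (F ⋙ q)) (J : GrothendieckTopology C) :
    F.IsContinuous ((F ⋙ q).restrictedTopology J) (q.restrictedTopology J) :=
  Functor.isContinuous_of_coverPreserving (compatiblePreserving q F hq hp _) (coverPreserving q F hq hp J)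

end Groth.Agent.Helper19.StkCont
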