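import Mathlib
import Groth.Prelude.Def_FibCat2
import Groth.Agent.Lib.Helper19.FibLib
import Groth.Agent.Lib.Helper19.RestrTop

/-!
# `𝒳/x ≌ C/p(x)` for `p` fibred in groupoids (helper19)
-/

set_option autoImplicit false
set_option backward.isDefEq.respectTransparency false

universe v₂ u₂ v u

open CategoryTheory

namespace Groth.Agent.Helper19.StkOverPost

open FibCat Groth.Agent.Helper19.FibLib Groth.Agent.Helper19.RestrTop

variable {C : Type u} [Category.{v} C] {𝒳 : Type u₂} [Category.{v₂} 𝒳] (p : 𝒳 ⥤ C)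

theorem faithful_post (hp : IsFibGrpd p) (x : 𝒳) : (Over.post p : Over x ⥤ Over (p.obj x)).Faithful := by
  constructor
  intro a b f g h
  apply Over.OverMorphism.ext
  have h1 : p.map f.left = p.map g.left := congrArg (fun k => k.left) h
  have l1 : p.IsHomLift (p.map f.left) f.left := IsHomLift.map p f.left
  have l2 : p.IsHomLift (p.map f.left) g.left := by rw [h1]; exact IsHomLift.map p g.left
  have l3 : p.IsHomLift (p.map b.hom) b.hom := IsHomLift.map p b.hom
  apply hom_ext_of_comp_eq hp (p.map b.hom) b.hom (p.map f.left)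
  rw [Over.w f, Over.w g]

theorem full_post (hp : IsFibGrpd p) (x : 𝒳) : (Over.post p : Over x ⥤ Over (p.obj x)).Full := by
  constructor
  intro a b k
  have l3 : p.IsHomLift (p.map b.hom) b.hom := IsHomLift.map p b.hom
  have l4 : p.IsHomLift (p.map a.hom) a.hom := IsHomLift.map p a.hom
  have hk : p.map a.hom = k.left ≫ p.map b.hom := (Over.w k).symm
  obtain ⟨χ, ⟨hχ, hχc⟩, -⟩ := existsUnique_fac hp (p.map b.hom) b.hom k.left (p.map a.hom) hk a.hom
  refine ⟨Over.homMk χ hχc, ?_⟩
  apply Over.OverMorphism.ext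
  exact (IsHomLift.eq_of_isHomLift p k.left χ).symm

theorem essSurj_post (hp : IsFibGrpd p) (x : 𝒳) : (Over.post p : Over x ⥤ Over (p.obj x)).EssSurj := by
  constructor
  intro c
  obtain ⟨y, φ, hφ⟩ := hp.exists_lift (x := x) c.hom
  have hd : p.obj y = c.left := IsHomLift.domain_eq p c.hom φ
  refine ⟨Over.mk φ, ⟨Over.isoMk (eqToIso hd) ?_⟩⟩
  have := IsHomLift.fac' p c.hom φ
  change eqToHom hd ≫ c.hom = p.map φ
  rw [this]
  simp

theorem isEquivalence_post (hp : IsFibGrpd p) (x : 𝒳) :
    (Over.post p : Over x ⥤ Over (p.obj x)).IsEquivalence := by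
  have := faithful_post p hp x
  have := full_post p hp x
  have := essSurj_post p hp x
  exact { }

theorem mem_over_iff (hp : IsFibGrpd p) (J : GrothendieckTopology C) (x : 𝒳) (a : Over x) (S : Sieve a) :
    S ∈ (p.restrictedTopology J).over x a ↔
      S.functorPushforward (Over.post p) ∈ (J.over (p.obj x)) ((Over.post p).obj a) := by
  rw [GrothendieckTopology.mem_over_iff, GrothendieckTopology.mem_over_iff,
    Sieve.overEquiv_functorPushforward_post, mem_restrictedTopology_iff p hp]
  rfl

end Groth.Agent.Helper19.StkOverPost
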