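import Mathlib
import Groth.Prelude.Def_AlgSt
import Groth.Agent.Lib.Helper19.FibLib
import Groth.Agent.Lib.Helper19.StkElem
import Groth.Agent.Lib.Helper19.StkFpOver
import Groth.Agent.Lib.Helper19.RestrTop

/-!
# A stack over a stack is a stack for the inherited topology (helper19)
-/

set_option autoImplicit false
set_option backward.isDefEq.respectTransparency false

universe v u

open CategoryTheory

namespace Groth.Agent.Helper19.StkRel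

open FibCat Stk Groth.Agent.Helper19.FibLib Groth.Agent.Helper19.StkElem

variable {C : Type u} [Category.{v} C] {𝒳 𝒴 : BasedCategory.{v, max u v} C} (F : 𝒳 ⥤ᵇ 𝒴)

/-- the source of `F` as a category over the target. -/
abbrev ZZ : BasedCategory.{v, max u v} 𝒴.obj := BasedCategory.ofFunctor F.toFunctor

theorem isHomLift_comp_base {x x' : 𝒳.obj} {y₁ y₂ : 𝒴.obj} (m : y₁ ⟶ y₂) (φ : x ⟶ x') {V V' : C}
    (g : V ⟶ V') (h1 : F.toFunctor.IsHomLift m φ) (h2 : 𝒴.p.IsHomLift g m) : 𝒳.p.IsHomLift g φ := by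
  cases h1
  exact (BasedFunctor.isHomLift_iff F g φ).1 h2

variable {y : 𝒴.obj} (S : Sieve y)

theorem sieve_hom_ext {s s' : (sieveCat S).obj} {m m' : s ⟶ s'} (h : m.hom.left = m'.hom.left) :
    m = m' := by
  apply ObjectProperty.hom_ext
  apply Over.OverMorphism.ext
  exact h

theorem exists_lift_mem (h𝒴 : IsFibGrpd 𝒴.p) {V : C} (f : V ⟶ 𝒴.p.obj y)
    (hf : (S.functorPushforward 𝒴.p) f) :
    ∃ s : (sieveCat S).obj, 𝒴.p.IsHomLift f s.obj.hom := by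
  obtain ⟨z, φ, h, hφ, hfac⟩ := hf
  obtain ⟨y', ψ, hψ⟩ := h𝒴.exists_lift (x := z) h
  refine ⟨⟨Over.mk (ψ ≫ φ), S.downward_closed hφ ψ⟩, ?_⟩
  rw [hfac]
  change 𝒴.p.IsHomLift (h ≫ 𝒴.p.map φ) (ψ ≫ φ)
  infer_instance

variable (h𝒴 : IsFibGrpd 𝒴.p)

/-- a chosen lift in the sieve. -/
noncomputable def sA (a : (sieveCat (S.functorPushforward 𝒴.p)).obj) : (sieveCat S).obj :=
  (exists_lift_mem S h𝒴 a.obj.hom a.property).choose

theorem sA_lift (a : (sieveCat (S.functorPushforward 𝒴.p)).obj) :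
    𝒴.p.IsHomLift a.obj.hom (sA S h𝒴 a).obj.hom :=
  (exists_lift_mem S h𝒴 a.obj.hom a.property).choose_spec

theorem sMap_exists {a b : (sieveCat (S.functorPushforward 𝒴.p)).obj} (h : a ⟶ b) :
    ∃! χ : (sA S h𝒴 a).obj.left ⟶ (sA S h𝒴 b).obj.left,
      𝒴.p.IsHomLift h.hom.left χ ∧ χ ≫ (sA S h𝒴 b).obj.hom = (sA S h𝒴 a).obj.hom := by
  have := sA_lift S h𝒴 a
  have := sA_lift S h𝒴 b
  exact existsUnique_fac h𝒴 b.obj.hom (sA S h𝒴 b).obj.hom h.hom.left a.obj.hom (Over.w h.hom).symm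
    (sA S h𝒴 a).obj.hom

/-- the chosen lift of a morphism of the pushed-forward sieve. -/
noncomputable def sMap {a b : (sieveCat (S.functorPushforward 𝒴.p)).obj} (h : a ⟶ b) :
    sA S h𝒴 a ⟶ sA S h𝒴 b :=
  ObjectProperty.homMk (Over.homMk (sMap_exists S h𝒴 h).choose (sMap_exists S h𝒴 h).choose_spec.1.2)

theorem sMap_lift {a b : (sieveCat (S.functorPushforward 𝒴.p)).obj} (h : a ⟶ b) :
    𝒴.p.IsHomLift h.hom.left (sMap S h𝒴 h).hom.left :=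
  (sMap_exists S h𝒴 h).choose_spec.1.1

theorem sMap_unique {a b : (sieveCat (S.functorPushforward 𝒴.p)).obj} (h : a ⟶ b)
    (m : sA S h𝒴 a ⟶ sA S h𝒴 b) (hm : 𝒴.p.IsHomLift h.hom.left m.hom.left) : m = sMap S h𝒴 h := by
  apply sieve_hom_ext
  exact (sMap_exists S h𝒴 h).choose_spec.2 m.hom.left ⟨hm, Over.w m.hom⟩

/-- the chosen lifts as a functor. -/
noncomputable def sFun : (sieveCat (S.functorPushforward 𝒴.p)).obj ⥤ (sieveCat S).obj where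
  obj := sA S h𝒴
  map h := sMap S h𝒴 h
  map_id a := by
    symm
    apply sMap_unique
    change 𝒴.p.IsHomLift (𝟙 a.obj.left) (𝟙 (sA S h𝒴 a).obj.left)
    have := sA_lift S h𝒴 a
    exact IsHomLift.id (IsHomLift.domain_eq 𝒴.p a.obj.hom (sA S h𝒴 a).obj.hom)
  map_comp {a b c} h h' := by
    symm
    apply sMap_unique
    have := sMap_lift S h𝒴 h
    have := sMap_lift S h𝒴 h'
    change 𝒴.p.IsHomLift (h.hom.left ≫ h'.hom.left) ((sMap S h𝒴 h).hom.left ≫ (sMap S h𝒴 h').hom.left)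
    infer_instance

variable (Ψt : sieveCat S ⥤ᵇ ZZ F)

theorem obj_eq (s : (sieveCat S).obj) : F.obj (Ψt.obj s) = s.obj.left := Ψt.w_obj s

/-- the descent datum over the base obtained from the chosen lifts. -/
noncomputable def PsiDown : sieveCat (S.functorPushforward 𝒴.p) ⥤ᵇ 𝒳 :=
  mkBased (sFun S h𝒴 ⋙ Ψt.toFunctor)
    (fun a => by
      have := sA_lift S h𝒴 a
      change 𝒳.p.obj (Ψt.obj (sA S h𝒴 a)) = a.obj.left
      rw [← F.w_obj, obj_eq F S Ψt]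
      exact IsHomLift.domain_eq 𝒴.p a.obj.hom (sA S h𝒴 a).obj.hom)
    (fun {a b} h => by
      change 𝒳.p.IsHomLift h.hom.left (Ψt.map (sMap S h𝒴 h))
      exact isHomLift_comp_base F (sMap S h𝒴 h).hom.left _ h.hom.left
        (isHomLift_map_sieve Ψt (sMap S h𝒴 h)) (sMap_lift S h𝒴 h))

/-- the structure morphism to the base object. -/
def tau (s : (sieveCat S).obj) : F.obj (Ψt.obj s) ⟶ y := eqToHom (obj_eq F S Ψt s) ≫ s.obj.hom

theorem tau_nat {s s' : (sieveCat S).obj} (m : s ⟶ s') :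
    F.map (Ψt.map m) ≫ tau F S Ψt s' = tau F S Ψt s := by
  have h1 := isHomLift_map_sieve Ψt m
  have h2 := IsHomLift.fac' (ZZ F).p m.hom.left (Ψt.map m)
  change F.map (Ψt.map m) = _ at h2
  rw [tau, tau, h2]
  simp only [Category.assoc, eqToHom_trans_assoc, eqToHom_refl, Category.id_comp]
  rw [Over.w m.hom]

theorem tau_lift (s : (sieveCat S).obj) {V : C} (f : V ⟶ 𝒴.p.obj y) (h : 𝒴.p.IsHomLift f s.obj.hom) :
    𝒴.p.IsHomLift f (tau F S Ψt s) := by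
  rw [tau]
  infer_instance

theorem isHomLift_iff_tau (s : (sieveCat S).obj) {x₀ : 𝒳.obj} (hx₀ : F.obj x₀ = y)
    (ν : Ψt.obj s ⟶ x₀) :
    F.toFunctor.IsHomLift s.obj.hom ν ↔ F.map ν ≫ eqToHom hx₀ = tau F S Ψt s := by
  constructor
  · intro h
    have h2 := IsHomLift.fac' F.toFunctor s.obj.hom ν
    change F.map ν = _ at h2
    rw [h2, tau]
    simp
  · intro h
    apply IsHomLift.of_fac F.toFunctor s.obj.hom ν (obj_eq F S Ψt s) hx₀
    change s.obj.hom = _ ≫ F.map ν ≫ _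
    rw [h, tau]
    simp

/-- the image in the pushed-forward sieve. -/
def aOf (s : (sieveCat S).obj) : (sieveCat (S.functorPushforward 𝒴.p)).obj :=
  ⟨Over.mk (𝒴.p.map s.obj.hom), Sieve.image_mem_functorPushforward 𝒴.p S s.property⟩

/-- the image of a morphism in the pushed-forward sieve. -/
def aMap {s s' : (sieveCat S).obj} (m : s ⟶ s') : aOf S s ⟶ aOf S s' :=
  ObjectProperty.homMk (Over.homMk (𝒴.p.map m.hom.left) (by
    change 𝒴.p.map m.hom.left ≫ 𝒴.p.map s'.obj.hom = 𝒴.p.map s.obj.hom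
    rw [← 𝒴.p.map_comp, Over.w m.hom]))

theorem iota_exists (s : (sieveCat S).obj) :
    ∃! χ : s.obj.left ⟶ (sA S h𝒴 (aOf S s)).obj.left,
      𝒴.p.IsHomLift (𝟙 (𝒴.p.obj s.obj.left)) χ ∧ χ ≫ (sA S h𝒴 (aOf S s)).obj.hom = s.obj.hom := by
  have : 𝒴.p.IsHomLift (𝒴.p.map s.obj.hom) (sA S h𝒴 (aOf S s)).obj.hom := sA_lift S h𝒴 (aOf S s)
  exact existsUnique_fac h𝒴 (𝒴.p.map s.obj.hom) (sA S h𝒴 (aOf S s)).obj.hom (𝟙 _) (𝒴.p.map s.obj.hom)
    (Category.id_comp _).symm s.obj.hom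

/-- the comparison with the chosen lift. -/
noncomputable def iota (s : (sieveCat S).obj) : s ⟶ sA S h𝒴 (aOf S s) :=
  ObjectProperty.homMk (Over.homMk (iota_exists S h𝒴 s).choose (iota_exists S h𝒴 s).choose_spec.1.2)

theorem iota_lift (s : (sieveCat S).obj) :
    𝒴.p.IsHomLift (𝟙 (𝒴.p.obj s.obj.left)) (iota S h𝒴 s).hom.left :=
  (iota_exists S h𝒴 s).choose_spec.1.1

theorem iota_nat {s s' : (sieveCat S).obj} (m : s ⟶ s') :
    m ≫ iota S h𝒴 s' = iota S h𝒴 s ≫ sMap S h𝒴 (aMap S m) := by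
  apply sieve_hom_ext
  change m.hom.left ≫ (iota S h𝒴 s').hom.left = (iota S h𝒴 s).hom.left ≫ (sMap S h𝒴 (aMap S m)).hom.left
  have : 𝒴.p.IsHomLift (𝒴.p.map s'.obj.hom) (sA S h𝒴 (aOf S s')).obj.hom :=
    sA_lift S h𝒴 (aOf S s')
  have := iota_lift S h𝒴 s
  have := iota_lift S h𝒴 s'
  have : 𝒴.p.IsHomLift (𝒴.p.map m.hom.left) (sMap S h𝒴 (aMap S m)).hom.left :=
    sMap_lift S h𝒴 (aMap S m)
  have l1 : 𝒴.p.IsHomLift (𝒴.p.map m.hom.left) (m.hom.left ≫ (iota S h𝒴 s').hom.left) := by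
    have : 𝒴.p.IsHomLift (𝒴.p.map m.hom.left ≫ 𝟙 _) (m.hom.left ≫ (iota S h𝒴 s').hom.left) :=
      inferInstance
    simpa using this
  have l2 : 𝒴.p.IsHomLift (𝒴.p.map m.hom.left)
      ((iota S h𝒴 s).hom.left ≫ (sMap S h𝒴 (aMap S m)).hom.left) := by
    have : 𝒴.p.IsHomLift (𝟙 _ ≫ 𝒴.p.map m.hom.left)
        ((iota S h𝒴 s).hom.left ≫ (sMap S h𝒴 (aMap S m)).hom.left) := inferInstance
    simpa using this
  apply hom_ext_of_comp_eq h𝒴 (𝒴.p.map s'.obj.hom) (sA S h𝒴 (aOf S s')).obj.hom (𝒴.p.map m.hom.left)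
  rw [Category.assoc, Category.assoc, Over.w (iota S h𝒴 s').hom, Over.w m.hom,
    Over.w (sMap S h𝒴 (aMap S m)).hom, Over.w (iota S h𝒴 s).hom]

/-- the cocone of the base object in `𝒴`. -/
noncomputable def tauCocone : Cocone (BasedFunctor.comp (PsiDown F S h𝒴 Ψt) F) y where
  base := rfl
  lam a := tau F S Ψt (sA S h𝒴 a)
  lift a := tau_lift F S Ψt _ a.obj.hom (sA_lift S h𝒴 a)
  nat h := tau_nat F S Ψt (sMap S h𝒴 h)

/-- restrict a cocone over `𝒴` to the chosen lifts. -/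
noncomputable def downCocone {x : 𝒳.obj} (c : Cocone Ψt x) : Cocone (PsiDown F S h𝒴 Ψt) x where
  base := by
    have h : F.obj x = y := c.base
    rw [← F.w_obj, h]
  lam a := c.lam (sA S h𝒴 a)
  lift a := isHomLift_comp_base F (sA S h𝒴 a).obj.hom _ a.obj.hom (c.lift (sA S h𝒴 a)) (sA_lift S h𝒴 a)
  nat h := c.nat (sMap S h𝒴 h)

include h𝒴 in
theorem eff (h𝒳E : Eff (S.functorPushforward 𝒴.p) 𝒳) (h𝒴U : Uniq (S.functorPushforward 𝒴.p) 𝒴)
    (hF : IsFibGrpd F.toFunctor) : Eff S (ZZ F) := by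
  intro Ψt
  obtain ⟨x₁, ⟨c₁⟩⟩ := h𝒳E (PsiDown F S h𝒴 Ψt)
  obtain ⟨ε, ⟨hε1, hε2⟩, -⟩ := h𝒴U _ _ _ (StkFpOver.mapCocone F _ c₁) (tauCocone F S h𝒴 Ψt)
  have hεiso : IsIso ε := isIso_of_isHomLift h𝒴 (𝟙 (𝒴.p.obj y)) ε
  obtain ⟨x₀, κ, hκ⟩ := hF.exists_lift (x := x₁) (inv ε)
  have hκiso : IsIso κ := isIso_of_isHomLift hF (inv ε) κ
  have hx₀ : F.obj x₀ = y := IsHomLift.domain_eq F.toFunctor (inv ε) κ
  have hκ' : F.map (inv κ) ≫ eqToHom hx₀ = ε := by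
    have h1 := IsHomLift.fac' F.toFunctor (inv ε) κ
    have h2 : F.map κ = eqToHom hx₀ ≫ inv ε := by simpa using h1
    have h3 : F.map (inv κ) ≫ F.map κ = 𝟙 _ := by
      rw [← F.toFunctor.map_comp]
      simp
    rw [h2, ← Category.assoc] at h3
    have h4 := (IsIso.comp_inv_eq ε).1 h3
    simpa using h4
  have hε2' : ∀ a, F.map (c₁.lam a) ≫ ε = tau F S Ψt (sA S h𝒴 a) := hε2
  refine ⟨x₀, ⟨{ base := hx₀
                 lam := fun s => Ψt.map (iota S h𝒴 s) ≫ c₁.lam (aOf S s) ≫ inv κ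
                 lift := ?_
                 nat := ?_ }⟩⟩
  · intro s
    refine (isHomLift_iff_tau F S Ψt s hx₀ _).2 ?_
    calc F.map (Ψt.map (iota S h𝒴 s) ≫ c₁.lam (aOf S s) ≫ inv κ) ≫ eqToHom hx₀
        = F.map (Ψt.map (iota S h𝒴 s)) ≫ F.map (c₁.lam (aOf S s)) ≫ (F.map (inv κ) ≫ eqToHom hx₀) := by
          rw [F.toFunctor.map_comp, F.toFunctor.map_comp, Category.assoc, Category.assoc]
      _ = F.map (Ψt.map (iota S h𝒴 s)) ≫ tau F S Ψt (sA S h𝒴 (aOf S s)) := by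
          rw [hκ', hε2' (aOf S s)]
      _ = tau F S Ψt s := tau_nat F S Ψt (iota S h𝒴 s)
  · intro s s' m
    have h1 : Ψt.map (sMap S h𝒴 (aMap S m)) ≫ c₁.lam (aOf S s') = c₁.lam (aOf S s) := c₁.nat (aMap S m)
    rw [← h1, ← Category.assoc, ← Ψt.toFunctor.map_comp, iota_nat S h𝒴 m, Ψt.toFunctor.map_comp]
    simp only [Category.assoc]

include h𝒴 in
theorem uniq (h𝒳U : Uniq (S.functorPushforward 𝒴.p) 𝒳) (h𝒴U : Uniq (S.functorPushforward 𝒴.p) 𝒴) :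
    Uniq S (ZZ F) := by
  intro Ψt x x' c c'
  obtain ⟨h, ⟨hh1, hh2⟩, hhuniq⟩ := h𝒳U _ x x' (downCocone F S h𝒴 Ψt c) (downCocone F S h𝒴 Ψt c')
  have hh2' : ∀ a, c.lam (sA S h𝒴 a) ≫ h = c'.lam (sA S h𝒴 a) := hh2
  have hcompat : ∀ s, c.lam s ≫ h = c'.lam s := by
    intro s
    rw [← c.nat (iota S h𝒴 s), ← c'.nat (iota S h𝒴 s), Category.assoc, hh2' (aOf S s)]
  have hxb : F.obj x = y := c.base
  have hxb' : F.obj x' = y := c'.base
  have hF1 : F.toFunctor.IsHomLift (𝟙 y) h := by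
    obtain ⟨e, -, heuniq⟩ := h𝒴U _ _ _ (StkFpOver.mapCocone F _ (downCocone F S h𝒴 Ψt c))
      (tauCocone F S h𝒴 Ψt)
    have he1 : eqToHom hxb = e := by
      apply heuniq
      refine ⟨IsHomLift.eqToHom_codomain_lift_id hxb rfl, fun a => ?_⟩
      exact (isHomLift_iff_tau F S Ψt (sA S h𝒴 a) hxb (c.lam (sA S h𝒴 a))).1 (c.lift (sA S h𝒴 a))
    have he2 : F.map h ≫ eqToHom hxb' = e := by
      apply heuniq
      refine ⟨inferInstance, fun a => ?_⟩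
      change F.map (c.lam (sA S h𝒴 a)) ≫ F.map h ≫ eqToHom hxb' = tau F S Ψt (sA S h𝒴 a)
      rw [← Category.assoc, ← F.toFunctor.map_comp, hh2' a]
      exact (isHomLift_iff_tau F S Ψt (sA S h𝒴 a) hxb' (c'.lam (sA S h𝒴 a))).1 (c'.lift (sA S h𝒴 a))
    apply IsHomLift.of_fac F.toFunctor (𝟙 y) h hxb hxb'
    change 𝟙 y = _ ≫ F.map h ≫ _
    rw [he2, ← he1]
    simp
  refine ⟨h, ⟨hF1, hcompat⟩, ?_⟩
  intro h' hh'
  obtain ⟨hl, hc⟩ := hh'
  apply hhuniq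
  exact ⟨isHomLift_comp_base F (𝟙 y) h' (𝟙 _) hl (IsHomLift.id rfl), fun a => hc (sA S h𝒴 a)⟩

end Groth.Agent.Helper19.StkRel
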