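import Mathlib
import Groth.Prelude.Def_AlgSt
import Groth.Agent.Lib.Helper19.FibLib
import Groth.Agent.Lib.Helper19.StackLibU

/-!
# Full subcategories of stacks (helper19)
-/

set_option autoImplicit false
set_option backward.isDefEq.respectTransparency false

universe v₅ u₅ v₄ u₄ v₃ u₃ v₂ u₂ v u

open CategoryTheory

namespace Groth.Agent.Helper19.StkSub

open FibCat Stk Groth.Agent.Helper19.FibLib Groth.Agent.Helper19.StackLibU

variable {C : Type u} [Category.{v} C] {𝒳 : BasedCategory.{v₂, u₂} C} (Q : ObjectProperty 𝒳.obj)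

/-- the full subcategory as a category over `C`. -/
abbrev sub : BasedCategory.{v₂, u₂} C := BasedCategory.ofFunctor (Q.ι ⋙ 𝒳.p)

/-- the inclusion. -/
def subIncl : sub Q ⥤ᵇ 𝒳 where
  toFunctor := Q.ι
  w := rfl

/-- isomorphic over an identity to an object of `Q`. -/
def EssQ (y : 𝒳.obj) : Prop :=
  ∃ (y' : 𝒳.obj) (e : y ≅ y'), Q y' ∧ 𝒳.p.IsHomLift (𝟙 (𝒳.p.obj y)) e.hom

theorem isHomLift_sub_iff {a b : (sub Q).obj} {R R' : C} (f : R ⟶ R')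
    (φ : a ⟶ b) : (sub Q).p.IsHomLift f φ ↔ 𝒳.p.IsHomLift f φ.hom := by
  constructor
  · intro h
    exact IsHomLift.of_fac 𝒳.p f φ.hom (IsHomLift.domain_eq (sub Q).p f φ)
      (IsHomLift.codomain_eq (sub Q).p f φ) (IsHomLift.fac (sub Q).p f φ)
  · intro h
    exact IsHomLift.of_fac (sub Q).p f φ (IsHomLift.domain_eq 𝒳.p f φ.hom)
      (IsHomLift.codomain_eq 𝒳.p f φ.hom) (IsHomLift.fac 𝒳.p f φ.hom)

theorem isFibGrpd_sub (h𝒳 : IsFibGrpd 𝒳.p) (h1 : ∀ ⦃y x : 𝒳.obj⦄ (_ : y ⟶ x), Q x → EssQ Q y) :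
    IsFibGrpd (sub Q).p := by
  refine ⟨fun {x V} f => ?_, fun {y x} φ => ?_⟩
  · obtain ⟨y, φ, hφ⟩ := h𝒳.exists_lift (x := x.obj) f
    obtain ⟨y', e, hy', he⟩ := h1 φ x.property
    have hV : 𝒳.p.obj y = V := IsHomLift.domain_eq 𝒳.p f φ
    subst hV
    have : IsIso e.hom := inferInstance
    have he' : 𝒳.p.IsHomLift (𝟙 (𝒳.p.obj y)) e.inv := by
      have : 𝒳.p.IsHomLift (inv (𝟙 (𝒳.p.obj y))) (inv e.hom) := inferInstance
      simpa using this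
    refine ⟨⟨y', hy'⟩, ObjectProperty.homMk (e.inv ≫ φ), (isHomLift_sub_iff Q f _).2 ?_⟩
    have : 𝒳.p.IsHomLift (𝟙 (𝒳.p.obj y) ≫ f) (e.inv ≫ φ) := inferInstance
    simpa using this
  · have h := h𝒳.isStronglyCartesian φ.hom
    refine { toIsHomLift := ?_, universal_property' := fun {a'} g φ' hφ' => ?_ }
    · exact (isHomLift_sub_iff Q _ _).2 (inferInstance : 𝒳.p.IsHomLift (𝒳.p.map φ.hom) φ.hom)
    · have hφ'' : 𝒳.p.IsHomLift (g ≫ 𝒳.p.map φ.hom) φ'.hom := (isHomLift_sub_iff Q _ _).1 hφ'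
      obtain ⟨χ, ⟨hχ, hc⟩, huniq⟩ := h.universal_property' g φ'.hom
      refine ⟨ObjectProperty.homMk χ, ⟨(isHomLift_sub_iff Q _ _).2 hχ, ?_⟩, ?_⟩
      · exact ObjectProperty.hom_ext _ hc
      · rintro χ' ⟨hχ', hc'⟩
        apply ObjectProperty.hom_ext
        exact huniq χ'.hom ⟨(isHomLift_sub_iff Q _ _).1 hχ', congrArg (fun k => k.hom) hc'⟩

variable (ℬ : BasedCategory.{v₄, u₄} C)

instance faithful_postc_subIncl : (postc ℬ (subIncl Q)).Faithful := by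
  constructor
  intro G G' α β h
  apply BasedNatTrans.homCategory.ext
  ext b
  apply ObjectProperty.hom_ext
  exact congrArg (fun γ => γ.toNatTrans.app b) h

instance full_postc_subIncl : (postc ℬ (subIncl Q)).Full := by
  constructor
  intro G G' γ
  refine ⟨{ toNatTrans := { app := fun b => ObjectProperty.homMk (γ.toNatTrans.app b), naturality := ?_ },
            isHomLift' := ?_ }, ?_⟩
  · intro b b' f
    apply ObjectProperty.hom_ext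
    exact γ.toNatTrans.naturality f
  · intro b
    exact (isHomLift_sub_iff Q _ _).2 (γ.isHomLift' b)
  · apply BasedNatTrans.homCategory.ext
    ext b
    rfl

variable {ℬ}

/-- a functor landing essentially in `Q` factors, up to isomorphism, through the full subcategory. -/
theorem exists_lift_sub (G : ℬ ⥤ᵇ 𝒳) (h : ∀ b : ℬ.obj, EssQ Q (G.obj b)) :
    ∃ G' : ℬ ⥤ᵇ sub Q, Nonempty (BasedFunctor.comp G' (subIncl Q) ≅ G) := by
  choose Y E hQ hE using h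
  have hE' : ∀ b : ℬ.obj, 𝒳.p.IsHomLift (𝟙 (ℬ.p.obj b)) (E b).hom := fun b => by
    have := hE b
    rw [G.w_obj b] at this
    exact this
  have hEi : ∀ b : ℬ.obj, 𝒳.p.IsHomLift (𝟙 (ℬ.p.obj b)) (E b).inv := fun b => by
    have := hE' b
    have : 𝒳.p.IsHomLift (inv (𝟙 (ℬ.p.obj b))) (inv (E b).hom) := inferInstance
    simpa using this
  let G₀ : ℬ.obj ⥤ (sub Q).obj :=
    { obj := fun b => ⟨Y b, hQ b⟩
      map := fun {b b'} f => ObjectProperty.homMk ((E b).inv ≫ G.map f ≫ (E b').hom)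
      map_id := fun b => by
        apply ObjectProperty.hom_ext
        change (E b).inv ≫ G.map (𝟙 b) ≫ (E b).hom = 𝟙 _
        rw [G.map_id]
        simp
      map_comp := fun {b b' b''} f g => by
        apply ObjectProperty.hom_ext
        change (E b).inv ≫ G.map (f ≫ g) ≫ (E b'').hom =
          ((E b).inv ≫ G.map f ≫ (E b').hom) ≫ ((E b').inv ≫ G.map g ≫ (E b'').hom)
        rw [G.map_comp]
        simp }
  have hobj : ∀ b, (sub Q).p.obj (G₀.obj b) = ℬ.p.obj b := fun b => by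
    have := hE' b
    exact IsHomLift.codomain_eq 𝒳.p (𝟙 (ℬ.p.obj b)) (E b).hom
  have hmap : ∀ {b b' : ℬ.obj} (f : b ⟶ b'), (sub Q).p.IsHomLift (ℬ.p.map f) (G₀.map f) := by
    intro b b' f
    rw [isHomLift_sub_iff]
    change 𝒳.p.IsHomLift (ℬ.p.map f) ((E b).inv ≫ G.map f ≫ (E b').hom)
    have := hEi b
    have := hE' b'
    have h3 : 𝒳.p.IsHomLift (𝟙 (ℬ.p.obj b) ≫ ℬ.p.map f ≫ 𝟙 (ℬ.p.obj b')) ((E b).inv ≫ G.map f ≫ (E b').hom) :=
      inferInstance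
    simpa using h3
  refine ⟨mkBased G₀ hobj hmap, ⟨(mkIso (fun b => E b) ?_ ?_).symm⟩⟩
  · intro b b' f
    change G.map f ≫ (E b').hom = (E b).hom ≫ ((E b).inv ≫ G.map f ≫ (E b').hom)
    simp
  · intro b
    exact hE' b

section stack

variable {𝒳 : BasedCategory.{v, max u v} C} (Q : ObjectProperty 𝒳.obj)

theorem essQ_of_iso (h𝒳 : IsFibGrpd 𝒳.p) {y z : 𝒳.obj} (χ : y ⟶ z) (hχ : 𝒳.p.IsHomLift (𝟙 (𝒳.p.obj y)) χ)
    (hz : EssQ Q z) : EssQ Q y := by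
  obtain ⟨z', e, hz', he⟩ := hz
  have hyz : 𝒳.p.obj z = 𝒳.p.obj y := IsHomLift.codomain_eq 𝒳.p (𝟙 (𝒳.p.obj y)) χ
  rw [hyz] at he
  have : IsIso χ := isIso_of_isHomLift h𝒳 (𝟙 (𝒳.p.obj y)) χ
  refine ⟨z', asIso χ ≪≫ e, hz', ?_⟩
  have : 𝒳.p.IsHomLift (𝟙 (𝒳.p.obj y) ≫ 𝟙 (𝒳.p.obj y)) (χ ≫ e.hom) := inferInstance
  simpa using this

theorem isStackFor_sub (h𝒳 : IsFibGrpd 𝒳.p) {U : C} (R : Sieve U) (hR : IsStackFor R 𝒳)
    (h1 : ∀ ⦃y x : 𝒳.obj⦄ (_ : y ⟶ x), Q x → EssQ Q y)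
    (h3 : ∀ (x : 𝒳.obj), 𝒳.p.obj x = U →
      (∀ ⦃V : C⦄ (f : V ⟶ U), R f → ∀ (y : 𝒳.obj) (φ : y ⟶ x), 𝒳.p.IsHomLift f φ → EssQ Q y) → EssQ Q x) :
    IsStackFor R (sub Q) := by
  have hR' : (resSieve R 𝒳).IsEquivalence := hR
  have i1 : (resSieve R (sub Q) ⋙ postc (sieveCat R) (subIncl Q)).Faithful :=
    Functor.Faithful.of_iso (restrPostcIso (sieveIncl R) (subIncl Q)).symm
  have i2 : (resSieve R (sub Q) ⋙ postc (sieveCat R) (subIncl Q)).Full :=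
    Functor.Full.of_iso (restrPostcIso (sieveIncl R) (subIncl Q)).symm
  have hf1 : (resSieve R (sub Q)).Faithful := Functor.Faithful.of_comp _ (postc (sieveCat R) (subIncl Q))
  have hf2 : (resSieve R (sub Q)).Full := Functor.Full.of_comp_faithful _ (postc (sieveCat R) (subIncl Q))
  have hf3 : (resSieve R (sub Q)).EssSurj := by
    constructor
    intro Ψ
    let Ψ' : sieveCat R ⥤ᵇ 𝒳 := BasedFunctor.comp Ψ (subIncl Q)
    let Φ : overCat U ⥤ᵇ 𝒳 := (resSieve R 𝒳).objPreimage Ψ'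
    let e : BasedFunctor.comp (sieveIncl R) Φ ≅ Ψ' := (resSieve R 𝒳).objObjPreimageIso Ψ'
    -- the value at the identity is essentially in `Q`
    have hx : EssQ Q (Φ.obj (Over.mk (𝟙 U))) := by
      apply h3 _ (Φ.w_obj (Over.mk (𝟙 U)))
      intro V f hf y φ hφ
      let a : (sieveCat R).obj := ⟨Over.mk f, hf⟩
      let m : Over.mk f ⟶ Over.mk (𝟙 U) := Over.homMk f (by simp)
      have l1 : 𝒳.p.IsHomLift f (Φ.map m) := by
        have h0 : (overCat U).p.IsHomLift f m := IsHomLift.map (overCat U).p m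
        infer_instance
      obtain ⟨χ, ⟨hχ1, hχ2⟩, -⟩ := existsUnique_fac h𝒳 f (Φ.map m) (𝟙 V) f (by simp) φ
      have hyV : 𝒳.p.obj y = V := IsHomLift.domain_eq 𝒳.p f φ
      subst hyV
      apply essQ_of_iso Q h𝒳 χ hχ1
      have l2 : 𝒳.p.IsHomLift (𝟙 (𝒳.p.obj y)) (e.hom.toNatTrans.app a) := e.hom.isHomLift' a
      refine ⟨(Ψ.obj a).obj, appIso e a, (Ψ.obj a).property, ?_⟩
      have hw : 𝒳.p.obj (Φ.obj (Over.mk f)) = 𝒳.p.obj y := Φ.w_obj (Over.mk f)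
      change 𝒳.p.IsHomLift (𝟙 (𝒳.p.obj (Φ.obj (Over.mk f)))) (e.hom.toNatTrans.app a)
      rw [hw]
      exact l2
    obtain ⟨x', ex, hx', hex⟩ := hx
    have hall : ∀ b : (overCat U).obj, EssQ Q (Φ.obj b) := by
      intro b
      let m : b ⟶ Over.mk (𝟙 U) := Over.homMk b.hom (by simp)
      exact h1 (Φ.map m ≫ ex.hom) hx'
    obtain ⟨Φ', ⟨θ⟩⟩ := exists_lift_sub Q Φ hall
    refine ⟨Φ', ⟨(postc (sieveCat R) (subIncl Q)).preimageIso ?_⟩⟩
    exact whiskerLeftIso (sieveIncl R) θ ≪≫ e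
  exact { }

/-- S12795. -/
theorem isStack_sub (J : GrothendieckTopology C) (h𝒳 : IsStack J 𝒳)
    (h1 : ∀ ⦃y x : 𝒳.obj⦄ (_ : y ⟶ x), Q x → EssQ Q y)
    (h3 : ∀ ⦃U : C⦄ (R : Sieve U), R ∈ J U → ∀ (x : 𝒳.obj), 𝒳.p.obj x = U →
      (∀ ⦃V : C⦄ (f : V ⟶ U), R f → ∀ (y : 𝒳.obj) (φ : y ⟶ x), 𝒳.p.IsHomLift f φ → EssQ Q y) → EssQ Q x) :
    IsStack J (sub Q) :=
  ⟨isFibGrpd_sub Q h𝒳.1 h1, fun _ R hR => isStackFor_sub Q h𝒳.1 R (h𝒳.2 R hR) h1 (h3 R hR)⟩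

end stack

end Groth.Agent.Helper19.StkSub
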