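import Mathlib
import Groth.Prelude.Def_W4stkalgstUpp
import Groth.Prelude.Def_FibCat2
import Groth.Agent.Lib.Helper19.LocCart
import Groth.Agent.Lib.Helper19.FibLib

/-!
# The class `R` of `u_pp 𝒮` admits a right calculus of fractions (helper19)
-/

set_option autoImplicit false
set_option backward.isDefEq.respectTransparency false

universe v₃ u₃ v₂ u₂ v u

open CategoryTheory CategoryTheory.Limits

namespace Groth.Agent.Helper19.StkUpp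

open Stk

variable {C : Type u} [Category.{v} C] {D : Type u₂} [Category.{v₂} D] (u : C ⥤ D)
  (𝒮 : BasedCategory.{v₃, u₃} C)

theorem isStronglyCartesian_map {𝒳 : Type u₃} [Category.{v₃} 𝒳] (p : 𝒳 ⥤ C) {R S : C} (f : R ⟶ S) {a b : 𝒳}
    (φ : a ⟶ b) [h : p.IsStronglyCartesian f φ] : p.IsStronglyCartesian (p.map φ) φ := by
  have hl : p.IsHomLift f φ := h.toIsHomLift
  obtain ⟨⟩ := hl
  exact h

theorem exists_cart_lift [𝒮.p.IsFibered] (x : 𝒮.obj) {P : C} (π : P ⟶ 𝒮.p.obj x) :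
    ∃ (x' : 𝒮.obj) (t : x' ⟶ x), 𝒮.p.IsStronglyCartesian π t :=
  ⟨Functor.IsPreFibered.pullbackObj rfl π, Functor.IsPreFibered.pullbackMap rfl π, inferInstance⟩

instance isMultiplicative : (uppR u 𝒮).IsMultiplicative where
  id_mem a := by
    refine ⟨?_, ?_⟩
    · rw [UppObj.id_top, 𝒮.p.map_id]
      infer_instance
    · rw [UppObj.id_bot]
      infer_instance
  comp_mem f g hf hg := by
    have := hf.1
    have := hg.1
    have := hf.2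
    have := hg.2
    refine ⟨?_, ?_⟩
    · rw [UppObj.comp_top, 𝒮.p.map_comp]
      infer_instance
    · rw [UppObj.comp_bot]
      infer_instance

theorem exists_rightFraction [𝒮.p.IsFibered] [HasPullbacks C] [PreservesLimitsOfShape WalkingCospan u]
    ⦃a b' : UppObj u 𝒮⦄ (φ : (uppR u 𝒮).LeftFraction a b') :
    ∃ ψ : (uppR u 𝒮).RightFraction a b', ψ.s ≫ φ.f = ψ.f ≫ φ.s := by
  obtain ⟨f, s, hs⟩ := φ
  have hs1 := hs.1
  have hs2 := hs.2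
  obtain ⟨P, π₁, π₂, hpb⟩ : ∃ (P : C) (π₁ : P ⟶ 𝒮.p.obj a.x) (π₂ : P ⟶ 𝒮.p.obj b'.x),
      IsPullback π₁ π₂ (𝒮.p.map f.top) (𝒮.p.map s.top) := ⟨_, _, _, IsPullback.of_hasPullback _ _⟩
  obtain ⟨x', t, ht⟩ := exists_cart_lift 𝒮 a.x π₁
  have hl : 𝒮.p.IsHomLift π₁ t := ht.toIsHomLift
  have hd : 𝒮.p.obj x' = P := IsHomLift.domain_eq 𝒮.p π₁ t
  subst hd
  have hπ : π₁ = 𝒮.p.map t := IsHomLift.eq_of_isHomLift 𝒮.p π₁ t
  subst hπ
  have hpbu : IsPullback (u.map (𝒮.p.map t)) (u.map π₂) (u.map (𝒮.p.map f.top)) (u.map (𝒮.p.map s.top)) :=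
    hpb.map u
  have hcomp : 𝒮.p.IsHomLift (π₂ ≫ 𝒮.p.map s.top) (t ≫ f.top) := by
    rw [← hpb.w]
    infer_instance
  obtain ⟨r, ⟨hr1, hr2⟩, -⟩ := Functor.IsStronglyCartesian.universal_property 𝒮.p (𝒮.p.map s.top) s.top π₂
    (π₂ ≫ 𝒮.p.map s.top) rfl (t ≫ f.top)
  have hr3 : 𝒮.p.map r = π₂ := (IsHomLift.eq_of_isHomLift 𝒮.p π₂ r).symm
  have hw : a.φ ≫ u.map (𝒮.p.map f.top) = (f.bot ≫ inv s.bot ≫ b'.φ) ≫ u.map (𝒮.p.map s.top) := by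
    rw [f.w, Category.assoc, Category.assoc, s.w, IsIso.inv_hom_id_assoc]
  let a' : UppObj u 𝒮 := ⟨x', a.V, hpbu.lift a.φ (f.bot ≫ inv s.bot ≫ b'.φ) hw⟩
  let s' : a' ⟶ a := ⟨t, 𝟙 _, by
    change hpbu.lift a.φ (f.bot ≫ inv s.bot ≫ b'.φ) hw ≫ u.map (𝒮.p.map t) = 𝟙 _ ≫ a.φ
    rw [hpbu.lift_fst, Category.id_comp]⟩
  let f' : a' ⟶ b' := ⟨r, f.bot ≫ inv s.bot, by
    change hpbu.lift a.φ (f.bot ≫ inv s.bot ≫ b'.φ) hw ≫ u.map (𝒮.p.map r) = (f.bot ≫ inv s.bot) ≫ b'.φ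
    rw [hr3, hpbu.lift_snd, Category.assoc]⟩
  have hs' : uppR u 𝒮 s' := ⟨isStronglyCartesian_map 𝒮.p (𝒮.p.map t) t, (inferInstance : IsIso (𝟙 a.V))⟩
  refine ⟨⟨s', hs', f'⟩, ?_⟩
  apply UppObj.hom_ext
  · exact hr2.symm
  · change 𝟙 _ ≫ f.bot = (f.bot ≫ inv s.bot) ≫ s.bot
    simp

theorem ext_cond [𝒮.p.IsFibered] [HasEqualizers C] [PreservesLimitsOfShape WalkingParallelPair u]
    ⦃a b' b : UppObj u 𝒮⦄ (f₁ f₂ : a ⟶ b') (s : b' ⟶ b) (hs : uppR u 𝒮 s) (h : f₁ ≫ s = f₂ ≫ s) :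
    ∃ (a' : UppObj u 𝒮) (t : a' ⟶ a) (_ : uppR u 𝒮 t), t ≫ f₁ = t ≫ f₂ := by
  have hs1 := hs.1
  have hs2 := hs.2
  have hbot : f₁.bot = f₂.bot := by
    have : f₁.bot ≫ s.bot = f₂.bot ≫ s.bot := congrArg (fun k => k.bot) h
    exact (cancel_mono s.bot).1 this
  have htop : f₁.top ≫ s.top = f₂.top ≫ s.top := congrArg (fun k => k.top) h
  obtain ⟨E, e, he, hlim⟩ : ∃ (E : C) (e : E ⟶ 𝒮.p.obj a.x)
      (he : e ≫ 𝒮.p.map f₁.top = e ≫ 𝒮.p.map f₂.top), Nonempty (IsLimit (Fork.ofι e he)) :=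
    ⟨_, equalizer.ι _ _, equalizer.condition _ _, ⟨equalizerIsEqualizer _ _⟩⟩
  obtain ⟨hlim⟩ := hlim
  obtain ⟨x', t, ht⟩ := exists_cart_lift 𝒮 a.x e
  have hl : 𝒮.p.IsHomLift e t := ht.toIsHomLift
  have hd : 𝒮.p.obj x' = E := IsHomLift.domain_eq 𝒮.p e t
  subst hd
  have hπ : e = 𝒮.p.map t := IsHomLift.eq_of_isHomLift 𝒮.p e t
  subst hπ
  have hlimu := isLimitForkMapOfIsLimit u he hlim
  have hw : a.φ ≫ u.map (𝒮.p.map f₁.top) = a.φ ≫ u.map (𝒮.p.map f₂.top) := by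
    rw [f₁.w, f₂.w, hbot]
  let φ' : a.V ⟶ u.obj (𝒮.p.obj x') := Fork.IsLimit.lift hlimu a.φ hw
  have hφ' : φ' ≫ u.map (𝒮.p.map t) = a.φ := Fork.IsLimit.lift_ι hlimu
  let a' : UppObj u 𝒮 := ⟨x', a.V, φ'⟩
  let t' : a' ⟶ a := ⟨t, 𝟙 _, by
    change φ' ≫ u.map (𝒮.p.map t) = 𝟙 _ ≫ a.φ
    rw [hφ', Category.id_comp]⟩
  have ht' : uppR u 𝒮 t' := ⟨isStronglyCartesian_map 𝒮.p (𝒮.p.map t) t, (inferInstance : IsIso (𝟙 a.V))⟩
  refine ⟨a', t', ht', ?_⟩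
  apply UppObj.hom_ext
  · change t ≫ f₁.top = t ≫ f₂.top
    have l1 : 𝒮.p.IsHomLift (𝒮.p.map t ≫ 𝒮.p.map f₁.top) (t ≫ f₁.top) := inferInstance
    have l2 : 𝒮.p.IsHomLift (𝒮.p.map t ≫ 𝒮.p.map f₁.top) (t ≫ f₂.top) := by
      rw [he]
      infer_instance
    apply Functor.IsStronglyCartesian.ext 𝒮.p (𝒮.p.map s.top) s.top (𝒮.p.map t ≫ 𝒮.p.map f₁.top)
    rw [Category.assoc, Category.assoc, htop]
  · change 𝟙 _ ≫ f₁.bot = 𝟙 _ ≫ f₂.bot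
    rw [hbot]

theorem hasRightCalculusOfFractions [𝒮.p.IsFibered] [HasPullbacks C] [HasEqualizers C]
    [PreservesLimitsOfShape WalkingCospan u] [PreservesLimitsOfShape WalkingParallelPair u] :
    (uppR u 𝒮).HasRightCalculusOfFractions where
  exists_rightFraction := exists_rightFraction u 𝒮
  ext := ext_cond u 𝒮

open Groth.Agent.Helper19.LocCart

variable {u 𝒮}

/-- the standard cartesian morphism of `u_pp 𝒮`. -/
def cartMor (a : UppObj u 𝒮) {V' : D} (g : V' ⟶ a.V) : (⟨a.x, V', g ≫ a.φ⟩ : UppObj u 𝒮) ⟶ a :=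
  ⟨𝟙 a.x, g, by simp⟩

theorem isGCart_cartMor (a : UppObj u 𝒮) {V' : D} (g : V' ⟶ a.V) :
    IsGCart (UppObj.forget u 𝒮) (cartMor a g) := by
  constructor
  · intro c f k hk
    have hk' : k ≫ g = f.bot := hk
    refine ⟨⟨f.top, k, ?_⟩, ?_, rfl⟩
    · change c.φ ≫ u.map (𝒮.p.map f.top) = k ≫ g ≫ a.φ
      rw [f.w, ← hk', Category.assoc]
    · apply UppObj.hom_ext
      · exact Category.comp_id _
      · exact hk'
  · intro c f₁ f₂ h1 h2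
    apply UppObj.hom_ext
    · have : f₁.top ≫ 𝟙 a.x = f₂.top ≫ 𝟙 a.x := congrArg (fun k => k.top) h1
      simpa using this
    · exact h2

variable (u 𝒮)

theorem isFibered_up [𝒮.p.IsFibered] [HasPullbacks C] [HasEqualizers C]
    [PreservesLimitsOfShape WalkingCospan u] [PreservesLimitsOfShape WalkingParallelPair u] :
    (Stk.up u 𝒮).p.IsFibered := by
  have := hasRightCalculusOfFractions u 𝒮
  apply isFibered_P (uppR u 𝒮) (UppObj.forget u 𝒮) (uppR_isInvertedBy u 𝒮)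
  intro a R g
  exact ⟨_, cartMor a g, isGCart_cartMor a g, IsHomLift.map (UppObj.forget u 𝒮) (cartMor a g)⟩

theorem isFibGrpd_up (h𝒮 : FibCat.IsFibGrpd 𝒮.p) [HasPullbacks C] [HasEqualizers C]
    [PreservesLimitsOfShape WalkingCospan u] [PreservesLimitsOfShape WalkingParallelPair u] :
    FibCat.IsFibGrpd (Stk.up u 𝒮).p := by
  have : 𝒮.p.IsFibered := Groth.Agent.Helper19.FibLib.isFibered_of_isFibGrpd h𝒮
  have := hasRightCalculusOfFractions u 𝒮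
  have hcart : ∀ (a : UppObj u 𝒮) (R : D) (g : R ⟶ (UppObj.forget u 𝒮).obj a),
      ∃ (a' : UppObj u 𝒮) (m : a' ⟶ a), IsGCart (UppObj.forget u 𝒮) m ∧ (UppObj.forget u 𝒮).IsHomLift g m :=
    fun a R g => ⟨_, cartMor a g, isGCart_cartMor a g, IsHomLift.map (UppObj.forget u 𝒮) (cartMor a g)⟩
  refine ⟨fun {Y R} g => ?_, fun {X Y} ξ => ?_⟩
  · obtain ⟨X, φ, hφ⟩ := exists_isStronglyCartesian (uppR u 𝒮) (UppObj.forget u 𝒮) (uppR_isInvertedBy u 𝒮)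
      hcart Y R g
    exact ⟨X, φ, hφ.toIsHomLift⟩
  · apply isStronglyCartesian_all (uppR u 𝒮) (UppObj.forget u 𝒮) (uppR_isInvertedBy u 𝒮)
    intro c a f
    refine ⟨⟨a.x, c.V, f.bot ≫ a.φ⟩, ⟨f.top, 𝟙 _, ?_⟩, cartMor a f.bot, ⟨?_, ?_⟩, isGCart_cartMor a f.bot, ?_⟩
    · change c.φ ≫ u.map (𝒮.p.map f.top) = 𝟙 _ ≫ f.bot ≫ a.φ
      rw [f.w, Category.id_comp]
    · exact h𝒮.isStronglyCartesian f.top
    · exact (inferInstance : IsIso (𝟙 c.V))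
    · apply UppObj.hom_ext
      · exact Category.comp_id _
      · exact Category.id_comp _

end Groth.Agent.Helper19.StkUpp
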