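import Groth.Agent.S1310
import Groth.Agent.Lib.Helper2.ThickRed2
import Groth.Agent.Lib.Helper2.Thickening

set_option autoImplicit false
universe u
open CategoryTheory CategoryTheory.Limits AlgebraicGeometry Opposite

namespace Groth.Agent.Lib.Helper19.ThickFin

variable {X X' S S' : Scheme.{u}} {iX : X ⟶ X'} {iS : S ⟶ S'} {f : X ⟶ S} {f' : X' ⟶ S'}

/-- Base change of a finite order thickening is a finite order thickening. -/
theorem finiteOrder_of_isPullback (hS : MoreMor.IsFiniteOrderThickening iS)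
    (hc : IsPullback iX f f' iS) : MoreMor.IsFiniteOrderThickening iX := by
  have hthick : MoreMor.IsThickening iX := Groth.Agent.Helper2.thick_of_isPullback hS.1 hc.flip
  refine ⟨hthick, ?_⟩
  have : IsClosedImmersion iS := hS.1.1
  have : IsClosedImmersion iX := hthick.1
  obtain ⟨n, hn⟩ := hS.2
  refine ⟨n, ?_⟩
  -- index: pairs of affine opens
  let ι := { p : X'.affineOpens × S'.affineOpens // p.1.1 ≤ f' ⁻¹ᵁ p.2.1 }
  have hcov : ⨆ p : ι, (p.1.1 : X'.Opens) = ⊤ := by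
    rw [eq_top_iff]
    rintro x -
    obtain ⟨_, ⟨U, hU, rfl⟩, hxU, -⟩ :=
      S'.isBasis_affineOpens.exists_subset_of_mem_open (Set.mem_univ (f' x)) isOpen_univ
    obtain ⟨_, ⟨V, hV, rfl⟩, hxV, hVU : V ≤ f' ⁻¹ᵁ U⟩ :=
      X'.isBasis_affineOpens.exists_subset_of_mem_open hxU (f' ⁻¹ᵁ U).isOpen
    exact TopologicalSpace.Opens.mem_iSup.2 ⟨⟨(⟨V, hV⟩, ⟨U, hU⟩), hVU⟩, hxV⟩
  refine Scheme.IdealSheafData.ext_of_iSup_eq_top (fun p : ι => p.1.1) hcov ?_
  rintro ⟨⟨V', U'⟩, e'⟩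
  have h0 : (iS.ker ^ n).ideal U' = ⊥ := by rw [hn]; rfl
  rw [Scheme.IdealSheafData.ideal_pow] at h0
  have h1 : (iS.ker.ideal U') ^ n = ⊥ := h0
  rw [Scheme.Hom.ker_apply] at h1
  have h2 := Groth.Agent.Helper2.ThickRed.ker_app_eq_map hc U' V' e'
  show (iX.ker ^ n).ideal V' = (0 : X'.IdealSheafData).ideal V'
  rw [Scheme.IdealSheafData.ideal_pow]
  show (iX.ker.ideal V') ^ n = ⊥
  rw [Scheme.Hom.ker_apply, h2, ← Ideal.map_pow, h1, Ideal.map_bot]

/-- `Mono` descends along base change by a finite order thickening. -/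
theorem mono_of_mono (hS : MoreMor.IsFiniteOrderThickening iS)
    (hc : IsPullback iX f f' iS) (hf : Mono f) : Mono f' := by
  have : IsClosedImmersion iS := hS.1.1
  have h1 : FormallyUnramified f := inferInstance
  have h2 : FormallyUnramified f' := (Groth.Agent.S1310.result iX iS f f' hS hc).1 h1
  constructor
  intro T g₁ g₂ hg
  -- base change of the thickening to `T`
  let T₀ := pullback (g₁ ≫ f') iS
  let i : T₀ ⟶ T := pullback.fst (g₁ ≫ f') iS
  have hpb : IsPullback (pullback.snd (g₁ ≫ f') iS) i iS (g₁ ≫ f') :=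
    (IsPullback.of_hasPullback (g₁ ≫ f') iS).flip
  have hi : MoreMor.IsFiniteOrderThickening i :=
    finiteOrder_of_isPullback (iX := i) (f := pullback.snd (g₁ ≫ f') iS) (f' := g₁ ≫ f') hS
      (IsPullback.of_hasPullback (g₁ ≫ f') iS)
  have : IsClosedImmersion i := hi.1.1
  -- lifts to X
  let l₁ : T₀ ⟶ X := hc.lift (i ≫ g₁) (pullback.snd _ _) (by
    rw [Category.assoc]; exact pullback.condition)
  let l₂ : T₀ ⟶ X := hc.lift (i ≫ g₂) (pullback.snd _ _) (by
    rw [Category.assoc, ← hg]; exact pullback.condition)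
  have hl : l₁ = l₂ := by
    rw [← cancel_mono f]
    simp [l₁, l₂]
  have hig : i ≫ g₁ = i ≫ g₂ := by
    have e1 : l₁ ≫ iX = i ≫ g₁ := hc.lift_fst _ _ _
    have e2 : l₂ ≫ iX = i ≫ g₂ := hc.lift_fst _ _ _
    rw [← e1, ← e2, hl]
  exact FormallyUnramified.hom_ext i hi.2 f' hig hg

end Groth.Agent.Lib.Helper19.ThickFin
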