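import Mathlib
import Groth.Agent.Lib.Helper9.Thick
import Groth.Agent.Lib.Helper2.Thickening
import Groth.Agent.S1317
import Groth.Agent.S1320
import Groth.Prelude.Def_MoreMor
import Groth.Prelude.Def_Mor2

set_option autoImplicit false
set_option linter.style.haveILetI false
universe u

open CategoryTheory CategoryTheory.Limits AlgebraicGeometry TopologicalSpace Opposite Topology

namespace Groth.Agent.Helper19.ThickFin

open Groth.Agent.Helper9.Thick

theorem isFinite_of_lft {X X' Y Y' : Scheme.{u}} {i : X ⟶ X'} {F₀ : X ⟶ Y} {F : X' ⟶ Y'}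
    {j : Y ⟶ Y'} (sq : IsPullback i F₀ F j) [IsClosedImmersion j]
    (hj : Function.Surjective j.base) [LocallyOfFiniteType F]
    [IsFinite F₀] : IsFinite F := by
  haveI := isSeparated sq hj
  haveI := universallyClosed sq hj
  haveI : IsProper F := {}
  haveI hs : Surjective i := surjective_left sq hj
  haveI : LocallyQuasiFinite F := by
    apply LocallyQuasiFinite.of_finite_preimage_singleton
    intro y'
    obtain ⟨y, rfl⟩ := hj y'
    refine ((F₀.finite_preimage_singleton y).image i).subset ?_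
    intro x' hx'
    obtain ⟨x, rfl⟩ := hs.surj x'
    refine ⟨x, ?_, rfl⟩
    have h1 : F (i x) = j y := hx'
    have h2 : F (i x) = j (F₀ x) := congrArg (fun φ : X ⟶ Y' => φ x) sq.w
    rw [h2] at h1
    exact j.isClosedEmbedding.injective h1
  exact IsFinite.of_isProper_of_locallyQuasiFinite F

theorem s1323 (d : ℕ) {X X' Y Y' S S' : Scheme.{u}} (iX : X ⟶ X') (iY : Y ⟶ Y') (iS : S ⟶ S')
    (f : X ⟶ Y) (f' : X' ⟶ Y') (g : Y ⟶ S) (g' : Y' ⟶ S')
    (hS : MoreMor.IsFiniteOrderThickening iS) (hcX : IsPullback iX (f ≫ g) (f' ≫ g') iS)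
    (hcY : IsPullback iY g g' iS)
    (w : iX ≫ f' = f ≫ iY) [Flat (f' ≫ g')] :
    Mor2.IsFinLocFreeOfDeg d f ↔ Mor2.IsFinLocFreeOfDeg d f' := by
  have hsq : IsPullback iX f f' iY := IsPullback.of_bot hcX w hcY
  have hYthick : MoreMor.IsThickening iY := Groth.Agent.Helper2.thick_of_isPullback hS.1 hcY.flip
  haveI : IsClosedImmersion iY := hYthick.1
  constructor
  · rintro ⟨⟨hfin, hflat, hfp⟩, hrank⟩
    haveI := hfin
    haveI hflat' : Flat f' :=
      (Groth.Agent.S1317.result iX iY iS f f' g g' hS hcX hcY w).1 hflat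
    haveI hfp' : LocallyOfFinitePresentation f' :=
      (Groth.Agent.S1320.result iX iY iS f f' g g' hS hcX hcY w).1 hfp
    haveI hfin' : IsFinite f' := isFinite_of_lft hsq hYthick.2.surj
    refine ⟨⟨hfin', hflat', hfp'⟩, fun y' => ?_⟩
    obtain ⟨y, rfl⟩ := hYthick.2.surj y'
    rw [← Scheme.Hom.finrank_of_isPullback iX f f' iY hsq y]
    exact hrank y
  · rintro ⟨⟨hfin, hflat, hfp⟩, hrank⟩
    haveI := hfin
    haveI := hflat
    haveI := hfp
    refine ⟨⟨MorphismProperty.of_isPullback (P := @IsFinite) hsq hfin,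
      MorphismProperty.of_isPullback (P := @Flat) hsq hflat,
      MorphismProperty.of_isPullback (P := @LocallyOfFinitePresentation) hsq hfp⟩, fun y => ?_⟩
    rw [Scheme.Hom.finrank_of_isPullback iX f f' iY hsq y]
    exact hrank (iY y)

end Groth.Agent.Helper19.ThickFin
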