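import Mathlib
import Groth.Agent.Lib.Helper9.Thick
import Groth.Prelude.Def_MoreMor

set_option autoImplicit false
set_option linter.style.haveILetI false
universe u

open CategoryTheory CategoryTheory.Limits AlgebraicGeometry TopologicalSpace Opposite Topology

namespace Groth.Agent.Helper19.ThickFin

open Groth.Agent.Helper9.Thick

variable {X X' Y Y' : Scheme.{u}} {i : X ⟶ X'} {F₀ : X ⟶ Y} {F : X' ⟶ Y'} {j : Y ⟶ Y'}

theorem locallyOfFiniteType (sq : IsPullback i F₀ F j) [IsClosedImmersion j]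
    (hn : ∀ U : Y'.affineOpens, ∃ n : ℕ, (RingHom.ker (j.app U.1).hom) ^ n = ⊥)
    [LocallyOfFiniteType F₀] :
    LocallyOfFiniteType F := by
  haveI := isClosedImmersion_left sq
  rw [HasRingHomProperty.iff_appLE (P := @LocallyOfFiniteType)]
  intro U V e
  obtain ⟨n, hn⟩ := hn U
  have hker := ker_app_eq sq U V e
  have hV₀ : IsAffineOpen (i ⁻¹ᵁ V.1) := V.2.preimage i
  have hU₀ : IsAffineOpen (j ⁻¹ᵁ U.1) := U.2.preimage j
  refine finiteType_of_nilpotent _ (i.app V.1).hom (i.app_surjective V.1 V.2) _ n hn hker ?_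
  rw [comp_eq_hom sq U.1 V.1 e]
  exact (F₀.finiteType_appLE hU₀ hV₀ _).comp
    (RingHom.FiniteType.of_surjective _ (j.app_surjective U.1 U.2))

theorem isFinite (sq : IsPullback i F₀ F j) [IsClosedImmersion j]
    (hj : Function.Surjective j.base)
    (hn : ∀ U : Y'.affineOpens, ∃ n : ℕ, (RingHom.ker (j.app U.1).hom) ^ n = ⊥)
    [IsFinite F₀] : IsFinite F := by
  haveI := isSeparated sq hj
  haveI := universallyClosed sq hj
  haveI := locallyOfFiniteType sq hn
  haveI : IsProper F := {}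
  haveI hs : Surjective i := surjective_left sq hj
  haveI : LocallyQuasiFinite F := by
    apply LocallyQuasiFinite.of_finite_preimage_singleton
    intro y'
    obtain ⟨y, rfl⟩ := hj y'
    refine ((F₀.finite_preimage_singleton y).image i).subset ?_
    intro x' hx'
    obtain ⟨x, rfl⟩ := hs.surj x'
    refine ⟨x, ?_, rfl⟩
    have h1 : F (i x) = j y := hx'
    have h2 : F (i x) = j (F₀ x) := congrArg (fun φ : X ⟶ Y' => φ x) sq.w
    rw [h2] at h1
    exact j.isClosedEmbedding.injective h1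
  exact IsFinite.of_isProper_of_locallyQuasiFinite F

theorem s13998 {X X₀ Y Y₀ : Scheme.{u}}
    (F : Y ⟶ X) (F₀ : Y₀ ⟶ X₀) (i : Y₀ ⟶ Y) (j : X₀ ⟶ X)
    (hj : MoreMor.IsThickening j)
    (hjnil : ∀ U : X.affineOpens, IsNilpotent (j.ker.ideal U))
    (hc : IsPullback F₀ i j F) :
    IsFinite F ↔ IsFinite F₀ := by
  constructor
  · intro h
    exact MorphismProperty.of_isPullback (P := @IsFinite) hc.flip h
  · intro h
    haveI := hj.1
    refine isFinite hc.flip hj.2.surj ?_
    intro U
    obtain ⟨n, hn⟩ := hjnil U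
    refine ⟨n, ?_⟩
    rw [← Scheme.Hom.ker_apply]
    exact hn

end Groth.Agent.Helper19.ThickFin
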