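import Mathlib
import Groth.Prelude.Def_HTop
import Groth.Prelude.Def_MoreMor

set_option autoImplicit false
universe w u
open CategoryTheory Limits AlgebraicGeometry Opposite

namespace Groth.Agent.Lib.Helper19.ThickSheaf

/-- A sheaf for the topology generated by a precoverage `K` (localised over `S`) takes the same
values on the source and target of a monomorphism whose one-member family is covering. -/
lemma bijective_of_mono_cover {C : Type*} [Category C] (K : Precoverage C) (S : C)
    (F : Sheaf (K.toGrothendieck.over S) (Type w)) {X X' : Over S} (f : X ⟶ X') [Mono f]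
    (hf : Presieve.singleton f.left ∈ K X'.left) : Function.Bijective (F.obj.map f.op) := by
  have hmem : Sieve.generate (Presieve.singleton f) ∈ K.toGrothendieck.over S X' := by
    rw [GrothendieckTopology.mem_over_iff]
    refine K.toGrothendieck.superset_covering ?_ (Precoverage.generate_mem_toGrothendieck hf)
    rintro Z g ⟨W, h, _, ⟨⟩, rfl⟩
    rw [Sieve.overEquiv_iff]
    refine ⟨X, Over.homMk h (by simp), f, Presieve.singleton.mk, ?_⟩
    ext
    simp
  have hsh : Presieve.IsSheafFor F.obj (Presieve.singleton f) := by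
    rw [Presieve.isSheafFor_iff_generate]
    exact ((isSheaf_iff_isSheaf_of_type _ _).mp F.property) _ hmem
  rw [Presieve.isSheafFor_singleton] at hsh
  have hcomp : ∀ (x : F.obj.obj (op X)) {Z : Over S} (p₁ p₂ : Z ⟶ X), p₁ ≫ f = p₂ ≫ f →
      F.obj.map p₁.op x = F.obj.map p₂.op x := by
    intro x Z p₁ p₂ hp
    rw [(cancel_mono f).mp hp]
  constructor
  · intro y₁ y₂ h
    exact (hsh (F.obj.map f.op y₁) (hcomp _)).unique rfl h.symm
  · intro x
    obtain ⟨y, hy, _⟩ := hsh x (hcomp x)
    exact ⟨y, hy⟩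

section Covers

variable {X X' : Scheme.{u}} (f : X ⟶ X')

lemma restrict_facts (hf : MoreMor.IsThickening f) (U : X'.affineOpens) :
    IsAffine (f ⁻¹ᵁ (U : X'.Opens)).toScheme ∧ IsClosedImmersion (f ∣_ (U : X'.Opens)) ∧
      Surjective (f ∣_ (U : X'.Opens)) := by
  obtain ⟨h1, h2⟩ := hf
  haveI := h1
  haveI := h2
  refine ⟨?_, IsZariskiLocalAtTarget.restrict h1 _, IsZariskiLocalAtTarget.restrict h2 _⟩
  exact U.2.preimage f

lemma isPhCover_singleton (hf : MoreMor.IsThickening f) :
    HTop.IsPhCover (PreZeroHypercover.singleton.{0} f) := by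
  have h1 : IsClosedImmersion f := hf.1
  refine ⟨fun _ => ?_, fun U => ?_⟩
  · change LocallyOfFiniteType f
    infer_instance
  · obtain ⟨ha, hc, hs⟩ := restrict_facts f hf U
    refine ⟨PreZeroHypercover.singleton.{0} (f ∣_ (U : X'.Opens)), ?_, ?_⟩
    · refine ⟨U.2, ?_, fun _ => ha, ?_⟩
      · change Finite PUnit
        infer_instance
      · refine ⟨(f ⁻¹ᵁ (U : X'.Opens)).toScheme, f ∣_ (U : X'.Opens), fun _ => 𝟙 _, inferInstance,
          hs, fun _ => (inferInstance : IsOpenImmersion (𝟙 (f ⁻¹ᵁ (U : X'.Opens)).toScheme)),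
          fun _ => Category.id_comp _, fun x => ⟨PUnit.unit, x, rfl⟩⟩
    · intro j
      exact ⟨PUnit.unit, (f ⁻¹ᵁ (U : X'.Opens)).ι, (morphismRestrict_ι f _).symm⟩

lemma isVCover_singleton (hf : MoreMor.IsThickening f) :
    HTop.IsVCover (PreZeroHypercover.singleton.{0} f) := by
  intro U
  obtain ⟨ha, hc, hs⟩ := restrict_facts f hf U
  refine ⟨PreZeroHypercover.singleton.{0} (f ∣_ (U : X'.Opens)), ?_, ?_⟩
  · refine ⟨U.2, ?_, fun _ => ha, ?_⟩
    · change Finite PUnit
      infer_instance
    · intro V _ _ g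
      refine ⟨V, inferInstance, inferInstance, 𝟙 V, ⟨Function.injective_id, ?_⟩, PUnit.unit, ?_⟩
      · change IsLocalHom (RingHom.id V)
        infer_instance
      · haveI : IsIso (pullback.fst g (f ∣_ (U : X'.Opens))) :=
          isIso_of_isClosedImmersion_of_surjective _
        refine ⟨inv (pullback.fst g (f ∣_ (U : X'.Opens))) ≫ pullback.snd g _, ?_⟩
        change (inv (pullback.fst g (f ∣_ (U : X'.Opens))) ≫ pullback.snd g _) ≫
          f ∣_ (U : X'.Opens) = Spec.map (𝟙 V) ≫ g
        rw [Category.assoc, ← pullback.condition, IsIso.inv_hom_id_assoc, Spec.map_id,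
          Category.id_comp]
  · intro j
    exact ⟨PUnit.unit, (f ⁻¹ᵁ (U : X'.Opens)).ι, (morphismRestrict_ι f _).symm⟩

end Covers

theorem ph_main (S : Scheme.{u}) (F : HTop.ShPh S) {X X' : Over S} (f : X ⟶ X')
    (hf : MoreMor.IsThickening f.left) : Function.Bijective (F.obj.map f.op) := by
  haveI : IsClosedImmersion f.left := hf.1
  haveI : Mono f := Over.mono_of_mono_left f
  refine bijective_of_mono_cover HTop.phPrecoverage S F f ?_
  rw [← PreZeroHypercover.presieve₀_singleton.{_, _, 0}, HTop.presieve₀_mem_phPrecoverage_iff]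
  exact isPhCover_singleton f.left hf

theorem h_main (S : Scheme.{u}) (F : HTop.ShH S) {X X' : Over S} (f : X ⟶ X')
    (hf : MoreMor.IsThickening f.left) [LocallyOfFinitePresentation f.left] :
    Function.Bijective (F.obj.map f.op) := by
  haveI : IsClosedImmersion f.left := hf.1
  haveI : Mono f := Over.mono_of_mono_left f
  refine bijective_of_mono_cover HTop.hPrecoverage S F f ?_
  rw [← PreZeroHypercover.presieve₀_singleton.{_, _, 0}, HTop.presieve₀_mem_hPrecoverage_iff]
  exact ⟨fun _ => ‹_›, isVCover_singleton f.left hf⟩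

end Groth.Agent.Lib.Helper19.ThickSheaf
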