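import Groth.Statements.S13460

set_option autoImplicit false
universe u
open CategoryTheory CategoryTheory.Limits AlgebraicGeometry TopologicalSpace Order

namespace Groth.Agent.Lib.Helper19.UFDDiv

variable (A : Type u) [CommRing A] [IsDomain A] [IsNoetherianRing A]

instance instNonemptyTop : Nonempty ↥((⊤ : (Spec (CommRingCat.of A)).Opens).toScheme) :=
  ⟨⟨genericPoint _, trivial⟩⟩

/-- the canonical map `A → K(Spec A)` -/
noncomputable def toFF : A →+* ↑(Spec (CommRingCat.of A)).functionField :=
  ((Spec (CommRingCat.of A)).germToFunctionField ⊤).hom.comp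
    (Scheme.ΓSpecIso (CommRingCat.of A)).inv.hom

lemma toFF_injective : Function.Injective (toFF A) := by
  intro a b h
  have h1 := (Spec (CommRingCat.of A)).germToFunctionField_injective ⊤
    (show ((Spec (CommRingCat.of A)).germToFunctionField ⊤)
      ((Scheme.ΓSpecIso (CommRingCat.of A)).inv a) = ((Spec (CommRingCat.of A)).germToFunctionField ⊤)
      ((Scheme.ΓSpecIso (CommRingCat.of A)).inv b) from h)
  exact (ConcreteCategory.bijective_of_isIso (Scheme.ΓSpecIso (CommRingCat.of A)).inv).1 h1

lemma toFF_eq (y : ↥(Spec (CommRingCat.of A))) (a : A) :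
    toFF A a = algebraMap ((Spec (CommRingCat.of A)).presheaf.stalk y) _
      ((Spec (CommRingCat.of A)).presheaf.germ ⊤ y trivial
        ((Scheme.ΓSpecIso (CommRingCat.of A)).inv a)) := by
  rw [Scheme.algebraMap_germ_eq_germToFunctionField]
  rfl

lemma isUnit_germ_iff (y : ↥(Spec (CommRingCat.of A))) (a : A) :
    IsUnit ((Spec (CommRingCat.of A)).presheaf.germ ⊤ y trivial
        ((Scheme.ΓSpecIso (CommRingCat.of A)).inv a)) ↔ a ∉ y.asIdeal := by
  rw [← Scheme.mem_basicOpen_top, basicOpen_eq_of_affine]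
  rfl

lemma ordHom_of_notMem (y : ↥(Spec (CommRingCat.of A))) (hy : coheight y = 1) (a : A)
    (ha : a ∉ y.asIdeal) : (Spec (CommRingCat.of A)).ordHom y hy (toFF A a) = 1 := by
  have : Ring.KrullDimLE 1 ((Spec (CommRingCat.of A)).presheaf.stalk y) :=
    krullDimLE_of_coheight_le hy.le
  rw [toFF_eq A y a]
  exact Ring.ordFrac_of_isUnit ((isUnit_germ_iff A y a).2 ha)

lemma ord_eq_one_of_span_isMaximal {R : Type*} [CommRing R] (r : R)
    (h : (Ideal.span {r}).IsMaximal) : Ring.ord R r = 1 := by
  rw [Ring.ord, Module.length_eq_one_iff]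
  rw [isSimpleModule_iff_isSimpleModule_of_algebraMap_surjective (S := R ⧸ Ideal.span {r})
    Ideal.Quotient.mk_surjective]
  let := Ideal.Quotient.field (Ideal.span {r})
  exact instIsSimpleModule _

lemma ordHom_of_generator (y : ↥(Spec (CommRingCat.of A))) (hy : coheight y = 1) (a : A)
    (ha : y.asIdeal = Ideal.span {a}) :
    (Spec (CommRingCat.of A)).ordHom y hy (toFF A a) = WithZero.exp (1 : ℤ) := by
  have : Ring.KrullDimLE 1 ((Spec (CommRingCat.of A)).presheaf.stalk y) :=
    krullDimLE_of_coheight_le hy.le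
  rw [toFF_eq A y a]
  set r := (Spec (CommRingCat.of A)).presheaf.germ ⊤ y trivial
        ((Scheme.ΓSpecIso (CommRingCat.of A)).inv a) with hr
  let k : Algebra A ↑((Spec (CommRingCat.of A)).presheaf.stalk y) :=
    StructureSheaf.stalkAlgebra A y
  have hloc : IsLocalization.AtPrime (↑((Spec (CommRingCat.of A)).presheaf.stalk y)) y.asIdeal :=
    StructureSheaf.IsLocalization.to_stalk A y
  have hra : algebraMap A ↑((Spec (CommRingCat.of A)).presheaf.stalk y) a = r := rfl
  have hmax : Ideal.span {r} = IsLocalRing.maximalIdeal _ := by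
    rw [← IsLocalization.AtPrime.map_eq_maximalIdeal y.asIdeal, ha, Ideal.map_span,
      Set.image_singleton, hra]
  have hane : a ≠ 0 := by
    rintro rfl
    have h0 : y.asIdeal = ⊥ := by rw [ha]; simp
    have := idealHeight_eq_coheight (CommRingCat.of A) y
    rw [h0, hy] at this
    simp at this
  have hrne : r ≠ 0 := by
    intro h0
    have : toFF A a = 0 := by rw [toFF_eq A y a, ← hr, h0, map_zero]
    exact hane (toFF_injective A (this.trans (map_zero _).symm))
  have hord : Ring.ord _ r = ((1 : ℕ) : ℕ∞) := by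
    rw [Nat.cast_one]
    exact ord_eq_one_of_span_isMaximal r (hmax ▸ inferInstance)
  change Ring.ordFrac _ _ = _
  rw [Ring.ordFrac_eq_ord _ hrne,
    Ring.ordMonoidWithZeroHom_eq_coe _ (mem_nonZeroDivisors_of_ne_zero hrne) hord]
  rfl

lemma exists_prime_generator [UniqueFactorizationMonoid A] (p : Ideal A) [p.IsPrime]
    (hp : p.height = 1) : ∃ a : A, Prime a ∧ p = Ideal.span {a} := by
  have hne : p ≠ ⊥ := Ideal.ne_bot_of_height_eq_one hp
  obtain ⟨a, hap, ha⟩ := Ideal.IsPrime.exists_mem_prime_of_ne_bot ‹p.IsPrime› hne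
  exact ⟨a, ha, Ideal.eq_span_singleton_of_height_eq_one hp hap ha⟩

lemma eq_of_le_of_height_one (p q : Ideal A) [p.IsPrime] [q.IsPrime]
    (hp : p.height = 1) (hq : q.height = 1) (h : p ≤ q) : p = q := by
  have : p.FiniteHeight := by simp [p.finiteHeight_iff, hp]
  exact Ideal.eq_of_le_of_height_le _ h (by rw [hp, hq])

theorem main [UniqueFactorizationMonoid A]
    (D : ↥(Spec (CommRingCat.of A)) → ℤ) (hD : ∀ x, Order.coheight x ≠ 1 → D x = 0)
    (hfin : {x | D x ≠ 0}.Finite) :
    ∃ f : ↑(Spec (CommRingCat.of A)).functionField, f ≠ 0 ∧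
      ∀ x : ↥(Spec (CommRingCat.of A)), Order.coheight x = 1 → Scheme.ord f x = D x := by
  classical
  have hgen : ∀ x : ↥(Spec (CommRingCat.of A)), Order.coheight x = 1 →
      ∃ a : A, Prime a ∧ x.asIdeal = Ideal.span {a} := by
    intro x hx
    have hh : x.asIdeal.height = 1 := by
      rw [idealHeight_eq_coheight (CommRingCat.of A) x, hx]
    exact exists_prime_generator A x.asIdeal hh
  let π : ↥(Spec (CommRingCat.of A)) → A := fun x =>
    if hx : Order.coheight x = 1 then (hgen x hx).choose else 1
  have hπ : ∀ x (hx : Order.coheight x = 1), Prime (π x) ∧ x.asIdeal = Ideal.span {π x} := by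
    intro x hx
    simp only [π, dif_pos hx]
    exact (hgen x hx).choose_spec
  have hπne : ∀ x, π x ≠ 0 := by
    intro x
    by_cases hx : Order.coheight x = 1
    · exact (hπ x hx).1.ne_zero
    · simp only [π, dif_neg hx]; exact one_ne_zero
  let f : ↑(Spec (CommRingCat.of A)).functionField :=
    ∏ x ∈ hfin.toFinset, (toFF A (π x)) ^ (D x)
  have hfne : f ≠ 0 := by
    rw [Finset.prod_ne_zero_iff]
    intro x _
    exact zpow_ne_zero _ (fun h => hπne x (toFF_injective A (h.trans (map_zero _).symm)))
  refine ⟨f, hfne, fun y hy => ?_⟩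
  rw [Scheme.ord_eq_iff hy hfne]
  have hyh : y.asIdeal.height = 1 := by
    rw [idealHeight_eq_coheight (CommRingCat.of A) y, hy]
  have key : (Spec (CommRingCat.of A)).ordHom y hy f =
      ((Spec (CommRingCat.of A)).ordHom y hy (toFF A (π y))) ^ (D y) := by
    simp only [f, map_prod, map_zpow₀]
    apply Finset.prod_eq_single y
    · intro x hxs hxy
      have hDx : D x ≠ 0 := by simpa using hxs
      have hx : Order.coheight x = 1 := by
        by_contra h
        exact hDx (hD x h)
      have hxh : x.asIdeal.height = 1 := by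
        rw [idealHeight_eq_coheight (CommRingCat.of A) x, hx]
      have hnot : π x ∉ y.asIdeal := by
        intro hmem
        have hle : x.asIdeal ≤ y.asIdeal := by
          rw [(hπ x hx).2]
          exact (Ideal.span_singleton_le_iff_mem _).2 hmem
        have := eq_of_le_of_height_one A x.asIdeal y.asIdeal hxh hyh hle
        exact hxy (PrimeSpectrum.ext this)
      rw [ordHom_of_notMem A y hy _ hnot, one_zpow]
    · intro hys
      have hDy : D y = 0 := by simpa using hys
      rw [hDy, zpow_zero]
  rw [key, ordHom_of_generator A y hy (π y) (hπ y hy).2, ← WithZero.exp_zsmul]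
  simp
  rfl

end Groth.Agent.Lib.Helper19.UFDDiv
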