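import Mathlib
import Groth.Agent.Lib.Helper19.StPtsInj
import Groth.Agent.Lib.Helper19.DiagCover

/-!
# Universally injective morphisms of algebraic stacks: base change, composition, local criteria (helper19)
-/

set_option autoImplicit false
set_option backward.isDefEq.respectTransparency false

universe u

open CategoryTheory CategoryTheory.Limits Functor AlgebraicGeometry Opposite

namespace Groth.Agent.Helper19.UnivInj

open FibCat AlgSt Stk Groth.Agent.Helper19.FibLib Groth.Agent.Helper19.StLib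
  Groth.Agent.Helper19.StPts Groth.Agent.Helper19.DiagCover Groth.Agent.Helper19.ProdAlg

variable {S : Scheme.{u}}

/-- a point of `𝒳 ×_𝒴 𝒳` lying over the image of `w` is in the image of the diagonal as soon as the diagonal of the
base change of `f` along `w` is surjective. -/
theorem mem_range_diag_of_cover {𝒳 𝒴 𝒵 : AlgSt.Cat S} (h𝒳 : IsFibGrpd 𝒳.p) (h𝒴 : IsFibGrpd 𝒴.p)
    (h𝒵 : IsFibGrpd 𝒵.p) (f : 𝒳 ⥤ᵇ 𝒴) (w : 𝒵 ⥤ᵇ 𝒴)
    (hdiag : IsSurjective (diag (fpFst w f))) (u : Points (fp f f))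
    (hu : Points.map (cMap f) u ∈ Set.range (Points.map w)) :
    u ∈ Set.range (Points.map (diag f)) := by
  have hXX : IsFibGrpd (fp f f).p := Groth.Agent.S6401.result f f h𝒳 h𝒳 h𝒴
  obtain ⟨y', hy'⟩ := hu
  obtain ⟨v, -, hv⟩ := exists_points_fp_of_map_eq hXX h𝒴 h𝒵 (cMap f) w y' u hy'
  obtain ⟨u', rfl⟩ := (mapHomeo (Ξ f w) (isEquivOver_Ξ f w)).surjective v
  rw [mapHomeo_apply, ← StPts.map_comp, StPts.map_congr (ΞIso f w)] at hv
  obtain ⟨q, rfl⟩ := hdiag u'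
  refine ⟨Points.map (fpSnd w f) q, ?_⟩
  rw [← hv, ← StPts.map_comp, ← StPts.map_comp, StPts.map_congr (dbcSqIso f w)]

/-- every point is the value of a chart from the spectrum of a field, which is affine. -/
theorem exists_affine_chart_of_point {𝒴 : AlgSt.Cat S} (h𝒴 : IsFibGrpd 𝒴.p) (y : Points 𝒴) :
    ∃ (T : Over S) (_ : IsAffine T.left) (G : overCat T ⥤ᵇ 𝒴) (t₀ : ↥T.left), Points.ofChart G t₀ = y := by
  obtain ⟨q, rfl⟩ := Points.mk_surjective y
  obtain ⟨G, θ, hθ⟩ := Groth.Agent.Helper19.YonLib.exists_chart_of_obj h𝒴 q.obj q.lies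
  let t₀ : ↥(pt q).left := IsLocalRing.closedPoint q.K
  refine ⟨pt q, ?_, G, t₀, ?_⟩
  · change IsAffine (Spec _)
    infer_instance
  · let m : ptObj (pt q) t₀ ⟶ Over.mk (𝟙 (pt q)) := Over.homMk (ptObj (pt q) t₀).hom
    exact Points.sound (rel_of_hom (q := q) (G.map m ≫ θ.hom))

/-- S13569. -/
theorem isUnivInjective_of_forall_affine {𝒳 𝒴 : AlgSt.Cat S}
    (h𝒳 : IsAlgStack Scheme.fppfPrecoverage 𝒳) (h𝒴 : IsAlgStack Scheme.fppfPrecoverage 𝒴) (f : 𝒳 ⥤ᵇ 𝒴)
    (h : ∀ (Z : Over S) [IsAffine Z.left] (z : overCat Z ⥤ᵇ 𝒴),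
      IsUnivInjective Scheme.fppfPrecoverage (fpFst z f)) :
    IsUnivInjective Scheme.fppfPrecoverage f := by
  rw [isUnivInjective_iff_isSurjective_diag h𝒳 h𝒴 f]
  intro u
  obtain ⟨T, hT, G, t₀, ht₀⟩ := exists_affine_chart_of_point h𝒴.isStack.1 (Points.map (cMap f) u)
  have hZ := Groth.Agent.Helper19.ChartOver.isAlgStack_overCat (S := S) T
  have hfp : IsAlgStack Scheme.fppfPrecoverage (fp G f) :=
    isAlgStack_fp h𝒴.isStack h𝒴.diag hZ h𝒳 G f
  have hdiag : IsSurjective (diag (fpFst G f)) :=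
    (isUnivInjective_iff_isSurjective_diag hfp hZ (fpFst G f)).1 (h T G)
  refine mem_range_diag_of_cover h𝒳.isStack.1 h𝒴.isStack.1 hZ.isStack.1 f G hdiag u ?_
  rw [← ht₀, ofChart_eq]
  exact ⟨_, rfl⟩

end Groth.Agent.Helper19.UnivInj
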