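import Mathlib
import Groth.Agent.Lib.Helper19.LocQGen3

/-!
# Lifting valuation rings along flat morphisms (helper19)
-/

set_option autoImplicit false

universe u

open CategoryTheory CategoryTheory.Limits AlgebraicGeometry IsLocalRing

namespace Groth.Agent.Helper19.ValLift

/-- a flat morphism to the spectrum of a valuation ring whose image contains the closed point admits, after an
extension of valuation rings, a section. -/
theorem exists_valuationRing_lift (A : Type u) [CommRing A] [IsDomain A] [ValuationRing A]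
    {U : Scheme.{u}} (h : U ⟶ Spec (CommRingCat.of A)) [Flat h]
    (hc : closedPoint A ∈ Set.range h) :
    ∃ (A' : Type u) (_ : CommRing A') (_ : IsDomain A') (_ : ValuationRing A') (φ : A →+* A')
      (ψ : Spec (CommRingCat.of A') ⟶ U),
      Function.Injective φ ∧ IsLocalHom φ ∧ ψ ≫ h = Spec.map (CommRingCat.ofHom φ) := by
  obtain ⟨z, hz⟩ := hc
  -- the generic point
  let η : Spec (CommRingCat.of A) := (⊥ : PrimeSpectrum A)
  have hη : η ⤳ h z := by
    rw [hz]
    exact specializes_closedPoint η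
  obtain ⟨z', hz'z, hz'⟩ := (Flat.generalizingMap h) hη
  let stalk_z_to_residue : U.presheaf.stalk z ⟶ U.residueField z' :=
    U.presheaf.stalkSpecializes hz'z ≫ U.residue z'
  obtain ⟨B, hB, hB_local⟩ := exists_factor_valuationRing stalk_z_to_residue.hom
  let stalk_to_B : U.presheaf.stalk z ⟶ CommRingCat.of B :=
    CommRingCat.ofHom (stalk_z_to_residue.hom.codRestrict _ hB)
  let ψ : Spec (CommRingCat.of B) ⟶ U := Spec.map stalk_to_B ≫ U.fromSpecStalk z
  let φ₀ : CommRingCat.of A ⟶ CommRingCat.of B := Spec.preimage (ψ ≫ h)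
  have hφ₀ : Spec.map φ₀ = ψ ≫ h := Spec.map_preimage _
  refine ⟨B, inferInstance, inferInstance, inferInstance, φ₀.hom, ψ, ?_, ?_, ?_⟩
  · -- injectivity: the generic point goes to the generic point
    have w : Spec.map (CommRingCat.ofHom (algebraMap B (U.residueField z'))) ≫ ψ =
        U.fromSpecResidueField z' := by
      rw [Scheme.fromSpecResidueField, ← Scheme.SpecMap_stalkSpecializes_fromSpecStalk hz'z]
      simp_rw [ψ, ← Spec.map_comp_assoc]
      rfl
    let ξ : Spec (CommRingCat.of B) := (⊥ : PrimeSpectrum B)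
    let pt : Spec (U.residueField z') := closedPoint (U.residueField z')
    have hξ : Spec.map (CommRingCat.ofHom (algebraMap B (U.residueField z'))) pt = ξ := by
      apply PrimeSpectrum.ext
      change Ideal.comap (algebraMap B (U.residueField z')) (maximalIdeal _) = ⊥
      rw [IsLocalRing.maximalIdeal_eq_bot]
      exact (RingHom.injective_iff_ker_eq_bot _).1 (FaithfulSMul.algebraMap_injective B (U.residueField z'))
    have h2 : ψ ξ = z' := by
      rw [← hξ, ← Scheme.Hom.comp_apply, w, Scheme.fromSpecResidueField_apply]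
    have h3 : (Spec.map φ₀) ξ = η := by
      rw [hφ₀, Scheme.Hom.comp_apply, h2, hz']
    rw [RingHom.injective_iff_ker_eq_bot]
    have h4 := congrArg PrimeSpectrum.asIdeal h3
    exact h4
  · rw [isLocalHom_iff_comap_closedPoint]
    have h1 : (Spec.map φ₀) (closedPoint B) = closedPoint A := by
      rw [hφ₀, Scheme.Hom.comp_apply]
      have : ψ (closedPoint B) = z := by
        simp only [ψ, Scheme.Hom.comp_apply]
        have : Spec.map stalk_to_B (closedPoint B) = closedPoint (U.presheaf.stalk z) :=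
          comap_closedPoint (S := B) (stalk_z_to_residue.hom.codRestrict B.toSubring hB)
        rw [this, U.fromSpecStalk_closedPoint]
      rw [this, hz]
    exact h1
  · rw [← hφ₀]
    rfl

set_option backward.isDefEq.respectTransparency false

open FibCat AlgSt Stk Groth.Agent.Helper19.FibLib Groth.Agent.Helper19.StLib
  Groth.Agent.Helper19.LocQGen Groth.Agent.Helper19.StPts Groth.Agent.Helper19.LocQCore

variable {S : Scheme.{u}} {𝒳 𝒴 : AlgSt.Cat S}

/-- S13035. -/
theorem exists_valuationRing_lift_of_locQ_flat (h𝒳 : IsAlgStack Scheme.fppfPrecoverage 𝒳)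
    (h𝒴 : IsAlgStack Scheme.fppfPrecoverage 𝒴) (f : 𝒳 ⥤ᵇ 𝒴) (hf : LocQ (AlgSp.LocP @Flat) f)
    (A : Type u) [CommRing A] [IsDomain A] [ValuationRing A] (sA : Spec (CommRingCat.of A) ⟶ S)
    (a : overCat (Over.mk sA) ⥤ᵇ 𝒴)
    (ha : Points.ofChart a (IsLocalRing.closedPoint A) ∈ Set.range (Points.map f)) :
    ∃ (A' : Type u) (_ : CommRing A') (_ : IsDomain A') (_ : ValuationRing A') (φ : A →+* A'),
      Function.Injective φ ∧ IsLocalHom φ ∧
      ∃ x : overCat (Over.mk (Spec.map (CommRingCat.ofHom φ) ≫ sA)) ⥤ᵇ 𝒳,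
        Nonempty (BasedFunctor.comp x f ≅
          BasedFunctor.comp (overMap (Over.homMk (Spec.map (CommRingCat.ofHom φ)) rfl :
            Over.mk (Spec.map (CommRingCat.ofHom φ) ≫ sA) ⟶ Over.mk sA)) a) := by
  obtain ⟨U, u, h, θ, hu, hus, hflat⟩ := exists_good_chart smStable_flat f hf a
  have hfl : Flat h.left := AlgSp.locP_yon_map hflat
  have hc : closedPoint A ∈ Set.range h.left :=
    range_of_chart h𝒳.isStack.1 h𝒴.isStack.1 f a u h θ hus _ ha
  obtain ⟨A', i1, i2, i3, φ, ψ, hinj, hloc, hψ⟩ := exists_valuationRing_lift A h.left hc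
  refine ⟨A', i1, i2, i3, φ, hinj, hloc, ?_⟩
  let ψ' : Over.mk (Spec.map (CommRingCat.ofHom φ) ≫ sA) ⟶ U := Over.homMk ψ (by
    have := Over.w h
    dsimp at this ⊢
    rw [← this, ← Category.assoc, hψ])
  have hψ' : ψ' ≫ h = (Over.homMk (Spec.map (CommRingCat.ofHom φ)) rfl :
      Over.mk (Spec.map (CommRingCat.ofHom φ) ≫ sA) ⟶ Over.mk sA) := by
    apply Over.OverMorphism.ext
    exact hψ
  refine ⟨BasedFunctor.comp (overMap ψ') (BasedFunctor.comp u (fpSnd a f)), ⟨?_⟩⟩
  rw [← hψ']
  exact whiskerLeftIso (overMap ψ') (liftIso f a u (overMap h) θ) ≪≫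
    whiskerRightIso (overMapComp ψ' h) a

end Groth.Agent.Helper19.ValLift
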