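import Mathlib
import Groth.Agent.Lib.Helper19.ValLift
import Groth.Agent.Lib.Helper19.QcPts

/-!
# Valuation rings witnessing points in the closure of the image of a quasi-compact morphism (helper19)
-/

set_option autoImplicit false

universe u

open CategoryTheory CategoryTheory.Limits AlgebraicGeometry IsLocalRing

namespace Groth.Agent.Helper19.ValLift


/-- ring level: a prime in the closure of the image of `Spec` of a ring map is a specialization of a point of the
image. -/
theorem exists_specializes_of_mem_closure_range_comap {R R' : Type u} [CommRing R] [CommRing R']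
    (φ : R →+* R') (t : PrimeSpectrum R) (ht : t ∈ closure (Set.range (PrimeSpectrum.comap φ))) :
    ∃ q : PrimeSpectrum R', PrimeSpectrum.comap φ q ⤳ t := by
  rw [PrimeSpectrum.closure_range_comap] at ht
  have hle : RingHom.ker φ ≤ t.asIdeal := ht
  obtain ⟨p, hp, hpt⟩ := Ideal.exists_minimalPrimes_le hle
  have hp' : p ∈ (Ideal.comap φ ⊥).minimalPrimes := by
    rwa [← RingHom.ker_eq_comap_bot]
  obtain ⟨p', hp'1, -, hp'2⟩ := Ideal.exists_comap_eq_of_mem_minimalPrimes φ p hp'
  refine ⟨⟨p', hp'1⟩, ?_⟩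
  rw [← PrimeSpectrum.le_iff_specializes]
  change Ideal.comap φ p' ≤ t.asIdeal
  rw [hp'2]
  exact hpt

/-- a point in the closure of the image of a morphism of affine schemes is a specialization of a point of the
image. -/
theorem exists_specializes_of_mem_closure_range {U V : Scheme.{u}} [IsAffine U] [IsAffine V] (g : U ⟶ V)
    (t : V) (ht : t ∈ closure (Set.range g)) : ∃ u₀ : U, g u₀ ⤳ t := by
  let g' : Spec (Γ(U, ⊤)) ⟶ Spec (Γ(V, ⊤)) := U.isoSpec.inv ≫ g ≫ V.isoSpec.hom
  let φ : Γ(V, ⊤) ⟶ Γ(U, ⊤) := Spec.preimage g'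
  have hφ : Spec.map φ = g' := Spec.map_preimage _
  let t'' : Spec (Γ(V, ⊤)) := V.isoSpec.hom t
  have hrange : Set.range (PrimeSpectrum.comap φ.hom) = V.isoSpec.hom '' Set.range g := by
    have e1 : Set.range (PrimeSpectrum.comap φ.hom) = Set.range (Spec.map φ) := rfl
    rw [e1, hφ]
    ext z
    constructor
    · rintro ⟨q, rfl⟩
      exact ⟨g (U.isoSpec.inv q), ⟨_, rfl⟩, by simp [g']⟩
    · rintro ⟨_, ⟨u, rfl⟩, rfl⟩
      refine ⟨U.isoSpec.hom u, ?_⟩
      simp only [g', Scheme.Hom.comp_apply]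
      congr 2
      rw [← Scheme.Hom.comp_apply, Iso.hom_inv_id]
      rfl
  have ht'' : t'' ∈ closure (Set.range (PrimeSpectrum.comap φ.hom)) := by
    rw [hrange]
    exact image_closure_subset_closure_image V.isoSpec.hom.continuous ⟨t, ht, rfl⟩
  obtain ⟨q, hq⟩ := exists_specializes_of_mem_closure_range_comap φ.hom t'' ht''
  refine ⟨U.isoSpec.inv q, ?_⟩
  have h1 : V.isoSpec.inv (PrimeSpectrum.comap φ.hom q) ⤳ V.isoSpec.inv t'' :=
    hq.map V.isoSpec.inv.continuous
  have h2 : V.isoSpec.inv t'' = t := by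
    simp only [t'']
    rw [← Scheme.Hom.comp_apply, Iso.hom_inv_id]
    rfl
  have h3 : V.isoSpec.inv (PrimeSpectrum.comap φ.hom q) = g (U.isoSpec.inv q) := by
    have e1 : PrimeSpectrum.comap φ.hom q = (Spec.map φ) q := rfl
    rw [e1, hφ]
    simp only [g', Scheme.Hom.comp_apply]
    rw [← Scheme.Hom.comp_apply V.isoSpec.hom, Iso.hom_inv_id]
    rfl
  rw [h2, h3] at h1
  exact h1



/-- a specialization of the image of a point is witnessed by a valuation ring. -/
theorem exists_valuationRing_of_specializes {U V : Scheme.{u}} (g : U ⟶ V) (u₀ : U) (t : V)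
    (h : g u₀ ⤳ t) :
    ∃ (B : Type u) (_ : CommRing B) (_ : IsDomain B) (_ : ValuationRing B)
      (α : Spec (CommRingCat.of B) ⟶ V) (β : Spec (CommRingCat.of (FractionRing B)) ⟶ U),
      α (closedPoint B) = t ∧
        β ≫ g = Spec.map (CommRingCat.ofHom (algebraMap B (FractionRing B))) ≫ α := by
  let stalk_to_residue : V.presheaf.stalk t ⟶ U.residueField u₀ :=
    V.presheaf.stalkSpecializes h ≫ g.stalkMap u₀ ≫ U.residue u₀
  obtain ⟨B, hB, hB_local⟩ := exists_factor_valuationRing stalk_to_residue.hom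
  let stalk_to_B : V.presheaf.stalk t ⟶ CommRingCat.of B :=
    CommRingCat.ofHom (stalk_to_residue.hom.codRestrict _ hB)
  have w : U.fromSpecResidueField u₀ ≫ g =
      Spec.map (CommRingCat.ofHom (algebraMap B (U.residueField u₀))) ≫
        Spec.map stalk_to_B ≫ V.fromSpecStalk t := by
    rw [Scheme.fromSpecResidueField, Category.assoc, ← Scheme.SpecMap_stalkMap_fromSpecStalk,
      ← Scheme.SpecMap_stalkSpecializes_fromSpecStalk h]
    simp_rw [← Spec.map_comp_assoc]
    rfl
  let e : FractionRing B ≃ₐ[B] U.residueField u₀ := FractionRing.algEquiv B (U.residueField u₀)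
  let α : Spec (CommRingCat.of B) ⟶ V := Spec.map stalk_to_B ≫ V.fromSpecStalk t
  let β : Spec (CommRingCat.of (FractionRing B)) ⟶ U :=
    Spec.map (CommRingCat.ofHom (e.symm : U.residueField u₀ →+* FractionRing B)) ≫
      U.fromSpecResidueField u₀
  refine ⟨B, inferInstance, inferInstance, inferInstance, α, β, ?_, ?_⟩
  · simp only [α, Scheme.Hom.comp_apply]
    have : Spec.map stalk_to_B (closedPoint B) = closedPoint (V.presheaf.stalk t) :=
      comap_closedPoint (S := B) (stalk_to_residue.hom.codRestrict B.toSubring hB)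
    rw [this, V.fromSpecStalk_closedPoint]
  · simp only [β, α, Category.assoc]
    rw [w, ← Spec.map_comp_assoc]
    congr 2
    ext x
    exact e.symm.commutes x


set_option backward.isDefEq.respectTransparency false

open FibCat AlgSt Stk Groth.Agent.Helper19.FibLib Groth.Agent.Helper19.StLib
  Groth.Agent.Helper19.LocQGen Groth.Agent.Helper19.StPts Groth.Agent.Helper19.LocQCore
  Groth.Agent.Helper19.ChartOver

variable {S : Scheme.{u}} {𝒳 𝒴 : AlgSt.Cat S}

/-- S13036. -/
theorem exists_valuationRing_witness (h𝒳 : IsAlgStack Scheme.fppfPrecoverage 𝒳)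
    (h𝒴 : IsAlgStack Scheme.fppfPrecoverage 𝒴) (f : 𝒳 ⥤ᵇ 𝒴)
    (hf : IsQuasiCompactMor Scheme.fppfPrecoverage f)
    (y : Points 𝒴) (hy : y ∈ closure (Set.range (Points.map f))) :
    ∃ (A : Type u) (_ : CommRing A) (_ : IsDomain A) (_ : ValuationRing A) (sA : Spec (CommRingCat.of A) ⟶ S)
      (a : overCat (Over.mk sA) ⥤ᵇ 𝒴)
      (x : overCat (Over.mk (Spec.map (CommRingCat.ofHom (algebraMap A (FractionRing A))) ≫ sA)) ⥤ᵇ 𝒳),
      Nonempty (BasedFunctor.comp x f ≅
        BasedFunctor.comp (overMap (Over.homMk (Spec.map (CommRingCat.ofHom (algebraMap A (FractionRing A)))) rfl :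
          Over.mk (Spec.map (CommRingCat.ofHom (algebraMap A (FractionRing A))) ≫ sA) ⟶ Over.mk sA)) a) ∧
      Points.ofChart a (IsLocalRing.closedPoint A) = y := by
  obtain ⟨V, v, hv, hvs⟩ := h𝒴.atlas
  obtain ⟨t, rfl⟩ := surjective_ofChart_of_surjective h𝒴.isStack.1 V v hvs y
  -- an affine open neighbourhood
  obtain ⟨O, hO, htO, -⟩ := Groth.Agent.Helper15.exists_affine_nbhd_into_affine V t
  let V' : Over S := Over.mk (O.ι ≫ V.hom)
  let j : V' ⟶ V := Over.homMk O.ι rfl
  have hV' : IsAffine V'.left := hO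
  let v' : overCat V' ⥤ᵇ 𝒴 := BasedFunctor.comp (overMap j) v
  have hv' : RepByAlgSpWith (AlgSp.LocP @Smooth) v' :=
    smooth_overMap_comp v hv j (inferInstanceAs (Etale O.ι))
  let t' : V'.left := ⟨t, htO⟩
  have ht' : Points.ofChart v' t' = Points.ofChart v t := ofChart_overMap j v t'
  have hcpt : CompactSpace ↥V'.left := inferInstance
  have hqc : IsQuasiCompact (overCat V') := Groth.Agent.Helper19.QcPts.isQuasiCompact_overCat V'
  obtain ⟨U, u, hU, hu, hus⟩ := hf (overCat V') (isAlgStack_overCat V') hqc v'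
  obtain ⟨g, ⟨θ⟩⟩ := exists_overMap_iso (BasedFunctor.comp u (fpFst v' f))
  -- `t'` lies in the closure of the image of `g`
  have hcl : t' ∈ closure (Set.range g.left) := by
    rw [mem_closure_iff]
    intro N hN htN
    have hopen : IsOpen (Points.ofChart v' '' N) :=
      Groth.Agent.Helper19.StPts.isOpenMap_ofChart_of_smooth h𝒴 V' v' hv' N hN
    obtain ⟨_, ⟨n, hn, rfl⟩, hnf⟩ := mem_closure_iff.1 hy _ hopen ⟨t', htN, ht'⟩
    exact ⟨n, hn, range_of_chart h𝒳.isStack.1 h𝒴.isStack.1 f v' u g θ hus n hnf⟩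
  have := hU
  obtain ⟨u₀, hu₀⟩ := exists_specializes_of_mem_closure_range g.left t' hcl
  obtain ⟨B, i1, i2, i3, α, β, hα, hβ⟩ := exists_valuationRing_of_specializes g.left u₀ t' hu₀
  let sA : Spec (CommRingCat.of B) ⟶ S := α ≫ V'.hom
  let α' : Over.mk sA ⟶ V' := Over.homMk α rfl
  let β' : Over.mk (Spec.map (CommRingCat.ofHom (algebraMap B (FractionRing B))) ≫ sA) ⟶ U :=
    Over.homMk β (by
      have := Over.w g
      dsimp at this ⊢
      rw [← this, ← Category.assoc, hβ, Category.assoc])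
  have hβ' : β' ≫ g = (Over.homMk (Spec.map (CommRingCat.ofHom (algebraMap B (FractionRing B)))) rfl :
      Over.mk (Spec.map (CommRingCat.ofHom (algebraMap B (FractionRing B))) ≫ sA) ⟶ Over.mk sA) ≫ α' := by
    apply Over.OverMorphism.ext
    exact hβ
  refine ⟨B, i1, i2, i3, sA, BasedFunctor.comp (overMap α') v',
    BasedFunctor.comp (overMap β') (BasedFunctor.comp u (fpSnd v' f)), ⟨?_⟩, ?_⟩
  · refine whiskerLeftIso (overMap β') (liftIso f v' u (overMap g) θ) ≪≫
      whiskerRightIso (overMapComp β' g) v' ≪≫ eqToIso (by rw [hβ']) ≪≫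
      (whiskerRightIso (overMapComp _ α') v').symm
  · rw [ofChart_overMap α' v', ← ht']
    congr 1

end Groth.Agent.Helper19.ValLift
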