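import Mathlib
import Groth.Prelude.Def_W4c1liftfrobW2

/-!
# Structure of `W₂(k)` for a perfect field `k`, and flatness over it (helper19)
-/

set_option autoImplicit false

namespace Groth.Agent.Helper19.W2

open FrobAlg WittVector TensorProduct Function

universe u v

section structure_

variable (p : ℕ) [Fact p.Prime] (k : Type u) [Field k] [CharP k p] [PerfectRing k p]

theorem isUnit_of_coeff_zero_ne_zero (x : W2 p k) (hx : x.coeff 0 ≠ 0) : IsUnit x := by
  obtain ⟨X, rfl⟩ := WittVector.truncate_surjective p 2 k x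
  rw [WittVector.coeff_truncate] at hx
  exact (WittVector.isUnit_of_coeff_zero_ne_zero X hx).map (WittVector.truncate 2)

theorem exists_eq_p_mul (x : W2 p k) (hx : x.coeff 0 = 0) : ∃ y : W2 p k, x = (p : W2 p k) * y := by
  obtain ⟨X, rfl⟩ := WittVector.truncate_surjective p 2 k x
  rw [WittVector.coeff_truncate] at hx
  by_cases hX : X = 0
  · exact ⟨0, by rw [hX, map_zero, mul_zero]⟩
  obtain ⟨m, B, hB, hXB⟩ := WittVector.exists_eq_pow_p_mul X hX
  cases m with
  | zero =>
    exfalso
    rw [pow_zero, one_mul] at hXB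
    rw [hXB] at hx
    exact hB hx
  | succ m =>
    refine ⟨WittVector.truncate 2 ((p : WittVector p k) ^ m * B), ?_⟩
    rw [hXB, pow_succ', mul_assoc, map_mul, map_natCast]

theorem p_mul_p : (p : W2 p k) * (p : W2 p k) = 0 := by
  have h : ((p : WittVector p k) ^ 2) ∈ RingHom.ker (WittVector.truncate (p := p) (R := k) 2) := by
    rw [WittVector.mem_ker_truncate]
    intro i hi
    exact WittVector.coeff_p_pow_eq_zero p k (by omega)
  rw [RingHom.mem_ker, map_pow, map_natCast] at h
  rw [← pow_two, h]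

theorem p_mul_eq_zero_iff (x : W2 p k) : (p : W2 p k) * x = 0 ↔ x.coeff 0 = 0 := by
  constructor
  · intro h
    obtain ⟨X, rfl⟩ := WittVector.truncate_surjective p 2 k x
    rw [WittVector.coeff_truncate]
    have h1 : X * (p : WittVector p k) ∈ RingHom.ker (WittVector.truncate (p := p) (R := k) 2) := by
      rw [RingHom.mem_ker, map_mul, map_natCast, mul_comm]
      exact h
    rw [WittVector.mem_ker_truncate] at h1
    have h2 := h1 1 (by omega)
    rw [show (1 : ℕ) = 0 + 1 from rfl, WittVector.mul_charP_coeff_succ] at h2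
    exact pow_eq_zero_iff (Fact.out : p.Prime).ne_zero |>.1 h2
  · intro h
    obtain ⟨y, rfl⟩ := exists_eq_p_mul p k x h
    rw [← mul_assoc, p_mul_p, zero_mul]

theorem coeff_zero_p : (p : W2 p k).coeff 0 = 0 := by
  rw [← p_mul_eq_zero_iff]
  exact p_mul_p p k

/-- every ideal is principal, generated by `1`, `p` or `0`. -/
theorem ideal_cases (I : Ideal (W2 p k)) :
    I = ⊥ ∨ I = ⊤ ∨ ((p : W2 p k) ∈ I ∧ ∀ i ∈ I, ∃ y, i = y * (p : W2 p k)) := by
  by_cases hA : ∃ x ∈ I, (x : W2 p k).coeff 0 ≠ 0
  · obtain ⟨x, hxI, hx⟩ := hA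
    right; left
    exact Ideal.eq_top_of_isUnit_mem I hxI (isUnit_of_coeff_zero_ne_zero p k x hx)
  · push Not at hA
    by_cases hbot : I = ⊥
    · left; exact hbot
    right; right
    have hall : ∀ i ∈ I, ∃ y, i = y * (p : W2 p k) := by
      intro i hi
      obtain ⟨y, hy⟩ := exists_eq_p_mul p k i (hA i hi)
      exact ⟨y, by rw [hy, mul_comm]⟩
    refine ⟨?_, hall⟩
    obtain ⟨x, hxI, hx0⟩ := Submodule.exists_mem_ne_zero_of_ne_bot hbot
    obtain ⟨y, hy⟩ := hall x hxI
    have hyu : y.coeff 0 ≠ 0 := by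
      intro hy0
      obtain ⟨z, hz⟩ := exists_eq_p_mul p k y hy0
      apply hx0
      rw [hy, hz, mul_comm _ z, mul_assoc, p_mul_p, mul_zero]
    obtain ⟨u, hu⟩ := isUnit_of_coeff_zero_ne_zero p k y hyu
    have : (p : W2 p k) = (↑u⁻¹ : W2 p k) * x := by
      rw [hy, ← hu, ← mul_assoc, Units.inv_mul, one_mul]
    rw [this]
    exact I.mul_mem_left _ hxI

end structure_

section flat

variable {R : Type u} [CommRing R] {M : Type v} [AddCommGroup M] [Module R M]

theorem lift_injective_of_principal (I : Ideal R) (g : R) (hg : g ∈ I)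
    (hI : ∀ i ∈ I, ∃ y, i = y * g)
    (h0 : ∀ m : M, g • m = 0 → (⟨g, hg⟩ : I) ⊗ₜ[R] m = 0) :
    Injective (TensorProduct.lift ((LinearMap.lsmul R M).comp I.subtype)) := by
  rw [injective_iff_map_eq_zero]
  have hex : ∀ z : I ⊗[R] M, ∃ m : M, z = (⟨g, hg⟩ : I) ⊗ₜ[R] m := by
    intro z
    induction z using TensorProduct.induction_on with
    | zero => exact ⟨0, by rw [tmul_zero]⟩
    | tmul i m =>
      obtain ⟨y, hy⟩ := hI i i.2
      refine ⟨y • m, ?_⟩
      rw [← smul_tmul]
      congr 1
      ext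
      simpa using hy
    | add a b ha hb =>
      obtain ⟨m₁, rfl⟩ := ha
      obtain ⟨m₂, rfl⟩ := hb
      exact ⟨m₁ + m₂, by rw [tmul_add]⟩
  intro z hz
  obtain ⟨m, rfl⟩ := hex z
  apply h0
  simpa using hz

end flat

section main

variable (p : ℕ) [Fact p.Prime] (k : Type u) [Field k] [CharP k p] [PerfectRing k p]

theorem flat_iff (M : Type v) [AddCommGroup M] [Module (W2 p k) M] :
    Module.Flat (W2 p k) M ↔
      ∀ m : M, (p : W2 p k) • m = 0 → ∃ m' : M, m = (p : W2 p k) • m' := by
  constructor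
  · intro hflat m hm
    have hrel : ∑ i : Unit, (fun _ => (p : W2 p k)) i • (fun _ => m) i = 0 := by
      simpa using hm
    obtain ⟨n, α, y, hx, hα⟩ := Module.Flat.isTrivialRelation_of_sum_smul_eq_zero hrel
    have hβ : ∀ j, ∃ b, α () j = (p : W2 p k) * b := by
      intro j
      have := hα j
      simp only [Finset.univ_unique, PUnit.default_eq_unit, Finset.sum_singleton] at this
      exact exists_eq_p_mul p k _ ((p_mul_eq_zero_iff p k _).1 this)
    choose β hβ using hβ
    refine ⟨∑ j, β j • y j, ?_⟩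
    have := hx ()
    simp only at this
    rw [this, Finset.smul_sum]
    refine Finset.sum_congr rfl fun j _ => ?_
    rw [hβ j, mul_smul]
  · intro H
    rw [Module.Flat.iff_lift_lsmul_comp_subtype_injective]
    intro I _
    rcases ideal_cases p k I with rfl | rfl | ⟨hpI, hI⟩
    · rintro x y -
      apply Subsingleton.elim
    · refine lift_injective_of_principal ⊤ 1 Submodule.mem_top (fun i _ => ⟨i, (mul_one i).symm⟩) ?_
      intro m hm
      rw [one_smul] at hm
      rw [hm, tmul_zero]
    · refine lift_injective_of_principal I (p : W2 p k) hpI hI ?_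
      intro m hm
      obtain ⟨m', rfl⟩ := H m hm
      rw [← smul_tmul]
      have : (p : W2 p k) • (⟨(p : W2 p k), hpI⟩ : I) = 0 := by
        apply Subtype.ext
        rw [Submodule.coe_smul, smul_eq_mul, Submodule.coe_zero]
        exact p_mul_p p k
      rw [this, zero_tmul]

end main

end Groth.Agent.Helper19.W2
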