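import Mathlib

/-!
# Logarithmic-derivative calculus for rational power series (helper19)

`LD G h` means `G' = G * h`.  Used for the zeta-function identities.
-/

set_option autoImplicit false

namespace Groth.Agent.Helper19.ZetaPS

open PowerSeries

/-- `G' = G * h`. -/
def LD (G h : ℚ⟦X⟧) : Prop := d⁄dX ℚ G = G * h

theorem LD.mul {G₁ G₂ h₁ h₂ : ℚ⟦X⟧} (H₁ : LD G₁ h₁) (H₂ : LD G₂ h₂) : LD (G₁ * G₂) (h₁ + h₂) := by
  unfold LD at *
  rw [Derivation.leibniz, H₁, H₂]
  simp only [smul_eq_mul]
  ring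

theorem LD.one : LD 1 0 := by
  unfold LD
  simp

theorem LD.pow {G h : ℚ⟦X⟧} (H : LD G h) (n : ℕ) : LD (G ^ n) ((n : ℚ⟦X⟧) * h) := by
  induction n with
  | zero => simpa using LD.one
  | succ n ih =>
    rw [pow_succ]
    have := ih.mul H
    convert this using 1
    push_cast
    ring

theorem LD.prod {ι : Type*} (s : Finset ι) (G h : ι → ℚ⟦X⟧) (H : ∀ i ∈ s, LD (G i) (h i)) :
    LD (∏ i ∈ s, G i) (∑ i ∈ s, h i) := by
  classical
  induction s using Finset.induction_on with
  | empty => simpa using LD.one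
  | insert a s ha ih =>
    rw [Finset.prod_insert ha, Finset.sum_insert ha]
    exact (H a (Finset.mem_insert_self a s)).mul (ih fun i hi => H i (Finset.mem_insert_of_mem hi))

/-- exponential of a series without constant term. -/
noncomputable def E (g : ℚ⟦X⟧) : ℚ⟦X⟧ := (exp ℚ).subst g

theorem LD_E (g : ℚ⟦X⟧) (hg : constantCoeff g = 0) : LD (E g) (d⁄dX ℚ g) := by
  unfold LD E
  rw [derivative_subst (HasSubst.of_constantCoeff_zero' hg), derivative_exp]

theorem constantCoeff_E (g : ℚ⟦X⟧) (hg : constantCoeff g = 0) : constantCoeff (E g) = 1 := by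
  unfold E
  have hs := HasSubst.of_constantCoeff_zero' hg
  have h1 : exp ℚ = C 1 + (exp ℚ - C 1) := by ring
  rw [h1, subst_add hs, map_add]
  have h2 : constantCoeff ((exp ℚ - C 1).subst g) = 0 := by
    apply constantCoeff_subst_eq_zero hg
    simp
  rw [h2, add_zero]
  have : (C (1 : ℚ)).subst g = (C (1 : ℚ) : ℚ⟦X⟧) := by
    rw [subst_C]; rfl
  rw [this]
  simp

/-- Coefficients of a solution of `G' = G h` are determined by `h` and `G(0)`. -/
theorem LD.unique {G K h : ℚ⟦X⟧} (HG : LD G h) (HK : LD K h)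
    (h0 : constantCoeff G = constantCoeff K) : G = K := by
  ext n
  induction n using Nat.strong_induction_on with
  | _ n ih =>
    cases n with
    | zero => simpa using h0
    | succ n =>
      have e1 : coeff n (d⁄dX ℚ G) = coeff n (G * h) := congrArg (coeff n) HG
      have e2 : coeff n (d⁄dX ℚ K) = coeff n (K * h) := congrArg (coeff n) HK
      rw [coeff_derivative, coeff_mul] at e1 e2
      have e3 : ∑ p ∈ Finset.HasAntidiagonal.antidiagonal n, coeff p.1 G * coeff p.2 h =
          ∑ p ∈ Finset.HasAntidiagonal.antidiagonal n, coeff p.1 K * coeff p.2 h := by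
        refine Finset.sum_congr rfl fun p hp => ?_
        rw [ih p.1 (by have := Finset.HasAntidiagonal.mem_antidiagonal.1 hp; omega)]
      rw [e3, ← e2] at e1
      have hn : ((n : ℚ) + 1) ≠ 0 := by positivity
      exact mul_right_cancel₀ hn e1

/-- If `h` vanishes to order `n`, then `G` is constant modulo `X^(n+1)`. -/
theorem LD.coeff_eq_zero {G h : ℚ⟦X⟧} (H : LD G h) (n : ℕ) (hh : ∀ m < n, coeff m h = 0)
    (k : ℕ) (hk1 : 1 ≤ k) (hkn : k ≤ n) : coeff k G = 0 := by
  obtain ⟨k, rfl⟩ : ∃ k', k = k' + 1 := ⟨k - 1, by omega⟩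
  have e1 : coeff k (d⁄dX ℚ G) = coeff k (G * h) := congrArg (coeff k) H
  rw [coeff_derivative, coeff_mul] at e1
  have e3 : ∑ p ∈ Finset.HasAntidiagonal.antidiagonal k, coeff p.1 G * coeff p.2 h = 0 := by
    refine Finset.sum_eq_zero fun p hp => ?_
    rw [hh p.2 (by have := Finset.HasAntidiagonal.mem_antidiagonal.1 hp; omega), mul_zero]
  rw [e3] at e1
  have hn : ((k : ℚ) + 1) ≠ 0 := by positivity
  exact (mul_eq_zero.1 e1).resolve_right hn

/-- the logarithmic derivative of `1 - c X^r`. -/
noncomputable def hLin (c : ℚ) (r : ℕ) : ℚ⟦X⟧ :=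
  mk fun m => if r ∣ m + 1 then -((r : ℚ) * c ^ ((m + 1) / r)) else 0

theorem LD_one_sub (c : ℚ) (r : ℕ) (hr : 1 ≤ r) : LD (1 - C c * X ^ r) (hLin c r) := by
  unfold LD
  ext m
  have hd : d⁄dX ℚ ((1 : ℚ⟦X⟧) - C c * X ^ r) = -(C c * ((r : ℚ⟦X⟧) * X ^ (r - 1))) := by
    rw [map_sub, derivative_one, zero_sub, Derivation.leibniz, derivative_C, smul_zero, add_zero,
      derivative_pow, derivative_X, mul_one, smul_eq_mul]
  rw [hd, sub_mul, one_mul, map_sub, map_neg]
  have hc1 : coeff m (C c * ((r : ℚ⟦X⟧) * X ^ (r - 1))) = if m = r - 1 then c * r else 0 := by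
    have : (C c * ((r : ℚ⟦X⟧) * X ^ (r - 1))) = C (c * r) * X ^ (r - 1) := by
      rw [map_mul, map_natCast]; ring
    rw [this, coeff_C_mul, coeff_X_pow]
    split_ifs <;> simp
  have hc2 : coeff m (C c * X ^ r * hLin c r) =
      if r ≤ m then c * coeff (m - r) (hLin c r) else 0 := by
    have : C c * X ^ r * hLin c r = C c * (hLin c r * X ^ r) := by ring
    rw [this, coeff_C_mul, coeff_mul_X_pow']
    split_ifs <;> simp
  rw [hc1, hc2]
  simp only [hLin, coeff_mk]
  by_cases hm : m = r - 1
  · subst hm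
    have h1 : r - 1 + 1 = r := by omega
    have h2 : ¬ r ≤ r - 1 := by omega
    rw [if_pos rfl, if_neg h2, h1, if_pos dvd_rfl, Nat.div_self (by omega)]
    ring
  · rw [if_neg hm]
    by_cases hle : r ≤ m
    · rw [if_pos hle]
      have h1 : m - r + 1 + r = m + 1 := by omega
      have hdvd : r ∣ m - r + 1 ↔ r ∣ m + 1 := by
        rw [← h1]; exact (Nat.dvd_add_self_right).symm
      by_cases hdv : r ∣ m + 1
      · rw [if_pos hdv, if_pos (hdvd.2 hdv)]
        obtain ⟨j, hj⟩ := hdv
        have hj1 : m - r + 1 = r * (j - 1) := by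
          have : j ≥ 1 := by
            rcases j with _ | j
            · omega
            · omega
          obtain ⟨j', rfl⟩ : ∃ j', j = j' + 1 := ⟨j - 1, by omega⟩
          simp only [Nat.add_sub_cancel]
          have : r * (j' + 1) = r * j' + r := by ring
          omega
        have hjpos : 1 ≤ j := by
          rcases j with _ | j
          · omega
          · omega
        rw [hj, hj1, Nat.mul_div_cancel_left _ (by omega : 0 < r),
          Nat.mul_div_cancel_left _ (by omega : 0 < r)]
        obtain ⟨j', rfl⟩ : ∃ j', j = j' + 1 := ⟨j - 1, by omega⟩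
        simp only [Nat.add_sub_cancel]
        ring
      · rw [if_neg hdv, if_neg (fun h => hdv (hdvd.1 h))]
        simp
    · rw [if_neg hle]
      have hdv : ¬ r ∣ m + 1 := by
        intro hdv
        have := Nat.le_of_dvd (by omega) hdv
        omega
      rw [if_neg hdv]
      simp

end Groth.Agent.Helper19.ZetaPS
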